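import Cfsg.Statements.S1237
import Mathlib
import Cfsg.Agent.H18.RankTwo

set_option autoImplicit false
open Cfsg

namespace Cfsg.Agent.S1237

open Cfsg.Agent.H18

/-- Let T be a finite 2-group of 2-rank exactly 2 (it has a Klein four-subgroup but no elementary abelian subgroup of order 8) admitting an automorphism φ such that any two involutions of T are carried to one another by a power of φ. Then T ≅ Z_{2^n} × Z_{2^n} for some n ≥ 1, or T is isomorphic to a Sylow 2-subgroup of PSU(3) over the field with 16 elements. -/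
theorem result {T : Type*} [Group T] [Finite T] (hT : IsPGroup 2 T) (h2 : Cfsg.PRankLE 2 2 T) (h1 : ¬ Cfsg.PRankLE 2 1 T) (φ : MulAut T) (htrans : ∀ s t : T, orderOf s = 2 → orderOf t = 2 → ∃ k : ℕ, (φ ^ k) s = t) {F : Type*} [Field F] [Fintype F] (hF : Fintype.card F = 16) (P : Sylow 2 (Cfsg.PSU 3 F 4)) : (∃ n : ℕ, 1 ≤ n ∧ Nonempty (T ≃* Multiplicative (ZMod (2 ^ n) × ZMod (2 ^ n)))) ∨ Nonempty (T ≃* (P : Subgroup (Cfsg.PSU 3 F 4))) := by
  obtain ⟨h, H⟩ := tri_of_aut hT h2 h1 fun s t hs ht => (htrans s t hs ht).elim fun k hk => ⟨_, hk⟩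
  have e := Subgroup.topEquiv.symm.trans (Subgroup.equivMapOfInjective (⊤ : Subgroup T)
    (SemidirectProduct.inl : T →* H3.Hol T ⊤) SemidirectProduct.inl_injective)
  rcases H.cases hF P with ⟨n, a, b, hH⟩ | ⟨⟨e'⟩⟩
  · exact Or.inl ⟨n, hH.pos, ⟨e.trans hH.equiv.some⟩⟩
  · exact Or.inr ⟨e.trans e'⟩

end Cfsg.Agent.S1237
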