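import Cfsg.Statements.S1623
import Mathlib
import Cfsg.Agent.H28.J2Q

set_option autoImplicit false
open Quaternion
open Cfsg

namespace Cfsg.Agent.S1623

open Cfsg.Agent.H28.J2P

/-- A reflection centraliser in the Hall–Janko group is an extension of an extraspecial group of order 32 by the alternating group of degree 5. -/
theorem result (f : Equiv.Perm ↥Cfsg.Spor.icoLeech) (hf : Cfsg.Spor.IsIcoReflection f) (hfm : f ∈ Cfsg.Spor.twoJ2) : ∃ (Q : Subgroup ↥(Subgroup.centralizer {(QuotientGroup.mk ⟨f, hfm⟩ : Cfsg.Spor.J2)})) (_ : Q.Normal), Nat.card Q = 32 ∧ Cfsg.IsExtraspecial 2 Q ∧ Nonempty (↥(Subgroup.centralizer {(QuotientGroup.mk ⟨f, hfm⟩ : Cfsg.Spor.J2)}) ⧸ Q ≃* alternatingGroup (Fin 5)) := by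
  obtain ⟨e⟩ := cent_iso hf hfm
  have := normal_Q
  obtain ⟨g⟩ := quot_Q
  have hN : ((QZ.K.subgroupOf CZ.K).map (e : CZ.K →* Subgroup.centralizer {(QuotientGroup.mk ⟨f, hfm⟩ : Spor.J2)})).Normal :=
    normal_Q.map _ e.surjective
  refine ⟨_, hN, (Nat.card_congr (e.subgroupMap _).toEquiv).symm.trans card_Q,
    H3.isExtraspecial_of_equiv es_Q.isExtraspecial ((Subgroup.subgroupOfEquivOfLe le_Q).symm.trans (e.subgroupMap _)),
    ⟨(QuotientGroup.congr (QZ.K.subgroupOf CZ.K) _ e rfl).symm.trans g⟩⟩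

end Cfsg.Agent.S1623
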