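import Cfsg.Statements.S0999
import Mathlib
import Cfsg.Agent.H7.BR3

set_option autoImplicit false
open Cfsg

namespace Cfsg.Agent.S0999

/-- Let G be a non-cyclic finite simple group and p a prime divisor of its order with p^3 > |G|. Then p > 3 and G is isomorphic to the projective special linear group of dimension 2 over the field with p elements, or p - 1 is a power of 2 and G is isomorphic to that group over the field with p - 1 elements. -/
theorem result {G : Type*} [Group G] [Finite G] [IsSimpleGroup G] (hG : ¬ IsCyclic G) (p : ℕ) (hp : p.Prime) (hdvd : p ∣ Nat.card G) (hbig : Nat.card G < p ^ 3) : (∃ (F : Type) (_ : Field F) (_ : Fintype F), Fintype.card F = p ∧ 3 < p ∧ Nonempty (G ≃* Matrix.ProjectiveSpecialLinearGroup (Fin 2) F)) ∨ (∃ (m : ℕ) (F : Type) (_ : Field F) (_ : Fintype F), Fintype.card F = 2 ^ m ∧ p = 2 ^ m + 1 ∧ 3 < p ∧ Nonempty (G ≃* Matrix.ProjectiveSpecialLinearGroup (Fin 2) F)) := by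
  haveI := Fact.mk hp
  have hperf : commutator G = ⊤ := by
    refine (IsSimpleGroup.eq_bot_or_eq_top_of_normal _ inferInstance).resolve_left fun e => hG ?_
    letI : CommGroup G := { (inferInstance : Group G) with
      mul_comm := fun a b => by
        rw [← commutatorElement_eq_one_iff_mul_comm, ← Subgroup.mem_bot, ← e]
        exact Subgroup.commutator_mem_commutator (Subgroup.mem_top a) (Subgroup.mem_top b) }
    exact IsSimpleGroup.isCyclic
  obtain ⟨P⟩ : Nonempty (Sylow p G) := inferInstance
  obtain ⟨h3, hb⟩ := H7.brauer_cube hperf hdvd hbig P (fun hP => by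
      rcases IsSimpleGroup.eq_bot_or_eq_top_of_normal _ hP with e | e
      · exact P.ne_bot_of_dvd_card hdvd e
      · have h1 : IsPGroup p G := (e ▸ P.isPGroup').of_equiv Subgroup.topEquiv
        haveI := h1.isNilpotent
        exact (Group.IsSolvable.commutator_lt_top_of_nontrivial G).ne hperf)
    fun N hN h2 => by
      rcases IsSimpleGroup.eq_bot_or_eq_top_of_normal _ hN with e | e
      · rw [e, Subgroup.card_bot] at h2; omega
      · rw [e, Subgroup.card_top] at h2
        exact hG (isCyclic_of_prime_card (p := 2) h2)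
  rcases hb with e | ⟨a, F, _, _, h1, h2, e, -⟩
  · exact Or.inl ⟨ZMod p, inferInstance, inferInstance, ZMod.card p, h3, e⟩
  · exact Or.inr ⟨a, F, inferInstance, inferInstance, h1, h2, h3, e⟩

end Cfsg.Agent.S0999
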