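import Cfsg.Statements.S5892
import Mathlib
import Cfsg.Agent.H10.PSL2Max3

set_option autoImplicit false
open Cfsg

namespace Cfsg.Agent.S5892

/-- Let F be a finite field of odd order q ≥ 5 and characteristic p, and let M be a maximal subgroup of PSL₂(F). Then one of the following holds: |M| = q(q − 1)/2 (the stabiliser of a point of the projective line); q ≥ 13 and M is dihedral of order q − 1; q ∉ {7, 9} and M is dihedral of order q + 1; q = q₀² and M ≅ PGL₂(F₀) with |F₀| = q₀; q = q₀^r for an odd prime r and M ≅ PSL₂(F₀) with |F₀| = q₀; q ≡ ±1 (mod 10) with q = p or q = p², p ≡ ±3 (mod 10), and M ≅ A₅; q = p ≡ ±3 (mod 8), q ≢ ±1 (mod 10), and M ≅ A₄; or q = p ≡ ±1 (mod 8) and M ≅ S₄. -/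
theorem result {F : Type*} [Field F] [Fintype F] (p : ℕ)
    [Fact p.Prime] [CharP F p] (hodd : Odd (Fintype.card F)) (h5 : 5 ≤ Fintype.card F)
    (M : Subgroup (Matrix.ProjectiveSpecialLinearGroup (Fin 2) F)) (hM : IsCoatom M) :
    2 * Nat.card M = Fintype.card F * (Fintype.card F - 1) ∨
    (13 ≤ Fintype.card F ∧ (∃ k : ℕ, 2 * k = Fintype.card F - 1 ∧ Nonempty (M ≃* DihedralGroup k))) ∨
    (Fintype.card F ≠ 7 ∧ Fintype.card F ≠ 9 ∧ (∃ k : ℕ, 2 * k = Fintype.card F + 1 ∧ Nonempty (M ≃* DihedralGroup k))) ∨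
    (∃ (F₀ : Type) (_ : Field F₀) (_ : Fintype F₀), Fintype.card F = Fintype.card F₀ ^ 2 ∧
        Nonempty (M ≃* Matrix.ProjGenLinGroup (Fin 2) F₀)) ∨
    (∃ (F₀ : Type) (_ : Field F₀) (_ : Fintype F₀) (r : ℕ), r.Prime ∧ Odd r ∧ Fintype.card F = Fintype.card F₀ ^ r ∧
        Nonempty (M ≃* Matrix.ProjectiveSpecialLinearGroup (Fin 2) F₀)) ∨
    ((Fintype.card F % 10 = 1 ∨ Fintype.card F % 10 = 9) ∧
        (Fintype.card F = p ∨ (Fintype.card F = p ^ 2 ∧ (p % 10 = 3 ∨ p % 10 = 7))) ∧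
        Nonempty (M ≃* alternatingGroup (Fin 5))) ∨
    (Fintype.card F = p ∧ (p % 8 = 3 ∨ p % 8 = 5) ∧ ¬ (p % 10 = 1 ∨ p % 10 = 9) ∧
        Nonempty (M ≃* alternatingGroup (Fin 4))) ∨
    (Fintype.card F = p ∧ (p % 8 = 1 ∨ p % 8 = 7) ∧ Nonempty (M ≃* Equiv.Perm (Fin 4))) := by
  rw [← Nat.card_eq_fintype_card] at hodd h5 ⊢
  have hc := (H10.isCoatom_psl_iff M).1 hM
  have eM := H10.mapPslEquiv M
  have hd := H10.gcd_two_eq_two hodd
  have ho := Nat.odd_iff.1 hodd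
  rcases H10.covBy_cases p le_rfl (by omega) hc hc.1.not_ge with ⟨x, hx⟩ | ⟨z, z', e, he, hz⟩ |
    ⟨k1, k2, k3⟩ | ⟨L, g, r, k1, k2, k3, k4⟩
  · left
    rw [← H10.card_map_pslPi, hx, ← H10.card_psl_inf_stabilizer x, hd]
  · obtain ⟨e'⟩ := he.dihedral le_rfl
    have h1 := he.card_psl_inf_torus
    have h2 := mt (H10.not_covBy_small he) (not_not.2 (hz ▸ hc))
    rw [hd] at h1
    have e'' := (eM.trans (MulEquiv.subgroupCongr hz)).trans e'
    rcases he.e_eq with rfl | rfl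
    · exact Or.inr (Or.inl ⟨by omega, _, h1, ⟨e''⟩⟩)
    · exact Or.inr (Or.inr (Or.inl ⟨by omega, by omega, _, h1, ⟨e''⟩⟩))
  · refine Or.inr (Or.inr (Or.inr (Or.inr (Or.inr ?_))))
    rcases (by omega : Nat.card (M.map (H10.pslPi F)) = 12 ∨ Nat.card (M.map (H10.pslPi F)) = 24 ∨
      Nat.card (M.map (H10.pslPi F)) = 60) with k | k | k
    · obtain ⟨e⟩ := k1.equiv_A4 k
      obtain ⟨a1, a2, a3⟩ := H10.A4_covBy_imp p
        (H10.five_le_of_not_dvd p (n := Nat.card (M.map (H10.pslPi F))) (by omega) (by omega)) e hc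
      exact Or.inr (Or.inl ⟨a1, a2, a3, ⟨eM.trans e⟩⟩)
    · obtain ⟨e⟩ := k1.equiv_S4 k
      have a1 := H10.S4_covBy_imp p
        (H10.five_le_of_not_dvd p (n := Nat.card (M.map (H10.pslPi F))) (by omega) (by omega))
        le_rfl e hc
      exact Or.inr (Or.inr ⟨a1, a1 ▸ (H10.S4_le_pslSub_iff (H10.two_ne_zero_of_odd hodd) e).1 hc.le,
        ⟨eM.trans e⟩⟩)
    · obtain ⟨e⟩ := k1.equiv_A5 k
      obtain ⟨a1, a2⟩ := H10.A5_covBy_imp p k2 (by rintro rfl; omega) e hc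
      exact Or.inl ⟨a1, a2, ⟨eM.trans e⟩⟩
  · rcases k2.eq_two_or_odd' with rfl | hr
    · rw [inf_eq_right.2 (H10.pglOf_le_of_even k3 even_two)] at k4
      obtain ⟨K, _, _, hK, ⟨e⟩⟩ := H10.exists_pgl_equiv_small k4
      exact Or.inr (Or.inr (Or.inr (Or.inl ⟨K, _, _, by rw [hK, k3], ⟨eM.trans e⟩⟩)))
    · rw [H10.inf_pglOf_of_odd k3 hr] at k4
      obtain ⟨K, _, _, hK, ⟨e⟩⟩ := H10.exists_psl_equiv_small k4
      exact Or.inr (Or.inr (Or.inr (Or.inr (Or.inl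
        ⟨K, _, _, r, k2, hr, by rw [hK, k3], ⟨eM.trans e⟩⟩))))

end Cfsg.Agent.S5892
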