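import Cfsg.Statements.S0516
import Mathlib
import Cfsg.Agent.H18.RankTwo
import Cfsg.Agent.H8.ZStar
import Cfsg.Agent.S0949
import Cfsg.Agent.FT.Main

set_option autoImplicit false
open Cfsg

namespace Cfsg.Agent.S0516

open Cfsg.Agent.H18

/-- In a non-abelian finite simple group of 2-rank at most 2, a Sylow 2-subgroup is dihedral (of order at least 4),
quasi-dihedral, wreathed, or isomorphic to a Sylow 2-subgroup of the projective special unitary group of dimension 3
over the field with 16 elements. -/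
theorem result {G : Type*} [Group G] [Finite G] [IsSimpleGroup G]
    (hG : ¬ IsMulCommutative G) (h2 : Cfsg.PRankLE 2 2 G) (S : Sylow 2 G) {F : Type*} [Field F] [Fintype F]
    (hF : Fintype.card F = 16) (P : Sylow 2 (Cfsg.PSU 3 F 4)) :
    (∃ n : ℕ, 2 ≤ n ∧ Nonempty ((S : Subgroup G) ≃* DihedralGroup n)) ∨ Cfsg.IsQuasiDihedral (S : Subgroup G) ∨
      Cfsg.IsWreathed (S : Subgroup G) ∨ Nonempty ((S : Subgroup G) ≃* (P : Subgroup (Cfsg.PSU 3 F 4))) := by
  haveI : Fact (Nat.Prime 2) := ⟨Nat.prime_two⟩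
  have ns : ¬ Group.IsSolvable G := fun h => hG ⟨⟨IsSimpleGroup.comm_iff_isSolvable.2 h⟩⟩
  have hO : ∀ N : Subgroup G, N.Normal → Odd (Nat.card N) → N = ⊥ := fun N hN h =>
    hN.eq_bot_or_eq_top.resolve_right fun e => ns (FT.odd_order_solvable (by
      rwa [e, Subgroup.card_top] at h))
  have h1 : (S : Subgroup G) ≠ ⊥ := fun e => ns (FT.odd_order_solvable (by
    have := S.not_dvd_index
    rw [e, Subgroup.index_bot] at this
    exact Nat.odd_iff.2 (by omega)))
  have hi : ∀ z : G, ¬ IsIsolatedInvolution z := fun z hz => by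
    have h2 := H8.mem_center_of_isolated hz (hO _ inferInstance H2.odd_card_oddCore)
    rcases (inferInstance : (Subgroup.center G).Normal).eq_bot_or_eq_top with e | e
    · have := hz.1
      rw [show z = 1 from Subgroup.mem_bot.1 (e ▸ h2), orderOf_one] at this
      omega
    · exact hG ⟨⟨fun a b => Subgroup.mem_center_iff.1 (e ▸ Subgroup.mem_top b) a⟩⟩
  rcases rank_two_grp h2 S h1 hi hF P with h | h | h | ⟨n, n2, ⟨e⟩⟩ | h
  · exact Or.inl h
  · exact Or.inr (Or.inl h)
  · exact Or.inr (Or.inr (Or.inl h))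
  · refine absurd ?_ ns
    have e := ((S0949.result S n n2 e hO).1.eq_bot_or_eq_top.resolve_left h1)
    have := (S.isPGroup'.of_equiv ((MulEquiv.subgroupCongr e).trans Subgroup.topEquiv)).isNilpotent
    infer_instance
  · exact Or.inr (Or.inr (Or.inr h))

end Cfsg.Agent.S0516
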