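import Cfsg.Statements.S2603
import Mathlib
import Cfsg.Agent.H11.SemiB

set_option autoImplicit false
open Cfsg

namespace Cfsg.Agent.S2603

/-- Structure of the outer automorphism group of PSU_n(q), n ≥ 3, (n, q) ≠ (3, 2), q = p^f, realised over the field with q² elements: it has a normal cyclic subgroup of order gcd(n, q + 1) (diagonal automorphisms) with cyclic quotient of order 2f (generated by the Frobenius field automorphism of the field with q² elements, whose f-th power is the graph automorphism). -/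
theorem result {K : Type*} [Field K] [Fintype K] {p f q n : ℕ} [Fact p.Prime] (hf : 1 ≤ f) (hq : q = p ^ f) (hK : Fintype.card K = q ^ 2) (hn : 3 ≤ n) (h32 : ¬ (n = 3 ∧ q = 2)) : ∃ φ : Cfsg.Out (Cfsg.PSU n K q) →* Multiplicative (ZMod (2 * f)), Function.Surjective φ ∧ IsCyclic φ.ker ∧ Nat.card φ.ker = Nat.gcd n (q + 1) := by
  have h := H11.qConj_conjQ hK
  obtain ⟨π, h1, h2⟩ := h.exists_autType hn h32
  obtain ⟨e⟩ := H10.nonempty_ringAut_equiv (F := K) (p := p) (f := 2 * f)
    (by rw [hK, hq, ← pow_mul, mul_comm])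
  have hk : (e.toMonoidHom.comp π).ker = π.ker := by
    ext x; simp [MonoidHom.mem_ker]
  obtain ⟨φ, hφ, h3, h4⟩ := H10.exists_out_hom (e.toMonoidHom.comp π)
    (e.surjective.comp fun ρ => ⟨_, h1 (h.fieldU n ρ)⟩) (by rw [hk, h2]; exact H11.inn_le_range_matBar)
  have hker := fun γ (H : H11.semiBar _ ((h.isHerm _).semiConj_mem h (H11.hermB_sep _)
    (H11.QConj.cond hn h32)) γ = 1) => (h.isHerm _).eq_semiScal h (H11.hermB_sep _) (by simpa) γ H
  refine ⟨φ, hφ, ?_, ?_⟩
  · rw [h3, hk, h2, MonoidHom.map_range]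
    refine H11.isCyclic_range_of_ker_le (H11.detI _ _) _ fun g hg => (QuotientGroup.eq_one_iff _).mpr ?_
    exact ((h.isHerm _).form.matBar_mem_inn hker).mpr ⟨1, g, hg, by simp⟩
  · rw [hk, h2, h.card_range_psuBar, (h.isHerm _).form.card_inn (H11.suEquiv h n) hker] at h4
    exact Nat.eq_of_mul_eq_mul_right Nat.card_pos h4

end Cfsg.Agent.S2603
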