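import Cfsg.Statements.S2119
import Mathlib
import Cfsg.Agent.H10.Sym2
import Cfsg.Agent.S4275

set_option autoImplicit false
open Cfsg

namespace Cfsg.Agent.S2119

/-- Automorphisms of the alternating groups: for n ≥ 4 with n ≠ 6, every automorphism of the alternating group of degree n is conjugation by a unique permutation, i.e. conjugation induces an isomorphism from the symmetric group of degree n onto the automorphism group of the alternating group (so the outer automorphism group has order 2). -/
theorem result (n : ℕ) (hn : 4 ≤ n) (h6 : n ≠ 6) : Function.Bijective (MulAut.conjNormal : Equiv.Perm (Fin n) →* MulAut ↥(alternatingGroup (Fin n))) := by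
  constructor
  · refine (injective_iff_map_eq_one _).mpr fun g hg => Equiv.ext fun x => ?_
    by_contra hx
    obtain ⟨y, -, hy⟩ := Finset.exists_mem_notMem_of_card_lt_card (s := {x, g x})
      (t := Finset.univ) (Finset.card_le_two.trans_lt (by simp; omega))
    obtain ⟨z, -, hz⟩ := Finset.exists_mem_notMem_of_card_lt_card (s := {x, g x, y})
      (t := Finset.univ) (Finset.card_le_three.trans_lt (by simp; omega))
    simp only [Finset.mem_insert, Finset.mem_singleton, not_or] at hy hz
    have h1 := congrArg (fun φ : MulAut (alternatingGroup (Fin n)) =>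
      (φ ⟨Equiv.swap (g x) y * Equiv.swap (g x) z, Equiv.Perm.mul_mem_alternatingGroup_of_isSwap
        ⟨_, _, Ne.symm hy.2, rfl⟩ ⟨_, _, Ne.symm hz.2.1, rfl⟩⟩).1 (g x)) hg
    have hx' : x ≠ g x := Ne.symm hx
    simp [Equiv.swap_apply_of_ne_of_ne hx' (Ne.symm hy.1), Equiv.swap_apply_of_ne_of_ne hx'
      (Ne.symm hz.1), Equiv.swap_apply_of_ne_of_ne hz.2.1 hz.2.2] at h1
    exact hz.2.1 h1.symm
  · intro φ
    obtain ⟨a, ha⟩ := H10.exists_fixed_alt (Ω := Fin n) (Ω' := Fin n) rfl (by simpa)
      (ρ := (alternatingGroup (Fin n)).subtype.comp φ.toMonoidHom)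
      (Subtype.val_injective.comp φ.injective) (Or.inl (by simpa)) ⟨0, by omega⟩
    obtain ⟨σ, -, hσ⟩ := (S4275.result (alternatingGroup (Fin n))
      (alternatingGroup.isPretransitive_of_three_le_card _ (by simp; omega)) ⟨0, by omega⟩ φ).mpr
      ⟨a, by rintro _ ⟨g, hg, rfl⟩; exact ha g hg⟩
    exact ⟨σ, MulEquiv.ext fun g => Subtype.ext (hσ g).symm⟩

end Cfsg.Agent.S2119
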