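import Cfsg.Statements.S3224
import Mathlib
import Cfsg.Agent.H3.Two

set_option autoImplicit false
open Cfsg

namespace Cfsg.Agent.S3224

/-- A finite 2-group containing an involution whose centralizer has order 4 is dihedral, quasi-dihedral (semidihedral), or of order 4. -/
theorem result {S : Type*} [Group S] [Finite S] (hS : IsPGroup 2 S)
    (x : S) (hx : orderOf x = 2) (hC : Nat.card ↥(Subgroup.centralizer ({x} : Set S)) = 4) :
    (∃ n : ℕ, Nonempty (S ≃* DihedralGroup n)) ∨ Cfsg.IsQuasiDihedral S ∨ Nat.card S = 4 := by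
  open Subgroup Cfsg.Agent.FT Cfsg.Agent.H3 in
  open scoped commutatorElement in
  · obtain ⟨n, hn⟩ := (pGrp_top hS).card
    have h2 : 2 ≤ n := (relIndex_eq_pow (j := 2) Nat.prime_two le_top hn hC).1
    have h := maxCl_of_cen1' (x := x) Nat.prime_two hn h2 (mem_top x) (by rw [top_inf_eq, hC]; rfl)
    by_cases h3 : n = 2
    · exact Or.inr (Or.inr (by rw [← card_top', hn, h3]; rfl))
    obtain ⟨m, rfl⟩ := Nat.exists_eq_add_of_le' (show 1 ≤ n by omega)
    obtain ⟨a, b, h⟩ := h.mc (by omega)
    rcases h.cases with h | h | ⟨b', h⟩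
    · exact Or.inl ⟨_, nonempty_top_equiv.1 h.iso⟩
    · exfalso
      obtain rfl := h.eq_z_of_sq (mem_top x) (hx ▸ pow_orderOf_eq_one x) fun e => by simp [e] at hx
      have := card_le (le_cen1.2 h.z_cen)
      rw [hC, hn, show 4 = 2 ^ 2 by rfl, Nat.pow_le_pow_iff_right one_lt_two] at this
      omega
    · exact Or.inr (Or.inl h.qd_top)

end Cfsg.Agent.S3224
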