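import Cfsg.Statements.S4735
import Mathlib
import Cfsg.Agent.H9.Fong

set_option autoImplicit false
open Cfsg

namespace Cfsg.Agent.S4735

/-- Let p be a prime, M a maximal ideal of the algebraic integers containing p, G a finite group, H = O_p'(G) and Ḡ = G/H. For x ∈ G write λ(G, x) for the sum of |χ(x)|^2 over the irreducible characters χ in the principal p-block of G. Then λ(G, x) is a positive integer, λ(G, x) = λ(Ḡ, x̄) where x̄ is the image of x, and λ(G, x) ≤ #C_Ḡ(x̄). Moreover λ(G, 1) = [G : H] if and only if the principal block is the only p-block of Ḡ. -/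
theorem result {G : Type*} [Group G] [Finite G] (p : ℕ) [Fact p.Prime] (M : Ideal Cfsg.AlgInt) (hM : Cfsg.IsPModular p M) (x : G) : (∃ n : ℕ, 0 < n ∧ ∑ᶠ χ ∈ Cfsg.principalBlock M G, Complex.normSq ((χ : G → ℂ) x) = n) ∧ ∑ᶠ χ ∈ Cfsg.principalBlock M G, Complex.normSq ((χ : G → ℂ) x) = ∑ᶠ ψ ∈ Cfsg.principalBlock M (G ⧸ Cfsg.pPrimeCore p G), Complex.normSq ((ψ : G ⧸ Cfsg.pPrimeCore p G → ℂ) (QuotientGroup.mk x)) ∧ ∑ᶠ χ ∈ Cfsg.principalBlock M G, Complex.normSq ((χ : G → ℂ) x) ≤ (Nat.card ↥(Subgroup.centralizer ({(QuotientGroup.mk x : G ⧸ Cfsg.pPrimeCore p G)} : Set (G ⧸ Cfsg.pPrimeCore p G))) : ℝ) ∧ ((∑ᶠ χ ∈ Cfsg.principalBlock M G, Cfsg.charDegree (χ : G → ℂ) ^ 2) = (Cfsg.pPrimeCore p G).index ↔ ∀ B : Set (Cfsg.IrrCharacter (G ⧸ Cfsg.pPrimeCore p G)), Cfsg.IsPBlock M B → B = Cfsg.principalBlock M (G ⧸ Cfsg.pPrimeCore p G)) := by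
  classical
  haveI := hM.2.1; haveI : H9.PMod M p := ⟨hM⟩
  have hφ := QuotientGroup.mk'_surjective (pPrimeCore p G)
  have hk : (Nat.card (QuotientGroup.mk' (pPrimeCore p G)).ker).Coprime p := by
    rw [QuotientGroup.ker_mk']; exact H2.pPrimeCore_coprime
  have key : ∀ {A : Type} [AddCommMonoid A] (f : (G → ℂ) → A), ∑ᶠ χ ∈ principalBlock M G, f χ.1 =
      ∑ᶠ ψ ∈ principalBlock M (G ⧸ pPrimeCore p G), f fun g => ψ.1 g := fun f => by
    refine (finsum_mem_eq_of_bijOn (H8.inflIrr _ hφ) ⟨fun ψ hψ => (H8.inflIrr_mem_principal_of_coprime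
      hM _ hφ hk ψ).2 hψ, (H8.inflIrr_injective _ hφ).injOn, fun χ hχ => ?_⟩ fun _ _ => rfl).symm
    obtain ⟨ψ, rfl⟩ := H8.exists_inflIrr_eq _ hφ (H8.le_charKer_of_principal hM hχ _ hk)
    exact ⟨ψ, (H8.inflIrr_mem_principal_of_coprime hM _ hφ hk ψ).1 hχ, rfl⟩
  have := H8.finite_irr (G := G ⧸ pPrimeCore p G)
  have := Fintype.ofFinite (IrrCharacter (G ⧸ pPrimeCore p G))
  have h2 := key fun χ => Complex.normSq (χ x)
  refine ⟨?_, h2, ?_, ?_⟩
  · have := Fintype.ofFinite G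
    have h3 : ∀ (τ : ℂ ≃+* ℂ) (χ : IrrCharacter G),
        H6.irrMapEquiv τ χ ∈ principalBlock M G ↔ χ ∈ principalBlock M G := fun τ χ => by
      simp only [H8.mem_principal_iff_sum hM, H6.irrMapEquiv_apply, ← map_sum, Ne,
        EmbeddingLike.map_eq_zero_iff]
    obtain ⟨n, hn⟩ := H6.exists_int_of_fixed (z := ∑ χ ∈ H9.bs (principalBlock M G),
      χ.1 x * (starRingEnd ℂ) (χ.1 x)) (IsIntegral.sum _ fun χ _ => (H8.char_isIntegral (H8.irr_isChar χ) x).mul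
        (H9.isIntegral_conj (H8.char_isIntegral (H8.irr_isChar χ) x))) fun τ => by
      rw [map_sum]
      refine Finset.sum_equiv (H6.irrMapEquiv τ) (fun χ => by simp [h3]) fun χ _ => ?_
      rw [map_mul, H6.irrMapEquiv_apply]
      exact congrArg _ (H6.map_conj_isGen τ.toRingHom (H6.isGen_of_irr χ.2) x)
    simp only [Complex.mul_conj] at hn
    have h4 : (0 : ℝ) < ∑ χ ∈ H9.bs (principalBlock M G), Complex.normSq (χ.1 x) :=
      Finset.sum_pos' (fun _ _ => Complex.normSq_nonneg _)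
        ⟨_, H9.mem_bs.2 H8.irrOne_mem_principalBlock, by simp⟩
    rw [H9.finsum_bs]
    have h5 : ∑ χ ∈ H9.bs (principalBlock M G), Complex.normSq (χ.1 x) = n := by exact_mod_cast hn
    rw [h5] at h4 ⊢
    lift n to ℕ using (by exact_mod_cast h4.le)
    exact ⟨n, by exact_mod_cast h4, by simp⟩
  · rw [h2, H9.finsum_bs, ← H6.sum_irr_norm_sq]
    simp only [Complex.normSq_eq_norm_sq]
    exact Finset.sum_le_sum_of_subset_of_nonneg (Finset.subset_univ _) fun _ _ _ => sq_nonneg _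
  · have h3 : ∑ ψ : IrrCharacter (G ⧸ pPrimeCore p G), charDegree ψ.1 ^ 2 = (pPrimeCore p G).index := by
      have := H6.sum_irr_degree_sq (G ⧸ pPrimeCore p G)
      simp only [H8.irr_one_eq] at this
      exact_mod_cast this
    rw [key fun χ => charDegree χ ^ 2, H9.finsum_bs, ← h3]
    refine ⟨fun h B hB => ?_, fun h => Finset.sum_congr (Finset.eq_univ_of_forall fun ψ =>
      H9.mem_bs.2 (h _ (H8.isPBlock_blockOf ψ) ▸ H8.mem_blockOf_self ψ)) fun _ _ => rfl⟩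
    obtain ⟨ψ, hψ⟩ := H8.block_nonempty hB
    refine H8.block_eq_of_mem hB H8.isPBlock_principalBlock hψ (H9.mem_bs.1 ?_)
    by_contra h4
    exact (Finset.sum_lt_sum_of_subset (Finset.subset_univ _) (Finset.mem_univ ψ) h4
      (pow_pos (Nat.pos_of_ne_zero (H8.charDegree_irr_ne_zero ψ)) 2) fun _ _ _ => Nat.zero_le _).ne h

end Cfsg.Agent.S4735
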