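import Cfsg.Statements.S3285
import Mathlib
import Cfsg.Agent.JR.Alt
-- import your own Cfsg.Agent.* helpers here

set_option autoImplicit false
open Cfsg

namespace Cfsg.Agent.S3285

/-- Let G be a finite non-solvable group with no normal subgroup of index 2, and J an involution lying in the centre of a Sylow 2-subgroup of G whose centralizer is the internal direct product of ⟨J⟩ with a subgroup isomorphic to the alternating group of degree m. Then either m = 4 and G is isomorphic to the automorphism group PΓL(2, 8) of PSL(2, 8), or m = 5 and G is isomorphic to the first Janko group. -/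
theorem result {G : Type*} [Group G] [Finite G] (hns : ¬ Group.IsSolvable G) (h2 : ∀ N : Subgroup G, N.Normal → N.index ≠ 2)
    (J : G) (hJ : Cfsg.IsTwoCentralInvolution J) (m : ℕ) (T : Subgroup G)
    (hT : Nonempty (↥T ≃* ↥(alternatingGroup (Fin m))))
    (hd : Cfsg.IsInternalDirectProduct (Subgroup.zpowers J) T (Subgroup.centralizer ({J} : Set G))) :
    (m = 4 ∧ ∃ (F : Type) (_ : Field F) (_ : Fintype F), Fintype.card F = 8 ∧
        Nonempty (G ≃* MulAut (Matrix.ProjectiveSpecialLinearGroup (Fin 2) F))) ∨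
      (m = 5 ∧ Cfsg.Spor.IsoJ1 G) := by
  obtain ⟨h1, P, -, h3⟩ := hJ
  obtain ⟨f⟩ := hT
  have dp : FT.DP (Subgroup.zpowers J) T (Subgroup.centralizer {J}) :=
    ⟨fun b hb => FT.mem_cen.2 fun a ha => hd.2.2.1 a ha b hb, hd.2.2.2.2, hd.2.2.2.1⟩
  have h4 := GW.no2_top fun M e => h2 M (Subgroup.normal_of_index_eq_two e) e
  have hS := FT.syl_top Nat.prime_two P
  have hc : P.1 ≤ Subgroup.centralizer {J} := fun x hx => FT.mem_cen1.2 (h3 x hx)
  rcases JR.not_alt h4 h1 hS hc dp f with rfl | rfl
  · exact Or.inl ⟨rfl, JR.alt_four h4 h1 hS hc dp (mt FT.sol_top.1 hns) f⟩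
  · exact Or.inr ⟨rfl, (JR.j1_iso h4 h1 hS hc dp f).2⟩

end Cfsg.Agent.S3285
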