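import Cfsg.Statements.S3277
import Mathlib
import Cfsg.Agent.H23.Sid
import Cfsg.Agent.H20.C4
import Cfsg.Agent.H20.Simple
import Cfsg.Agent.H7.BR3
import Cfsg.Agent.H10.SmallIso
import Cfsg.Agent.H2.Misc
-- import your own Cfsg.Agent.* helpers here

set_option autoImplicit false
open Cfsg

namespace Cfsg.Agent.S3277

open Cfsg.Agent.FT Cfsg.Agent.GW Subgroup Finset

variable {G : Type*} [Group G] [Finite G] {L M : Subgroup G}

theorem five_le (hL : ⁅L, L⁆ = L) (h : ¬ L ≤ M) : 5 ≤ M.relIndex L := by_contra fun c => by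
  have := H20.perm_solvable_of_card_le_four (X := L ⧸ M.subgroupOf L) (by change M.relIndex L ≤ 4; omega)
  have e : ⁅(⊤ : Subgroup L), ⊤⁆ = (⊤ : Subgroup L) := map_injective L.subtype_injective (by
    rwa [map_commutator, ← MonoidHom.range_eq_map, range_subtype])
  have := perf_eq_bot (L := (⊤ : Subgroup L).map (MulAction.toPermHom L (L ⧸ M.subgroupOf L)))
    (by rw [← map_commutator, e]) ((sol_top.2 this).mono le_top)
  refine h fun g hg => ?_
  have := Equiv.congr_fun (mem_bot.1 (this.le (mem_map_of_mem _ (mem_top ⟨g, hg⟩)))) ((1 : L) : L ⧸ M.subgroupOf L)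
  simpa [mem_subgroupOf] using QuotientGroup.eq.1 this.symm

theorem count {x : G} (hx : x * x = 1) (hn : x ∈ N(L)) (hL : ⁅L, L⁆ = L) (h1 : L ≠ ⊥) (h2 : #(L ⊓ C[x]) ≤ 2) : False := by
  classical
  have := Fintype.ofFinite G
  have cd : ∀ H : Subgroup G, (univ.filter (· ∈ H)).card = #H := fun H => by
    rw [Nat.card_eq_fintype_card, Fintype.card_subtype]
  set X := (univ.filter (· ∈ L)).image fun l => l * x * l⁻¹ with hX
  have mX : ∀ a ∈ X, a * a = 1 ∧ a * x ∈ L := fun a ha => by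
    obtain ⟨l, hl, rfl⟩ := mem_image.1 ha
    have hl := (mem_filter.1 hl).2
    refine ⟨by rw [conj_mul, hx]; simp, ?_⟩
    rw [show l * x * l⁻¹ * x = l * (x * l⁻¹ * x⁻¹) * (x * x) by group, hx, mul_one]
    exact mul_mem hl (conj_mem hn (inv_mem hl))
  have mL : ∀ a ∈ X, ∀ b ∈ X, a * b ∈ L := fun a ha b hb => by
    rw [show a * b = a * x * (b * x)⁻¹ * (b * b) by group, (mX b hb).1, mul_one]
    exact mul_mem (mX a ha).2 (inv_mem (mX b hb).2)
  have c1 : #L ≤ 2 * X.card := by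
    rw [← cd]
    refine card_le_mul_card_image _ 2 fun a ha => le_trans ?_ (cd _ ▸ h2)
    obtain ⟨l, hl, rfl⟩ := mem_image.1 ha
    refine card_le_card_of_injOn (l⁻¹ * ·) (fun k hk => ?_) fun _ _ _ _ e => mul_left_cancel e
    simp only [coe_filter, mem_filter, mem_univ, true_and, Set.mem_ofPred_eq] at hk hl ⊢
    refine ⟨L.mul_mem (L.inv_mem hl) hk.1, mem_cen1.2 ?_⟩
    calc _ = l⁻¹ * (k * x * k⁻¹) * k := by group
      _ = _ := by rw [hk.2]; group
  have i5 : ∀ g ∈ L, g ∉ C(L) → 5 * #(L ⊓ C[g]) ≤ #L ∧ 2 * #Z(L) ≤ #(L ⊓ C[g]) := fun g hg h => by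
    have a := card_inf_mul_relIndex C[g] L
    have b := five_le hL (mt le_cen1.1 h)
    have c : Z(L) ≤ L ⊓ C[g] := inf_le_inf_left _ (cen_le_cen1 hg)
    have d := card_mul_relIndex c
    have e := one_lt_relIndex fun e : L ⊓ C[g] ≤ Z(L) => h (e ⟨hg, mem_cen1.2 rfl⟩).2
    rw [inf_comm] at a
    constructor <;> nlinarith
  obtain ⟨g, hg, hg'⟩ := SetLike.not_le_iff_exists.1 fun e : L ≤ C(L) => h1 (perf_eq_bot hL (ab_iff.2 e).sol)
  have c2 := i5 g hg hg'
  have c3 : 5 * (X ×ˢ X).card ≤ #Z(L) * (5 * X.card) + (#L - #Z(L)) * #L := by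
    rw [card_eq_sum_card_fiberwise (f := fun p => p.1 * p.2) (t := univ.filter (· ∈ L)) fun p hp => by
      simpa using mL _ (mem_product.1 hp).1 _ (mem_product.1 hp).2, mul_sum,
      ← sum_sdiff (s₁ := univ.filter (· ∈ Z(L))) fun a ha => by simpa using (mem_filter.1 ha).2.1, add_comm]
    refine add_le_add ?_ ?_
    · rw [← cd, ← smul_eq_mul]
      refine sum_le_card_nsmul _ _ _ fun g _ => Nat.mul_le_mul_left _ (card_le_card_of_injOn (·.1) (fun p hp => ?_) ?_)
      · exact (mem_product.1 (mem_filter.1 hp).1).1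
      · exact fun p hp q hq e => Prod.ext e (mul_left_cancel (a := p.1) ((mem_filter.1 hp).2.trans
          ((mem_filter.1 hq).2.symm.trans (congrArg (· * q.2) e.symm))))
    · rw [← cd L, ← cd Z(L), ← card_sdiff_of_subset fun a ha => by simpa using (mem_filter.1 ha).2.1, ← smul_eq_mul, cd L]
      refine sum_le_card_nsmul _ _ _ fun g hg => ?_
      simp only [mem_sdiff, mem_filter, mem_univ, true_and] at hg
      refine le_trans (Nat.mul_le_mul_left _ ?_) (i5 g hg.1 fun e => hg.2 ⟨hg.1, e⟩).1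
      rcases ((X ×ˢ X).filter fun p => p.1 * p.2 = g).eq_empty_or_nonempty with e | ⟨q, hq⟩
      · simp [e]
      have inv : ∀ p ∈ (X ×ˢ X).filter fun p => p.1 * p.2 = g, p.1 ∈ X ∧ p.1 * g * p.1⁻¹ = g⁻¹ := fun p hp => by
        obtain ⟨hq, e⟩ := mem_filter.1 hp
        exact ⟨(mem_product.1 hq).1, e ▸ H20.inverts_mul_left (mX _ (mem_product.1 hq).1).1 (mX _ (mem_product.1 hq).2).1⟩
      rw [← cd]
      refine card_le_card_of_injOn (q.1 * ·.1) (fun p hp => ?_) fun p hp r hr e => ?_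
      · refine mem_coe.2 (mem_filter.2 ⟨mem_univ _, mL _ (inv q hq).1 _ (inv p hp).1, mem_cen1.2 ?_⟩)
        calc _ = q.1 * (p.1 * g * p.1⁻¹) * q.1⁻¹ * (q.1 * p.1) := by group
          _ = (q.1 * g * q.1⁻¹)⁻¹ * (q.1 * p.1) := by rw [(inv p hp).2]; group
          _ = _ := by rw [(inv q hq).2, inv_inv]
      · have e := mul_left_cancel e
        exact Prod.ext e (mul_left_cancel (a := p.1) ((mem_filter.1 hp).2.trans
          ((mem_filter.1 hr).2.symm.trans (congrArg (· * r.2) e.symm))))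
  rw [card_product] at c3
  have c4 := card_pos Z(L)
  obtain ⟨k, hk⟩ : ∃ k, #L = #Z(L) + k := Nat.exists_eq_add_of_le (card_le inf_le_left)
  rw [show #L - #Z(L) = k by omega] at c3
  have c5 : 10 * #Z(L) ≤ #L := by omega
  generalize #L = n at *
  generalize #Z(L) = z at *
  generalize X.card = c at *
  nlinarith

/-- Let G be a finite group containing an involution whose centralizer is elementary abelian of order 4. If G has no normal 2-complement and no normal elementary abelian 2-subgroup of order 2 or 4, then G is isomorphic to the alternating group of degree 5 (that is, to PSL(2, 5)). -/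
theorem result {G : Type*} [Group G] [Finite G] (x : G) (hx : orderOf x = 2)
    (hC4 : Nat.card ↥(Subgroup.centralizer ({x} : Set G)) = 4) (hCe : ∀ c ∈ Subgroup.centralizer ({x} : Set G), c ^ 2 = 1)
    (hnc : ¬ Cfsg.HasNormalPComplement 2 G)
    (hne : ∀ E : Subgroup G, E.Normal → Cfsg.IsElementaryAbelian 2 E → Nat.card ↥E ≠ 2 ∧ Nat.card ↥E ≠ 4) :
    Nonempty (G ≃* ↥(alternatingGroup (Fin 5))) := by
  have h2 := Nat.prime_two
  have x2 : x * x = 1 := (pow_two x).symm.trans (hCe x (mem_cen1.2 rfl))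
  have pV : PGrp 2 C[x] := pGrp_of_card (n := 2) h2 hC4
  obtain ⟨S, hS, hV⟩ := pV.exists_syl le_top
  have xV : x ∈ C[x] := mem_cen1.2 rfl
  have x1 : x ≠ 1 := H20.ne_one_of_orderOf_two hx
  rcases hV.eq_or_lt with rfl | hlt
  · have d := dh_of_four hC4 (fun y hy => (pow_two y).symm.trans (hCe y hy)) xV x1
    have o := d.oneCl hS (by_contra fun e => hnc ((npc_top_iff h2).1 (npc_of_four hS hC4 e)))
    obtain ⟨F, _, _, hF, ⟨e⟩⟩ := H7.psl_of_cen hx (fun i hi => by
      obtain ⟨g, -, e⟩ := o x (mem_top x) i (mem_top i) hx hi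
      exact isConj_iff.2 ⟨g, e⟩) (fun y hy => (pow_two y).symm.trans (hCe y hy)) (hC4.symm ▸ by norm_num) fun T hT => by
        have e := (syl_top h2 T).uniq_of_nml (normalizer_eq_top_iff.2 hT).ge hS
        exact (hne _ (e ▸ hT) ⟨Inverts.ab (s := 1) fun y hy => by
          rw [one_mul, inv_one, mul_one, eq_inv_iff_mul_eq_one, ← sq, hCe y hy], hCe⟩).2 hC4
    obtain ⟨f⟩ := H10.PSL2_four_equiv (F := F) (Nat.card_eq_fintype_card.trans (hF.trans hC4))
    exact ⟨e.trans f⟩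
  exfalso
  obtain ⟨n, hn⟩ := hS.pi.card
  have h3 : 2 < n := (Nat.pow_lt_pow_iff_right one_lt_two).1 (hn ▸ hC4.ge.trans_lt (card_lt hlt))
  obtain ⟨m, rfl⟩ : ∃ m, n = m + 1 := ⟨n - 1, by omega⟩
  obtain ⟨a, b, hm⟩ := (H3.maxCl_of_cen1' h2 hn h3.le (hV xV) ((card_le inf_le_right).trans hC4.le)).mc (by omega)
  obtain ⟨K, -, hK, xK⟩ := thompson hS hm.le hm.relIndex (mem_top x) x2 fun g _ hg => by
    have : a ∈ cj g C[x] := cj_cen1 g x ▸ (cyc_zpowers a).ab.le_cen1 hg (mem_zpowers a)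
    have := orderOf_dvd_of_pow_eq_one (hCe _ (mem_cj.1 this))
    rw [H20.orderOf_conj', hm.ord] at this
    exact absurd ((Nat.pow_dvd_pow 2 hm.two_le).trans this) (by norm_num)
  rw [relIndex_top_right] at hK
  have nK := normal_of_index_eq_two hK
  obtain ⟨z, hz, z2⟩ := (hS.pi.mono (inf_le_left : Z(S) ≤ S)).exists_elt (hS.pi.center_ne_bot hlt.ne_bot)
  have zV : z ∈ C[x] := mem_cen1.2 (mem_cen.1 hz.2 x (hV xV)).symm
  have z1 := H20.ne_one_of_orderOf_two z2
  have xz : x ≠ z := fun e => hlt.not_ge (e ▸ le_cen1.2 hz.2)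
  have four := fun w => H23.Sid.four (w := w) hC4.le xV zV x1 z1 xz fun e => xz (mul_left_cancel (x2.trans e.symm))
  obtain ⟨s, hs, hs'⟩ := SetLike.exists_of_lt (hS.pi.lt_subnorm hlt)
  have e : s * x * s⁻¹ = x * z := by
    rcases four _ (conj_mem hs.2 xV) with e | e | e | e
    · exact absurd (conj_eq_one_iff.1 e) x1
    · exact absurd (mem_cen1.2 (mul_inv_eq_iff_eq_mul.1 e)) hs'
    · exact absurd (mul_left_cancel ((mul_inv_eq_iff_eq_mul.1 e).trans (mem_cen.1 hz.2 s hs.1).symm)) xz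
    · exact e
  have le2 : ∀ L : Subgroup G, L.Normal → x ∉ L → #(L ⊓ C[x]) ≤ 2 := fun L hL h => by
    have a := card_dvd (inf_le_right : L ⊓ C[x] ≤ _)
    have b := card_lt (lt_of_le_of_ne (inf_le_right : L ⊓ C[x] ≤ _) fun e => h (e.ge xV).1)
    rw [hC4] at a b
    by_contra c
    rw [show #(L ⊓ C[x]) = 3 by omega] at a
    exact absurd a (by norm_num)
  have hO : O[{2}]((⊤ : Subgroup G)) = ⊥ := by_contra fun c => by
    have n := nml_top_iff.1 ((pcore_nml {2} (⊤ : Subgroup G)).center.Ohm 2)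
    have el := abelem_Ohm_center 2 O[{2}]((⊤ : Subgroup G))
    have ne := (pcore_pi {2} (⊤ : Subgroup G)).Ohm_center_ne_bot c
    generalize Ω[2](Z(O[{2}]((⊤ : Subgroup G)))) = E at n el ne
    have c1 : #E ≤ 4 := by
      by_cases h : x ∈ E
      · exact hC4 ▸ card_le (el.ab.le_cen1 h)
      · have := le2 E n h
        exact (el.card_le_cent (x2 ▸ one_mem _) ((normalizer_eq_top E).ge (mem_top x))).trans (by nlinarith)
    have c2 := (el.pGrp h2).dvd ne
    have := hne E n el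
    have := card_pos E
    omega
  have oF : PiGrp {2}ᶜ F((⊤ : Subgroup G)) := fitting_pi (by rwa [compl_compl])
  have nF := (fitting_nml (⊤ : Subgroup G)).nrm
  have i1 := GW.inverts_of_fpf x2 (nF (mem_top x)) (oF.inf_eq_bot' pV)
  have i2 := i1.cj s
  rw [cj_of_mem_nrm (nF (mem_top s)), e] at i2
  have zF := i1.mul_mem_cen i2
  rw [← mul_assoc, x2, one_mul] at zF
  have hE : E((⊤ : Subgroup G)) ≠ ⊥ := fun c => z1 ((pElt_of_pow_eq_one h2 (z2 ▸ pow_orderOf_eq_one z)).eq_one_of_mem oF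
    (cent_fitting_of_lay c ⟨mem_top z, zF⟩))
  refine count x2 ((lay_nrm ⊤) (mem_top x)) (lay_perf ⊤) hE (le2 _ (nml_top_iff.1 (lay_nml ⊤)) fun h => ?_)
  have a := five_le (lay_perf ⊤) fun e : _ ≤ K => xK (e h)
  have b := Nat.le_of_dvd two_pos (hK ▸ relIndex_dvd_index_of_normal K E((⊤ : Subgroup G)))
  omega

end Cfsg.Agent.S3277
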