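import Cfsg.Statements.S2916
import Mathlib
import Cfsg.Agent.H23.GL23
import Cfsg.Agent.H23.L33b
import Cfsg.Agent.H23.M11b
import Cfsg.Agent.H14.M24f
import Cfsg.Agent.H20.Transfer
-- import your own Cfsg.Agent.* helpers here

set_option autoImplicit false
open Cfsg

namespace Cfsg.Agent.S2916

/-- Let G be a finite group with O²(G) = G (no proper normal subgroup of 2-power index), and let t be an involution of G whose centralizer C_G(t) is isomorphic to GL₂(3). Then G is isomorphic to PSL₃(3) or to the Mathieu group M₁₁. -/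
theorem result {G : Type*} [Group G] [Finite G] (hO : Cfsg.pResidual 2 G = ⊤) (t : G) (ht : orderOf t = 2) (hC : Nonempty (↥(Subgroup.centralizer ({t} : Set G)) ≃* GL (Fin 2) (ZMod 3))) : (∃ (F : Type) (_ : Field F) (_ : Fintype F), Fintype.card F = 3 ∧ Nonempty (G ≃* Matrix.ProjectiveSpecialLinearGroup (Fin 3) F)) ∨ Cfsg.Spor.IsoM11 G := by
  obtain ⟨e⟩ := hC
  have h := H20.pResidual_two_eq_top_iff.1 hO
  have := H23.GL23.simple ht e h
  rcases H23.GL23.card_eq ht e h with h | h
  · exact .inl ⟨ZMod 3, inferInstance, inferInstance, rfl, H23.L33.iso h⟩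
  · have := H14.simple_M11
    obtain ⟨e⟩ := H23.M11.iso h
    obtain ⟨f⟩ := H23.M11.iso H14.card_M11
    exact .inr ⟨e.trans f.symm⟩

end Cfsg.Agent.S2916
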