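import Cfsg.Statements.S2060
import Cfsg.Agent.L1.Aut

set_option autoImplicit false
open Cfsg

namespace Cfsg.Agent.S2060

open Cfsg.Agent.H14

/-- the group with an element of order 5 and an involution as generators. -/
noncomputable def S : CSub A24 :=
  SD0s.regen [0x5d9e59b5c951c30adc88a4a2361840, 0xbbd73a0e30b29a4ab822398ac92120]
    [(0, 1), (2, 0), (2, 0), (3, 0), (5, 0), (5, 4), (7, 0), (7, 0), (8, 0), (0, 4), (5, 0), (2, 0),
    (3, 0), (8, 0), (9, 9), (6, 0), (7, 0), (12, 0), (4, 4), (1, 0), (0, 0), (7, 0), (13, 0), (24,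
    0), (15, 6), (20, 0), (27, 0), (27, 0), (29, 0), (29, 0)]
    (by decide +kernel)

/-- a Sylow 5-subgroup. -/
noncomputable def P : CSub A24 :=
  CSub.cyc A24 0x5d9e59b5c951c30adc88a4a2361840 5 [(1, [0xad951984e4bd0497ac682b5cc848c0])] (by decide +kernel)

theorem card_mulAut : Nat.card (MulAut S.K) = 1 * 7920 :=
  card_aut S SD0s P (a := 0x5d9e59b5c951c30adc88a4a2361840) (b := 0xbbd73a0e30b29a4ab822398ac92120)
    (x := 0x3d5d678ae65cda1552442c22943060) (p := 5) (n := 24) (m := 1584) (fuel := 760) rfl (by norm_num)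
    (rels := [([false, true], 11), ([false, false, false, false, true, false, true, false, false, true], 3)])
    (certs := [0xbdab49ca307b9ac5a928398a418820, 0x5d9e59b5c951c30adc88a4a2361840,
    0xad951984e4bd0497ac682b5cc848c0, 0x55967998acac643bbe0870a89205a0,
    0x7daee98a83594c455588884f04b640])
    (L := [0x5d2b69ca2953881bbe0828ced30980, 0x3d9d3a0e307d4c252d24bb4a893020,
    0xa5977985503b903ac48d798a960a40, 0x2d954749e88cc8c5d450386ed1a4c0,
    0xbcca7b0a307ad097298da06a41c8c0])
    (U := 0x47a069)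
    (lv := [(1, [0xbdab49ca307b9ac5a928398a418820, 0x5d9e59b5c951c30adc88a4a2361840,
    0xad951984e4bd0497ac682b5cc848c0, 0x7daee98a83594c455588884f04b640,
    0x55967998acac643bbe0870a89205a0])])
    (cert := assocL [(0x5d9e59b5c951c30adc88a4a2361840, 0xbdab49ca307b9ac5a928398a418820),
    (0xad951984e4bd0497ac682b5cc848c0, 0x74cebb36a38dcd02d1287894c24820),
    (0x7daee98a83594c455588884f04b640, 0x74e2ab09ec3de44a1528ab56381820),
    (0x55967998acac643bbe0870a89205a0, 0xbd9e5998e4ab84352d288ca9063420)])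
    (by decide +kernel) (by decide +kernel)

theorem regen_K {G Ω : Type*} [Group G] [MulAction G Ω] {A : Amb G Ω} (S : CSub A) (gs : List ℕ)
    (prog : List (ℕ × ℕ)) (H) : (S.regen gs prog H).K = S.K := rfl

theorem S_K : S.K = SD0s.K := regen_K _ _ _ _

/-- The outer automorphism group of the Mathieu group M₁₁ (the stabiliser of a dodecad and one of its points in the automorphism group of the length-24 binary code) is trivial: every automorphism is inner. -/
theorem result : Nat.card (Cfsg.Out ↥Cfsg.Spor.M11) = 1 := by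
  have : IsSimpleGroup SD0s.K := simple_SD0
  exact card_out_of_equiv (K := SD0s.K) equivM11 (n := 7920) SD0s.card_eq
    (Nat.not_prime_of_dvd_of_lt (m := 2) (by norm_num) le_rfl (by norm_num)) (S_K ▸ card_mulAut)

end Cfsg.Agent.S2060
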