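import Cfsg.Statements.S3344
import Mathlib
import Cfsg.Agent.H28.MZ5
import Cfsg.Agent.H28.MZ7
import Cfsg.Agent.H29.ES

set_option autoImplicit false
open Cfsg

namespace Cfsg.Agent.S3344
open Subgroup Cfsg.Agent.H28.MZ Cfsg.Agent.H28.HJ Cfsg.Agent.FT

/-- Let G be a finite group with an involution s, L = C_G(s) and Q = O₂(L). Suppose Q is extraspecial of order 32, L/Q is isomorphic to Sym(3), C_Q(X) = ⟨s⟩ for a Sylow 3-subgroup X of L, and s is not weakly closed in Q with respect to G (some conjugate of s other than s lies in Q). Then either G has an elementary abelian normal subgroup of order 8 with quotient isomorphic to PSL(3,2), or G is isomorphic to the alternating group of degree 8 or 9, or to the Mathieu group M₁₂. -/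
theorem result {G : Type*} [Group G] [Finite G]
    (s : G) (hs : orderOf s = 2) (L : Subgroup G) (hL : L = Subgroup.centralizer ({s} : Set G))
    (Q : Subgroup G) (hQ : Q = (Cfsg.pCore 2 L).map L.subtype)
    (hQex : Cfsg.IsExtraspecial 2 Q) (hQcard : Nat.card Q = 32)
    (e : L ⧸ Cfsg.pCore 2 L ≃* Equiv.Perm (Fin 3))
    (X : Sylow 3 L) (hCQX : Q ⊓ Subgroup.centralizer (((X : Subgroup L).map L.subtype : Subgroup G) : Set G) = Subgroup.zpowers s)
    (hnwc : ∃ g : G, g * s * g⁻¹ ∈ Q ∧ g * s * g⁻¹ ≠ s) :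
    (∃ (N : Subgroup G) (hN : N.Normal), IsMulCommutative N ∧ (∀ n ∈ N, n ^ 2 = 1) ∧ Nat.card N = 8 ∧
        Nonempty (G ⧸ N ≃* Matrix.ProjectiveSpecialLinearGroup (Fin 3) (ZMod 2))) ∨
    Nonempty (G ≃* alternatingGroup (Fin 8)) ∨ Nonempty (G ≃* alternatingGroup (Fin 9)) ∨ Cfsg.Spor.IsoM12 G := by
  subst hL
  have s1 := H20.ne_one_of_orderOf_two hs
  have sQ : s ∈ Q := (hCQX.ge (mem_zpowers s)).1
  have QL : Q ≤ C[s] := hQ ▸ map_subtype_le _
  have S := H29.es_of_mem hQex s1 sQ QL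
  have mQ : ∀ x : C[s], (x : G) ∈ Q ↔ x ∈ pCore 2 C[s] := fun x => by
    rw [hQ]; exact mem_map_iff_mem (subtype_injective _)
  have c32 : #(pCore 2 C[s]) = 32 := by rw [← hQcard, hQ, card_subtype]
  have cH : #C[s] = 192 := by
    rw [card_eq_card_quotient_mul_card_subgroup (pCore 2 C[s]), c32, Nat.card_congr e.toEquiv, Nat.card_perm,
      Nat.card_fin]; rfl
  have cX : #(X : Subgroup C[s]) = 3 := by
    rw [X.card_eq_multiplicity, cH, show 192 = 3 ^ 1 * 64 from rfl, Nat.factorization_mul (by decide) (by decide)]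
    simp [Nat.prime_three.factorization, Nat.factorization_eq_zero_of_not_dvd]
  obtain ⟨⟨r, hr⟩, o3⟩ := exists_prime_orderOf_dvd_card' (G := (X : Subgroup C[s])) 3 cX.symm.dvd
  rw [← orderOf_coe] at o3
  have eX : zpowers r = X := eq_of_le_of_card_ge (zpowers_le.2 hr) (by rw [cX, Nat.card_zpowers, o3])
  have r3 : r ^ 3 = 1 := o3 ▸ pow_orderOf_eq_one r
  have H : Hy s Q r := by
    refine ⟨⟨s1, S.zz, sQ, fun x hx => S.comm_z hx, fun c hc x hx => ?_,
      fun x hx e => S.cen x hx fun y hy => (e y hy).symm, fun x hx y hy => ?_, S.sq⟩, hQcard, cH, memC.1 r.2,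
      congrArg Subtype.val r3, fun x hx e => (GW.invo_of S.zz s1).mem_zpowers.1 (hCQX.le ⟨hx, ?_⟩), fun c h1 h2 => ?_⟩
    · exact (mQ (⟨c, memC.2 hc⟩ * ⟨x, QL hx⟩ * ⟨c, memC.2 hc⟩⁻¹)).2
        (Normal.conj_mem inferInstance _ ((mQ ⟨x, QL hx⟩).1 hx) _)
    · rcases S.conj hx hy with e | e
      · exact .inl (mul_inv_eq_iff_eq_mul.1 e)
      · exact .inr (by rw [mul_inv_eq_iff_eq_mul.1 e, mul_assoc, ← S.comm_z hx, mul_assoc])
    · rintro _ ⟨y, hy, rfl⟩
      obtain ⟨k, rfl⟩ := eX ▸ hy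
      simpa using (Commute.zpow_left e k).eq
    · let π := e.toMonoidHom.comp (QuotientGroup.mk' (pCore 2 C[s]))
      have k : ∀ x : C[s], π x = 1 ↔ (x : G) ∈ Q := fun x => by
        rw [mQ, ← QuotientGroup.eq_one_iff]; exact e.map_eq_one_iff
      have : ∀ a b : Equiv.Perm (Fin 3), a ^ 3 = 1 → a ≠ 1 → b * a = a * b → b = 1 ∨ b * a = 1 ∨ b * a⁻¹ = 1 := by
        decide
      have := this (π r) (π ⟨c, memC.2 h1⟩) (by rw [← map_pow, r3, map_one]) (fun h => by
        have := orderOf_dvd_card' ((mQ r).1 ((k r).1 h))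
        rw [o3, c32] at this
        omega) (by rw [← map_mul, ← map_mul]; exact congrArg π (Subtype.ext h2))
      simp only [← map_inv, ← map_mul, k] at this
      exact this
  obtain ⟨g, hg, gz⟩ := hnwc
  obtain ⟨e, f, p, q, t, M | M, c⟩ := H.main hg gz
  · exact (c.elim M.main (·.elim M.swap.main M.third.swap.main)).imp_right (·.imp_right .inl)
  · obtain ⟨y, -, h⟩ := M.b0.2.2.1
    exact (M.main (c.resolve_right (·.elim M.nf fun c => M.nf ((icj h).symm.trans c)))).imp_right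
      fun h => .inr (.inr h)

end Cfsg.Agent.S3344
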