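import Cfsg.Statements.S2122
import Mathlib
import Cfsg.Agent.H12.Bonds

set_option autoImplicit false
open Cfsg

namespace Cfsg.Agent.S2122

open Cfsg.Agent.H12

/-- Outer automorphisms of the Chevalley groups of type F₄: over a field with q = p^f (p prime) elements, the outer automorphism group of F₄(q) has order gcd(2, p) · f (field automorphisms, and in characteristic 2 also the exceptional graph automorphism). -/
theorem result {F : Type*} [Field F] [Fintype F] (p f : ℕ) [Fact p.Prime] [CharP F p] (hF : Fintype.card F = p ^ f) : Nat.card (Cfsg.Out ↥(Cfsg.Lie.chevF4.group F)) = Nat.gcd 2 p * f := by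
  rw [bondOK_F4.card_out, card_hT_ker_F4, (ringAut_cyclic_card hF).2, mul_one]
  by_cases h : p = 2
  · subst h
    rw [(card_range_F4.resolve_right fun h => h.1 symF4_mem).2]; rfl
  · rw [(card_range_F4.resolve_left fun h' => h ((ringChar.eq F p).symm.trans (char_of_symF4 h'.1))).2,
      ((Nat.coprime_primes Nat.prime_two Fact.out).2 (Ne.symm h)).gcd_eq_one]

end Cfsg.Agent.S2122
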