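import Cfsg.Statements.S5057
import Mathlib
import Cfsg.Agent.H3.Ex1

set_option autoImplicit false
open Cfsg

namespace Cfsg.Agent.S5057

section
open Cfsg.Agent.H3
open scoped commutatorElement

open Equiv in
set_option maxRecDepth 100000 in
theorem a6_ord : ∀ g : Perm (Fin 6), Perm.sign g = 1 → g ^ 3 = 1 ∨ g ^ 4 = 1 ∨ g ^ 5 = 1 := by
  decide +kernel

open Equiv in
set_option maxRecDepth 100000 in
theorem a6_conj : ∀ a : Perm (Fin 6), a * a = 1 → a ≠ 1 → Perm.sign a = 1 → ∃ g : Perm (Fin 6),
    a * g = g * (swap 0 1 * swap 2 3) := by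
  decide +kernel

open Equiv in
def a0 : alternatingGroup (Fin 6) := ⟨swap 0 1 * swap 2 3, by simp⟩

theorem a0_ord : orderOf a0 = 2 := orderOf_eq_prime (by decide) (by decide)

open Equiv in
theorem conj0 (a : alternatingGroup (Fin 6)) (h : orderOf a = 2) : ∃ g, a = g * a0 * g⁻¹ := by
  have h1 : a * a = 1 := by rw [← pow_two, ← h, pow_orderOf_eq_one]
  have h2 : a ≠ 1 := by rintro rfl; simp at h
  obtain ⟨g, e⟩ := a6_conj a.1 (congrArg Subtype.val h1) (fun e => h2 (Subtype.ext e)) a.2
  rcases Int.units_eq_one_or (Perm.sign g) with s | s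
  · exact ⟨⟨g, s⟩, eq_mul_inv_of_mul_eq (Subtype.ext e)⟩
  · refine ⟨⟨g * swap 0 1, by simp [s]⟩, eq_mul_inv_of_mul_eq (Subtype.ext ?_)⟩
    change a.1 * (g * swap 0 1) = g * swap 0 1 * (swap 0 1 * swap 2 3)
    rw [← mul_assoc, e, mul_assoc g, mul_assoc g]
    congr 1
    decide

theorem ord_cases (g : alternatingGroup (Fin 6)) :
    orderOf g = 1 ∨ orderOf g = 2 ∨ orderOf g = 3 ∨ orderOf g = 4 ∨ orderOf g = 5 := by
  have h0 := orderOf_pos g
  rcases a6_ord g.1 g.2 with e | e | e
  · have := orderOf_dvd_of_pow_eq_one (Subtype.ext e : g ^ 3 = 1)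
    have := Nat.le_of_dvd (by decide) this
    omega
  · have := orderOf_dvd_of_pow_eq_one (Subtype.ext e : g ^ 4 = 1)
    have := Nat.le_of_dvd (by decide) this
    omega
  · have := orderOf_dvd_of_pow_eq_one (Subtype.ext e : g ^ 5 = 1)
    have := Nat.le_of_dvd (by decide) this
    omega

end

/-- The involutions of the alternating group of degree 6 form a class of root involutions (a single conjugacy class of involutions generating the group, any two of which commute, have product of odd order, or have product of order 4 whose square is again an involution of the class), and the product of any two of them has order at most 5. -/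
theorem result :
    Cfsg.IsRootInvolutionClass {g : ↥(alternatingGroup (Fin 6)) | orderOf g = 2} ∧
    ∀ d ∈ {g : ↥(alternatingGroup (Fin 6)) | orderOf g = 2}, ∀ e ∈ {g : ↥(alternatingGroup (Fin 6)) | orderOf g = 2},
      orderOf (d * e) ≤ 5 := by
  open Cfsg.Agent.H3 in
  open scoped commutatorElement in
  ·   have hc : ∀ d ∈ {g : ↥(alternatingGroup (Fin 6)) | orderOf g = 2}, ∀ g : alternatingGroup (Fin 6),
          g * d * g⁻¹ ∈ {g : ↥(alternatingGroup (Fin 6)) | orderOf g = 2} := fun d hd g =>
        (orderOf_injective (MulAut.conj g).toMonoidHom (MulAut.conj g).injective d).trans hd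
      refine ⟨⟨⟨fun d hd => hd, ?_, hc, fun a ha b hb => ?_⟩, ⟨a0, a0_ord⟩, fun a ha b hb => ?_⟩,
        fun d _ e _ => by have := ord_cases (d * e); omega⟩
      · haveI : IsSimpleGroup (alternatingGroup (Fin 6)) := alternatingGroup.isSimpleGroup (by simp)
        have hn : (Subgroup.closure {g : ↥(alternatingGroup (Fin 6)) | orderOf g = 2}).Normal := by
          refine ⟨fun n hn g => ?_⟩
          induction hn using Subgroup.closure_induction with
          | mem x hx => exact Subgroup.subset_closure (hc x hx g)
          | one => simpa using one_mem _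
          | mul x y _ _ hx hy => simpa [mul_assoc] using mul_mem hx hy
          | inv x _ hx => simpa [mul_assoc] using inv_mem hx
        refine hn.eq_bot_or_eq_top.resolve_left fun e => ?_
        have : a0 ∈ Subgroup.closure {g : ↥(alternatingGroup (Fin 6)) | orderOf g = 2} :=
          Subgroup.subset_closure a0_ord
        rw [e, Subgroup.mem_bot] at this
        exact absurd this (by decide)
      · have ia : a⁻¹ = a := inv_eq_of_mul_eq_one_left (by
          rw [← pow_two, ← (ha : orderOf a = 2), pow_orderOf_eq_one])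
        have ib : b⁻¹ = b := inv_eq_of_mul_eq_one_left (by
          rw [← pow_two, ← (hb : orderOf b = 2), pow_orderOf_eq_one])
        rcases ord_cases (a * b) with e | e | e | e | e
        · exact Or.inr (Or.inl (e ▸ by decide))
        · refine Or.inl ?_
          have : a * b * (a * b) = 1 := by rw [← pow_two, ← e, pow_orderOf_eq_one]
          rw [eq_inv_of_mul_eq_one_left this, mul_inv_rev, ia, ib]
        · exact Or.inr (Or.inl (e ▸ by decide))
        · exact Or.inr (Or.inr ⟨e, by
            change orderOf _ = 2
            rw [orderOf_pow' _ two_ne_zero, e]; decide⟩)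
        · exact Or.inr (Or.inl (e ▸ by decide))
      · obtain ⟨g, rfl⟩ := conj0 a ha
        obtain ⟨h, rfl⟩ := conj0 b hb
        exact ⟨h * g⁻¹, by group⟩

end Cfsg.Agent.S5057
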