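import Cfsg.Statements.S3820
import Mathlib
import Cfsg.Agent.H1.Coprime
import Cfsg.Agent.H2.Zipper

set_option autoImplicit false
open Cfsg

namespace Cfsg.Agent.S3820

open Subgroup
open scoped Pointwise

/-- Call a subgroup H of G pronormal if H and gHg⁻¹ are conjugate inside ⟨H, gHg⁻¹⟩ for every g ∈ G. Let S ≤ H ≤ G be subgroups of a finite group with S pronormal in G (for instance S a Sylow subgroup). Then H is pronormal in G if and only if H and gHg⁻¹ are conjugate inside ⟨H, gHg⁻¹⟩ for every g ∈ N_G(S). In particular H is pronormal whenever N_G(S) ≤ H. -/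
theorem result {G : Type*} [Group G] [Finite G] (S H : Subgroup G) (hSH : S ≤ H)
    (hS : Cfsg.IsPronormal S) :
    Cfsg.IsPronormal H ↔
      ∀ g ∈ Subgroup.normalizer (S : Set G), ∃ w ∈ H ⊔ H.map (MulAut.conj g).toMonoidHom,
        H.map (MulAut.conj g).toMonoidHom = H.map (MulAut.conj w).toMonoidHom := by
  refine ⟨fun h g _ => h g, fun h g => ?_⟩
  simp only [← H1.conj_smul_eq_map] at h ⊢
  obtain ⟨x, hx, hxe⟩ := hS g
  simp only [← H1.conj_smul_eq_map] at hx hxe
  have hx' : x ∈ H ⊔ MulAut.conj g • H := sup_le_sup hSH (H2.conj_smul_mono g hSH) hx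
  have hn : x⁻¹ * g ∈ normalizer (S : Set G) := by
    rw [H1.mem_normalizer_iff_conj_smul_eq, ← H1.conj_smul_conj_smul, hxe,
      H2.conj_inv_smul_conj_smul]
  obtain ⟨w, hw, hwe⟩ := h _ hn
  have hle : H ⊔ MulAut.conj (x⁻¹ * g) • H ≤ H ⊔ MulAut.conj g • H := by
    refine sup_le le_sup_left ?_
    rw [← H1.conj_smul_conj_smul]
    exact H2.conj_smul_le_of_mem_normalizer le_sup_right (le_normalizer (inv_mem hx'))
  refine ⟨x * w, mul_mem hx' (hle hw), ?_⟩
  rw [← H1.conj_smul_conj_smul, ← hwe, H1.conj_smul_conj_smul, mul_inv_cancel_left]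

end Cfsg.Agent.S3820
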