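import Cfsg.Statements.S2064
import Cfsg.Agent.L1.Aut

set_option autoImplicit false
open Cfsg

namespace Cfsg.Agent.S2064

open Cfsg.Agent.H14

/-- the group with an element of order 11 and an involution as generators. -/
noncomputable def S : CSub A24 :=
  G24.regen [0x7d5496a0f1658735dca4a181013a41, 0xbb4c93ae2453ac893e8c9d4b018820]
    [(0, 0), (1, 0), (3, 0), (3, 0), (5, 0), (5, 0), (6, 0), (7, 0), (8, 0), (10, 9), (10, 0), (11,
    0), (13, 0), (13, 0), (15, 0), (15, 0), (16, 0), (17, 0), (18, 0), (0, 10), (1, 0), (12, 2),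
    (13, 0), (24, 4), (15, 0), (16, 0), (3, 3), (4, 0), (5, 0), (8, 0), (9, 0), (5, 10), (6, 0),
    (12, 0), (0, 3), (1, 0), (2, 0), (6, 3), (4, 0), (5, 0), (9, 0), (10, 0), (11, 11), (12, 0),
    (10, 0), (14, 0), (15, 0), (5, 5), (1, 0), (7, 0), (8, 13), (14, 0), (5, 5), (11, 0), (12, 0),
    (0, 0), (4, 0), (0, 0), (6, 0), (17, 0), (23, 0), (27, 0), (28, 0), (42, 0), (38, 0), (42, 0),
    (57, 0), (68, 0), (59, 0), (69, 0), (20, 12), (19, 0), (41, 0), (52, 0), (51, 0), (49, 0), (50,
    0), (58, 0), (59, 0), (60, 0), (81, 0), (81, 0), (82, 0), (83, 0), (85, 0), (85, 0), (86, 0),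
    (88, 0), (88, 0), (89, 0), (90, 0), (44, 20), (45, 0), (59, 0), (60, 0), (61, 0), (75, 0), (71,
    0), (77, 0), (78, 0), (101, 0), (92, 0), (103, 0), (84, 0), (85, 0)]
    (by decide +kernel)

/-- a Sylow 11-subgroup. -/
noncomputable def P : CSub A24 :=
  CSub.cyc A24 0x7d5496a0f1658735dca4a181013a41 11 [(0, [0x53ac760604b8a6f5d6928992868c05])] (by decide +kernel)

theorem card_mulAut : Nat.card (MulAut S.K) = 1 * 244823040 :=
  card_aut S G24 P (a := 0x7d5496a0f1658735dca4a181013a41) (b := 0xbb4c93ae2453ac893e8c9d4b018820)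
    (x := 0x71153b323490e1542ce66bc49096e0) (p := 11) (n := 6) (m := 22256640) (fuel := 760) rfl (by norm_num)
    (rels := [([false, true], 8), ([false, true, false, false, false, true], 6), ([false, false, true, false,
    true], 12), ([false, false, false, false, false, true, false, true, false, true, false, false,
    true], 4)])
    (certs := [0xbdab49ca307b9ac5a928398a418820, 0x7d5496a0f1658735dca4a181013a41,
    0x6bd81744a91dec25ce4701914aaa04, 0x53ac760604b8a6f5d6928992868c05,
    0x7346452641b4ef558a0541a207b287, 0x9dde0141346a9c35b03129a47b5488,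
    0xa89d17808850d975d8e181a929b4a9, 0x1b272b1c0513eae5b5140988955e30,
    0x14da8ad0207315658c8991a05bbcf1, 0x62ae5192879d44d5bc104983175912,
    0xb0c50b9512ab5ea5ba20218e164d34])
    (L := [0xcd4db48c32ba8c155283c5e482ee0, 0x852563d557039ac5c528998432142f,
    0xa5ab7088ee7c1ac1a8a8899205ca64, 0xbd8349a1670394c8b4d2824a2192af,
    0xbd9b40c8a21baa4329203ae2c7c268, 0xb5eb45ca242a8069b9283b1f01844d])
    (U := 0xf2d708)
    (lv := [(0, [0xbdab49ca307b9ac5a928398a418820, 0x7d5496a0f1658735dca4a181013a41,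
    0x62ae5192879d44d5bc104983175912, 0x9dde0141346a9c35b03129a47b5488,
    0x6bd81744a91dec25ce4701914aaa04, 0x1b272b1c0513eae5b5140988955e30,
    0x14da8ad0207315658c8991a05bbcf1, 0x7346452641b4ef558a0541a207b287,
    0xb0c50b9512ab5ea5ba20218e164d34, 0xa89d17808850d975d8e181a929b4a9,
    0x53ac760604b8a6f5d6928992868c05])])
    (cert := assocL [(0x7d5496a0f1658735dca4a181013a41, 0xbdab49ca307b9ac5a928398a418820),
    (0x62ae5192879d44d5bc104983175912, 0x9442a4bab3a008831c6c6aef62c1e2),
    (0x9dde0141346a9c35b03129a47b5488, 0x9b0456d249756d75a901898f078c80),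
    (0x6bd81744a91dec25ce4701914aaa04, 0x635d2bc4e41be765aa0929a8115500),
    (0x1b272b1c0513eae5b5140988955e30, 0xb4df161ca110eed5a890a1a48ab920),
    (0x14da8ad0207315658c8991a05bbcf1, 0x4a217229c30063231d8faadb3a16c2),
    (0x7346452641b4ef558a0541a207b287, 0x248ad8dd4c0c10931df672ea305262),
    (0xb0c50b9512ab5ea5ba20218e164d34, 0x4100e955b62d13131e63bad4f80582),
    (0xa89d17808850d975d8e181a929b4a9, 0x6dc67b1688a89935a82491a2973e00),
    (0x53ac760604b8a6f5d6928992868c05, 0x8a695436ef8164431ed352dcc08062)])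
    (by decide +kernel) (by decide +kernel)

theorem regen_K {G Ω : Type*} [Group G] [MulAction G Ω] {A : Amb G Ω} (S : CSub A) (gs : List ℕ)
    (prog : List (ℕ × ℕ)) (H) : (S.regen gs prog H).K = S.K := rfl

theorem S_K : S.K = G24.K := regen_K _ _ _ _

/-- The outer automorphism group of the Mathieu group M₂₄ (the automorphism group of the length-24 binary code) is trivial: every automorphism is inner. -/
theorem result : Nat.card (Cfsg.Out ↥Cfsg.M24) = 1 := by
  have : IsSimpleGroup G24.K := simple_G24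
  exact card_out_of_equiv (K := G24.K) Subgroup.topEquiv (n := 244823040) G24.card_eq
    (Nat.not_prime_of_dvd_of_lt (m := 2) (by norm_num) le_rfl (by norm_num)) (S_K ▸ card_mulAut)

end Cfsg.Agent.S2064
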