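import Cfsg.Statements.S5394
import Cfsg.Agent.L1.Fix

set_option autoImplicit false
open Cfsg

namespace Cfsg.Agent.S5394

open Cfsg.Agent.H14 MulAction
open scoped Pointwise

/-- The automorphism group of the length-24 code built from the squares modulo 23 has exactly two conjugacy classes of involutions: an involution either fixes exactly the eight points of an octad or has no fixed points, both kinds occur, and any two involutions of the same kind are conjugate in the group. -/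
theorem result : (∀ g ∈ Cfsg.M24, orderOf g = 2 → (Finset.univ.filter fun p => g p = p) ∈ Cfsg.octads ∨ ∀ p, g p ≠ p) ∧ (∃ g ∈ Cfsg.M24, orderOf g = 2 ∧ (Finset.univ.filter fun p => g p = p) ∈ Cfsg.octads) ∧ (∃ g ∈ Cfsg.M24, orderOf g = 2 ∧ ∀ p, g p ≠ p) ∧ ∀ g ∈ Cfsg.M24, ∀ h ∈ Cfsg.M24, orderOf g = 2 → orderOf h = 2 → ((∀ p, g p ≠ p) ↔ (∀ p, h p ≠ p)) → ∃ k ∈ Cfsg.M24, k * g * k⁻¹ = h := by
  have hB : ∀ p : GolayPt, A24.el t0 • p ≠ p := fun p h => by
    have := mem_fixP.mpr h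
    rw [fixP_t0] at this
    simp at this
  refine ⟨fun g hg h => ?_, ⟨A24.el z0, (A24.el z0).2, (Subgroup.orderOf_coe _).trans orderOf_z0,
    (fixP_z0 ▸ o0_mem : fixP (A24.el z0) ∈ octads)⟩, ⟨A24.el t0, (A24.el t0).2,
    (Subgroup.orderOf_coe _).trans orderOf_t0, hB⟩, fun g hg h hh h1 h2 h3 => ?_⟩
  · by_cases hp : ∀ p, g p ≠ p
    · exact Or.inr hp
    · push Not at hp
      obtain ⟨p, hp⟩ := hp
      exact Or.inl (inv_fix_octad (orderOf_mk hg h) (p := p) hp)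
  · have key : ∀ x : M24, (∃ k : M24, k * ⟨g, hg⟩ * k⁻¹ = x) → (∃ k : M24, k * ⟨h, hh⟩ * k⁻¹ = x) →
        ∃ k ∈ M24, k * g * k⁻¹ = h := by
      rintro x ⟨a, ha⟩ ⟨b, hb⟩
      have : b⁻¹ * a * ⟨g, hg⟩ * (b⁻¹ * a)⁻¹ = ⟨h, hh⟩ := by
        calc _ = b⁻¹ * (a * ⟨g, hg⟩ * a⁻¹) * b := by group
          _ = _ := by rw [ha, ← hb]; group
      exact ⟨_, (b⁻¹ * a).2, congrArg Subtype.val this⟩
    by_cases hp : ∀ p, g p ≠ p
    · exact key _ (inv_conj_B (orderOf_mk hg h1) hp) (inv_conj_B (orderOf_mk hh h2) (h3.mp hp))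
    · have hq := mt h3.mpr hp
      push Not at hp hq
      obtain ⟨p, hp⟩ := hp
      obtain ⟨q, hq⟩ := hq
      exact key _ (inv_conj_A (orderOf_mk hg h1) (p := p) hp)
        (inv_conj_A (orderOf_mk hh h2) (p := q) hq)

end Cfsg.Agent.S5394
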