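import Cfsg.Statements.S5324
import Mathlib
import Cfsg.Agent.H17.LyF
import Cfsg.Agent.H15.Ly.G

set_option autoImplicit false
open Cfsg

namespace Cfsg.Agent.S5324

open Cfsg.Agent.H17
open scoped commutatorElement

open Cfsg.Agent.H15 Cfsg.Agent.H15.Ly Cfsg.Agent.H17 Cfsg.Agent.H17.LyF

noncomputable def CA := MMA.comp df (by decide +kernel)

theorem ex (l : ℕ) : ∃ g, ψ g = CA.e l := (lprod_mem fun a _ => rψ a : CA.e l ∈ ψ.range)

noncomputable def x (l : ℕ) : Ly.G := (ex l).choose

theorem ts : TT.TS x ∧ ∀ u w, ck u w = true → H25.ev x u = H25.ev x w :=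
  Tb.ts_of_map ψ_inj (fun l => (ex l).choose_spec)
    (Tb.chkP_spec (A := CA) (MMt.base.comp _ _) (by decide) (fun i hi => by
      have hi' : i < 8 := hi
      interval_cases i
      exacts [p0, p1, p2, p3, p4, p5, p6, p7]) (v := v0)
      (show v0 < Nat.shiftLeft 1 (Nat.mul MM.w MM.m) by decide +kernel) dc) fun a ha => by
    have ha' : a < 256 := ha
    by_cases h1 : a < 64
    · exact ⟨_, _, by omega, h1, t0⟩
    by_cases h2 : a < 128
    · exact ⟨_, _, by omega, h2, t1⟩
    by_cases h3 : a < 192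
    · exact ⟨_, _, by omega, h3, t2⟩
    · exact ⟨_, _, by omega, ha', t3⟩

theorem simple {S : Subgroup Ly.G} (hS : H18.SylIn 2 S ⊤) : (groupFusionSystem S).IsSimple 2 :=
  ts.1.simple ts.2 (m := 202207730484375) (Ly.fin.2.1.trans (by decide +kernel)) (by decide +kernel) c1 c2 c3
    (Or.inl rfl) hS

/-- For a finite group G isomorphic to the Lyons group, the 2-fusion system of G on a Sylow 2-subgroup is simple: saturated, over a nontrivial 2-group, with no normal subsystem other than the trivial one and itself. -/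
theorem result {G : Type*} [Group G] [Finite G] (hG : Cfsg.Spor.IsoLy G) (S : Sylow 2 G) : (Cfsg.groupFusionSystem (S : Subgroup G)).IsSimple 2 := by
  obtain ⟨e⟩ := hG
  obtain ⟨P⟩ : Nonempty (Sylow 2 Ly.G) := inferInstance
  exact simple_equiv e.symm (H18.sylIn_top P) (H18.sylIn_top S) (simple (H18.sylIn_top P))

end Cfsg.Agent.S5324
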