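import Cfsg.Statements.S5552
import Mathlib
import Cfsg.Agent.H25.Co2

set_option autoImplicit false
open Cfsg

namespace Cfsg.Agent.S5552
open H25.Leech

/-- On the Leech lattice of the definitions, let Q be a function to the field with two elements that is constant on cosets of twice the lattice, is a quadratic form there (Q(u+v+w) + Q(u) + Q(v) + Q(w) = Q(u+v) + Q(u+w) + Q(v+w) for all u, v, w), is invariant under every lattice automorphism, and is not identically zero. Then Q(v) is the squared length of v divided by 16, reduced modulo 2, for every lattice vector v (squared lengths of lattice vectors are multiples of 16). -/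
theorem result (Q : ↥Cfsg.leechLattice → ZMod 2) (hcoset : ∀ v w : ↥Cfsg.leechLattice, Q (v + (w + w)) = Q v) (hquad : ∀ u v w : ↥Cfsg.leechLattice, Q (u + v + w) + Q u + Q v + Q w = Q (u + v) + Q (u + w) + Q (v + w)) (hinv : ∀ (g : ↥Cfsg.Co0) (v : ↥Cfsg.leechLattice), Q (g • v) = Q v) (hne : ∃ v : ↥Cfsg.leechLattice, Q v ≠ 0) (v : ↥Cfsg.leechLattice) : Q v = ((Cfsg.sqNorm (v : Cfsg.GolayPt → ℤ) / 16 : ℤ) : ZMod 2) := by
  have h0 : Q 0 = 0 := by
    have := hquad 0 0 0
    simp only [add_zero] at this
    linear_combination this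
  have q32 : ∀ x : L, sqNorm x.1 = 32 → Q x = Q U := fun x h => by
    obtain ⟨g, rfl⟩ := trans32 sqU h; exact hinv g U
  have q48 : ∀ x : L, sqNorm x.1 = 48 → Q x = Q W := fun x h => by
    obtain ⟨g, rfl⟩ := trans48 sqW h; exact hinv g W
  have q64 : ∀ x : L, sqNorm x.1 = 64 → Q x = Q (e8 none) := fun x h => by
    obtain ⟨g, rfl⟩ := trans64 (sq_e8 none) h; exact hinv g _
  obtain ⟨a, b, c⟩ := root_dot (j := 14) (by decide)
  rw [show da 14 = -16 by decide +kernel] at a
  rw [show db 14 = -16 by decide +kernel] at b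
  rw [show dc 14 = 24 by decide +kernel] at c
  have n := sqR (j := 14) (by norm_num)
  have d : dt A (R 14) = -8 := by rw [dtA, a, c]; rfl
  generalize R 14 = u at a b c d n
  have e1 := hquad U U' u
  have e2 := hquad U A u
  rw [q32 (U + U' + u) (by simp only [sq_add', add_dt, sqU, sqU', dUU', a, b, n]; rfl), q32 U' sqU', q32 u n,
    q64 (U + U') (by simp only [sq_add', sqU, sqU', dUU']; rfl),
    q32 (U + u) (by simp only [sq_add', sqU, a, n]; rfl),
    q32 (U' + u) (by simp only [sq_add', sqU', b, n]; rfl)] at e1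
  rw [q32 (U + A + u) (by simp only [sq_add', add_dt, sqU, sqA, dUA, a, d, n]; rfl), q32 A sqA, q32 u n,
    q48 (U + A) (by simp only [sq_add', sqU, sqA, dUA]; rfl),
    q32 (U + u) (by simp only [sq_add', sqU, a, n]; rfl),
    q48 (A + u) (by simp only [sq_add', sqA, d, n]; rfl)] at e2
  have two : ∀ x : ZMod 2, x + x = 0 := by decide
  have f1 : Q U = 0 := by linear_combination e2 + two (Q W) - two (Q U)
  have f2 : Q (e8 none) = 0 := by linear_combination -e1 + two (Q U)
  have f3 : Q W = 1 := by
    obtain ⟨x, hx⟩ := hne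
    obtain ⟨y, z, rfl, h⟩ := short_cases x
    rw [hcoset] at hx
    rcases h with rfl | h | h | h
    · exact absurd h0 hx
    · exact absurd ((q32 y h).trans f1) hx
    · rw [q48 y h] at hx; revert hx; generalize Q W = t; revert t; decide
    · exact absurd ((q64 y h).trans f2) hx
  obtain ⟨y, z, rfl, h⟩ := short_cases v
  obtain ⟨s, hs⟩ := eight_dvd y.2 z.2
  obtain ⟨t, ht⟩ := sixteen_dvd z.2
  have e : ∀ m : ℤ, sqNorm y.1 = 16 * m → ((sqNorm (y + (z + z)).1 / 16 : ℤ) : ZMod 2) = (m : ZMod 2) :=
    fun m hm => by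
      rw [sq_add', sq_add', dt_add, show dt z z = _ from dot_self z.1, show dt y z = _ from hs, ht, hm,
        show (16 * m + (16 * t + 16 * t + 2 * (16 * t)) + 2 * (8 * s + 8 * s)) / 16 = m + 2 * (2 * t + s) by
          omega]
      push_cast
      linear_combination two (2 * t + s)
  rw [hcoset]
  rcases h with rfl | h | h | h
  · rw [h0, e 0 (by simp [sqNorm])]; simp
  · rw [q32 y h, f1, e 2 h]; rfl
  · rw [q48 y h, f3, e 3 h]; rfl
  · rw [q64 y h, f2, e 4 h]; rfl

end Cfsg.Agent.S5552
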