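import Cfsg.Statements.S5425
import Cfsg.Agent.L1.Inv
import Cfsg.Agent.L1.Iso
import Cfsg.Agent.L1.Fix
import Cfsg.Agent.L1.Mon2
import Cfsg.Agent.H29.Large
import Cfsg.Agent.H10.SmallIso2

set_option autoImplicit false
open Cfsg

namespace Cfsg.Agent.S5425

open Cfsg.Agent.H14 MulAction
open scoped Pointwise

/-- the elements of `Q0`. -/
def QL : List ℕ := [0xbdab49ca307b9ac5a928398a418820, 0xbb4c93ae2453ac893e8c9d4b018820,
    0xbb1f3a4232ab916218ed4a8ab18820, 0xba1474922b3398d85676a3cb218820,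
    0xba91094e346b9e63d8955b0a918820, 0xbbd8459e29b39559b606920b418820,
    0xb99b28523343aaa4b16f258a718820, 0xbd6cb22627638cfa224a834b318820,
    0xb9e086be3593a6952d94b10a618820, 0xbcc8cb2a265b8f47c9096c0b518820,
    0xba64d4562f83a87312d362caa18820, 0xbd17661a2a23933ac1a7448af18820,
    0xbae957b6289ba44b1cd0524ac18820, 0xbc92655a2c3b9706cea47d0a818820,
    0xb926faa22da3a0b6255231cb618820, 0xbc0ea332364b892451ebaccad18820,
    0xa576654af20e87341b344a2a702e2, 0xd24d418aa80d33a92c762e2f702e2,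
    0x9c8cb3cb558e69549146c226702e2, 0xce086a8a690cf47ad89b1235702e2,
    0xc26fab0b6a0c924254b31e2d702e2, 0x90ea320ad48e0b651f2ace36702e2,
    0xca957d8ac98d7069cc452628702e2, 0xad26534a838e44b4eb07d22c702e2,
    0xa1f3a10aba8d8d818f64aa32702e2, 0xb1474c0b230d162566da3e2b702e2,
    0xb6b49aca478ec89292c39a30702e2, 0xd8c93c8b050dac5be889d624702e2,
    0x9acb250b360eaa4a24f83627702e2, 0xd5b2824a740ccfa316a25a33702e2,
    0xa9845ccb4b0de63b61592229702e2, 0xbd1091ca968d559d8865b234702e2,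
    0x8bd045cef4689553da0693029038a3, 0x8a99091ee9b09e69b4955a034038a3,
    0x8d5ab252f3408cf4b24a85827038a3, 0x89ad2826e760aaaa216f23433038a3,
    0x8d8d49aee4509ac93d283d430038a3, 0x8b6a93caf078ac85aa8c99824038a3,
    0x8b153a12eb30916854ed4bc32038a3, 0x8a1e74c2f2a898d21a76a282b038a3,
    0x8ca86536e898970b1ea47a42c038a3, 0x8ad357daec38a446ccd055028038a3,
    0x8c26a322eda0892625eba9c36038a3, 0x890efab2f648a0b4515234c2d038a3,
    0x89c886aae658a697c994b4035038a3, 0x8ce0cb3ef5908f452d0969026038a3,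
    0x8a56d41aea20a87ac2d36482f038a3, 0x8d256656ef80933311a742c2a038a3,
    0x2c0efaa02d480926514b34ef610e2e, 0x2926a33036a020b425f2a9eed10e2e,
    0x2c9357b42838170b4cc4552ec10e2e, 0x2ae865582c9824469eb07a6e810e2e,
    0x2d16d4542f20133342c764aea10e2e, 0x2a6566182a80287a91b342eef10e2e,
    0x2cc886bc35580f454989b42e610e2e, 0x29e0cb2826902697ad14692f510e2e,
    0x299ab22427402aaa324f85af310e2e, 0x2d6d285033600cf4a16a236e710e2e,
    0x2a90459c29681e69da15932f410e2e, 0x2bd9094c34b01553b4865a2e910e2e,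
    0x2b1e74902ba811681a6da2af210e2e, 0x2a153a40323018d254f64beeb10e2e,
    0x2daa93ac24781ac92a8899af010e2e, 0x2b4d49c830502c85bd2c3d6e410e2e,
    0x725764544a85e93311a76480f0c465, 0x7524d6184f25d27ac2d342c0a0c465,
    0x74e08b28555dce97c994690060c465, 0x71c8c6bc4695e7452d09b40150c465,
    0x710eaaa056a5e12625eb34c0d0c465, 0x7426f3304d4dc8b45152a9c160c465,
    0x74a95558483dd646ccd07a40c0c465, 0x72d267b44c9de50b1ea4550080c465,
    0x73147a404badd0d21a764bc120c465, 0x721f34905235d96854eda280b0c465,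
    0x736b43ac5055ecc93d28998040c465, 0x758c99c8447dda85aa8c3d4100c465,
    0x71acb8504745eaf4b24a234130c465, 0x755b22245365ccaa216f858070c465,
    0x73d1059c54b5d469b495930090c465, 0x7298494c496ddf53da065a0140c465,
    0x1b4c99ac10786cc92a883d444b95d1, 0x1dab43c804505a85bd2c99850b95d1,
    0x1b1f34c00b3050d254f6a2852b95d1, 0x1a147a1012a859681a6d4bc4bb95d1,
    0x1a9105cc09b05f53b48693054b95d1, 0x1bd8491c14685469da155a049b95d1,
    0x1d6cb82413404caa324f23447b95d1, 0x199b225007606af4a16a85853b95d1,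
    0x19e08b3c06586745498969055b95d1, 0x1cc8c6a815904e97ad14b4046b95d1,
    0x1d1764180f80527a91b36484ab95d1, 0x1a64d6540a20693342c742c4fb95d1,
    0x1c9267d8089856469eb05504cb95d1, 0x1ae955340c38650b4cc47a448b95d1,
    0x1926f32016486126514ba9c4db95d1, 0x1c0eaab00da048b425f234c56b95d1,
    0x140ef321d6a448b62552acc6d2dc01, 0x1126aab1cd4c612451eb31c762dc01,
    0x12e867d9c83c6506cea45246c2dc01, 0x14935535cc9c564b1cd07d0682dc01,
    0x12656419cf24693ac1a762c6a2dc01, 0x1516d655ca84527312d34486f2dc01,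
    0x14c88b3dc6944e952d946c0752dc01, 0x11e0c6a9d55c6747c909b10662dc01,
    0x156d2251c7444ca4b16f834732dc01, 0x119ab825d3646afa224a258672dc01,
    0x1290491dd4b45f59b6065b0692dc01, 0x13d905cdc96c5463d895920742dc01,
    0x131e7a11d23450d856764a86b2dc01, 0x121534c1cbac596218eda3c722dc01,
    0x134d43c9c47c6cc5a9289d4702dc01, 0x15aa99add0545a893e8c398642dc01,
    0x299059c74695f59d886921c988457, 0x3d0494c69b15463b6155b1d488457,
    0x55ab85067614ca4a24f259d388457, 0x1ad222473416afa316a835c788457,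
    0x58d43ac70795a89292c9d5c488457, 0x36a99c864516cc5be88399d088457,
    0x21e7a406b315962566d4a9d288457, 0x315349072a950d818f6a3dcb88457,
    0x4a867b46c39564b4eb0525c888457, 0x2d35558689965069cc47d1cc88457,
    0x10ef3306da16124254bacdd688457, 0x426aaa0764948b651f231dcd88457,
    0x4e0c6bc66594e954914b11d588457, 0x1c88b2875916747ad896c1c688457,
    0x256d6186f81693a92c7449ca88457, 0x52564546a21527341b362dcf88457]

/-- the largest normal 2-subgroup of the centraliser. -/
noncomputable def Q0 : CSub A24 := CSub.small A24 [0x4a867b46c39564b4eb0525c888457, 0x2ae865582c9824469eb07a6e810e2e,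
    0x1b4c99ac10786cc92a883d444b95d1, 0xbae957b6289ba44b1cd0524ac18820,
    0x2a153a40323018d254f64beeb10e2e, 0xbd6cb22627638cfa224a834b318820]
    QL 128 (by decide +kernel)

/-- its centre. -/
noncomputable def Z0 : CSub A24 := CSub.small A24 [z0] [A24.one, z0] 2 (by decide +kernel)

/-- the stabiliser of a point. -/
noncomputable def C4 : CSub A24 :=
  C2A.stab A24.toModel A24.compat_self 4 25
    [(0, [0xa8c75d070601f64a26d95624b944e]), (2, [0x12d4d31cb0406549b2c9abee48b860]), (3,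
      [0xbd8e932070515ab63e92acdc488820]), (1, [0xb553a48b033ac85d4ec4be2418ae0,
      0x2a1e93c830ab98d59a969aae418a20])]
    1344 (by decide : 4 < 24) (by decide +kernel)

/-- a complement. -/
noncomputable def K0 : CSub A24 :=
  (C4.stab mC compat_mC 0x5481d0 9
    [(0, [0x159875d230315aa4d66f9206470037]), (1, [0xd96763cb0345a955674449c41dc40]), (2,
      [0x19a6f6d05095eac4ad48b1e2471420])]
    168 (isCW_iff.mp (by decide +kernel)) (by decide +kernel)).regen [0x8bda64a0b09395362ea7a584408c17, 0x2bd286caf0381555cd86b52241b822]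
    [(1, 0), (1, 0), (3, 0), (4, 0), (4, 5), (5, 0), (7, 0), (7, 0), (4, 0), (9, 5)] (by decide +kernel)

/-- the label of a vector. -/
noncomputable def code (w : Fin 3 → ZMod 2) : ℕ :=
  nth [0, 20, 7, 18, 15, 22, 8, 6] ((w 0).val + 2 * (w 1).val + 4 * (w 2).val)

theorem card_SL : Nat.card (Matrix.SpecialLinearGroup (Fin 3) (ZMod 2)) = 168 := by
  have h2 := H10.card_SL_fin (F := ZMod 2) 3 (by norm_num)
  simpa [Fin.prod_univ_three, -Nat.card_eq_fintype_card] using h2

theorem iso : Nonempty (K0.K ≃* Matrix.SpecialLinearGroup (Fin 3) (ZMod 2)) := by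
  have hV : ∀ w, w ≠ 0 → code w < 24 := by decide +kernel
  refine K0.iso_sl A24.toModel A24.compat_self code hV (fun T hT => ?_) (fun g hg h =>
    K0.mem_of_labels (CSub.triv A24) _ A24.compat_self code hV (fuel := 9)
      (lv := [(6, [0xbd14669c704452b9b2b2b3c44080ae]), (7, [0x3ea85d830395496cd949184470ef1]), (8,
      [0x75aa89bc5095da952d9439824044a3, 0x5aaf9a0b0a0dab6255239a2470457])])
      (by decide +kernel) (by decide +kernel) hg h) card_SL.le
  rcases List.mem_pair.mp hT with rfl | rfl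
  · exact ⟨!![1, 1, 1; 1, 0, 1; 1, 0, 0], by decide +kernel, by decide +kernel⟩
  · exact ⟨!![0, 1, 0; 1, 0, 1; 1, 1, 0], by decide +kernel, by decide +kernel⟩

theorem all {p : ℕ → Bool} (H : allL QL p = true) {x : M24} (hx : x ∈ Q0.K) :
    ∃ T, A24.ok T ∧ A24.el T = x ∧ p T = true := by
  obtain ⟨T, h1, h2, h3⟩ := CSub.small_forall hx
  exact ⟨T, h2, h3, allL_iff.mp H T h1⟩

theorem mem_Q {T : ℕ} (h : band (A24.okb T) (Q0.test T) = true) : A24.el T ∈ Q0.K :=
  (Q0.test_iff T (A24_ok (band_iff.mp h).1)).mp (band_iff.mp h).2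

theorem cen {x : M24} (hx : x ∈ Subgroup.centralizer (Q0.K : Set M24)) :
    x = 1 ∨ x = A24.el z0 := by
  have hz := mem_Q (T := z0) (by decide +kernel)
  have key : ∀ p ∈ ([(0xbb1f3a4232ab916218ed4a8ab18820, [0x40ea9307468886459f55cc298b8b7]),
      (0xba91094e346b9e63d8955b0a918820, [0x2c1874aae6b38927b66ba223510023]),
      (0xb9e086be3593a6952d94b10a618820, [0x8cc8d456ef58cf434ac96402a700a2,
      0x75ab094c747ddac3a8885980988445, 0xc92a330b63897044de4ad22d03ae3]),
      (0xa576654af20e87341b344a2a702e2, [0xbbd8459e29b39559b606920b418820]),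
      (0x8bd045cef4689553da0693029038a3, [0xb926faa22da3a0b6255231cb618820]),
      (0x725764544a85e93311a76480f0c465, [0xba1474922b3398d85676a3cb218820])] : List (ℕ × List ℕ)),
      band (A24.okb p.1) (Q0.test p.1) = true := by decide +kernel
  have := C2A.mem_of_chain Z0 (cjL QL) (compat_cjL _) (fuel := 60)
    (fun p hp => A24_ok (band_iff.mp (key p hp)).1) (by decide +kernel)
    (Subgroup.mem_centralizer_singleton_iff.mpr (hx _ hz).symm) fun p hp =>
      congrArg Cj.mk (mul_inv_eq_of_eq_mul (hx _ (mem_Q (key p hp))).symm)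
  obtain ⟨T, h1, -, rfl⟩ := CSub.small_forall this
  rcases List.mem_pair.mp h1 with rfl | rfl
  exacts [Or.inl A24.el_one, Or.inr rfl]

theorem le : H29.LE Q0.K (A24.el z0) where
  ne := fun e => by simpa [e] using orderOf_z0
  zz := by rw [← pow_two, ← orderOf_z0, pow_orderOf_eq_one]
  mem := mem_Q (by decide +kernel)
  sq x hx := by
    obtain ⟨T, h1, rfl, h2⟩ := all (p := fun T => force (A24.pow T 2) fun y =>
      bor (Nat.beq y A24.one) (Nat.beq y z0)) (by decide +kernel) hx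
    rw [force_eq, bor_iff, ← A24.el_eq_one_iff (A24.pow_spec h1 2).1,
      ← A24.el_eq_iff (A24.pow_spec h1 2).1 ok_z0, (A24.pow_spec h1 2).2, pow_two] at h2
    exact h2
  om x _ h _ := cen h
  cen x _ h := cen h
  nab h := by
    have h1 := mem_Q (T := 0xbcc8cb2a265b8f47c9096c0b518820) (by decide +kernel)
    rcases cen (h h1) with e | e
    · exact absurd ((A24.el_eq_one_iff (A24_ok (by decide +kernel))).mp e) (by decide +kernel)
    · exact absurd ((A24.el_eq_iff (A24_ok (by decide +kernel)) ok_z0).mp e) (by decide +kernel)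
  nrm := Q0.le_normalizer C2A (by decide +kernel)
  cenle x h := by
    rcases cen h with rfl | rfl
    exacts [Q0.K.one_mem, mem_Q (by decide +kernel)]

theorem inf : Q0.K ⊓ K0.K = ⊥ := eq_bot_iff.mpr fun x hx => by
  obtain ⟨T, h1, rfl, h2⟩ := all (p := fun T => bor (Nat.beq T A24.one) (bnot (K0.test T)))
    (by decide +kernel) hx.1
  rw [bor_iff, bnot_iff, K0.test_iff T h1] at h2
  exact (A24.el_eq_one_iff h1).mpr (h2.resolve_right (not_not.mpr hx.2))

theorem K_le : K0.K ≤ C2A.K := C2A.le_of_test K0 (by decide +kernel)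

theorem sup : Q0.K ⊔ K0.K = C2A.K := by
  refine le_antisymm (sup_le le.le_Cz K_le) ((C2A.regen (Q0.gens ++ K0.gens)
    [(7, 7), (2, 0), (5, 8), (3, 0), (0, 2), (10, 0), (0, 0), (1, 0), (4, 0), (5, 5), (6, 0), (5,
    0), (8, 0), (4, 4), (1, 0), (6, 0), (7, 0), (4, 4), (9, 0), (10, 0), (22, 19), (15, 1), (18, 0),
    (26, 0), (29, 0), (23, 0), (29, 13), (14, 12)]
    (by decide +kernel)).le_iff.mpr fun T hT => ?_)
  rcases List.mem_append.mp hT with h | h
  exacts [Subgroup.mem_sup_left (Q0.el_mem h), Subgroup.mem_sup_right (K0.el_mem h)]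

theorem core : pCoreOf 2 C2A.K = Q0.K := by
  refine le_antisymm (fun x hx => ?_) (H22.le_pCoreOf le.le_Cz le.nrm le.pgrp)
  have h1 : K0.K ⊓ pCoreOf 2 C2A.K ≤ ⊥ := by
    obtain ⟨e⟩ := iso
    have := H10.isSimpleGroup_SL_two (n := 3) le_rfl
    have := e.isSimpleGroup
    exact (H22.inf_pCoreOf_le (K_le.trans Subgroup.le_normalizer)).trans
      (H22.pCoreOf_eq_bot_iff.mpr (L1Mon.pCore_simple (by rw [K0.card_eq]; decide))).le
  have h2 : x ∈ ((Q0.K ⊔ K0.K : Subgroup M24) : Set M24) := sup ▸ H22.pCoreOf_le _ hx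
  rw [Subgroup.coe_mul_of_right_le_normalizer_left _ _ (K_le.trans le.nrm)] at h2
  obtain ⟨q, hq, k, hk, rfl⟩ := h2
  have h3 : k = 1 := h1 ⟨hk, by
    have := mul_mem (inv_mem (H22.le_pCoreOf le.le_Cz le.nrm le.pgrp hq)) hx
    rwa [inv_mul_cancel_left] at this⟩
  simpa [h3] using hq

/-- In the Mathieu group of degree 24 (the automorphism group of the length-24 binary Golay code, acting on the 24 coordinates), let z be an involution whose fixed points form an octad (the support of a code word of weight 8), and let Q be the largest normal 2-subgroup of the centralizer C of z. Then Q is extraspecial of order 2^7 with an elementary abelian subgroup of order 16 (plus type), Q is a large extraspecial 2-subgroup, and C is the split extension of Q by the special linear group of degree 3 over the field with two elements. -/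
theorem result (z : ↥Cfsg.M24) (hz : orderOf z = 2) (hfix : (Finset.univ.filter fun p : Cfsg.GolayPt => (z : Equiv.Perm Cfsg.GolayPt) p = p) ∈ Cfsg.octads) (Q : Subgroup ↥Cfsg.M24) (hQ : Q = (Cfsg.pCore 2 ↥(Subgroup.centralizer ({z} : Set ↥Cfsg.M24))).map (Subgroup.centralizer ({z} : Set ↥Cfsg.M24)).subtype) : Cfsg.IsExtraspecial 2 ↥Q ∧ Nat.card ↥Q = 2 ^ 7 ∧ (∃ E : Subgroup ↥Cfsg.M24, E ≤ Q ∧ Cfsg.IsElementaryAbelian 2 E ∧ Nat.card ↥E = 2 ^ 4) ∧ Cfsg.IsLargeExtraspecial Q ∧ ∃ K : Subgroup ↥Cfsg.M24, K ≤ Subgroup.centralizer ({z} : Set ↥Cfsg.M24) ∧ Q ⊓ K = ⊥ ∧ Q ⊔ K = Subgroup.centralizer ({z} : Set ↥Cfsg.M24) ∧ Nonempty (↥K ≃* Matrix.SpecialLinearGroup (Fin 3) (ZMod 2)) := by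
  obtain ⟨p, hp⟩ := Finset.card_pos.mp (by rw [hfix.2]; norm_num : 0 < Finset.card _)
  obtain ⟨k, e⟩ := inv_conj_A hz (Finset.mem_filter.mp hp).2
  obtain rfl : z = k⁻¹ * A24.el z0 * k⁻¹⁻¹ := by simp [← e, mul_assoc]
  generalize k⁻¹ = k at *
  rw [← H22.cj_centralizer_singleton] at hQ ⊢
  obtain rfl : Q = H22.cj k Q0.K := by rw [← core, H22.cj_pCoreOf]; exact hQ
  have h := le.cj k
  have hc : Nat.card (H22.cj k Q0.K) = 2 ^ 7 := (H22.card_cj _ _).trans Q0.card_eq
  have ok : A24.ok 0x1da146c8b57826952d8839a24b844e := A24_ok (by decide +kernel)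
  have h1 : (k * A24.el 0x1da146c8b57826952d8839a24b844e * k⁻¹) * (k * A24.el z0 * k⁻¹) *
      (k * A24.el 0x1da146c8b57826952d8839a24b844e * k⁻¹)⁻¹ =
      k * A24.el (A24.cj 0x1da146c8b57826952d8839a24b844e z0) * k⁻¹ := by
    rw [A24.el_cj _ _ ok ok_z0]; group
  have h2 := H22.conj_mem_cj (g := k)
    (mem_Q (T := A24.cj 0x1da146c8b57826952d8839a24b844e z0) (by decide +kernel))
  have h3 : k * A24.el (A24.cj 0x1da146c8b57826952d8839a24b844e z0) * k⁻¹ ≠ k * A24.el z0 * k⁻¹ := fun e =>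
    absurd ((A24.el_eq_iff (A24.ok_cj _ _ ok ok_z0) ok_z0).mp (by simpa using e))
      (by decide +kernel)
  rw [← h1] at h2 h3
  obtain ⟨f⟩ := iso
  have hE := S18.pow_eq_one (p := 2) (by decide +kernel)
  refine ⟨h.isExtraspecial, hc, ⟨H22.cj k S18.K, H22.cj_mono k (Q0.le_of_test S18
    (by decide +kernel)), ⟨⟨⟨?_⟩⟩, ?_⟩, (H22.card_cj _ _).trans S18.card_eq⟩,
    h.large_of_conj h2 h3 (h.sym (by rw [hc]; norm_num) h2 h3), H22.cj k K0.K, H22.cj_mono k K_le,
    by rw [← H22.cj_inf, inf, H22.cj_bot], by rw [← H22.cj_sup, sup]; rfl,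
    ⟨(H22.cjEquiv k _).symm.trans f⟩⟩
  · rintro ⟨_, x, hx, rfl⟩ ⟨_, y, hy, rfl⟩
    exact Subtype.ext (by
      show _ * _ = _ * _
      rw [← map_mul, ← map_mul, hE.1 x hx y hy])
  · rintro _ ⟨x, hx, rfl⟩
    rw [← map_pow, hE.2 x hx, map_one]

end Cfsg.Agent.S5425
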