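import Cfsg.Statements.S2133
import Cfsg.Agent.S5425

set_option autoImplicit false
open Cfsg

namespace Cfsg.Agent.S2133

open Cfsg.Agent.H14 MulAction
open scoped Pointwise

/-- the centraliser with two generators. -/
noncomputable def C : CSub A24 :=
  C2A.regen [0x2b52aa92f298ecc81de83502b70a20, 0x4c8665aea48cf26d2ab441cf0c4a2]
    [(1, 0), (1, 0), (2, 0), (3, 4), (5, 0), (5, 0), (7, 7), (8, 0), (8, 0), (9, 0), (11, 0), (0,
    5), (9, 0), (7, 0), (8, 0), (9, 12), (13, 5), (14, 0), (2, 3), (3, 0), (5, 0), (3, 5), (7, 6),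
    (7, 0), (6, 0), (9, 0), (11, 11), (9, 0), (13, 0), (13, 0), (14, 0), (13, 0), (17, 0), (17, 0),
    (19, 0), (0, 14), (14, 0), (2, 0), (17, 0), (24, 0), (34, 0), (38, 0), (43, 0), (44, 0), (18,
    9), (30, 0), (30, 0), (41, 0), (49, 0), (23, 27), (34, 0), (35, 0), (36, 28)] (by decide +kernel)

/-- the label of a vector. -/
noncomputable def code (w : Fin 5 → ZMod 2) : ℕ :=
  nth [0, 0, 4, 16, 0, 0, 15, 10, 0, 0, 7, 19, 0, 0, 8, 12, 0, 0, 11, 18, 0, 0, 21, 6, 0, 0, 9, 20, 0, 0, 13, 22]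
    ((w 0).val + 2 * (w 1).val + 4 * (w 2).val + 8 * (w 3).val + 16 * (w 4).val)

open Matrix

/-- the transvection. -/
def s0 : SpecialLinearGroup (Fin 5) (ZMod 2) := ⟨transvection 0 1 1, det_transvection_of_ne _ _
  (by decide) _⟩

theorem shape (h : Subgroup.centralizer {s0}) : (∀ j : Fin 4, h.1 j.succ 0 = 0) ∧
    (∀ j : Fin 3, h.1 1 j.succ.succ = 0) ∧ h.1 0 0 = 1 ∧ h.1 1 1 = 1 ∧
    (h.1.1.submatrix (fun i : Fin 3 => i.succ.succ) fun i : Fin 3 => i.succ.succ).det = 1 := by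
  have e : h.1.1 * s0.1 = s0.1 * h.1.1 :=
    congrArg (fun x : SpecialLinearGroup (Fin 5) (ZMod 2) => x.1)
      (Subgroup.mem_centralizer_singleton_iff.mp h.2)
  have e1 : ∀ i j, (h.1.1 * single 0 1 1 : Matrix _ _ _) i j =
      (single 0 1 1 * h.1.1 : Matrix _ _ _) i j := fun i j => by
    simp only [s0, transvection, mul_add, add_mul, mul_one, one_mul, add_right_inj] at e
    rw [e]
  have a : ∀ j : Fin 4, h.1 j.succ 0 = 0 := fun j => by
    simpa [Fin.succ_ne_zero] using e1 j.succ 1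
  have b : ∀ j : Fin 3, h.1 1 j.succ.succ = 0 := fun j => by
    have := e1 0 j.succ.succ
    rw [mul_single_apply_of_ne _ _ _ _ _ (by fin_cases j <;> decide)] at this
    simpa using this.symm
  have d := h.1.2
  rw [det_succ_column_zero, Fin.sum_univ_succ, det_succ_row_zero, Fin.sum_univ_succ] at d
  simp only [a, b, submatrix_apply, Fin.succAbove_zero, Fin.succ_zero_eq_one, mul_zero, zero_mul,
    Finset.sum_const_zero, add_zero, Fin.val_zero, pow_zero, one_mul, submatrix_submatrix] at d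
  exact ⟨a, b, (by decide : ∀ x y z : ZMod 2, x * (y * z) = 1 → x = 1 ∧ y = 1 ∧ z = 1) _ _ _ d⟩

theorem card_le : Nat.card (Subgroup.centralizer {s0}) ≤ 21504 := by
  refine (Nat.card_le_card_of_injective (fun h : Subgroup.centralizer {s0} =>
    (((fun j => h.1 0 j.succ), (fun i => h.1 i.succ.succ 1), ⟨_, (shape h).2.2.2.2⟩) :
      (Fin 4 → ZMod 2) × (Fin 3 → ZMod 2) × SpecialLinearGroup (Fin 3) (ZMod 2)))
    fun g h e => ?_).trans (by
      rw [Nat.card_prod, Nat.card_prod, S5425.card_SL]; simp)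
  obtain ⟨a1, a2, a3, a4, -⟩ := shape g
  obtain ⟨b1, b2, b3, b4, -⟩ := shape h
  have e1 := congrArg (fun x => x.1) e
  have e2 := congrArg (fun x => x.2.1) e
  have e3 := congrArg (fun x => x.2.2.1) e
  ext i j
  refine Fin.cases (Fin.cases (a3.trans b3.symm) (congrFun e1) j) (fun i => ?_) i
  refine Fin.cases ((a1 i).trans (b1 i).symm) (fun j => ?_) j
  refine Fin.cases (Fin.cases (a4.trans b4.symm) (fun j => (a2 j).trans (b2 j).symm) j)
    (fun i => ?_) i
  exact Fin.cases (congrFun e2 i) (fun j => congrFun (congrFun e3 i) j) j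

/-- The Mathieu group M₂₄ (the automorphism group of the length-24 binary code) has an involution whose centraliser is isomorphic to the centraliser of a transvection in SL(5, 2) (a group of shape 2^{1+6}:GL(3, 2)). -/
theorem result (s : Matrix.SpecialLinearGroup (Fin 5) (ZMod 2)) (hs : (s : Matrix (Fin 5) (Fin 5) (ZMod 2)) = Matrix.transvection 0 1 1) : ∃ z : ↥Cfsg.M24, orderOf z = 2 ∧ Nonempty (↥(Subgroup.centralizer ({z} : Set ↥Cfsg.M24)) ≃* ↥(Subgroup.centralizer ({s} : Set (Matrix.SpecialLinearGroup (Fin 5) (ZMod 2))))) := by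
  obtain rfl : s = s0 := Subtype.ext hs
  have hD : ∀ h : Subgroup.centralizer {s0}, ∀ w ∈ {w : Fin 5 → ZMod 2 | s0 • w ≠ w},
      h • w ∈ {w : Fin 5 → ZMod 2 | s0 • w ≠ w} := fun h w hw e => hw (smul_left_cancel h.1 (by
    rw [← mul_smul, Subgroup.mem_centralizer_singleton_iff.mp h.2, mul_smul]; exact e))
  have hV : ∀ w ∈ {w : Fin 5 → ZMod 2 | s0 • w ≠ w}, code w < 24 := by decide +kernel
  have key : ∀ T, A24.ok T → ∀ (M : Matrix (Fin 5) (Fin 5) (ZMod 2)) (h1 : M.det = 1)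
      (h2 : M * s0.1 = s0.1 * M), (∀ w, s0 • w ≠ w →
        Nat.beq (A24.h (A24.fn T (code w))) (A24.h (code (M.mulVec w))) = true) →
      ∃ h, (A24.el T, h) ∈ link _ hD fun w => A24.dec (code w) := fun T hT M h1 h2 h =>
    ⟨⟨⟨M, h1⟩, Subgroup.mem_centralizer_singleton_iff.mpr (Subtype.ext h2)⟩,
      A24.compat_self.mem_link hV hT h⟩
  have hs : ∀ T ∈ C.gens, ∃ h, (A24.el T, h) ∈ link _ hD fun w => A24.dec (code w) :=
    fun T hT => by
      rcases List.mem_pair.mp hT with rfl | rfl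
      · exact key _ (C.gens_ok _ hT) !![1, 0, 1, 1, 1; 0, 1, 0, 0, 0; 0, 0, 0, 1, 0; 0, 0, 1, 0, 0; 0, 1, 1, 0, 1]
          (by decide +kernel) (by decide +kernel) (by decide +kernel)
      · exact key _ (C.gens_ok _ hT) !![1, 0, 0, 0, 0; 0, 1, 0, 0, 0; 0, 1, 1, 0, 0; 0, 0, 1, 1, 1; 0, 0, 1, 0, 1]
          (by decide +kernel) (by decide +kernel) (by decide +kernel)
  obtain ⟨e, -⟩ := C.iso _ hs (fun g hg h => C.mem_of_labels (CSub.triv A24) _ A24.compat_self code
    hV (fuel := 17)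
      (lv := [(4, [0x40f2b50467dc8c4a9686ce35704a3]), (6, [0x29933629d06deb27d8eb4504488023]), (7,
      [0x1a6a7428105968d7ca7661ae470622]), (8, [0xdaaa9b070495b2451eb399c4882e2,
      0x75aa89bc5095da952d9439824044a3, 0x15aa99add0545a893e8c398642dc01])])
      (by decide +kernel) (by decide +kernel) hg fun w hw => by simpa using h w hw) card_le
  exact ⟨A24.el z0, orderOf_z0, ⟨e⟩⟩

end Cfsg.Agent.S2133
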