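import Cfsg.Statements.S0812
import Mathlib
import Cfsg.Agent.H10.PSL2Max2

set_option autoImplicit false
open Cfsg

namespace Cfsg.Agent.S0812

/-- For q ∉ {2, 3, 5, 7, 9, 11}, PSL_2(q) has a maximal subgroup isomorphic to the dihedral group of order 2(q − 1)/d, d = gcd(2, q − 1). -/
theorem result {F : Type*} [Field F] [Fintype F] {q : ℕ} (hF : Fintype.card F = q) (hq : q ∉ ({2, 3, 5, 7, 9, 11} : Finset ℕ)) : ∃ H : Subgroup (Matrix.ProjectiveSpecialLinearGroup (Fin 2) F), IsCoatom H ∧ Nonempty (H ≃* DihedralGroup ((q - 1) / Nat.gcd 2 (q - 1))) := by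
  rw [← Nat.card_eq_fintype_card] at hF
  subst hF
  simp only [Finset.mem_insert, Finset.mem_singleton, not_or] at hq
  have h2 := H10.two_le_card_field (F := F)
  have he := H10.exists_isTorusPair_split F
  obtain ⟨e⟩ := he.dihedral le_rfl
  have h3 := he.card_psl_inf_torus
  have h4 : (Nat.card F - 1) / Nat.gcd 2 (Nat.card F - 1) = _ :=
    Nat.div_eq_of_eq_mul_right (Nat.gcd_pos_of_pos_left _ two_pos) h3.symm
  rw [h4]
  refine H10.exists_isCoatom_psl ?_ e
  refine H10.pairStab_covBy he ?_ (by omega) (by omega) fun h => ?_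
  · rcases Nat.even_or_odd (Nat.card F) with h | h
    · rw [H10.gcd_two_eq_one h]
      omega
    · rw [H10.gcd_two_eq_two h]
      have := Nat.odd_iff.1 h
      omega
  · have := Nat.odd_iff.1 h
    omega

end Cfsg.Agent.S0812
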