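import Cfsg.Statements.S3341
import Mathlib
import Cfsg.Agent.H21.Nine4

set_option autoImplicit false
open Cfsg

namespace Cfsg.Agent.S3341

/-- Let G be a finite simple group whose Sylow 3-subgroup S is elementary abelian of order 9, such that G has more than one conjugacy class of elements of order 3 and C_G(s) = S for every non-identity s in S. Then G is isomorphic to the alternating group of degree 6. -/
theorem result {G : Type*} [Group G] [Finite G] [IsSimpleGroup G]
    (P : Sylow 3 G) (S : Subgroup G) (hSP : S = P) (hcomm : IsMulCommutative S) (hexp : ∀ a ∈ S, a ^ 3 = 1)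
    (hcard : Nat.card S = 9)
    (hclasses : ∃ a b : G, orderOf a = 3 ∧ orderOf b = 3 ∧ ∀ g : G, g * a * g⁻¹ ≠ b)
    (hcent : ∀ s ∈ S, s ≠ 1 → Subgroup.centralizer ({s} : Set G) = S) :
    Nonempty (G ≃* alternatingGroup (Fin 6)) := by
  obtain ⟨a, b, ha, hb, ab⟩ := hclasses
  have h : H21.SC9 S := ⟨hcard, hexp, hcent⟩
  have ab' : ¬ IsConj a b := fun e => (isConj_iff.1 e).elim ab
  obtain ⟨a', a1, a2, a3⟩ := h.conj_into ha
  obtain ⟨b', b1, b2, b3⟩ := h.conj_into hb
  obtain ⟨F, _, _, hF, ⟨e⟩⟩ := h.alt6 (fun e => by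
    have h1 : S = ⊤ := h.cen a' a1 a2 ▸ eq_top_iff.2 fun g _ => FT.mem_cen1.2 (e.1.1 g a')
    let _ : CommGroup G := { (inferInstance : Group G) with mul_comm := e.1.1 }
    have := IsSimpleGroup.prime_card (α := G)
    rw [← Subgroup.card_top, ← h1, hcard] at this
    norm_num at this) a1 a2 b1 b2 fun e => ab' (a3.trans (e.trans b3.symm))
  obtain ⟨e'⟩ := H10.PSL2_nine_equiv (Nat.card_eq_fintype_card.trans hF)
  exact ⟨e.trans e'⟩

end Cfsg.Agent.S3341
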