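import Mathlib
import Cfsg.Agent.H28.HallNum
-- Template for statement S4345 (row 4345; see /opt/grader/pristine/manifest.json for weights).
-- Copy to Cfsg/Agent/S4345.lean and replace the sorry. The statement below is byte-identical to the frozen
-- statement Cfsg.CfsgFrozen.S4345 (Cfsg/Statements/S4345.lean; the theorem Cfsg.fg11_solvable_group_sylow_number_prime_parts_congruent_one);
-- the grader kernel-checks Cfsg.Agent.S4345.result against that frozen type. Keep the theorem IN THIS FILE
-- (a `result` declared elsewhere and merely imported here is not credited); helpers may live anywhere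
-- under Cfsg/Agent/.
import Cfsg.Statements.S4345
-- import your own Cfsg.Agent.* helpers here

set_option autoImplicit false
open Cfsg

namespace Cfsg.Agent.S4345

/-- Let G be a finite solvable group and p, ℓ primes. Then the largest power of ℓ dividing the number of Sylow p-subgroups of G is congruent to 1 modulo p. -/
theorem result {G : Type*} [Group G] [Finite G]
    (hG : Group.IsSolvable G) (p ℓ : ℕ) [Fact p.Prime] (hℓ : ℓ.Prime) :
    ℓ ^ (Nat.card (Sylow p G)).factorization ℓ ≡ 1 [MOD p] := by
  open Subgroup Cfsg.Agent.FT Cfsg.Agent.H28 in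
  open scoped commutatorElement Pointwise in
  have hp : p.Prime := Fact.out
  obtain ⟨P⟩ : Nonempty (Sylow p G) := inferInstance
  rw [card_sylow_eq_index P]
  have h := index_nrm_hall_mem_closure hG (syl_top hp P)
  generalize N((P : Subgroup G)).index = n at h
  suffices n ≠ 0 ∧ ℓ ^ n.factorization ℓ ≡ 1 [MOD p] from this.2
  induction h using Submonoid.closure_induction with
  | mem x hx =>
    obtain ⟨⟨q, e, hq, rfl⟩, -, r, hr, hd, h⟩ := hx
    rw [(sylow_pGrp P).eq_prime hr hd] at h
    refine ⟨pow_ne_zero _ hq.ne_zero, ?_⟩
    rw [hq.factorization_pow, Finsupp.single_apply]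
    split_ifs with h1
    · rwa [← h1]
    · rfl
  | one => exact ⟨one_ne_zero, by simp [Nat.ModEq]⟩
  | mul x y _ _ hx hy =>
    refine ⟨mul_ne_zero hx.1 hy.1, ?_⟩
    rw [Nat.factorization_mul hx.1 hy.1, Finsupp.add_apply, pow_add]
    simpa using hx.2.mul hy.2

end Cfsg.Agent.S4345
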