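import Cfsg.Statements.S4050
import Mathlib
import Cfsg.Agent.H27.Real2
import Cfsg.Agent.H5.HH

set_option autoImplicit false
open Cfsg

namespace Cfsg.Agent.S4050

open Subgroup FT

theorem closed_iff {G : Type*} [Group G] [Finite G] (π : Set ℕ) :
    (∃ K : Subgroup G, ∀ x : G, x ∈ K ↔ ∀ p : ℕ, p.Prime → p ∣ orderOf x → p ∈ π) ↔
      ∃ K : Subgroup G, Hall π K ⊤ ∧ K ⊴ ⊤ := by
  refine ⟨fun ⟨K, h⟩ => ⟨K, hall_of_forall_syl le_top (piGrp_iff_forall.2 fun x hx => (h x).1 hx)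
    fun p hp hπ _ => ?_, le_top, le_nrm_iff.2 fun g _ x hx =>
      (h _).2 (PiElt.conj ((h x).1 hx) g)⟩, fun ⟨K, h1, h2⟩ =>
        ⟨K, fun x => h1.mem_iff_of_nml h2.nrm trivial⟩⟩
  obtain ⟨P, hP⟩ := exists_syl p (⊤ : Subgroup G)
  exact ⟨P, hP, fun x hx => (h x).2 ((hP.pi.piElt hx).pi hπ)⟩

theorem sep_of_closed {G : Type*} [Group G] [Finite G] {π : Set ℕ} {K : Subgroup G}
    (h1 : Hall π K ⊤) (h2 : K ⊴ ⊤) : H1.IsPiSeparable π G := by
  haveI := nml_top_iff.1 h2
  exact H1.IsPiSeparable.of_normal_of_quotient K (H1.isPiSeparable_of_isPiNum h1.pi)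
    (H1.isPiSeparable_of_isPiNum_compl (by have := h1.idx; rwa [relIndex_top_right] at this))

/-- Let π be a set of primes and G a finite group. The π-elements of G (elements whose order is divisible only by primes of π) form a subgroup if and only if G is π-separable (it has a chain of normal subgroups from 1 to G with each successive index divisible only by primes in π or only by primes outside π) and N_G(H)/C_G(H) is a π'-group for every nontrivial π'-subgroup H of G. -/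
theorem result {G : Type*} [Group G] [Finite G] (π : Set ℕ)
    (hπ : ∀ p ∈ π, p.Prime) :
    (∃ K : Subgroup G, ∀ x : G, x ∈ K ↔ ∀ p : ℕ, p.Prime → p ∣ orderOf x → p ∈ π) ↔
    ((∃ (n : ℕ) (H : Fin (n + 1) → Subgroup G), H 0 = ⊥ ∧ H (Fin.last n) = ⊤ ∧ Monotone H ∧ (∀ i, (H i).Normal) ∧
      ∀ i : Fin n, (∀ q : ℕ, q.Prime → q ∣ (H i.castSucc).relIndex (H i.succ) → q ∈ π) ∨
        (∀ q : ℕ, q.Prime → q ∣ (H i.castSucc).relIndex (H i.succ) → q ∉ π)) ∧
     (∀ H : Subgroup G, H ≠ ⊥ → (∀ p : ℕ, p.Prime → p ∣ Nat.card ↥H → p ∉ π) →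
        ∀ p : ℕ, p.Prime → p ∣ (Subgroup.centralizer (H : Set G)).relIndex (Subgroup.normalizer (H : Set G)) → p ∉ π)) := by
  rw [closed_iff]
  constructor
  · rintro ⟨K, h1, h2⟩
    refine ⟨H1.hasNormalChain_iff.1 (sep_of_closed h1 h2), fun H _ hH => ?_⟩
    exact (h1.inf_of_nml h2.nrm (le_top : N(H) ≤ ⊤)).relIndex_of_le
      (cents_of_norms_of_inf (normsI (le_top.trans h2.nrm) (norms_of_le (le_nrm H))) inf_le_right
        ((h1.pi.inf_left _).inf_eq_bot hH))
  · rintro ⟨h1, h2⟩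
    have hs : H1.IsPiSeparable π G := H1.hasNormalChain_iff.2 h1
    haveI := H2.piCore_characteristic (π := π) (G := G)
    have hK : PiGrp π (piCore π G) := H2.piCore_mem
    refine ⟨piCore π G, ⟨le_top, hK, fun p hp hd hπp => ?_⟩, H27.nml_top _⟩
    rw [relIndex_top_right] at hd
    haveI := Fact.mk hp
    obtain ⟨y, hy⟩ := exists_prime_orderOf_dvd_card' (G := G ⧸ piCore π G) p hd
    have hyp : PiElt {p} y := H27.pElt_of_orderOf hp (hy.trans (pow_one p).symm)
    have hC := H5b.centralizer_piCore_le (hs.quotient (piCore π G)).compl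
      (by rw [compl_compl]; exact H2.piCore_quotient_self)
    haveI := H2.piCore_characteristic (π := πᶜ) (G := G ⧸ piCore π G)
    have hL : PiGrp πᶜ (piCore πᶜ (G ⧸ piCore π G)) := H2.piCore_mem
    refine hp.ne_one (hy.symm.trans (orderOf_eq_one_iff.2 ((hyp.pi hπp).eq_one_of_mem hL
      (hC (le_cen1.1 (le_of_forall_syl fun q hq hqd => ?_))))))
    obtain ⟨Q₀, hQ₀, hn⟩ := coprime_Sylow_exists q (le_top.trans (H27.nml_top _).nrm)
      (hL.cop' (hyp.pi hπp).zpowers) (Or.inr (sol_zpowers y))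
    refine ⟨Q₀, hQ₀, ?_⟩
    obtain ⟨Q, hQ⟩ := exists_syl q (Q₀.comap (QuotientGroup.mk' _))
    have e : Q.map (QuotientGroup.mk' _) = Q₀ := by
      have := hall_iff.2 (H1.hallOf_map (QuotientGroup.mk' (piCore π G)) (hall_iff.1 hQ))
      rw [H1.map_comap_mk] at this
      exact this.eq_of_piGrp hQ₀.pi
    have hQ' : PiGrp πᶜ Q := hQ.pi.pi (hL.mem hq hqd)
    have h3 := zpowers_le.1 hn
    rw [← e, H1.normalizer_map_mk Q _ (hQ'.cop' hK) (Or.inl hQ.pi.sol)] at h3
    obtain ⟨n, hn', rfl⟩ := h3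
    by_cases h4 : Q = ⊥
    · rw [← e, h4, Subgroup.map_bot]; exact bot_le
    have h5 : constt {p} n ∈ C(Q) := ((piElt_constt {p} n).pi hπp).mem_of_relIndex
      (constt_mem _ hn') (norms_cent le_rfl) (h2 Q h4 hQ')
    rw [← e, ← hyp.constt_eq, ← constt_map]
    rintro _ ⟨u, hu, rfl⟩
    rw [mem_cen1, ← map_mul, ← map_mul, h5 u hu]

end Cfsg.Agent.S4050
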