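import Cfsg.Statements.S4435
import Mathlib
import Cfsg.Agent.H9.Dict4
import Cfsg.Agent.H7.Clifford

set_option autoImplicit false
open Cfsg

namespace Cfsg.Agent.S4435

/-- Let N be a normal subgroup of the finite group G, b a block of N (relative to a maximal ideal M of the algebraic integers containing p), and T the stabilizer of b in G (the elements g such that conjugating any member of b by g gives a member of b); N ≤ T. Say that a block of T (or of G) covers b when some member has a constituent in b on restriction to N. Then: (i) every block B′ of T covering b induces a block B of G, B covers b, every ψ ∈ B′ induces to an irreducible character of G, and B consists exactly of the characters induced from members of B′; (ii) distinct blocks of T covering b induce distinct blocks of G; (iii) every block of G covering b is induced by some block of T covering b. -/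
theorem result {G : Type*} [Group G] [Fintype G] (p : ℕ) [Fact p.Prime] (M : Ideal Cfsg.AlgInt) (hM : Cfsg.IsPModular p M) (N : Subgroup G) [hN : N.Normal] [Fintype N] (b : Set (Cfsg.IrrCharacter N)) (hb : Cfsg.IsPBlock M b) (T : Subgroup G) [Fintype T] (hT : ∀ g : G, g ∈ T ↔ ∀ θ ∈ b, ∀ θ' : Cfsg.IrrCharacter N, (∀ n : N, (θ' : N → ℂ) n = (θ : N → ℂ) ⟨g * n * g⁻¹, hN.conj_mem n n.2 g⟩) → θ' ∈ b) (hNT : N ≤ T) : (∀ B' : Set (Cfsg.IrrCharacter T), Cfsg.IsPBlock M B' → (∃ ψ ∈ B', ∃ θ ∈ b, Cfsg.classInner (fun n : N => (ψ : T → ℂ) ⟨(n : G), hNT n.2⟩) (θ : N → ℂ) ≠ 0) → ∃ B : Set (Cfsg.IrrCharacter G), Cfsg.IsInducedBlock M T B' B ∧ (∃ χ ∈ B, ∃ θ ∈ b, Cfsg.classInner (fun n : N => (χ : G → ℂ) n) (θ : N → ℂ) ≠ 0) ∧ (∀ ψ ∈ B', Cfsg.IsIrrCharacter G (Cfsg.indFun T (ψ : T → ℂ))) ∧ ∀ χ : Cfsg.IrrCharacter G, χ ∈ B ↔ ∃ ψ ∈ B', (χ : G → ℂ) = Cfsg.indFun T (ψ : T → ℂ)) ∧ (∀ B'₁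 B'₂ : Set (Cfsg.IrrCharacter T), Cfsg.IsPBlock M B'₁ → Cfsg.IsPBlock M B'₂ → (∃ ψ ∈ B'₁, ∃ θ ∈ b, Cfsg.classInner (fun n : N => (ψ : T → ℂ) ⟨(n : G), hNT n.2⟩) (θ : N → ℂ) ≠ 0) → (∃ ψ ∈ B'₂, ∃ θ ∈ b, Cfsg.classInner (fun n : N => (ψ : T → ℂ) ⟨(n : G), hNT n.2⟩) (θ : N → ℂ) ≠ 0) → ∀ B : Set (Cfsg.IrrCharacter G), Cfsg.IsInducedBlock M T B'₁ B → Cfsg.IsInducedBlock M T B'₂ B → B'₁ = B'₂) ∧ (∀ B : Set (Cfsg.IrrCharacter G), Cfsg.IsPBlock M B → (∃ χ ∈ B, ∃ θ ∈ b, Cfsg.classInner (fun n : N => (χ : G → ℂ) n) (θ : N → ℂ) ≠ 0) → ∃ B' : Set (Cfsg.IrrCharacter T), Cfsg.IsPBlock M B' ∧ (∃ ψ ∈ B', ∃ θ ∈ b, Cfsg.classInner (fun n : N => (ψ : T → ℂ) ⟨(n : G), hNT n.2⟩) (θ : N → ℂ) ≠ 0) ∧ Cfsg.IsInducedBlock M T B' B) := by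
  haveI := hM.2.1
  haveI : H9.PMod M p := ⟨hM⟩
  have hN' := H9.top_le_normalizer_of_normal N
  have hbb := H9.isBlk_eI hb
  have hT' : ∀ g ∈ (⊤ : Subgroup G), H9.cj g (H9.eI M b) = H9.eI M b ↔ g ∈ T := fun g _ => by
    rw [hT, H9.stab_normal_iff hb]
  have cov : ∀ c : Set (IrrCharacter T), IsPBlock M c →
      ((∃ ψ ∈ c, ∃ θ ∈ b, classInner (fun n : N => (ψ : T → ℂ) ⟨(n : G), hNT n.2⟩)
        (θ : N → ℂ) ≠ 0) ↔ H9.eI M c * H9.eI M b ≠ 0) :=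
    fun c hc => H9.covers_iff_incl hNT hc hb
  have hf : H7.IsNE N.subtype := H7.isNE_subtype N
  have hin : ∀ θ ∈ b, hf.inertia (θ : N → ℂ) ≤ T.subtype.range := fun θ hθ g hg => by
    rw [Subgroup.range_subtype, ← hT' g trivial]
    have h1 := (H9.rel_normal_iff g (θ : N → ℂ) (θ : N → ℂ)).1 fun n => by
      have := congrFun (hf.mem_inertia.1 hg) n
      rw [H7.cjf_subtype] at this
      exact this.symm
    simpa using H9.cj_inv_eq (H9.cj_eI_of_rel (H9.cg_normal N g⁻¹) hb hb hθ hθ h1)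
  have under : ∀ c : Set (IrrCharacter T), IsPBlock M c → H9.eI M c * H9.eI M b ≠ 0 →
      ∀ ψ ∈ c, ∃ θ ∈ b, H7.ip (fun n : N => (ψ : T → ℂ) (Subgroup.inclusion hNT n))
        (θ : N → ℂ) ≠ 0 := by
    intro c hc h ψ hψ
    obtain ⟨θ, hθ, h1⟩ := H7.exists_irr_under (Subgroup.inclusion hNT) ψ.2
    refine ⟨⟨θ, hθ⟩, ?_, h1⟩
    have h2 := (H9.covers_iff_incl hNT hc (H8.isPBlock_blockOf ⟨θ, hθ⟩)).1
      ⟨ψ, hψ, ⟨θ, hθ⟩, H8.mem_blockOf_self _, by rwa [← H7.ip_eq_classInner]⟩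
    have h3 := H9.fr_mul_eq hNT le_top hbb hT' (H9.isBlk_eI hc) h
    have h4 := (H9.eI_inj hb (H8.isPBlock_blockOf ⟨θ, hθ⟩)).1 (hbb.eq_of_mul_ne le_rfl
      (H9.isBlk_eI (H8.isPBlock_blockOf ⟨θ, hθ⟩)) fun h0 => h2 (by
        rw [← h3, ← H9.comm_of_inv (H9.eI_mem_fix c).2 (hbb.supp.mono hNT), mul_assoc, h0,
          mul_zero]))
    rw [h4]; exact H8.mem_blockOf_self _
  have memB : ∀ (c : Set (IrrCharacter T)) (B : Set (IrrCharacter G)), IsInducedBlock M T c B →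
      ∀ ψ ∈ c, ∀ χ : IrrCharacter G, (χ : G → ℂ) = indFun T (ψ : T → ℂ) → χ ∈ B := by
    intro c B hi ψ hψ χ hχ
    obtain ⟨χ', hχ'⟩ := H8.block_nonempty hi.2.1
    rw [H8.block_eq_blockOf hi.2.1 hχ']
    intro g
    have h1 := hi.2.2 ψ hψ χ' hχ' g
    have h2 : centralChar (χ : G → ℂ) g = inducedCentralChar T (ψ : T → ℂ) g := by
      rw [← H8.omega_classSum (H8.irr_isClassFunction χ), hχ,
        H8.omega_indFun _ _ (H8.classSum_mem_Zen g), H8.inducedCentralChar_eq]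
    rw [← h2] at h1
    have := H8.memLocalIdeal_mul_left (neg_mem (one_mem (H8.locRing M))) h1
    simpa using this
  refine ⟨fun B' hB' h => ?_, fun B₁ B₂ h₁ h₂ c₁ c₂ B i₁ i₂ => ?_, fun B hB h => ?_⟩
  · have h' := (cov B' hB').1 h
    obtain ⟨B, hi, hc⟩ := H9.fr_exists_isInd hNT le_top hN' hbb hT' (H9.isBlk_eI hB') h'
    obtain ⟨B, hB, rfl⟩ := H9.exists_eB hi.right
    have hi' := H9.isInducedBlock_iff.2 ⟨hB', hB, hi⟩
    refine ⟨B, hi', (H9.covers_iff_sub hB hb).2 hc, fun ψ hψ => ?_, fun χ => ⟨fun hχ => ?_, ?_⟩⟩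
    · obtain ⟨θ, hθ, h1⟩ := under B' hB' h' ψ hψ
      rw [← H7.ind_subtype]
      exact hf.corr_irr T.subtype_injective (k := Subgroup.inclusion hNT) (fun _ => rfl) θ.2
        (hin θ hθ) ψ.2 h1
    · obtain ⟨θ, hθ, h1⟩ := H9.exists_under_of_covers hB hb hc hχ
      rw [← H7.ip_eq_classInner] at h1
      obtain ⟨ψ, hψ, h2, h3⟩ := hf.corr_surj T.subtype_injective (k := Subgroup.inclusion hNT)
        (fun _ => rfl) θ.2 (hin θ hθ) χ.2 h1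
      rw [H7.ind_subtype] at h2
      refine ⟨⟨ψ, hψ⟩, ?_, h2.symm⟩
      have hb2 := H8.isPBlock_blockOf (M := M) (⟨ψ, hψ⟩ : IrrCharacter T)
      have h4 := (H9.covers_iff_incl hNT hb2 hb).1 ⟨⟨ψ, hψ⟩, H8.mem_blockOf_self _, θ, hθ, by
        rw [← H7.ip_eq_classInner]; exact h3 ▸ h1⟩
      obtain ⟨B2, hi2, -⟩ := H9.fr_exists_isInd hNT le_top hN' hbb hT' (H9.isBlk_eI hb2) h4
      obtain ⟨B2, hB2, rfl⟩ := H9.exists_eB hi2.right
      obtain rfl := H8.block_eq_of_mem hB hB2 hχ (memB _ _ (H9.isInducedBlock_iff.2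
        ⟨hb2, hB2, hi2⟩) _ (H8.mem_blockOf_self _) χ h2.symm)
      rw [(H9.eI_inj hB' hb2).1 (H9.fr_inj hNT le_top hN' hbb hT' h' h4 hi hi2)]
      exact H8.mem_blockOf_self _
    · rintro ⟨ψ, hψ, h1⟩
      exact memB _ _ hi' ψ hψ χ h1
  · exact (H9.eI_inj h₁ h₂).1 (H9.fr_inj hNT le_top hN' hbb hT' ((cov _ h₁).1 c₁)
      ((cov _ h₂).1 c₂) (H9.isInducedBlock_iff.1 i₁).2.2 (H9.isInducedBlock_iff.1 i₂).2.2)
  · obtain ⟨B', h1, h2, h3⟩ := H9.fr_exists_of_covers hNT le_top hN' hbb hT' (H9.isBlk_eB hB)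
      ((H9.covers_iff_sub hB hb).1 h)
    obtain ⟨B', hB', rfl⟩ := H9.exists_eI h1
    exact ⟨B', hB', (cov _ hB').2 h2, H9.isInducedBlock_iff.2 ⟨hB', hB, h3⟩⟩

end Cfsg.Agent.S4435
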