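import Cfsg.Statements.S4436
import Mathlib
import Cfsg.Agent.H9.Dict4
import Cfsg.Agent.S4435

set_option autoImplicit false
open Cfsg

namespace Cfsg.Agent.S4436

/-- Let N be a normal subgroup of the finite group G, b a block of N (relative to a maximal ideal M of the algebraic integers containing p), T the stabilizer of b in G, N ≤ T, and B′ a block of T covering b (some member of B′ has a constituent in b on restriction to N) that induces the block B of G. Then every defect group of B′ is a defect group of B, and for every ψ ∈ B′ the induced character ψ^G is an irreducible character of G lying in B with the same height as ψ. -/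
theorem result {G : Type*} [Group G] [Fintype G] (p : ℕ) [Fact p.Prime] (M : Ideal Cfsg.AlgInt) (hM : Cfsg.IsPModular p M) (N : Subgroup G) [hN : N.Normal] [Fintype N] (b : Set (Cfsg.IrrCharacter N)) (hb : Cfsg.IsPBlock M b) (T : Subgroup G) [Fintype T] (hT : ∀ g : G, g ∈ T ↔ ∀ θ ∈ b, ∀ θ' : Cfsg.IrrCharacter N, (∀ n : N, (θ' : N → ℂ) n = (θ : N → ℂ) ⟨g * n * g⁻¹, hN.conj_mem n n.2 g⟩) → θ' ∈ b) (hNT : N ≤ T) (B' : Set (Cfsg.IrrCharacter T)) (hB' : Cfsg.IsPBlock M B') (hcov : (∃ ψ ∈ B', ∃ θ ∈ b, Cfsg.classInner (fun n : N => (ψ : T → ℂ) ⟨(n : G), hNT n.2⟩) (θ : N → ℂ) ≠ 0)) (B : Set (Cfsg.IrrCharacter G)) (hind : Cfsg.IsInducedBlock M T B' B) : (∀ D : Subgroup T, Cfsg.IsDefectGroup p M B' D → Cfsg.IsDefectGroup p M B (D.map T.subtype)) ∧ ∀ ψ ∈ B', ∃ χ ∈ B, (χ : G → ℂ) = Cfsg.indFun T (ψ : T → ℂ) ∧ Cfsg.blockHeight p B (χ : G → ℂ) = Cfsg.blockHeight p B' (ψ : T → ℂ) := by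
  haveI := hM.2.1
  haveI : H9.PMod M p := ⟨hM⟩
  have hN' := H9.top_le_normalizer_of_normal N
  have hT' : ∀ g ∈ (⊤ : Subgroup G), H9.cj g (H9.eI M b) = H9.eI M b ↔ g ∈ T := fun g _ => by
    rw [hT, H9.stab_normal_iff hb]
  have hB := hind.2.1
  have key : ∀ D : Subgroup T, IsDefectGroup p M B' D → IsDefectGroup p M B (D.map T.subtype) :=
    fun D hD => (H9.isDefectGroup_iff hB).2 (H9.fr_isDef hNT le_top hN' (H9.isBlk_eI hb) hT'
      ((H9.covers_iff_incl hNT hB' hb).1 hcov) (H9.isInducedBlock_iff.1 hind).2.2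
      ((H9.isDefectGroup_iff_map hB').1 hD))
  refine ⟨key, fun ψ hψ => ?_⟩
  obtain ⟨B₂, h1, -, h2, h3⟩ := (S4435.result p M hM N b hb T hT hNT).1 B' hB' hcov
  obtain rfl := H8.IsInducedBlock.unique hind h1
  refine ⟨⟨_, h2 ψ hψ⟩, (h3 _).2 ⟨ψ, hψ, rfl⟩, rfl, ?_⟩
  obtain ⟨D, hD⟩ := H9.exists_isDefectGroup (p := p) hB'
  have e1 := H8.card_defectGroup hM hB' hD
  have e2 := H8.card_defectGroup hM hB (key D hD)
  rw [Subgroup.card_subtype, e1, Nat.pow_right_inj hM.1.one_lt, H8.blockDefect_eq,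
    H8.blockDefect_eq] at e2
  have e3 := H8.minVal_le_card (p := p) (H8.block_nonempty hB)
  have e4 := H8.minVal_le_card (p := p) (H8.block_nonempty hB')
  have e5 := H8.factorization_card_eq (p := p) T
  have e6 : charDegree (indFun T (ψ : T → ℂ)) = T.index * charDegree (ψ : T → ℂ) := by
    have h4 := H8.irr_one_eq (⟨_, h2 ψ hψ⟩ : IrrCharacter G)
    have h5 := H7.ind_apply_one T.subtype_injective (ψ : T → ℂ)
    rw [H7.ind_subtype, Subgroup.range_subtype, H8.irr_one_eq ψ] at h5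
    exact_mod_cast h4.symm.trans h5
  rw [H8.blockHeight_eq, H8.blockHeight_eq]
  simp only [e6]
  rw [Nat.factorization_mul Subgroup.index_ne_zero_of_finite (H8.charDegree_irr_ne_zero ψ),
    Finsupp.add_apply]
  omega

end Cfsg.Agent.S4436
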