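import Cfsg.Statements.S2401
import Mathlib
import Cfsg.Agent.H17.MulA

set_option autoImplicit false
open Cfsg

namespace Cfsg.Agent.S2401

open Cfsg.Agent.H17
open scoped commutatorElement

theorem aux {G : Type*} [Group G] {a b c : G} (h : a * b * a⁻¹ * b⁻¹ * c⁻¹ = 1)
    (h1 : a * c * a⁻¹ * c⁻¹ = 1) (h2 : c * b * c⁻¹ * b⁻¹ = 1) :
    a * b = b * a * c ∧ b * a = a * b * c⁻¹ := by
  have e : a * b = c * (b * a) := by rw [← mul_inv_eq_one.1 h]; group
  have k : Commute c (b * a) := Commute.mul_right (H12.mul_comm_of_cm h2) (H12.mul_comm_of_cm h1).symm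
  rw [e, k.eq]; simp

/-- The Steinberg presentation of `SL_n` over a finite field for `n ≥ 3`: the group generated by symbols `x_ij(t)` (`i ≠ j`, `t` in the field) subject to `x_ij(t) x_ij(u) = x_ij(t + u)` and, for `i ≠ l`, `x_ij(t) x_kl(u) x_ij(t)⁻¹ x_kl(u)⁻¹ = x_il(tu)` if `j = k` and `= 1` if `j ≠ k`, is isomorphic to `SL_n` by an isomorphism sending `x_ij(t)` to the elementary matrix `1 + t E_ij`. -/
theorem result {K : Type*} [Field K] [Finite K] (n : ℕ) (hn : 3 ≤ n) :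
    ∃ e : PresentedGroup
        ({g : FreeGroup ({ij : Fin n × Fin n // ij.1 ≠ ij.2} × K) | ∃ (a : {ij : Fin n × Fin n // ij.1 ≠ ij.2}) (t u : K),
            g = FreeGroup.of (a, t) * FreeGroup.of (a, u) * (FreeGroup.of (a, t + u))⁻¹} ∪
          {g | ∃ (a b : {ij : Fin n × Fin n // ij.1 ≠ ij.2}) (t u : K), a.1.1 ≠ b.1.2 ∧ a.1.2 ≠ b.1.1 ∧
            g = FreeGroup.of (a, t) * FreeGroup.of (b, u) * (FreeGroup.of (a, t))⁻¹ * (FreeGroup.of (b, u))⁻¹} ∪
          {g | ∃ (a b : {ij : Fin n × Fin n // ij.1 ≠ ij.2}) (h : a.1.1 ≠ b.1.2) (t u : K), a.1.2 = b.1.1 ∧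
            g = FreeGroup.of (a, t) * FreeGroup.of (b, u) * (FreeGroup.of (a, t))⁻¹ * (FreeGroup.of (b, u))⁻¹ *
              (FreeGroup.of (⟨(a.1.1, b.1.2), h⟩, t * u))⁻¹}) ≃* Matrix.SpecialLinearGroup (Fin n) K,
      ∀ (a : {ij : Fin n × Fin n // ij.1 ≠ ij.2}) (t : K), ((e (PresentedGroup.of (a, t)) : Matrix (Fin n) (Fin n) K)) = Matrix.transvection a.1.1 a.1.2 t := by
  obtain ⟨m, rfl⟩ : ∃ m, n = m + 1 := ⟨n - 1, by omega⟩
  generalize hR : (_ ∪ _ ∪ _ : Set (FreeGroup ({ij : Fin (m + 1) × Fin (m + 1) // ij.1 ≠ ij.2} × K))) = R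
  have one : ∀ g ∈ R, PresentedGroup.mk R g = 1 := fun g hg => PresentedGroup.one_of_mem hg
  have of : ∀ x, PresentedGroup.mk R (FreeGroup.of x) = PresentedGroup.of x := fun _ => rfl
  have r1 : ∀ a (t u : K), (PresentedGroup.of (a, t + u) : PresentedGroup R) =
      PresentedGroup.of (a, t) * PresentedGroup.of (a, u) := fun a t u => by
    have := one _ (hR.le (Or.inl (Or.inl ⟨a, t, u, rfl⟩)))
    simp only [map_mul, map_inv, of, mul_inv_eq_one] at this
    exact this.symm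
  have r2 := fun a b (t u : K) h1 h2 => one _ (hR.le (Or.inl (Or.inr ⟨a, b, t, u, h1, h2, rfl⟩)))
  have r3 := fun a b h (t u : K) h1 => one _ (hR.le (Or.inr ⟨a, b, h, t, u, h1, rfl⟩))
  simp only [map_mul, map_inv, of] at r2 r3
  have r4 := fun a b h t u h1 => aux (r3 a b h t u h1) (r2 _ _ _ _ h a.2.symm)
    (r2 _ _ _ _ h b.2.symm)
  have r5 : ∀ a (t : K), (PresentedGroup.of (a, -t) : PresentedGroup R) = (PresentedGroup.of (a, t))⁻¹ :=
    fun a t => by
      have h0 := r1 a 0 0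
      rw [add_zero, left_eq_mul] at h0
      rw [eq_inv_iff_mul_eq_one, ← r1, neg_add_cancel, h0]
  let S : H12.StSys (TA.cd m) K (PresentedGroup R) := ⟨fun r t => PresentedGroup.of (r, t), r1,
    fun r s h1 h2 t u => by
      simp only [TA.cd, TA.tm]
      split_ifs with h3 h4 <;> simp only [List.map_cons, List.map_nil, List.prod_cons, List.prod_nil,
        mul_one, pow_one, Int.cast_one, one_mul, Int.cast_neg, neg_mul, neg_neg]
      · rw [r5]; exact (r4 r s h3.2 t u h3.1).2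
      · rw [mul_comm t]; exact (r4 s r h4.2 u t h4.1).1
      · have := r.2
        have := s.2
        simp only [ne_eq, Subtype.ext_iff, Prod.ext_iff, TA.rs_neg, TA.ng] at h1 h2
        exact H12.mul_comm_of_cm (r2 s r u t (by grind) (by grind))⟩
  have top : ⨆ r, S.U r = ⊤ := by
    rw [eq_top_iff, ← PresentedGroup.closure_range_of, Subgroup.closure_le]
    rintro _ ⟨⟨r, t⟩, rfl⟩
    exact le_iSup S.U r (S.x_mem_U r t)
  let f : PresentedGroup R →* Matrix.SpecialLinearGroup (Fin (m + 1)) K :=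
    PresentedGroup.toGroup (f := fun p => (TA.st m K).x p.1 p.2) (by
      subst hR
      have k := fun (a b : AΦ m) (h : a.1.1 ≠ b.1.2) => (TA.st m K).comm a b
      rintro _ ((⟨a, t, u, rfl⟩ | ⟨a, b, t, u, h1, h2, rfl⟩) | ⟨a, b, h, t, u, h1, rfl⟩) <;>
        simp only [map_mul, map_inv, FreeGroup.lift_apply_of]
      · rw [H12.StSys.add, mul_inv_cancel]
      · rw [H12.StSys.commute_of_cm (TA.cm_of h2 h1)]; group
      · have e := (TA.st m K).comm a b (fun e => a.2 (by rw [h1, e])) (fun e => h (by rw [e]; rfl)) t u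
        simp only [TA.cd, TA.tm, dif_pos (And.intro h1 h), List.map_cons, List.map_nil, List.prod_cons,
          List.prod_nil, mul_one, pow_one, Int.cast_one, one_mul, neg_mul, H12.StSys.x_neg] at e
        have k1 : Commute ((TA.st m K).x a t) ((TA.st m K).x ⟨(a.1.1, b.1.2), h⟩ (t * u)) :=
          H12.StSys.commute_of_cm (TA.cm_of (s := ⟨(a.1.1, b.1.2), h⟩) a.2.symm h) _ _
        have k2 : Commute ((TA.st m K).x b u) ((TA.st m K).x ⟨(a.1.1, b.1.2), h⟩ (t * u)) :=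
          H12.StSys.commute_of_cm (TA.cm_of (s := ⟨(a.1.1, b.1.2), h⟩) h.symm b.2) _ _
        rw [mul_inv_eq_one, mul_assoc (_ * _) _⁻¹ _⁻¹, ← mul_inv_rev, e, ((k1.mul_left k2).inv_right).eq]
        group)
  have hf : S.Hom (TA.st m K) f := fun r t => PresentedGroup.toGroup.of _
  exact ⟨MulEquiv.ofBijective f ⟨TA.inj_of_hom (hf.nc_of_adj TA.st_nc TA.st_nm (TA.adj (by omega))) top hf,
    hf.surjective TA.st_top⟩, fun a t => congrArg Subtype.val (hf a t)⟩

end Cfsg.Agent.S2401
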