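import Cfsg.Statements.S0493
import Cfsg.Agent.H23.Sv2
-- import your own Cfsg.Agent.* helpers here

set_option autoImplicit false
open Cfsg

namespace Cfsg.Agent.S0493

theorem range1 : (List.range' 1 100).all (fun n => H23.Sv.kill n ||
    [60].contains n) = true := by decide +kernel

/-- A finite simple group of order at most 100 that is not cyclic has order 60. -/
theorem result {G : Type*} [Group G] [Finite G] [IsSimpleGroup G]
    (hG : ¬ IsCyclic G) (h : Nat.card G ≤ 100) : Nat.card G = 60 := by
  have hG' : ¬ IsMulCommutative G := fun hc => by
    have : Fact (Nat.card G).Prime := ⟨H20.simple_comm_card_prime hc⟩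
    exact hG (isCyclic_of_prime_card rfl)
  simpa using H23.Sv.mem_of_range hG' range1 Nat.card_pos (by omega)

end Cfsg.Agent.S0493
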