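import Cfsg.Statements.S0494
import Cfsg.Agent.H10.SmallId
-- import your own Cfsg.Agent.* helpers here

set_option autoImplicit false
open Cfsg

namespace Cfsg.Agent.S0494

/-- A simple group of order 60 is isomorphic to the alternating group of degree 5. -/
theorem result {G : Type*} [Group G] [Finite G] [IsSimpleGroup G]
    (h : Nat.card G = 60) : Nonempty (G ≃* alternatingGroup (Fin 5)) := by
  refine H10.NoCycNormal.equiv_A5 (fun N hN hc => ?_) h
  rcases hN.eq_bot_or_eq_top with e | e
  · exact e
  · subst e
    have : IsCyclic G := isCyclic_of_surjective (Subgroup.topEquiv (G := G)) Subgroup.topEquiv.surjective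
    let := IsCyclic.commGroup (α := G)
    have hp := IsSimpleGroup.prime_card (α := G)
    rw [h] at hp
    norm_num at hp

end Cfsg.Agent.S0494
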