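import Cfsg.Statements.S4765
import Mathlib
import Cfsg.Agent.L0.PSL2
import Cfsg.Agent.H8.CharBase
-- import your own Cfsg.Agent.* helpers here

set_option autoImplicit false
open Cfsg

namespace Cfsg.Agent.S4765

open Cfsg.Agent.L0 Cfsg.Agent.H6

/-- Let F be a finite field of characteristic p with at least 4 elements. Then PSL(2,F) has exactly one irreducible complex character of degree divisible by p, and its degree is the order of F. -/
theorem result (p : ℕ) [Fact p.Prime] (F : Type*) [Field F] [Fintype F] [CharP F p] (hF : 4 ≤ Fintype.card F) : Nat.card {χ : Cfsg.IrrCharacter (Matrix.ProjectiveSpecialLinearGroup (Fin 2) F) // p ∣ Cfsg.charDegree (χ : Matrix.ProjectiveSpecialLinearGroup (Fin 2) F → ℂ)} = 1 ∧ ∀ χ : Cfsg.IrrCharacter (Matrix.ProjectiveSpecialLinearGroup (Fin 2) F), p ∣ Cfsg.charDegree (χ : Matrix.ProjectiveSpecialLinearGroup (Fin 2) F → ℂ) → Cfsg.charDegree (χ : Matrix.ProjectiveSpecialLinearGroup (Fin 2) F → ℂ) = Fintype.card F := by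
  have hp' : p.Prime := Fact.out
  obtain ⟨n, -, hn⟩ := FiniteField.card F p
  have hq : p ∣ Fintype.card F := hn ▸ dvd_pow_self p n.ne_zero
  have h1 : ¬ p ∣ 1 := fun h => hp'.one_lt.ne' (Nat.dvd_one.1 h)
  have h2 : ¬ p ∣ Fintype.card F + 1 := fun h => h1 ((Nat.dvd_add_right hq).1 h)
  have h3 : ¬ p ∣ Fintype.card F - 1 := fun h => h1 (by
    have := Nat.dvd_sub hq h
    rwa [show Fintype.card F - (Fintype.card F - 1) = 1 by omega] at this)
  have key : ∀ χ : IrrCharacter (P2 F), p ∣ charDegree (χ : P2 F → ℂ) →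
      charDegree (χ : P2 F → ℂ) = Fintype.card F ∧ (fun g => (χ : P2 F → ℂ) (pj g)) = Sts F := by
    intro χ hχ
    rcases irr_s2_cases' (QExt F) (isIrr_comp_of_surjective pj pj_surjective χ.2)
      (n := charDegree (χ : P2 F → ℂ)) (by simp only [map_one]; exact H8.irr_one_eq χ) with
      h | h | h | h | h | h
    · exact absurd (h.1 ▸ hχ) h1
    · exact h
    · exact absurd (h.1 ▸ hχ) h2
    · exact absurd (h.1 ▸ hχ) h3
    · exact absurd ((h.1 ▸ hχ).trans (Nat.div_dvd_of_dvd (by have := h.2.1; omega))) h2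
    · exact absurd ((h.1 ▸ hχ).trans (Nat.div_dvd_of_dvd (by have := h.2.1; omega))) h3
  refine ⟨?_, fun χ hχ => (key χ hχ).1⟩
  obtain ⟨ψ, hψ, hψ'⟩ := exists_irr_comp_eq pj pj_surjective (isIrr_Sts (F := F)) (by
    intro g hg
    rw [mem_charKer_iff_irr isIrr_Sts, Sts_one, Sts_eq]
    obtain ⟨e1, e2, e3⟩ := pj_eq_one_iff'.1 hg
    rw [Rs_scal 1 e1 e2 e3, MulChar.one_apply]
    · ring
    · have := s2_det g
      exact IsUnit.of_mul_eq_one ((g : M2 F) 1 1) (by rw [e1] at this; simpa using this))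
  refine card_irr_eq_one (P := fun χ => p ∣ charDegree χ) hψ ?_ fun χ hχ h => ?_
  · have h4 := H8.irr_one_eq (⟨ψ, hψ⟩ : IrrCharacter (P2 F))
    have h5 := congrFun hψ' 1
    simp only [map_one, Sts_one] at h5
    have : charDegree ψ = Fintype.card F := by exact_mod_cast h4.symm.trans h5.symm
    exact this ▸ hq
  · funext x
    obtain ⟨g, rfl⟩ := pj_surjective x
    exact (congrFun (key ⟨χ, hχ⟩ h).2 g).trans (congrFun hψ' g)

end Cfsg.Agent.S4765
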