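import Cfsg.Statements.S3669
import Mathlib
import Cfsg.Agent.S4765
import Cfsg.Agent.S0493
import Cfsg.Agent.S0494
import Cfsg.Agent.H7.Ratio
import Cfsg.Agent.H20.MinS
import Cfsg.Agent.H10.SmallIso
import Cfsg.Agent.H1.Huppert
-- import your own Cfsg.Agent.* helpers here

set_option autoImplicit false
open Cfsg

namespace Cfsg.Agent.S3669

open Cfsg.Agent.FT Subgroup

theorem sol60 (G : Type*) [Group G] [Finite G] (h : Nat.card G < 60) : Group.IsSolvable G :=
  H20.sol_of_min (fun G _ => Nat.card G < 60) (fun G _ _ N h => (Subgroup.card_le_card_group N).trans_lt h)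
    (fun G _ _ N _ _ _ _ h => (Nat.card_le_card_of_surjective _ (QuotientGroup.mk'_surjective N)).trans_lt h)
    (fun G _ _ _ h hs _ => h.ne (S0493.result (fun _ => hs (sol_top.2 inferInstance)) (by omega))) G h

/-- The character degree graph of a finite group has as vertices the primes dividing some irreducible complex character degree, two distinct primes being joined when their product divides some irreducible character degree; two groups have the same character degree graph when they have the same vertices and the same joined pairs. A finite group of order 60 with the same character degree graph as the alternating group A₅ (whose character degrees are 1, 3, 4, 5, so the graph has vertices 2, 3, 5 and no edges) is isomorphic to A₅. -/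
theorem result {G : Type*} [Group G] [Finite G] (hcard : Nat.card G = 60)
    (hΓ : Cfsg.degreePrimes G = Cfsg.degreePrimes (alternatingGroup (Fin 5)) ∧ Cfsg.degreeGraph G = Cfsg.degreeGraph (alternatingGroup (Fin 5))) : Nonempty (G ≃* alternatingGroup (Fin 5)) := by
  have := Fact.mk Nat.prime_five
  obtain ⟨e⟩ := H10.PSL2_five_equiv (F := ZMod 5) (Nat.card_zmod 5)
  obtain ⟨⟨χ, hχ⟩, -⟩ := Nat.card_eq_one_iff_exists.1 (S4765.result 5 (ZMod 5) (by simp)).1
  obtain ⟨-, _, ⟨ψ, rfl⟩, h5⟩ := hΓ.1.ge ⟨Nat.prime_five, _, ⟨⟨_, H6.isIrr_comp_equiv e.symm χ.2⟩, rfl⟩,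
    by simpa [charDegree] using hχ⟩
  refine H10.NoCycNormal.equiv_A5 (fun N hN hc => by_contra fun h1 => ?_) hcard
  have hi : N.index * #N = 60 := hcard ▸ N.index_mul_card
  have h2 := one_lt_card h1
  have : Group.IsSolvable (G ⧸ N) := sol60 _ (by change N.index < 60; nlinarith)
  have hs : Sol (⊤ : Subgroup G) := sol_top.2 (Group.isSolvable_of_ker_le_range N.subtype (QuotientGroup.mk' N) (by simp))
  obtain ⟨H, hH⟩ := Hall_exists {2}ᶜ hs
  have c15 : #H = 15 := by
    rw [hH.card, card_top, hcard]
    exact partn_eq_of_mul (a := 15) (b := 4) (p'nat_of_not_dvd (by norm_num))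
      (piNat_compl_compl.2 (piNat_self_pow Nat.prime_two 2)) (by norm_num)
  obtain ⟨P, hP, -⟩ := (piGrp_bot {5}).exists_syl (bot_le : ⊥ ≤ H)
  have hP' := hH.subHall_syl (by simp) hP
  have c5 : #P = 5 := by
    rw [hP.card, c15]
    exact partn_eq_of_mul (a := 5) (b := 3) ((piNat_prime Nat.prime_five).2 rfl) (p'nat_of_not_dvd (by norm_num)) (by norm_num)
  have k1 : H ≤ N(P) := by
    have a := H1.relIndex_nrm_modEq Nat.prime_five hP
    have b : (H ⊓ N(P)).relIndex H ∣ 3 := by
      have := relIndex_dvd_of_le_left H (le_inf hP.le (le_nrm P))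
      rwa [show P.relIndex H = 3 by have := card_mul_relIndex hP.le; rw [c5, c15] at this; omega] at this
    rcases (Nat.dvd_prime Nat.prime_three).1 b with k | k
    · exact (relIndex_eq_one.1 k).trans inf_le_right
    · rw [k] at a; exact absurd a (by decide)
  have k2 : N(P) = ⊤ := by
    have a := H1.relIndex_nrm_modEq Nat.prime_five hP'
    rw [top_inf_eq, relIndex_top_right] at a
    have b := index_dvd_of_le k1
    rw [show H.index = 4 by have := H.card_mul_index; rw [c15, hcard] at this; omega] at b
    have := Nat.le_of_dvd four_pos b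
    refine index_eq_one.1 ?_
    unfold Nat.ModEq at a
    omega
  have := normalizer_eq_top_iff.1 k2
  have := H7.degree_dvd_index_of_abelian_normal P (fun a ha b hb => (cyc_of_prime (c5 ▸ Nat.prime_five)).ab.comm ha hb) ψ.2
    (H8.irr_one_eq ψ)
  rw [show P.index = 12 by have := P.card_mul_index; rw [c5, hcard] at this; omega] at this
  exact absurd (h5.trans this) (by norm_num)

end Cfsg.Agent.S3669
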