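import Cfsg.Statements.S4540
import Mathlib
import Cfsg.Agent.H9.Trace2

set_option autoImplicit false
open Cfsg

namespace Cfsg.Agent.S4540

/-- Let B be a 2-block of the finite group G (relative to a maximal ideal M of the algebraic integers containing 2) of defect d with defect group D. Let z be an element of D commuting with every element of D, and let b be a block of the centralizer C of z with defect group D that induces B (a major subsection (z, b)). If b has 2-regular rank at most three, then 3·k(B) ≤ 3·k₀(B) + 2·Σ 2 ^ h(χ), where k(B) is the number of members of B, k₀(B) the number of members of height zero, and the sum runs over the members χ of B of positive height h(χ); this bound is at most 3·2 ^ d, so in particular B contains at most 2 ^ d irreducible characters. -/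
theorem result {G : Type*} [Group G] [Finite G] (M : Ideal Cfsg.AlgInt) (hM : Cfsg.IsPModular 2 M) (B : Set (Cfsg.IrrCharacter G)) (hB : Cfsg.IsPBlock M B) (D : Subgroup G) (hD : Cfsg.IsDefectGroup 2 M B D) (z : G) (hzD : z ∈ D) (hzc : ∀ d ∈ D, d * z = z * d) (b : Set (Cfsg.IrrCharacter ↥(Subgroup.centralizer ({z} : Set G)))) (hb : Cfsg.IsInducedBlock M (Subgroup.centralizer ({z} : Set G)) b B) (hbD : Cfsg.IsDefectGroup 2 M b (D.subgroupOf (Subgroup.centralizer ({z} : Set G)))) (hl : Cfsg.blockRank 2 b ≤ 3) : 3 * Nat.card B ≤ 3 * Nat.card {χ : Cfsg.IrrCharacter G // χ ∈ B ∧ Cfsg.blockHeight 2 B (χ : G → ℂ) = 0} + 2 * (∑ᶠ χ ∈ {χ : Cfsg.IrrCharacter G | χ ∈ B ∧ 1 ≤ Cfsg.blockHeight 2 B (χ : G → ℂ)}, 2 ^ Cfsg.blockHeight 2 B (χ : G → ℂ)) ∧ 3 * Nat.card {χ : Cfsg.IrrCharacter G // χ ∈ B ∧ Cfsg.blockHeight 2 B (χ : G → ℂ) = 0} + 2 * (∑ᶠ χ ∈ {χ : Cfsg.IrrCharacter G | χ ∈ B ∧ 1 ≤ Cfsg.blockHeight 2 B (χ : G → ℂ)}, 2 ^ Cfsg.blockHeight 2 B (χ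 : G → ℂ)) ≤ 3 * 2 ^ Cfsg.blockDefect 2 B := by
  classical
  haveI := hM.2.1
  haveI : H9.PMod M 2 := ⟨hM⟩
  obtain ⟨h, hd⟩ := H9.major_of_defectGroup hB hD hzD hzc hb hbD
  obtain ⟨k, hk⟩ := h.pelt
  have hc : Nat.card {χ : IrrCharacter G // χ ∈ B ∧ blockHeight 2 B (χ : G → ℂ) = 0} =
      ((H9.bs B).filter fun χ : IrrCharacter G => blockHeight 2 B (χ : G → ℂ) = 0).card := by
    rw [← Nat.card_eq_finsetCard]
    exact Nat.card_congr (Equiv.subtypeEquivRight fun χ => by simp)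
  have he : 3 * Nat.card {χ : IrrCharacter G // χ ∈ B ∧ blockHeight 2 B (χ : G → ℂ) = 0} +
      2 * (∑ᶠ χ ∈ {χ : IrrCharacter G | χ ∈ B ∧ 1 ≤ blockHeight 2 B (χ : G → ℂ)},
        2 ^ blockHeight 2 B (χ : G → ℂ)) = ∑ χ ∈ H9.bs B,
      if blockHeight 2 B (χ : G → ℂ) = 0 then 3 else 2 * 2 ^ blockHeight 2 B (χ : G → ℂ) := by
    rw [hc, H9.finsum_bs, Finset.sum_ite, Finset.sum_const, smul_eq_mul, mul_comm 3, Finset.mul_sum]
    congr 1
    refine Finset.sum_congr ?_ fun _ _ => rfl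
    ext χ; simp [Nat.one_le_iff_ne_zero]
  rw [he]
  constructor
  · rw [← H9.card_bs, mul_comm, ← smul_eq_mul]
    refine Finset.card_nsmul_le_sum _ _ _ fun χ _ => ?_
    split_ifs with h0
    · rfl
    · have := Nat.pow_le_pow_right two_pos (Nat.one_le_iff_ne_zero.2 h0); omega
  by_cases h1 : ∃ φ, H9.BG b φ ∧ H9.mZ 2 b φ φ = 1
  · obtain ⟨φ, hφ, e⟩ := h1
    have h3 := h.sum_pow_height_le hb.1 hB hd hφ (by rw [e]; decide)
    rw [e, mul_one, hd] at h3
    have h4 : ∑ χ ∈ H9.bs B, 2 ^ (2 * blockHeight 2 B (χ : G → ℂ)) ≤ 2 ^ blockDefect 2 B := by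
      exact_mod_cast h3
    refine le_trans ?_ (Nat.mul_le_mul_left 3 h4)
    rw [Finset.mul_sum]
    refine Finset.sum_le_sum fun χ _ => ?_
    split_ifs with h0
    · simp [h0]
    · have := Nat.pow_le_pow_right two_pos (Nat.one_le_iff_ne_zero.2 h0)
      rw [two_mul (blockHeight _ _ _), pow_add]; nlinarith
  · have b1 : ∀ χ ∈ H9.bs B, ((H9.resT 2 k).card : ℝ) *
        ((if blockHeight 2 B (χ : G → ℂ) = 0 then 3 else 2 * 2 ^ blockHeight 2 B (χ : G → ℂ) : ℕ) : ℝ) ≤
        2 ^ blockDefect 2 b * ∑ t ∈ H9.resT 2 k, (H9.contr 2 (z ^ t) b χ χ).re := by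
      intro χ hχ
      rw [H9.mem_bs] at hχ
      split_ifs with h0
      · obtain ⟨ψ, c1, c2, c3⟩ := h.exists_odd_le hb.1 hB hk hχ h0
        refine le_trans (mul_le_mul_of_nonneg_left ?_ (by positivity)) c3
        have c4 := H9.mZ_self_nonneg (p := 2) (B := b) ψ
        have c5 : H9.mZ 2 b ψ ψ ≠ 1 := fun e => h1 ⟨ψ, c1, e⟩
        have : 3 ≤ H9.mZ 2 b ψ ψ := by omega
        exact_mod_cast this
      · obtain ⟨n, c1, c2, c3⟩ := h.exists_two_major hb.1 hB hd hk hχ
        rw [hd, c3]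
        refine mul_le_mul_of_nonneg_left ?_ (by positivity)
        have c4 : 2 ≤ n := by have := mt c2.1 h0; omega
        have c5 : (2 : ℝ) ≤ n := by exact_mod_cast c4
        push_cast
        rw [mul_comm]
        exact mul_le_mul_of_nonneg_left c5 (by positivity)
    have b2 := Finset.sum_le_sum b1
    rw [← Finset.mul_sum, ← Finset.mul_sum, h.sum_sum_contr_self, mul_left_comm, hd] at b2
    have b3 := le_of_mul_le_mul_left b2 (by exact_mod_cast H9.card_resT_pos k)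
    rw [← Nat.cast_sum] at b3
    refine le_trans (b := 2 ^ blockDefect 2 B * blockRank 2 b) (by exact_mod_cast b3) ?_
    rw [mul_comm]
    exact Nat.mul_le_mul_right _ hl

end Cfsg.Agent.S4540
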