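import Cfsg.Statements.S5913
import Mathlib

set_option autoImplicit false
open Cfsg

namespace Cfsg.Agent.S5913

/-- Let S be a non-abelian simple group and n a natural number. Every normal subgroup N of the direct power S^n (functions Fin n → S) is a subproduct: there is a set T of coordinates such that N consists exactly of the elements whose coordinates outside T are trivial. In particular the minimal normal subgroups of S^n are its n factors. -/
theorem result {S : Type*} [Group S] [IsSimpleGroup S] (hS : ¬ IsMulCommutative S) (n : ℕ)
    (N : Subgroup (Fin n → S)) [N.Normal] :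
    ∃ T : Finset (Fin n), ∀ x : Fin n → S, x ∈ N ↔ ∀ i, i ∉ T → x i = 1 := by
  classical
  refine ⟨Finset.univ.filter fun i => ∃ x ∈ N, x i ≠ 1, fun x => ⟨fun hx i hi => ?_, fun hx => ?_⟩⟩
  · by_contra hc
    exact hi (Finset.mem_filter.mpr ⟨Finset.mem_univ _, x, hx, hc⟩)
  · refine Subgroup.pi_mem_of_mulSingle_mem x fun i => ?_
    by_cases hi : i ∈ Finset.univ.filter fun i => ∃ x ∈ N, x i ≠ 1
    · obtain ⟨y, hy, hy1⟩ := (Finset.mem_filter.mp hi).2
      have hn : (N.comap (MonoidHom.mulSingle (fun _ => S) i)).Normal := inferInstance
      rcases hn.eq_bot_or_eq_top with h | h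
      · exfalso
        have hz : y i ∈ Subgroup.center S := Subgroup.mem_center_iff.mpr fun s => by
          have h1 : s * y i * s⁻¹ * (y i)⁻¹ ∈ N.comap (MonoidHom.mulSingle (fun _ => S) i) := by
            have := N.mul_mem (‹N.Normal›.conj_mem y hy (Pi.mulSingle i s)) (N.inv_mem hy)
            rw [Subgroup.mem_comap]
            convert this using 1
            ext j
            by_cases hj : j = i
            · subst hj; simp
            · simp [hj]
          rw [h, Subgroup.mem_bot, mul_inv_eq_one, mul_inv_eq_iff_eq_mul] at h1
          exact h1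
        rcases (inferInstance : (Subgroup.center S).Normal).eq_bot_or_eq_top with h' | h'
        · rw [h', Subgroup.mem_bot] at hz; exact hy1 hz
        · exact hS ⟨⟨fun a b => Subgroup.mem_center_iff.mp (h' ▸ trivial : b ∈ Subgroup.center S) a⟩⟩
      · exact (h ▸ trivial : x i ∈ N.comap (MonoidHom.mulSingle (fun _ => S) i))
    · rw [hx i hi, Pi.mulSingle_one]; exact N.one_mem

end Cfsg.Agent.S5913
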