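import Cfsg.Statements.S5914
import Mathlib
import Cfsg.Agent.S5913

set_option autoImplicit false
open Cfsg

namespace Cfsg.Agent.S5914

theorem fwd {G : Type*} [Group G] [Finite G] [Nontrivial G]
    (h : ∀ H : Subgroup G, H.Characteristic → H = ⊥ ∨ H = ⊤) :
    ∃ (S : Type) (_ : Group S) (_ : IsSimpleGroup S) (n : ℕ), 1 ≤ n ∧
      Nonempty (G ≃* (Fin n → S)) := by
  classical
  obtain ⟨N, ⟨hN, hN0⟩, hmin⟩ := (wellFounded_lt (α := Subgroup G)).has_min
    {N | N.Normal ∧ N ≠ ⊥} ⟨⊤, inferInstance, top_ne_bot⟩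
  let c : MulAut G → Subgroup G := fun φ => N.map φ.toMonoidHom
  have cn : ∀ φ, (c φ).Normal := fun φ => hN.map _ φ.surjective
  have cm : ∀ φ (K : Subgroup G), K.Normal → K ≤ c φ → K = ⊥ ∨ K = c φ := fun φ K hK hle => by
    refine or_iff_not_imp_left.mpr fun h0 => ?_
    have h1 : K.comap φ.toMonoidHom ≤ N := by
      rw [← Subgroup.comap_map_eq_self_of_injective (f := φ.toMonoidHom) φ.injective N]
      exact Subgroup.comap_mono hle
    have h2 : K.comap φ.toMonoidHom = N := by
      by_contra hc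
      refine hmin _ ⟨hK.comap _, fun h3 => h0 ?_⟩ (lt_of_le_of_ne h1 hc)
      rw [← Subgroup.map_comap_eq_self_of_surjective (f := φ.toMonoidHom) φ.surjective K, h3,
        Subgroup.map_bot]
    rw [← Subgroup.map_comap_eq_self_of_surjective (f := φ.toMonoidHom) φ.surjective K, h2]
  have htop : ⨆ φ, c φ = ⊤ := by
    refine (h _ (Subgroup.characteristic_iff_map_le.mpr fun ψ => ?_)).resolve_left fun h0 => ?_
    · rw [Subgroup.map_iSup]
      refine iSup_le fun φ => le_iSup_of_le (ψ * φ) ?_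
      simp only [c, Subgroup.map_map]
      rfl
    · have := le_iSup c 1
      rw [h0] at this
      exact hN0 (le_bot_iff.mp fun x hx => this ⟨x, hx, rfl⟩)
  have hex : ∃ k : ℕ, ∃ B : Fin k → MulAut G, ⨆ i, c (B i) = ⊤ := by
    obtain ⟨k, ⟨e⟩⟩ := Finite.exists_equiv_fin (MulAut G)
    exact ⟨k, e.symm, by rw [← htop]; exact e.symm.iSup_comp⟩
  obtain ⟨B, e⟩ := Nat.find_spec hex
  have hm := fun m => Nat.find_min hex (m := m)
  generalize Nat.find hex = k at B e hm
  have hind : iSupIndep fun i => c (B i) := fun i => by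
    have := cn (B i)
    have : (⨆ j, ⨆ (_ : j ≠ i), c (B j)).Normal :=
      @Subgroup.iSup_normal _ _ _ _ fun j => @Subgroup.iSup_normal _ _ _ _ fun _ => cn _
    refine disjoint_iff.2 ((cm _ _ inferInstance inf_le_left).resolve_right fun hle => ?_)
    cases k with
    | zero => exact i.elim0
    | succ k =>
      refine hm k (Nat.lt_succ_self k) ⟨fun j => B (i.succAbove j), ?_⟩
      have h1 : ⨆ j, ⨆ (_ : j ≠ i), c (B j) ≤ ⨆ j, c (B (i.succAbove j)) := iSup₂_le fun j hj => by
        obtain ⟨j, rfl⟩ := Fin.exists_succAbove_eq hj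
        exact le_iSup (fun j => c (B (i.succAbove j))) j
      rw [eq_top_iff, ← e]
      refine iSup_le fun j => ?_
      by_cases hj : j = i
      · exact hj ▸ (inf_eq_left.1 hle).trans h1
      · exact (le_iSup₂_of_le j hj le_rfl).trans h1
  have hcomm : Pairwise fun i j => ∀ x y : G, x ∈ c (B i) → y ∈ c (B j) → Commute x y :=
    fun i j hij x y hx hy =>
      Subgroup.commute_of_normal_of_disjoint _ _ (cn _) (cn _) (hind.pairwiseDisjoint hij) x y hx hy
  have hk : 1 ≤ k := by
    rcases k with _ | k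
    · rw [iSup_of_empty] at e; exact absurd e bot_ne_top
    · omega
  have hsim : IsSimpleGroup (c (B ⟨0, hk⟩)) := by
    have : Nontrivial (c (B ⟨0, hk⟩)) := (Subgroup.nontrivial_iff_ne_bot _).mpr fun h0 =>
      hN0 ((Subgroup.map_eq_bot_iff_of_injective _ (B ⟨0, hk⟩).injective).mp h0)
    refine ⟨fun K hK => ?_⟩
    have hn : (K.map (c (B ⟨0, hk⟩)).subtype).Normal := by
      rw [← Subgroup.normalizer_eq_top_iff, eq_top_iff, ← e]
      refine iSup_le fun j => ?_
      by_cases hj : j = ⟨0, hk⟩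
      · subst hj
        intro x hx
        rw [Subgroup.mem_normalizer_iff]
        intro y
        constructor
        · rintro ⟨y, hy, rfl⟩; exact ⟨_, hK.conj_mem y hy ⟨x, hx⟩, rfl⟩
        · rintro ⟨z, hz, hy⟩
          refine ⟨_, hK.conj_mem z hz ⟨x, hx⟩⁻¹, ?_⟩
          change x⁻¹ * (c (B ⟨0, hk⟩)).subtype z * x⁻¹⁻¹ = y
          rw [hy]; group
      · refine le_trans (fun x hx => ?_) (Subgroup.centralizer_le_normalizer _)
        rintro _ ⟨y, -, rfl⟩
        exact (hcomm hj x y hx y.2).symm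
    rcases cm _ _ hn (Subgroup.map_subtype_le _) with h0 | h0
    · exact Or.inl ((Subgroup.map_eq_bot_iff_of_injective _ (Subgroup.subtype_injective _)).mp h0)
    · right
      apply Subgroup.map_injective (Subgroup.subtype_injective _)
      rw [h0, ← MonoidHom.range_eq_map, Subgroup.range_subtype]
  have e1 : ∀ φ, N ≃* c φ := fun φ => N.equivMapOfInjective _ φ.injective
  have e2 : (∀ i, c (B i)) ≃* G := MulEquiv.ofBijective (Subgroup.noncommPiCoprod hcomm)
    ⟨Subgroup.injective_noncommPiCoprod_of_iSupIndep hind,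
      MonoidHom.range_eq_top.mp (by rw [Subgroup.noncommPiCoprod_range, e])⟩
  have e3 : Shrink.{0} N ≃* N := Shrink.mulEquiv
  exact ⟨Shrink.{0} N, inferInstance, (e3.trans (e1 (B ⟨0, hk⟩))).isSimpleGroup, k, hk,
    ⟨e2.symm.trans (MulEquiv.piCongrRight fun i => (e3.trans (e1 _)).symm)⟩⟩

theorem bwd {S : Type*} [Group S] [IsSimpleGroup S] {n : ℕ} (H : Subgroup (Fin n → S))
    (hH : H.Characteristic) : H = ⊥ ∨ H = ⊤ := by
  classical
  refine or_iff_not_imp_left.mpr fun h0 => ?_
  obtain ⟨⟨x, hx⟩, hx1⟩ := Subgroup.ne_bot_iff_exists_ne_one.mp h0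
  obtain ⟨i, hi⟩ : ∃ i, x i ≠ 1 := by
    by_contra hc
    push Not at hc
    exact hx1 (Subtype.ext (funext hc))
  have hφ : ∀ φ : MulAut (Fin n → S), ∀ y ∈ H, φ y ∈ H := fun φ y hy =>
    Subgroup.characteristic_iff_map_le.mp hH φ ⟨y, hy, rfl⟩
  have h1 : ∃ j s, s ≠ 1 ∧ Pi.mulSingle j s ∈ H := by
    by_cases hS : IsMulCommutative S
    · by_cases hn : ∃ j, j ≠ i
      · obtain ⟨j, hj⟩ := hn
        let _ : CommGroup S := { mul_comm := hS.1.1 }
        let f : (Fin n → S) →* (Fin n → S) :=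
          (MonoidHom.mulSingle (fun _ => S) j).comp (Pi.evalMonoidHom _ i)
        have := hφ ⟨⟨fun y => y * f y, fun y => y * (f y)⁻¹, fun y => by
          simp [f, hj.symm], fun y => by simp [f, hj.symm]⟩,
          fun y z => by simp only [map_mul]; exact mul_mul_mul_comm _ _ _ _⟩ x hx
        exact ⟨j, x i, hi, (H.mul_mem_cancel_left hx).mp this⟩
      · push Not at hn
        refine ⟨i, x i, hi, ?_⟩
        convert hx
        ext j; simp [hn j]
    · obtain ⟨T, hT⟩ := S5913.result hS n H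
      refine ⟨i, x i, hi, (hT _).mpr fun j hj => Pi.mulSingle_eq_of_ne ?_ _⟩
      rintro rfl
      exact hi ((hT x).mp hx j hj)
  obtain ⟨j, s, hs, hj⟩ := h1
  have h2 := (inferInstance : (H.comap (MonoidHom.mulSingle (fun _ => S) j)).Normal).eq_bot_or_eq_top
    |>.resolve_left fun h => hs (Subgroup.mem_bot.mp (h ▸ hj))
  refine eq_top_iff.mpr fun y _ => Subgroup.pi_mem_of_mulSingle_mem y fun l => ?_
  have := hφ (MulEquiv.arrowCongr (Equiv.swap j l) (MulEquiv.refl S)) _
    (h2 ▸ trivial : y l ∈ H.comap (MonoidHom.mulSingle (fun _ => S) j))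
  convert this
  ext m
  simp [Pi.mulSingle_apply, Equiv.swap_apply_eq_iff]


/-- A non-trivial finite group G is characteristically simple (its only characteristic subgroups are 1 and G) if and only if G is isomorphic to a direct power S^n (n ≥ 1) of some simple group S (possibly cyclic of prime order). -/
theorem result {G : Type*} [Group G] [Finite G] [Nontrivial G] :
    (∀ H : Subgroup G, H.Characteristic → H = ⊥ ∨ H = ⊤) ↔
    ∃ (S : Type) (_ : Group S) (_ : IsSimpleGroup S) (n : ℕ), 1 ≤ n ∧ Nonempty (G ≃* (Fin n → S)) := by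
  refine ⟨fwd, fun ⟨S, _, _, n, _, ⟨e⟩⟩ H hH => ?_⟩
  have : (e.mapSubgroup H).Characteristic := Subgroup.characteristic_iff_map_le.mpr fun φ => by
    rintro _ ⟨_, ⟨x, hx, rfl⟩, rfl⟩
    exact ⟨_, Subgroup.characteristic_iff_map_le.mp hH ((e.trans φ).trans e.symm) ⟨x, hx, rfl⟩,
      e.apply_symm_apply _⟩
  simpa only [map_eq_bot_iff, map_eq_top_iff] using bwd _ this

end Cfsg.Agent.S5914
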