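import Cfsg.Statements.S0723
import Mathlib
import Cfsg.Agent.H16.Centr
import Cfsg.Agent.S0721
import Cfsg.Agent.S0722

set_option autoImplicit false
open Cfsg

namespace Cfsg.Agent.S0723

open MulAction Subgroup Cfsg.Agent.H16

section
variable {T : Type*} [Group T] [IsSimpleGroup T]

theorem perf (hT : ¬ IsMulCommutative T) : ⁅(⊤ : Subgroup T), (⊤ : Subgroup T)⁆ = ⊤ :=
  (IsSimpleGroup.eq_bot_or_eq_top_of_normal _ inferInstance).resolve_left fun e => hT
    ⟨⟨fun a b => commutatorElement_eq_one_iff_mul_comm.1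
      (mem_bot.1 (e ▸ commutator_mem_commutator (mem_top a) (mem_top b)))⟩⟩

theorem coord (hT : ¬ IsMulCommutative T) {m : ℕ} (f : (Fin m → T) →* T)
    (hf : Function.Surjective f) : ∃ i, ∃ ψ : T ≃* T, ∀ x, f x = ψ (x i) := by
  let g : Fin m → T →* T := fun i => f.comp (MonoidHom.mulSingle (fun _ => T) i)
  have hx : ∀ (S : Finset (Fin m)) (x : Fin m → T), (∀ i ∉ S, x i = 1) →
      (∀ i ∈ S, g i (x i) = 1) → f x = 1 := by
    intro S
    induction S using Finset.induction_on with
    | empty => intro x h _; rw [show x = 1 from funext fun i => h i (by simp), map_one]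
    | insert a S ha ih =>
      intro x h h'
      have := ih (x * (Pi.mulSingle a (x a))⁻¹) (fun i hi => by
        by_cases e : i = a
        · simp [e]
        · simp [e, h i (by simp [e, hi])]) fun i hi => by
        have e : i ≠ a := fun e => ha (e ▸ hi)
        simpa [e] using h' i (by simp [hi])
      rw [map_mul, map_inv, mul_inv_eq_one] at this
      exact this.trans (h' a (by simp))
  have su : ∀ i t, g i t ≠ 1 → Function.Surjective (g i) := fun i t ht => by
    have : (g i).range.Normal := ⟨by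
      rintro _ ⟨s, rfl⟩ u
      obtain ⟨y, rfl⟩ := hf u
      refine ⟨y i * s * (y i)⁻¹, ?_⟩
      simp only [g, MonoidHom.comp_apply, ← map_inv, ← map_mul]
      congr 1
      ext j
      by_cases e : j = i
      · simp [e]
      · simp [e]⟩
    exact MonoidHom.range_eq_top.1 ((IsSimpleGroup.eq_bot_or_eq_top_of_normal _ this).resolve_left
      fun e => ht (mem_bot.1 (e ▸ ⟨t, rfl⟩)))
  obtain ⟨i, t, ht⟩ : ∃ i t, g i t ≠ 1 := by
    by_contra! h
    obtain ⟨u, hu⟩ := exists_ne (1 : T)
    obtain ⟨y, rfl⟩ := hf u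
    exact hu (hx Finset.univ y (by simp) fun i _ => h i _)
  have ot : ∀ j ≠ i, ∀ s, g j s = 1 := fun j hj s => by
    by_contra hs
    refine hT ⟨⟨fun a b => ?_⟩⟩
    obtain ⟨a, rfl⟩ := su i t ht a
    obtain ⟨b, rfl⟩ := su j s hs b
    simp only [g, MonoidHom.comp_apply, ← map_mul]
    exact congrArg f (Pi.mulSingle_commute (f := fun _ => T) hj.symm a b).eq
  have inj : Function.Injective (g i) := (MonoidHom.ker_eq_bot_iff _).1
    ((IsSimpleGroup.eq_bot_or_eq_top_of_normal _ inferInstance).resolve_right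
      fun e => ht (MonoidHom.mem_ker.1 (e ▸ mem_top t)))
  refine ⟨i, MulEquiv.ofBijective (g i) ⟨inj, su i t ht⟩, fun x => ?_⟩
  have := hx {i}ᶜ (x * (Pi.mulSingle i (x i))⁻¹) (fun j hj => by simp_all)
    fun j hj => ot j (by simpa using hj) _
  rwa [map_mul, map_inv, mul_inv_eq_one] at this

theorem sep (hT : ¬ IsMulCommutative T) {D ι : Type*} [Group D] (p : ι → D →* T)
    (hp : ∀ i, Function.Surjective (p i)) (r : ι) (S : Finset ι)
    (h : ∀ s ∈ S, (p s).ker ≠ (p r).ker) : (⨅ s ∈ S, (p s).ker).map (p r) = ⊤ := by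
  classical
  induction S using Finset.induction_on with
  | empty => simpa using map_top_of_surjective _ (hp r)
  | insert a S ha ih =>
    have h1 : (p a).ker.map (p r) = ⊤ := by
      refine (IsSimpleGroup.eq_bot_or_eq_top_of_normal _
        ((inferInstance : (p a).ker.Normal).map _ (hp r))).resolve_left fun e => h a (by simp) ?_
      have le := (Subgroup.map_eq_bot_iff _).1 e
      refine le_antisymm le ((Subgroup.map_eq_bot_iff _).1 ((IsSimpleGroup.eq_bot_or_eq_top_of_normal _
        ((inferInstance : (p r).ker.Normal).map _ (hp a))).resolve_right fun e' => ?_))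
      obtain ⟨u, hu⟩ := exists_ne (1 : T)
      obtain ⟨y, rfl⟩ := hp r u
      obtain ⟨z, hz, e⟩ : p a y ∈ (p r).ker.map (p a) := e' ▸ mem_top _
      have := le (show z⁻¹ * y ∈ (p a).ker by simp [e])
      exact hu (by simpa [show p r z = 1 from hz] using this)
    have : (⨅ s ∈ S, (p s).ker).Normal :=
      ⟨fun n hn g => by simp only [mem_iInf] at hn ⊢; exact fun s hs => by simp [MonoidHom.mem_ker.1 (hn s hs)]⟩
    rw [Finset.iInf_insert, eq_top_iff, ← perf hT]
    nth_rw 1 [← h1, ← ih fun s hs => h s (by simp [hs])]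
    rw [← map_commutator]
    exact map_mono (commutator_le_inf _ _)

end

/-- The core of the O'Nan–Scott Theorem. Let `H` be a primitive permutation group on a finite set whose unique minimal normal subgroup `N` is non-abelian, and `K` a point stabiliser. Then there are a non-abelian simple group `T` and an isomorphism `N ≃* T^m` (`m ≥ 1`) under which `K ⊓ N` becomes either a product `∏ K_i` of proper subgroups `K_i < T`, or the set of functions constant on each block of a partition of the index set into blocks of one common size `k ≥ 2`. -/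
theorem result {α : Type*} [Finite α] (H : Subgroup (Equiv.Perm α)) [MulAction.IsPreprimitive H α] (N : Subgroup H) [N.Normal] (hN : N ≠ ⊥) (hmin : ∀ M : Subgroup H, M.Normal → M ≤ N → M = ⊥ ∨ M = N) (huniq : ∀ L : Subgroup H, L.Normal → L ≠ ⊥ → (∀ M : Subgroup H, M.Normal → M ≤ L → M = ⊥ ∨ M = L) → L = N) (hnab : ¬ IsMulCommutative N) (a : α) : ∃ (T : Type) (_ : Group T) (m : ℕ) (e : N ≃* (Fin m → T)), IsSimpleGroup T ∧ ¬ IsMulCommutative T ∧ 0 < m ∧ ((∃ K : Fin m → Subgroup T, (∀ i, K i ≠ ⊤) ∧ ∀ n : N, (n : H) ∈ MulAction.stabilizer H a ↔ ∀ i, e n i ∈ K i) ∨ (∃ (k : ℕ) (c : Fin m → Fin m), 2 ≤ k ∧ (∀ j : Fin m, Nat.card {i : Fin m // c i = j} = k ∨ Nat.card {i : Fin m // c i = j} = 0) ∧ ∀ n : N, (n : H) ∈ MulAction.stabilizer H a ↔ ∀ i j : Fin m, c i = c j → e n i = e n j)) := by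
  obtain ⟨T, _, m, hT, hm, ⟨e⟩⟩ := S0721.result N hN hmin
  have nab : ¬ IsMulCommutative T := fun h => hnab ⟨⟨fun a b => e.injective (by
    rw [map_mul, map_mul]; exact funext fun i => h.is_comm.comm _ _)⟩⟩
  have := normal_trans (α := α) N hN
  set K := stabilizer H a
  have : ∀ (h : H) (j : Fin m), ∃ i, ∃ ψ : T ≃* T, ∀ n : N,
      e (MulAut.conjNormal h n) j = ψ (e n i) := fun h j => by
    obtain ⟨i, ψ, hψ⟩ := coord nab ((Pi.evalMonoidHom (fun _ => T) j).comp
      ((e.symm.trans (MulAut.conjNormal h)).trans e).toMonoidHom)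
      ((Function.surjective_eval j).comp ((e.symm.trans (MulAut.conjNormal h)).trans e).surjective)
    exact ⟨i, ψ, fun n => by simpa using hψ (e n)⟩
  choose σ ψ hψ using this
  obtain ⟨u, hu⟩ := exists_ne (1 : T)
  have cK : ∀ k ∈ K, ∀ n : N, (n : H) ∈ K → (MulAut.conjNormal k n : H) ∈ K :=
    fun k hk n hn => K.mul_mem (K.mul_mem hk hn) (K.inv_mem hk)
  have nr : ∀ X : Subgroup N, ∀ k : H, (∀ n ∈ X, MulAut.conjNormal k n ∈ X) →
      k ∈ normalizer (X.map N.subtype : Set H) := fun X k h => mem_normalizer_fintype (by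
    rintro _ ⟨n, hn, rfl⟩; exact ⟨_, h n hn, rfl⟩)
  have tr : ∀ S : Set (Fin m), (∀ k ∈ K, ∀ i ∈ S, σ k i ∈ S) → ∀ i ∈ S, ∀ j, j ∈ S := by
    intro S hS i hi j
    let Y : Subgroup N := ⨅ i ∈ S, ((Pi.evalMonoidHom (fun _ => T) i).comp e.toMonoidHom).ker
    have mY : ∀ n, n ∈ Y ↔ ∀ i ∈ S, e n i = 1 := fun n => by simp only [Y, mem_iInf]; rfl
    have nY : (Y.map N.subtype).Normal := by
      rw [← normalizer_eq_top_iff, eq_top_iff, ← sup_stabilizer_eq_top N a]
      refine sup_le (fun k hk => nr Y k fun n hn => (mY _).2 fun i hi => ?_)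
        fun k hk => nr Y k fun n hn => (mY _).2 fun i hi => ?_
      · rw [show MulAut.conjNormal k n = ⟨k, hk⟩ * n * ⟨k, hk⟩⁻¹ from rfl]
        simp [(mY n).1 hn i hi]
      · rw [hψ, (mY n).1 hn _ (hS k hk i hi), map_one]
    by_contra hj
    rcases hmin _ nY (map_subtype_le Y) with h | h
    · have : e.symm (Pi.mulSingle j u) ∈ Y := (mY _).2 fun l hl => by
        have : l ≠ j := fun e => hj (e ▸ hl)
        simp [this]
      rw [(map_eq_bot_iff_of_injective _ N.subtype_injective).1 h, mem_bot] at this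
      exact hu (by simpa using congrFun (congrArg e this) j)
    · obtain ⟨y, hy, e'⟩ := h.ge (e.symm (Pi.mulSingle i u)).2
      have := (mY y).1 hy i hi
      rw [show y = _ from Subtype.ext e'] at this
      exact hu (by simpa using this)
  let D := K.subgroupOf N
  let p : Fin m → D →* T :=
    fun i => ((Pi.evalMonoidHom (fun _ => T) i).comp e.toMonoidHom).comp D.subtype
  have nK : ¬ ∀ n : N, (n : H) ∈ K := fun h =>
    hN (normal_le_stabilizer_eq_bot (α := α) (a := a) N fun n hn => h ⟨n, hn⟩)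
  by_cases hp : ∀ i, Function.Surjective (p i)
  swap
  · push Not at hp
    obtain ⟨i0, hi0⟩ := hp
    have pr : ∀ i, (p i).range ≠ ⊤ := tr {i | (p i).range ≠ ⊤} (fun k hk i hi h => hi (by
      refine eq_top_iff.2 fun t _ => ?_
      obtain ⟨d, hd⟩ : (ψ k i).symm t ∈ (p (σ k i)).range := h ▸ mem_top _
      exact ⟨⟨_, cK k hk d d.2⟩, (hψ k i d).trans (by rw [show e d (σ k i) = _ from hd]; simp)⟩))
      i0 (mt MonoidHom.range_eq_top.1 hi0)
    refine ⟨T, inferInstance, m, e, hT, nab, hm, .inl ⟨fun i => (p i).range, pr, fun n =>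
      ⟨fun h i => ⟨⟨n, h⟩, rfl⟩, fun h => ?_⟩⟩⟩
    let X : Subgroup N := (Subgroup.pi Set.univ fun i => (p i).range).comap e.toMonoidHom
    have mX : ∀ n, n ∈ X ↔ ∀ i, e n i ∈ (p i).range := fun n => by simp [X, mem_pi]
    rcases S0722.result H N hN hmin a (X.map N.subtype) (map_subtype_le X)
      (fun x hx => ⟨⟨x, hx.2⟩, (mX _).2 fun i => ⟨⟨⟨x, hx.2⟩, hx.1⟩, rfl⟩, rfl⟩)
      (fun k hk => nr X k fun n hn => (mX _).2 fun i => by
        obtain ⟨d, hd⟩ := (mX n).1 hn (σ k i)
        exact ⟨⟨_, cK k hk d d.2⟩, (hψ k i d).trans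
          (by rw [show e d (σ k i) = _ from hd, hψ])⟩) with h' | h'
    · exact (h'.le ⟨n, (mX n).2 h, rfl⟩).1
    · refine absurd (eq_top_iff.2 fun t _ => ?_) (pr i0)
      obtain ⟨y, hy, e'⟩ := h'.ge (e.symm fun _ => t).2
      have := (mX y).1 hy i0
      rw [show y = _ from Subtype.ext e'] at this
      simpa using this
  classical
  have : Nonempty (Fin m) := ⟨⟨0, hm⟩⟩
  obtain ⟨c, c1, c2⟩ : ∃ c : Fin m → Fin m, (∀ i, (p (c i)).ker = (p i).ker) ∧
      ∀ i j, (p i).ker = (p j).ker → c i = c j :=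
    ⟨fun i => Function.invFunOn (fun j => (p j).ker) Set.univ (p i).ker,
      fun i => Function.invFunOn_eq (f := fun j => (p j).ker) ⟨i, Set.mem_univ _, rfl⟩,
      fun i j h => by simp only [h]⟩
  have : ∀ i, ∃ τ : T ≃* T, ∀ d, τ (p i d) = p (c i) d := fun i =>
    ⟨(QuotientGroup.quotientKerEquivOfSurjective _ (hp i)).symm.trans
      ((QuotientGroup.quotientMulEquivOfEq (c1 i).symm).trans
        (QuotientGroup.quotientKerEquivOfSurjective _ (hp (c i)))), fun d => by
      have : (QuotientGroup.quotientKerEquivOfSurjective _ (hp i)).symm (p i d) = d :=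
        (MulEquiv.symm_apply_eq _).2 rfl
      rw [MulEquiv.trans_apply, this]; rfl⟩
  choose τ hτ using this
  have on : ∀ (y : Fin m → T) (S : Finset (Fin m)), (∀ i ∈ S, c i = i) →
      ∃ d, ∀ i ∈ S, p i d = y i := by
    intro y S
    induction S using Finset.induction_on with
    | empty => exact fun _ => ⟨1, by simp⟩
    | insert r S hr ih =>
      intro h
      obtain ⟨d, hd⟩ := ih fun i hi => h i (by simp [hi])
      obtain ⟨z, hz, e'⟩ : (p r d)⁻¹ * y r ∈ (⨅ s ∈ S, (p s).ker).map (p r) :=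
        (sep nab p hp r S fun s hs e' => hr (by
          rw [← h r (by simp), ← c2 s r e', h s (by simp [hs])]; exact hs)) ▸ mem_top _
      refine ⟨d * z, fun i hi => ?_⟩
      rcases Finset.mem_insert.1 hi with rfl | hi
      · rw [map_mul, e', mul_inv_cancel_left]
      · simp only [SetLike.mem_coe, mem_iInf] at hz
        rw [map_mul, hd i hi, show p i z = 1 from hz i hi, mul_one]
  have main : ∀ n : N, (n : H) ∈ K ↔ ∀ i j, c i = c j → τ i (e n i) = τ j (e n j) := fun n => by
    refine ⟨fun h i j hij => (hτ i ⟨n, h⟩).trans (hij ▸ (hτ j ⟨n, h⟩).symm), fun h => ?_⟩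
    obtain ⟨d, hd⟩ := on (fun i => τ i (e n i)) (Finset.univ.filter fun i => c i = i) (by simp)
    have : (d : N) = n := e.injective (funext fun i => (τ i).injective (by
      have cc : c (c i) = c i := c2 _ _ (c1 i)
      exact (hτ i d).trans ((hd (c i) (by simp [cc])).trans (h _ _ cc))))
    exact this ▸ d.2
  let s : Fin m → ℕ := fun i => Nat.card {j // c j = c i}
  obtain ⟨i0, -, mx⟩ := Finset.exists_max_image Finset.univ s ⟨⟨0, hm⟩, by simp⟩
  have eq : ∀ i, s i = s i0 := tr {i | s i = s i0} (fun k hk i hi => by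
    refine le_antisymm (mx _ (by simp)) (hi.ge.trans ?_)
    have kr : ∀ j (d : D), p (σ k j) d = 1 ↔ p j ⟨_, cK k hk d d.2⟩ = 1 := fun j d => by
      rw [show p j ⟨_, cK k hk d d.2⟩ = _ from hψ k j d, map_eq_one_iff _ (ψ k j).injective]; rfl
    refine Nat.card_le_card_of_injective (fun j => ⟨σ k j, c2 _ _ (Subgroup.ext fun d => ?_)⟩)
      fun j l h => Subtype.ext ?_
    · rw [MonoidHom.mem_ker, MonoidHom.mem_ker, kr, kr, ← MonoidHom.mem_ker, ← MonoidHom.mem_ker,
        ← c1 j, j.2, c1]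
    · by_contra hne
      have h1 := hψ k j ((MulAut.conjNormal k).symm (e.symm (Pi.mulSingle j u)))
      have h2 := hψ k l ((MulAut.conjNormal k).symm (e.symm (Pi.mulSingle j u)))
      rw [MulEquiv.apply_symm_apply, MulEquiv.apply_symm_apply] at h1 h2
      rw [Pi.mulSingle_eq_of_ne' hne, eq_comm, map_eq_one_iff _ (ψ k l).injective,
        ← show σ k j = σ k l from congrArg Subtype.val h] at h2
      rw [h2, map_one, Pi.mulSingle_eq_same] at h1
      exact hu h1) i0 rfl
  refine ⟨T, inferInstance, m, e.trans (MulEquiv.piCongrRight τ), hT, nab, hm,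
    .inr ⟨s i0, c, ?_, fun j => ?_, main⟩⟩
  · by_contra hlt
    refine nK fun n => (main n).2 fun i j hij => ?_
    have : Subsingleton {l // c l = c j} := Finite.card_le_one_iff_subsingleton.1
      ((eq j).trans_le (by omega))
    rw [show i = j from congrArg Subtype.val (this.elim ⟨i, hij⟩ ⟨j, rfl⟩)]
  · by_cases h : ∃ i, c i = j
    · obtain ⟨i, rfl⟩ := h
      exact .inl (eq i)
    · exact .inr (Nat.card_eq_zero.2 (.inl ⟨fun i => h ⟨i, i.2⟩⟩))

end Cfsg.Agent.S0723
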