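import Cfsg.Statements.S2604
import Mathlib
import Cfsg.Agent.H11.OOut3

set_option autoImplicit false
open Cfsg

namespace Cfsg.Agent.S2604

/-- Outer automorphism group of the simple orthogonal group Ω_(2m+1)(q), m ≥ 3, q = p^f odd: it is the direct product of a group of order 2 (diagonal automorphisms, from SO) and a cyclic group of order f (field automorphisms). -/
theorem result {F : Type*} [Field F] [Fintype F] {p f m : ℕ} [Fact p.Prime] (hf : 1 ≤ f) (hF : Fintype.card F = p ^ f) (hp : p ≠ 2) (hm : 3 ≤ m) : Nonempty (Cfsg.Out (Cfsg.POmega F (Cfsg.quadFormOdd m F)) ≃* Multiplicative (ZMod 2 × ZMod f)) := by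
  have : CharP F p := charP_of_card_eq_prime_pow hF
  have h2 : (2 : F) ≠ 0 := fun h => hp ((Nat.prime_dvd_prime_iff_eq Fact.out Nat.prime_two).mp
    ((CharP.cast_eq_zero_iff F p 2).mp (by exact_mod_cast h)))
  have h := H11.isQuad_odd m F
  have hB := H11.bOdd_sep m h2
  have hω := h.isOut hB (by simp; omega)
  have ho : Odd (Module.finrank F (Unit ⊕ (Fin m ⊕ Fin m) → F)) := ⟨m, by simp; omega⟩
  obtain ⟨v, hv⟩ := h.exists_nonsingular' hB ho.pos
  obtain ⟨e⟩ := hω.prod_equiv_of_sq hB (h.outBar_surjective (H11.oBar_surjective_odd h2 hm))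
    (h.nonExc_of_two_ne_zero hB h2) ho.pos (fun γ => H11.IsQuad.isSquare_mult_of_odd hB ho)
    (h.fieldHom (H11.field_odd m)) (fun _ => rfl) fun ρ => by simp [h.mult_fieldHom _ hv]
  obtain ⟨e2⟩ := H10.nonempty_ringAut_equiv hF
  have h3 := hω.card_soMap hB h2 (by simp; omega) (by rw [h.dick_negI_of_odd hB ho]; simp)
  rw [← hω.map_sim_of_odd hB ho] at h3
  exact ⟨e.trans (((mulEquivOfPrimeCardEq (p := 2) h3 (by simp)).prodCongr e2).trans
    (MulEquiv.prodMultiplicative _ _).symm)⟩

end Cfsg.Agent.S2604
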