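import Cfsg.Statements.S0214
import Mathlib
import Cfsg.Agent.H20.SE

set_option autoImplicit false
open Cfsg

namespace Cfsg.Agent.S0214

open Cfsg.Agent.H20

/-- Let H be a proper subgroup of the finite group G and P a nontrivial Sylow 2-subgroup of H. Then H is strongly embedded in G if and only if N_G(X) ≤ H for every nontrivial subgroup X of P. -/
theorem result {G : Type*} [Group G] [Finite G] (H : Subgroup G) (hH : H ≠ ⊤) (P : Sylow 2 ↥H) (hP : (P : Subgroup ↥H) ≠ ⊥) : Cfsg.IsStronglyEmbedded H ↔ (∀ X : Subgroup ↥H, X ≤ (P : Subgroup ↥H) → X ≠ ⊥ → Subgroup.normalizer ((X.map H.subtype : Subgroup G) : Set G) ≤ H) := by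
  have hR := H18.sylIn_map_subtype P
  constructor
  · intro h X hX hX1
    refine se_normalizer_le h (Subgroup.map_subtype_le _) ?_
    rw [Subgroup.card_map_of_injective H.subtype_injective]
    rcases (P.2.to_le hX).card_eq_or_dvd with h1 | h1
    · exact absurd (Subgroup.card_eq_one.mp h1) hX1
    · exact even_iff_two_dvd.mpr h1
  · intro h
    refine isStronglyEmbedded_of_normalizer_le hH hR
      (fun h1 => hP ((Subgroup.map_eq_bot_iff_of_injective _ H.subtype_injective).mp h1)) ?_
    intro X hX hX1
    have e : (X.subgroupOf H).map H.subtype = X :=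
      Subgroup.map_subgroupOf_eq_of_le (hX.trans hR.le)
    rw [← e] at hX hX1 ⊢
    exact h _ ((Subgroup.map_le_map_iff_of_injective H.subtype_injective).mp hX)
      (fun h1 => hX1 (by rw [h1, Subgroup.map_bot]))

end Cfsg.Agent.S0214
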