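import Cfsg.Statements.S0454
import Cfsg.Agent.H15.Ly.Z
-- import your own Cfsg.Agent.* helpers here

set_option autoImplicit false
open Cfsg

namespace Cfsg.Agent.S0454
open Cfsg.Agent.H15 Cfsg.Agent.H14

/-- Existence of the Lyons group: there is a transitive permutation group of degree 8835156, simple of order 51765179004000000, whose point stabiliser is simple of the order of a group of type G2, and which has an involution whose centraliser is a non-split double cover of the alternating group of degree 11. -/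
theorem result : ∃ H : Subgroup (Equiv.Perm (Fin 8835156)), Cfsg.IsLy H ∧ MulAction.IsPretransitive H (Fin 8835156) ∧ Cfsg.IsG2 (MulAction.stabilizer H (0 : Fin 8835156)) ∧ ∃ t : H, orderOf t = 2 ∧ Cfsg.IsNonsplitDoubleCover (Subgroup.centralizer ({t} : Set H)) (alternatingGroup (Fin 11)) := by
  have := Ly.simple
  obtain ⟨H, ⟨e⟩, h1, ⟨s⟩⟩ := exists_perm_real Ly.φ.range Ly.fin.2.2.1 (by norm_num)
  exact ⟨H, ⟨e.symm.isSimpleGroup, (Nat.card_congr e.symm.toEquiv).trans Ly.fin.2.1⟩, h1,
    ⟨(s.trans (MonoidHom.ofInjective Ly.fin.2.2.2.2.1).symm).isSimpleGroup, 5, Nat.prime_five.isPrimePow, by norm_num,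
      (Nat.card_congr s.toEquiv).trans Ly.fin.2.2.2.1⟩, e (Ly.φ (lprod Ly.A.e Ly.gT)),
    (e.orderOf_eq _).trans ((orderOf_injective _ Ly.fin.2.2.2.2.1 _).trans Ly.alo.2),
    cen_nonsplit e Ly.ψ_inj Ly.all Ly.ale Ly.al Ly.cenT (center_alt (by norm_num)).2 (lprod_repL [0, 2] 2) Ly.alo.1⟩

end Cfsg.Agent.S0454
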