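import Cfsg.Statements.S0473
import Cfsg.Agent.H15.He24

set_option autoImplicit false
open Cfsg

namespace Cfsg.Agent.S0473
open Cfsg.Agent.H15 Cfsg.Agent.H14

/-- The largest Fischer 3-transposition group: a group of order 2 · 1255205709190661721292800 generated by a conjugacy class of 306936 3-transpositions, in which a transposition centraliser has order 2 · 4089470473293004800 and contains a simple subgroup of order 4089470473293004800; its subgroup of index 2 is simple and contains simple subgroups of orders 4089470473293004800 and 4030387200. -/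
theorem result : ∃ (G : Type) (_ : Group G) (_ : Finite G), Nat.card G = 2 * 1255205709190661721292800 ∧ ∃ D : Set G, Cfsg.IsThreeTranspositionClass D ∧ Nat.card D = 306936 ∧ (∀ d ∈ D, Nat.card (Subgroup.centralizer ({d} : Set G)) = 2 * 4089470473293004800 ∧ ∃ K : Subgroup G, K ≤ Subgroup.centralizer ({d} : Set G) ∧ Cfsg.IsFi23 K) ∧ ∃ H : Subgroup G, H.index = 2 ∧ Cfsg.IsFi24' H ∧ (∃ K : Subgroup H, Cfsg.IsFi23 K) ∧ (∃ K : Subgroup H, Cfsg.IsHe K) := by
  obtain ⟨M, -, -⟩ := X24.exists_model
  obtain ⟨ψ, hψ⟩ := He24.exists_he M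
  obtain ⟨χ, hχ, e⟩ := Fi24.exists_f23
  have := He.simple
  have := Fi23.simple
  have a : χ.range ≤ Subgroup.centralizer {Fi24.E 11} := by
    rw [MonoidHom.range_eq_map, Subgroup.map_le_iff_le_comap, top_le_iff, eq_top_iff, ← Fi23.top]
    refine gp_le.mpr fun w hw => lprod_mem fun l hl => ?_
    have h : l < 10 := okW_iff.mp (okS_iff.mp (show okS 10 Fi23.all = true by decide +kernel) w hw) l hl
    rw [Subgroup.mem_comap, e l h]
    refine mul_mem (Fi24.hs_le ?_) (Subgroup.mem_centralizer_singleton_iff.mpr rfl)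
    simpa using mem_gp (E := Fi24.E) (memW_true (allLt_iff.mp
      (show allLt 10 (fun l => memW Fi24.hs [l]) = true by decide +kernel) l h))
  refine ⟨_, _, inferInstance, Fi24.card, _, Fi24.three_class, Fi24.card_class, fun d hd => ?_, _,
    Fi24.index_commutator, ⟨Fi24.simple', Fi24.card_commutator⟩, ?_, ?_⟩
  · obtain ⟨f⟩ := centralizer_equiv_of_conj hd
    refine ⟨by rw [Nat.card_congr f.toEquiv, Fi24.cent_l, Fi24.card_hs], ?_⟩
    have i : Function.Injective (((Subgroup.subtype _).comp f.symm.toMonoidHom).comp (χ.codRestrict _ fun x => a ⟨x, rfl⟩)) :=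
      (Subtype.val_injective.comp f.symm.injective).comp fun x y h => hχ (congrArg Subtype.val h)
    have e2 := MonoidHom.ofInjective i
    exact ⟨_, by rintro _ ⟨x, rfl⟩; exact (f.symm _).2, e2.symm.isSimpleGroup,
      (Nat.card_congr e2.symm.toEquiv).trans Fi23.card⟩
  · obtain ⟨K, a1, a2⟩ := simple_sub hχ (range_le_commutator (by rw [Fi23.card]; norm_num) χ)
    exact ⟨K, a1, a2.trans Fi23.card⟩
  · obtain ⟨K, a1, a2⟩ := simple_sub hψ (range_le_commutator (by rw [He.card]; norm_num) ψ)
    exact ⟨K, a1, a2.trans He.card⟩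

end Cfsg.Agent.S0473
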