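import Cfsg.Statements.S0647
import Mathlib
import Cfsg.Agent.H5.ZJ

set_option autoImplicit false
open Cfsg

namespace Cfsg.Agent.S0647

open Subgroup Cfsg.Agent.H18 Cfsg.Agent.H22 Cfsg.Agent.H5b
open scoped commutatorElement

/-- For a nonempty family of maximal abelian subgroups of a finite group, the intersection of the family is the centre of the subgroup it generates, which is also the full centralizer of that subgroup. -/
theorem result {S : Type*} [Group S] [Finite S] (𝒜 : Set (Subgroup S)) (hne : 𝒜.Nonempty) (hab : ∀ A ∈ 𝒜, IsMulCommutative A) (hmax : ∀ A ∈ 𝒜, ∀ B : Subgroup S, IsMulCommutative B → A ≤ B → B = A) : sInf 𝒜 = sSup 𝒜 ⊓ Subgroup.centralizer ((sSup 𝒜 : Subgroup S) : Set S) ∧ sInf 𝒜 = Subgroup.centralizer ((sSup 𝒜 : Subgroup S) : Set S) := by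
  have h1 : sInf 𝒜 ≤ C[sSup 𝒜] := le_centralizer_iff.1
    (sSup_le fun A hA => (isMulComm_iff.1 (hab A hA)).trans (C_anti (sInf_le hA)))
  have h2 : C[sSup 𝒜] ≤ sInf 𝒜 := le_sInf fun A hA x hx => by
    have := hmax A hA _ (H3.isMulCommutative_sup_zpowers (hab A hA) (C_anti (le_sSup hA) hx))
      le_sup_left
    exact this.le (mem_sup_right (mem_zpowers x))
  obtain ⟨A, hA⟩ := hne
  exact ⟨le_antisymm (le_inf ((sInf_le hA).trans (le_sSup hA)) h1) (inf_le_right.trans h2),
    le_antisymm h1 h2⟩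

end Cfsg.Agent.S0647
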