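import Cfsg.Statements.S0655
import Mathlib
import Cfsg.Agent.H5.ZJ

set_option autoImplicit false
open Cfsg

namespace Cfsg.Agent.S0655

open Subgroup Cfsg.Agent.H18 Cfsg.Agent.H22 Cfsg.Agent.H5b
open scoped commutatorElement

/-- In a p-group the intersection of all elementary abelian subgroups of largest order is the subgroup generated by the elements of order dividing p in the centre (equivalently the centralizer) of the elementary-version Thompson subgroup. -/
theorem result {S : Type*} [Group S] [Finite S] {p : ℕ} [Fact p.Prime] (hS : IsPGroup p S) : sInf (Cfsg.maxElementaryAbelianSubgroups p S) = Cfsg.omegaCenterThompson p S ∧ Cfsg.omegaCenterThompson p S = Cfsg.omegaOne p (Subgroup.centralizer (Cfsg.thompsonSubgroup p S : Set S)) := by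
  rw [omegaCenterThompson_eq, ← Jn_top]
  obtain ⟨A, hA⟩ := exists_maxAb p (⊤ : Subgroup S)
  constructor
  · apply le_antisymm
    · have h1 := sInf_le (maxAb_top_iff.1 hA)
      refine le_omegaOne (le_inf (h1.trans hA.le_Jn) (le_centralizer_iff.1
        (Jn_le_iff.2 fun B hB => hB.le_C.trans (C_anti (sInf_le (maxAb_top_iff.1 hB))))))
        fun a ha => hA.ab.2 a (h1 ha)
    · exact le_sInf fun B hB => omega_ZJn_le (maxAb_top_iff.2 hB)
  · exact le_antisymm (omegaOne_mono inf_le_right) (omegaOne_le_iff.2 fun x hx hn =>
      mem_omegaOne ⟨mem_Jn_of_C (mem_top x) hn hx, hx⟩ hn)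

end Cfsg.Agent.S0655
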