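import Cfsg.Statements.S0692
import Mathlib
import Cfsg.Agent.S0691

set_option autoImplicit false
open Cfsg

namespace Cfsg.Agent.S0692

open S0691

/-- the elements -/
def L : List T := [
  (4,4,4,7), (4,7,7,7), (8,2,6,3), (4,6,10,7), (7,4,4,4), (9,8,8,6), (10,7,7,5), (7,8,8,3),
  (2,2,2,8), (5,4,4,10), (7,7,7,4), (6,3,3,9), (3,9,5,8), (7,5,1,4), (8,6,2,3), (4,10,6,7),
  (3,7,8,8), (9,2,3,2), (8,3,4,3), (2,8,9,9), (2,3,3,5), (6,7,7,1), (3,10,0,4), (5,8,8,2),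
  (1,4,4,6), (4,3,3,8), (9,9,9,3), (1,3,7,0), (8,8,8,4), (3,2,2,9), (0,4,8,1), (6,2,1,6),
  (4,1,0,3), (2,6,5,10), (3,5,9,8), (7,1,5,4), (8,4,3,3), (2,9,8,9), (8,1,0,7), (3,8,7,8),
  (9,3,2,2), (7,0,10,8), (9,6,5,1), (10,4,8,0), (5,2,1,5), (1,6,5,9), (0,3,7,10), (5,10,9,5),
  (10,8,4,0), (3,3,3,7), (8,9,9,2), (0,7,3,10), (5,9,10,5), (7,10,0,8), (9,5,6,1), (5,1,2,5),
  (8,0,1,7), (1,5,6,9), (0,9,6,4), (10,1,9,1), (5,6,3,6), (4,5,2,0), (4,0,1,3), (2,5,6,10),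
  (1,7,3,0), (6,9,10,6), (10,5,6,2), (0,8,4,1), (6,1,2,6), (2,0,7,6), (10,10,10,9), (5,5,5,3),
  (6,4,0,2), (9,1,1,10), (3,6,6,5), (2,7,0,6), (6,10,9,6), (3,0,10,4), (10,6,5,2), (0,2,5,7),
  (1,10,2,10), (6,5,8,5), (7,6,9,0), (10,9,1,1), (5,3,6,6), (4,2,5,0), (2,1,4,8), (0,6,9,4),
  (9,0,4,5), (1,1,1,2), (6,6,6,8), (5,7,0,9), (2,10,10,1), (8,5,5,6), (9,4,0,5), (10,2,3,4),
  (5,0,7,9), (4,8,9,10), (8,10,7,2), (1,2,10,10), (6,8,5,5), (7,9,6,0), (9,10,7,3), (0,5,2,7),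
  (3,4,1,9), (1,8,9,7), (7,2,3,1), (1,9,8,7), (6,0,4,2), (7,3,2,1), (3,1,4,9), (9,7,10,3),
  (0,1,10,0), (8,7,10,2), (10,3,2,4), (4,9,8,10), (10,0,0,10), (2,4,1,8), (0,10,1,0), (1,0,0,1)]
theorem chk : reach 11 [(0, 10, 1, 0), (2, 4, 1, 8)] L = true ∧
    clo 11 [(0, 10, 1, 0), (2, 4, 1, 8)] L = true ∧ L.all (fr 11 1) = true := by
  decide +kernel

/-- An exceptional sharply doubly transitive group of degree 11^2: the listed matrices generate a subgroup of GL(2,11) of order 120 acting regularly on the non-zero vectors. -/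
theorem result (A : Matrix.GeneralLinearGroup (Fin 2) (ZMod 11)) (B : Matrix.GeneralLinearGroup (Fin 2) (ZMod 11)) (hA : (A : Matrix (Fin 2) (Fin 2) (ZMod 11)) = !![0, -1; 1, 0]) (hB : (B : Matrix (Fin 2) (Fin 2) (ZMod 11)) = !![2, 4; 1, -3]) : Nat.card (Subgroup.closure ({A, B} : Set (Matrix.GeneralLinearGroup (Fin 2) (ZMod 11)))) = 120 ∧ ∀ v w : Fin 2 → ZMod 11, v ≠ 0 → w ≠ 0 → ∃! h : Subgroup.closure ({A, B} : Set (Matrix.GeneralLinearGroup (Fin 2) (ZMod 11))), Matrix.mulVec ((h : Matrix.GeneralLinearGroup (Fin 2) (ZMod 11)) : Matrix (Fin 2) (Fin 2) (ZMod 11)) v = w := by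
  have : Fact (Nat.Prime 11) := ⟨by norm_num⟩
  obtain ⟨c, h⟩ := enum [A, B] _ (by simp only [List.map, hA, hB]; rfl) S0692.L chk.1 chk.2.1
  rw [show {a | a ∈ [A, B]} = {A, B} by ext; simp] at c h
  exact reg _ c.ge fun a ha => (h a ha).elim fun x hx =>
    ⟨1, x, by rw [Nat.cast_one, one_smul, hx.2], List.all_eq_true.1 chk.2.2 x hx.1⟩

end Cfsg.Agent.S0692
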