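import Cfsg.Statements.S0992
import Cfsg.Agent.H23.Klein4
-- import your own Cfsg.Agent.* helpers here

set_option autoImplicit false
open Cfsg

namespace Cfsg.Agent.S0992

/-- Let G be a non-abelian finite simple group of even order not divisible by 8, and T a Sylow 2-subgroup. Then T is a Klein four-group and the centralizer of T has index 3 in the normalizer of T. -/
theorem result {G : Type*} [Group G] [Finite G] [IsSimpleGroup G] (hG : ¬ IsMulCommutative G) (h2 : Even (Nat.card G)) (h8 : ¬ 8 ∣ Nat.card G) (T : Sylow 2 G) : IsKleinFour ↥(T : Subgroup G) ∧ (Subgroup.centralizer ((T : Subgroup G) : Set G)).relIndex (Subgroup.normalizer ((T : Subgroup G) : Set G)) = 3 := by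
  have hnc : ¬ IsCyclic (T : Subgroup G) := fun hc => by
    obtain ⟨H, hH⟩ := H20.exists_index_two_of_cyclic_sylow h2 T hc
    exact H20.simple_index_ne_two hG H hH
  obtain ⟨k, hk⟩ := IsPGroup.iff_card.mp T.isPGroup'
  have hd : 2 ^ k ∣ Nat.card G := hk ▸ (T : Subgroup G).card_subgroup_dvd_card
  have hk2 : k = 2 := by
    rcases Nat.lt_or_ge k 3 with h | h
    · interval_cases k
      · exact absurd (@isCyclic_of_subsingleton _ _ (Nat.card_eq_one_iff_unique.mp hk).1) hnc
      · exact absurd (isCyclic_of_prime_card (p := 2) hk) hnc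
      · rfl
    · exact absurd ((pow_dvd_pow 2 h).trans hd) h8
  subst hk2
  have hK : IsKleinFour (T : Subgroup G) :=
    ⟨hk, (not_isCyclic_iff_exponent_eq_prime Nat.prime_two hk).mp hnc⟩
  exact ⟨hK, H23.k4_relIndex_three T hK
    (H20.simple_not_normalizer_le_centralizer hG T (even_iff_two_dvd.mp h2))⟩

end Cfsg.Agent.S0992
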