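import Cfsg.Statements.S1154
import Mathlib
import Cfsg.Agent.H13.Re1

set_option autoImplicit false
open Cfsg

namespace Cfsg.Agent.S1154

open Cfsg.Agent.H13

/-- In the small Ree group ²G₂(q), q = 3^(2m+1) with m ≥ 1, realised as G¹ inside the Chevalley group G₂ over the field with q elements (θ the 3^m-th power map), with `U¹ = G¹ ∩ U` (U the positive unipotent subgroup of the ambient G₂): `U¹` has exactly `q² - 1` elements of order 3. -/
theorem result {K : Type*} [Field K] [Fintype K] {m : ℕ} (hm : 1 ≤ m) (hK : Fintype.card K = 3 ^ (2 * m + 1)) :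
    Nat.card {u : ↥(Cfsg.Lie.chevG2.posUnipotent K ⊓ Cfsg.Lie.twistedG2 K (3 ^ m)) // orderOf u = 3} = (3 ^ (2 * m + 1)) ^ 2 - 1 := by
  obtain ⟨S, hm', hU, -⟩ := exists_ReD hK
  have hq : 3 ^ (2 * m + 1) = S.q := by rw [ReD.q, hm']
  rw [hq, ← S.ncard_U_three]
  symm
  refine Nat.card_eq_of_bijective (fun g => ⟨⟨g.1, by
    obtain ⟨t, a, v, e⟩ := g.2.1
    exact (hU _).2 ⟨t, a, v, congrArg Subtype.val e⟩⟩, by
      rw [Subgroup.orderOf_mk, Subgroup.orderOf_coe]; exact g.2.2⟩) ⟨fun g g' h => ?_, ?_⟩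
  · exact Subtype.ext (Subtype.ext (congrArg (fun x => x.1.1) h))
  · rintro ⟨⟨g, hg⟩, h⟩
    obtain ⟨t, a, v, rfl⟩ := (hU g).1 hg
    rw [Subgroup.orderOf_mk, Subgroup.orderOf_coe] at h
    exact ⟨⟨_, S.u_mem t a v, h⟩, rfl⟩

end Cfsg.Agent.S1154
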