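import Cfsg.Statements.S1158
import Mathlib
import Cfsg.Agent.H13.Re5

set_option autoImplicit false
open Cfsg

namespace Cfsg.Agent.S1158

open Cfsg.Agent.H13

/-- In the small Ree group ²G₂(q), q = 3^(2m+1) with m ≥ 1, realised as G¹ inside the Chevalley group G₂ over the field with q elements (θ the 3^m-th power map), with `r = 3^(m+1)` (so `r² = 3q`): for each `k ∈ {(q-1)/2, (q+1)/4, q - r + 1, q + r + 1}` there is a cyclic subgroup `A` of order `k` whose normaliser has order `2(q-1)`, `6(q+1)`, `6(q-r+1)`, `6(q+r+1)` respectively, and `N(A₀) = N(A)` for every non-trivial `A₀ ≤ A`. -/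
theorem result {K : Type*} [Field K] [Fintype K] {m : ℕ} (hm : 1 ≤ m) (hK : Fintype.card K = 3 ^ (2 * m + 1)) :
    ∀ kn ∈ ({((3 ^ (2 * m + 1) - 1) / 2, 2 * (3 ^ (2 * m + 1) - 1)), ((3 ^ (2 * m + 1) + 1) / 4, 6 * (3 ^ (2 * m + 1) + 1)),
        (3 ^ (2 * m + 1) - 3 ^ (m + 1) + 1, 6 * (3 ^ (2 * m + 1) - 3 ^ (m + 1) + 1)),
        (3 ^ (2 * m + 1) + 3 ^ (m + 1) + 1, 6 * (3 ^ (2 * m + 1) + 3 ^ (m + 1) + 1))} : Set (ℕ × ℕ)),
      ∃ A : Subgroup ↥(Cfsg.Lie.twistedG2 K (3 ^ m)), IsCyclic A ∧ Nat.card A = kn.1 ∧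
        Nat.card (Subgroup.normalizer (A : Set ↥(Cfsg.Lie.twistedG2 K (3 ^ m)))) = kn.2 ∧
        ∀ A₀ : Subgroup ↥(Cfsg.Lie.twistedG2 K (3 ^ m)), A₀ ≤ A → A₀ ≠ ⊥ →
          Subgroup.normalizer (A₀ : Set ↥(Cfsg.Lie.twistedG2 K (3 ^ m))) = Subgroup.normalizer (A : Set ↥(Cfsg.Lie.twistedG2 K (3 ^ m))) := by
  obtain ⟨S, hm', -⟩ := exists_ReD hK
  have hq : 3 ^ (2 * m + 1) = S.q := by rw [ReD.q, hm']
  have hr : 3 ^ (m + 1) = S.r := by rw [ReD.r, hm']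
  replace hm : 1 ≤ S.m := hm.trans hm'.ge
  haveI := S.finiteG
  rw [hq, hr]
  obtain ⟨N⟩ := S.nonempty_NT
  rintro _ (rfl | rfl | rfl | rfl)
  · exact ⟨_, (S.isTor_T2 hm).cyc, S.card_T2, S.card_normalizer_T2 hm, fun _ => (S.isTor_T2 hm).normalizer_eq⟩
  · exact ⟨_, (N.isTor_A hm).cyc, N.card_A, N.card_normalizer_A hm, fun _ => (N.isTor_A hm).normalizer_eq⟩
  · obtain ⟨A, h1, -, h2, h3⟩ := S.exists_tori hm (Or.inl rfl)
    exact ⟨A, h1.cyc, h2, h3, fun _ => h1.normalizer_eq⟩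
  · obtain ⟨A, h1, -, h2, h3⟩ := S.exists_tori hm (Or.inr rfl)
    exact ⟨A, h1.cyc, h2, h3, fun _ => h1.normalizer_eq⟩

end Cfsg.Agent.S1158
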