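import Cfsg.Statements.S1159
import Mathlib
import Cfsg.Agent.H13.Re5

set_option autoImplicit false
open Cfsg

namespace Cfsg.Agent.S1159

open Cfsg.Agent.H13

/-- In the small Ree group ²G₂(q), q = 3^(2m+1) with m ≥ 1, realised as G¹ inside the Chevalley group G₂ over the field with q elements (θ the 3^m-th power map), with `r = 3^(m+1)`: a natural number is the order of an element of `G¹` iff it divides one of `6`, `9`, `q - 1`, `(q + 1)/2`, `q - r + 1`, `q + r + 1`. -/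
theorem result {K : Type*} [Field K] [Fintype K] {m : ℕ} (hm : 1 ≤ m) (hK : Fintype.card K = 3 ^ (2 * m + 1)) (d : ℕ) :
    (∃ g : ↥(Cfsg.Lie.twistedG2 K (3 ^ m)), orderOf g = d) ↔
      (d ∣ 6 ∨ d ∣ 9 ∨ d ∣ 3 ^ (2 * m + 1) - 1 ∨ d ∣ (3 ^ (2 * m + 1) + 1) / 2 ∨
        d ∣ 3 ^ (2 * m + 1) - 3 ^ (m + 1) + 1 ∨ d ∣ 3 ^ (2 * m + 1) + 3 ^ (m + 1) + 1) := by
  obtain ⟨S, hm', -⟩ := exists_ReD hK
  have hq : 3 ^ (2 * m + 1) = S.q := by rw [ReD.q, hm']
  have hr : 3 ^ (m + 1) = S.r := by rw [ReD.r, hm']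
  replace hm : 1 ≤ S.m := hm.trans hm'.ge
  haveI := S.finiteG
  rw [hq, hr]
  exact S.exists_orderOf_iff hm d

end Cfsg.Agent.S1159
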