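import Cfsg.Statements.S1249
import Mathlib
import Cfsg.Agent.H20.SE

set_option autoImplicit false
open Cfsg

namespace Cfsg.Agent.S1249

open Cfsg.Agent.H20

/-- Let P and Q be Sylow p-subgroups of the finite group G both containing the subgroup A. If A is strongly closed in P, then A is strongly closed in Q. -/
theorem result {G : Type*} [Group G] [Finite G] {p : ℕ} [Fact p.Prime] (P Q : Sylow p G) (A : Subgroup G) (hAQ : A ≤ Q) (hA : Cfsg.IsStronglyClosed A (P : Subgroup G)) : Cfsg.IsStronglyClosed A (Q : Subgroup G) := by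
  obtain ⟨k, hk⟩ := exists_conj_mem_sylow Q.2 P
  have h1 : k ∈ Subgroup.normalizer (A : Set G) :=
    H22.mem_N_of_cj_le (H22.cj_le_iff'.mpr fun x hx => hA.2 x hx k (hk x (hAQ hx)))
  refine ⟨hAQ, fun x hx g hg => ?_⟩
  have h2 := hA.2 x hx (k * g) (by simpa [mul_assoc] using (show _ ∈ (P : Subgroup G) from hk _ hg))
  have := H22.conj_mem_of_N' h1 h2
  simpa [mul_assoc] using this

end Cfsg.Agent.S1249
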