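import Cfsg.Statements.S1250
import Mathlib
import Cfsg.Agent.H20.SE

set_option autoImplicit false
open Cfsg

namespace Cfsg.Agent.S1250

open Cfsg.Agent.H20

/-- Let S be a Sylow p-subgroup of the finite group G, A ≤ S strongly closed in S, and N a normal subgroup. Then the image of A in G ⧸ N is strongly closed in the image of S (which is a Sylow p-subgroup of G ⧸ N). -/
theorem result {G : Type*} [Group G] [Finite G] {p : ℕ} [Fact p.Prime] (S : Sylow p G) (A : Subgroup G) (hA : Cfsg.IsStronglyClosed A (S : Subgroup G)) (N : Subgroup G) [N.Normal] : Cfsg.IsStronglyClosed (A.map (QuotientGroup.mk' N)) ((S : Subgroup G).map (QuotientGroup.mk' N)) := by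
  refine ⟨Subgroup.map_mono hA.1, ?_⟩
  rintro _ ⟨x, hx, rfl⟩ q ⟨s, hs, hq⟩
  obtain ⟨g, rfl⟩ := QuotientGroup.mk'_surjective N q
  obtain ⟨k, hk⟩ := S.2 ⟨x, hA.1 hx⟩
  have hk' : (g * x * g⁻¹) ^ p ^ k = 1 := by
    have : x ^ p ^ k = 1 := congrArg Subtype.val hk
    rw [conj_pow, this]; simp
  have hmem : g * x * g⁻¹ ∈ (S : Subgroup G) ⊔ N := by
    rw [← map_inv, ← map_mul, ← map_mul, QuotientGroup.mk'_apply, QuotientGroup.mk'_apply,
      QuotientGroup.eq] at hq
    simpa using Subgroup.mul_mem_sup hs hq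
  obtain ⟨c, hc, hc'⟩ := ((H18.sylIn_top S).mono le_sup_left le_top).exists_conj_mem
    (Subgroup.zpowers_le.mpr hmem) (isPGroup_zpowers hk')
  obtain ⟨a, ha, n, hn, rfl⟩ := Subgroup.mem_sup_of_normal_right.mp hc
  have h1 : n * g * x * (n * g)⁻¹ ∈ (S : Subgroup G) := by
    have := mul_mem (mul_mem (inv_mem ha) (hc' _ (Subgroup.mem_zpowers _))) ha
    simpa [mul_assoc] using this
  refine ⟨_, hA.2 x hx _ h1, ?_⟩
  simp [(QuotientGroup.eq_one_iff n).mpr hn]

end Cfsg.Agent.S1250
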