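import Cfsg.Statements.S1251
import Mathlib
import Cfsg.Agent.G75.Defs
import Cfsg.Agent.H2.Balance2
-- import your own Cfsg.Agent.* helpers here

set_option autoImplicit false
open Cfsg

namespace Cfsg.Agent.S1251

open Cfsg.Agent.FT in

/-- Let S be a Sylow 2-subgroup of the finite group G and A ≤ S strongly closed in S. If H is a subgroup normalized by A with no nontrivial normal subgroup of odd order and A ∩ H = 1, then A ≤ C_G(H). -/
theorem result {G : Type*} [Group G] [Finite G] (S : Sylow 2 G) (A : Subgroup G) (hA : Cfsg.IsStronglyClosed A (S : Subgroup G)) (H : Subgroup G) (hAH : A ≤ Subgroup.normalizer (H : Set G)) (hO : Cfsg.oddCore ↥H = ⊥) (hdisj : A ⊓ H = ⊥) : A ≤ Subgroup.centralizer (H : Set G) := by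
  have hS := FT.syl_top Nat.prime_two S
  have hT := G75.sc_of hS hA
  have e := G75.cl_of_sc hA
  obtain ⟨R, hR, k⟩ := (hS.pi.mono hA.1).exists_syl (le_sup_right (a := H))
  intro x hx
  have h1 := hT.zl ⟨1, by simpa using hx⟩ (hAH hx) fun y hy yH => by
    obtain ⟨g, hg, h2⟩ := hR.syl_elt (Subgroup.mem_sup_left yH) (hT.two y hy)
    have h3 := G75.mem_cl (hT.conj y hy g) h2
    rw [hT.cl_eq hS hR.pi (e.le.trans k), e] at h3
    exact conj_eq_one_iff.1 (FT.eq_one_of_mem_inf hdisj h3 ((FT.nml_sup_left hAH).conj_mem hg yH))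
  rw [← FT.oddCore_map, hO, Subgroup.map_bot, le_bot_iff, FT.comm_eq_bot'] at h1
  exact h1 (Subgroup.mem_zpowers x)

end Cfsg.Agent.S1251
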