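import Cfsg.Statements.S1292
import Mathlib
import Cfsg.Agent.H2.Balance3

set_option autoImplicit false
open Cfsg

namespace Cfsg.Agent.S1292

open Cfsg.Agent.FT Subgroup
open scoped commutatorElement

/-- Let G be a finite group such that F*(C_G(t)) = O_2(C_G(t)) for every involution t. Then F*(N_G(T)) = O_2(N_G(T)) for every nontrivial 2-subgroup T of G. -/
theorem result {G : Type*} [Group G] [Finite G] (h : ∀ t : G, orderOf t = 2 → Cfsg.generalizedFittingSubgroup ↥(Subgroup.centralizer ({t} : Set G)) = Cfsg.pCore 2 ↥(Subgroup.centralizer ({t} : Set G))) (T : Subgroup G) (hT : IsPGroup 2 ↥T) (hT1 : T ≠ ⊥) : Cfsg.generalizedFittingSubgroup ↥(Subgroup.normalizer (T : Set G)) = Cfsg.pCore 2 ↥(Subgroup.normalizer (T : Set G)) := by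
  obtain ⟨t, ht, h2⟩ := ((pGrp_of_isPGroup Nat.prime_two hT).inf_left C(T)).exists_elt
    ((pGrp_of_isPGroup Nat.prime_two hT).center_ne_bot hT1)
  have key : ∀ M : Subgroup G, generalizedFittingSubgroup M = pCore 2 M ↔ CharP' 2 M := fun M => by
    rw [charP'_iff, gfit_def, pcore_singleton Nat.prime_two, (map_injective M.subtype_injective).eq_iff]
  have hP := pGrp_of_isPGroup Nat.prime_two hT
  have h1 := ((key _).1 (h t h2)).subcent hP (norms_of_le (le_cen1.2 ht.2))
  rw [inf_eq_right.2 (cen_le_cen1 ht.1), ← top_inf_eq C(T), ← charP'_subnorm_iff hP le_top, top_inf_eq] at h1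
  exact (key _).2 h1

end Cfsg.Agent.S1292
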