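import Cfsg.Statements.S1293
import Mathlib
import Cfsg.Agent.H2.Balance3

set_option autoImplicit false
open Cfsg

namespace Cfsg.Agent.S1293

open Cfsg.Agent.FT Subgroup
open scoped commutatorElement

/-- Let G be finite with L_{p'}(G) = 1, and H = N_G(P) for a nontrivial p-subgroup P. Then L_{p'}(H) = 1 and O_{p'}(H) ≤ O_{p'}(G). -/
theorem result {G : Type*} [Group G] [Finite G] (p : ℕ) [Fact p.Prime] (hL : Cfsg.pLayer p G = ⊥) (P : Subgroup G) (hP : IsPGroup p ↥P) (hP1 : P ≠ ⊥) : Cfsg.pLayer p ↥(Subgroup.normalizer (P : Set G)) = ⊥ ∧ (Cfsg.pPrimeCore p ↥(Subgroup.normalizer (P : Set G))).map (Subgroup.normalizer (P : Set G)).subtype ≤ Cfsg.pPrimeCore p G := by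
  have hp : p.Prime := Fact.out
  have hP' := pGrp_of_isPGroup hp hP
  obtain ⟨h1, h2⟩ := constrained_local ((play_top hp).trans hL) hP' le_top
  rw [top_inf_eq] at h1 h2
  rw [← play_nrm_eq hP', play_eq hp, map_eq_bot_iff_of_injective _ (subtype_injective _)] at h1
  rw [← core_nrm hP', pcore_compl_singleton hp, p'core_top hp] at h2
  exact ⟨h1, h2⟩

end Cfsg.Agent.S1293
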