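import Cfsg.Statements.S1295
import Mathlib
import Cfsg.Agent.H1.SigEq

set_option autoImplicit false
open Cfsg

namespace Cfsg.Agent.S1295

open Cfsg.Agent.FT Subgroup

/-- Let G be finite with O_{p'}(G) = 1 and p-rank at least 3, whose reduced rank-2 commuting graph for p is connected. Suppose that for every element a of order p with m_p(C_G(a)) ≥ 3 the p-layer of C_G(a) is trivial and O_{p'}(C_G(a)) is solvable. Then F*(C_G(a)) = O_p(C_G(a)) for every such a. -/
theorem result {G : Type*} [Group G] [Finite G] (p : ℕ) [Fact p.Prime] (hO : Cfsg.pPrimeCore p G = ⊥) (hrk : ¬ Cfsg.PRankLE p 2 G) (hconn : Cfsg.IsRankGraphConnected p 2 G) (hL : ∀ a : G, (orderOf a = p ∧ ¬ Cfsg.PRankLE p 2 ↥(Subgroup.centralizer ({a} : Set G))) → Cfsg.pLayer p ↥(Subgroup.centralizer ({a} : Set G)) = ⊥ ∧ Group.IsSolvable ↥(Cfsg.centralizerPPrimeCore p a)) (a : G) (ha : (orderOf a = p ∧ ¬ Cfsg.PRankLE p 2 ↥(Subgroup.centralizer ({a} : Set G)))) : Cfsg.generalizedFittingSubgroup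 ↥(Subgroup.centralizer ({a} : Set G)) = Cfsg.pCore p ↥(Subgroup.centralizer ({a} : Set G)) := by
  have hp : p.Prime := Fact.out
  have L : ∀ a : G, (orderOf a = p ∧ ¬ PRankLE p 2 C[a]) → L[p](C[a]) = ⊥ := fun a ha => by
    rw [play_eq hp, (hL a ha).1, Subgroup.map_bot]
  have h := H1.equivariant_trivial hp ((p'core_top hp).trans hO) hconn (fun a => O[{p}ᶜ](C[a]))
    (fun a ha => ⟨pcore_le _ _, (p'grp_iff hp).1 (pcore_pi _ _), cenCore_eq hp a ▸ (hL a ha).2⟩)
    (fun a g _ => by rw [cj_pcore, cj_cen1]) (fun a b ha hb hab => by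
      refine le_trans ?_ (constrained_local (L b hb) (pGrp_zpowers hp ha.1) (zpowers_le.2 (mem_cen1.2 hab))).2
      rw [cen_zpowers]
      exact pcore_max ((pcore_pi _ _).mono inf_le_left) ⟨le_inf inf_le_right (inf_le_left.trans (pcore_le _ _)),
        normsI (inf_le_right.trans (pcore_nml _ _).nrm) (inf_le_left.trans (le_nrm _))⟩) ha
  have := charP'_iff.1 (charP'_iff_core_play.2 (by rw [h, L a ha, bot_sup_eq]))
  rw [← gfit_so, this, so_pcore _ le_rfl, subgroupOf_self, pcore_top' hp]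

end Cfsg.Agent.S1295
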