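import Cfsg.Statements.S1322
import Mathlib
import Cfsg.Agent.H2.Pump

set_option autoImplicit false
open Cfsg

namespace Cfsg.Agent.S1322

open Cfsg.Agent.FT Subgroup
open scoped commutatorElement

/-- Let G be finite with L_{2'}(G) = E(G), t an involution and L ≤ C_G(t) a component of C_G(t). Then there is a component D of G with: L = D; or L < D and D = ⁅D, ⟨t⟩⁆; or tDt⁻¹ ≠ D and L is the layer of C_{D ⊔ tDt⁻¹}(t). -/
theorem result {G : Type*} [Group G] [Finite G] (hL2 : Cfsg.pLayer 2 G = Cfsg.layer G) (t : G) (ht : orderOf t = 2) (L : Subgroup G) (hLt : L ≤ Subgroup.centralizer ({t} : Set G)) (hL : Cfsg.IsComponent (L.subgroupOf (Subgroup.centralizer ({t} : Set G)))) : ∃ D : Subgroup G, Cfsg.IsComponent D ∧ (L = D ∨ (L < D ∧ D = ⁅D, Subgroup.zpowers t⁆) ∨ (D.map (MulAut.conj t).toMonoidHom ≠ D ∧ L = (Cfsg.layer ↥((D ⊔ D.map (MulAut.conj t).toMonoidHom) ⊓ Subgroup.centralizer ({t} : Set G))).map ((D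 ⊔ D.map (MulAut.conj t).toMonoidHom) ⊓ Subgroup.centralizer ({t} : Set G)).subtype)) := by
  have hp := Nat.prime_two
  have h1 : Comp L (⊤ ⊓ C[t]) := by rw [top_inf_eq]; exact comp_iff.2 ⟨hLt, hL⟩
  have h2 : L ≤ E((⊤ : Subgroup G)) := by
    refine h1.le_lay.trans ?_
    rw [← cen_zpowers]
    exact lay_balance (by rw [play_top hp, lay_top, hL2]) (pGrp_zpowers hp ht) (le_nrm_top _)
  obtain ⟨D, hD, h⟩ := h1.pumpup h2 hp ht (le_nrm_top ⊤ trivial)
  refine ⟨D, comp_top.1 hD, h.imp_right (Or.imp (fun e => ⟨e.1, e.2.1.symm⟩) fun ⟨hd, hn, e⟩ => ⟨fun e => hn (cj_eq_self.1 e), ?_⟩)⟩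
  rw [← cj_def, ← orbs_two ht, ← lay_def, hd.lay_eq hD.qs, e]

end Cfsg.Agent.S1322
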