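import Cfsg.Statements.S1323
import Mathlib
import Cfsg.Agent.H2.Quasisimple

set_option autoImplicit false
open Cfsg

namespace Cfsg.Agent.S1323

section
open alternatingGroup Equiv Pointwise
open Equiv.Perm hiding ofSubtype mem_range_ofSubtype_iff ofSubtype_injective

variable {α : Type*} [Fintype α] [DecidableEq α]

theorem ex {s : Finset α} {a b c : α} (ha : a ∈ s) (hb : b ∈ s) (hc : c ∈ s) (ab : a ≠ b) (ac : a ≠ c) (bc : b ≠ c) :
    ∃ k ∈ (ofSubtype s).range, k.1.support = {a, b, c} := by
  have := support_swap_mul_swap (x := b) (y := a) (z := c) (by simp [ab.symm, ac, bc])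
  refine ⟨⟨swap b a * swap a c, by simp [ab.symm, ac]⟩, (mem_range_ofSubtype_iff _ _).2 ?_, by
    rw [this, Finset.insert_comm]⟩
  rw [this]; simp [Finset.insert_subset_iff, *]

theorem sub {s t : Finset α} (h3 : 3 ≤ s.card) (h : (ofSubtype s).range ≤ (ofSubtype t).range) : s ⊆ t := fun a ha => by
  obtain ⟨b, c, hb, hc, n⟩ := Finset.one_lt_card_iff.1 (show 1 < (s.erase a).card by rw [Finset.card_erase_of_mem ha]; omega)
  rw [Finset.mem_erase] at hb hc
  obtain ⟨k, hk, e⟩ := ex ha hb.2 hc.2 hb.1.symm hc.1.symm n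
  exact (mem_range_ofSubtype_iff _ _).1 (h hk) (by simp [e])

theorem cent {s : Finset α} (h4 : 4 ≤ s.card) :
    Subgroup.centralizer ((ofSubtype s).range : Set (alternatingGroup α)) = (ofSubtype sᶜ).range := by
  ext g
  rw [mem_range_ofSubtype_iff]
  refine ⟨fun h a ha => Finset.mem_compl.2 fun m => mem_support.1 ha ?_, fun h k hk => Subtype.ext
    (Perm.Disjoint.commute (disjoint_iff_disjoint_support.2 (Finset.disjoint_of_subset_left
      ((mem_range_ofSubtype_iff _ _).1 hk) (Finset.disjoint_of_subset_right h disjoint_compl_right)))).eq⟩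
  have k : ∀ {b c}, b ∈ s.erase a → c ∈ s.erase a → b ≠ c → g.1 a ∈ ({a, b, c} : Finset α) := fun hb hc n => by
    rw [Finset.mem_erase] at hb hc
    obtain ⟨k, hk, e⟩ := ex m hb.2 hc.2 hb.1.symm hc.1.symm n
    rw [← e, mem_support, ← mul_apply, show k.1 * g.1 = g.1 * k.1 from congrArg Subtype.val (h k hk)]
    simpa [← mem_support, e]
  obtain ⟨b, c, d, hb, hc, hd, n1, n2, n3⟩ := Finset.two_lt_card_iff.1
    (show 2 < (s.erase a).card by rw [Finset.card_erase_of_mem m]; omega)
  have := k hb hc n1; have := k hb hd n2; have := k hc hd n3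
  grind

theorem cj (s : Finset α) (g : alternatingGroup α) :
    (ofSubtype s).range.map (MulAut.conj g).toMonoidHom = (ofSubtype (g • s)).range := conj_smul_range_ofSubtype s g

theorem norm {s : Finset α} (h3 : 3 ≤ s.card) (g : alternatingGroup α) :
    g ∈ Subgroup.normalizer ((ofSubtype s).range : Set (alternatingGroup α)) ↔ g • s = s := by
  rw [Subgroup.mem_normalizer_iff_map_conj_eq]
  erw [cj]
  exact ⟨fun h => (Finset.eq_of_subset_of_card_le (sub h3 h.ge) (by simp)).symm, fun h => by rw [h]⟩

theorem card (s : Finset α) : Nat.card (ofSubtype s).range = Nat.card (alternatingGroup s) :=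
  (Nat.card_congr (MonoidHom.ofInjective ofSubtype_injective).toEquiv).symm

end

/-- For n ≥ 9, the subgroup of the alternating group on Fin n fixing each of the points 0, 1, 2, 3 is a standard subgroup. -/
theorem result (n : ℕ) (h4 : 4 ≤ n) (hn : 9 ≤ n) : Cfsg.IsStandardSubgroup (⨅ i : Fin 4, MulAction.stabilizer ↥(alternatingGroup (Fin n)) (Fin.castLE h4 i : Fin n)) := by
  open alternatingGroup Pointwise in
  obtain ⟨t, ht⟩ : ∃ t, t = Finset.univ.map (Fin.castLEEmb h4) := ⟨_, rfl⟩
  have c4 : t.card = 4 := by simp [ht]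
  have c5 : 5 ≤ tᶜ.card := by rw [Finset.card_compl, c4, Fintype.card_fin]; omega
  rw [show (⨅ i : Fin 4, MulAction.stabilizer ↥(alternatingGroup (Fin n)) (Fin.castLE h4 i : Fin n)) =
    (ofSubtype tᶜ).range by
      ext g; rw [mem_range_ofSubtype_iff]; simp [Finset.subset_iff, ht, Subgroup.mem_iInf, Subgroup.smul_def]; grind]
  unfold IsStandardSubgroup IsTightlyEmbedded
  rw [cent (by omega), compl_compl]
  refine ⟨?_, ⟨?_, fun g hg => ?_⟩, fun g _ h => ?_, Subgroup.ext fun g => ?_⟩
  · have := isSimpleGroup (α := ↥tᶜ) (by rwa [Nat.card_eq_fintype_card, Fintype.card_coe])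
    exact H2.isQuasisimple_of_equiv (MonoidHom.ofInjective ofSubtype_injective) (H2.isQuasisimple_of_isSimpleGroup
      (by rw [isMulCommutative_iff_card_le_three, Nat.card_eq_fintype_card, Fintype.card_coe]; omega))
  · have : Nontrivial t := Fintype.one_lt_card_iff_nontrivial.1 (by simp; omega)
    rw [card, nat_card_alternatingGroup]; simp [c4, Nat.factorial]; decide
  · rw [norm (by omega)] at hg
    have e : (ofSubtype t).range ⊓ (ofSubtype t).range.map (MulAut.conj g).toMonoidHom = (ofSubtype (t ∩ g • t)).range := by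
      ext k
      rw [cj]
      simp only [Subgroup.mem_inf, mem_range_ofSubtype_iff, Finset.subset_inter_iff]
    have l : (t ∩ g • t).card < 4 := c4 ▸ Finset.card_lt_card ⟨Finset.inter_subset_left, fun r =>
      hg (Finset.eq_of_subset_of_card_le (r.trans Finset.inter_subset_right) (by simp)).symm⟩
    rw [e, card]
    generalize t ∩ g • t = u at l
    by_cases h : u.card = 3
    · have : Nontrivial u := Fintype.one_lt_card_iff_nontrivial.1 (by simp; omega)
      rw [nat_card_alternatingGroup]; simp [h, Nat.factorial]; decide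
    · rw [eq_bot_of_card_le_two (by simp; omega)]; simp
  · rw [Subgroup.commutator_comm, Subgroup.commutator_eq_bot_iff_le_centralizer, cent (by omega), compl_compl] at h
    rw [cj] at h
    have := Finset.card_le_card (sub (by simp; omega) h)
    simp at this; omega
  · rw [norm (by omega), norm (by omega), show g • tᶜ = (g • t)ᶜ by
      ext; simp [← Finset.inv_smul_mem_iff], compl_inj_iff]

end Cfsg.Agent.S1323
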