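import Cfsg.Statements.S1339
import Mathlib
import Cfsg.Agent.H19.Tvc

set_option autoImplicit false
open Cfsg

namespace Cfsg.Agent.S1339

open Cfsg.Agent.H19


/-- Let F be a field with 2 elements, n ≥ 3, and t ∈ SL(n, F) a transvection (t = 1 + E_{ij}, i ≠ j). Then the generalized Fitting subgroup of C(t) is O_2(C(t)). -/
theorem result {F : Type*} [Field F] [Fintype F] [DecidableEq F] (hF : Fintype.card F = 2) (n : ℕ) (hn : 3 ≤ n) (i j : Fin n) (hij : i ≠ j) (t : Matrix.SpecialLinearGroup (Fin n) F) (ht : (t : Matrix (Fin n) (Fin n) F) = Matrix.transvection i j 1) : Cfsg.generalizedFittingSubgroup ↥(Subgroup.centralizer ({t} : Set (Matrix.SpecialLinearGroup (Fin n) F))) = Cfsg.pCore 2 ↥(Subgroup.centralizer ({t} : Set (Matrix.SpecialLinearGroup (Fin n) F))) := by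
  rw [H2.generalizedFitting_eq_pCore_iff]
  intro g hg
  rcases cent_tv hF hij ht g hg with h | h
  · obtain rfl : g = 1 := Subtype.ext h
    exact one_mem _
  · refine mem_pCore_of_ring (Matrix.SpecialLinearGroup.coeMonoidHom.comp (Subgroup.centralizer {t}).subtype)
      (fun a b r => Subtype.ext (Subtype.ext r)) ?_ (N := Matrix.single i j 1)
      (Matrix.single_mul_single_of_ne _ _ _ _ hij.symm _) (fun c => ?_) (M := 1) (by
        change g.1.1 = _; rw [h, ht, mul_one]; rfl)
    · have : CharP F 2 := by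
        obtain ⟨p, hp⟩ := CharP.exists F
        obtain ⟨k, hk, e⟩ := FiniteField.card F p
        exact ((Nat.prime_dvd_prime_iff_eq hk Nat.prime_two).1 (hF ▸ e ▸ dvd_pow_self p k.ne_zero)) ▸ hp
      rw [← one_add_one_eq_two, ← one_smul F (1 : Matrix _ _ F), ← add_smul, CharTwo.add_self_eq_zero, zero_smul]
    · have : c.1.1 * t.1 = t.1 * c.1.1 := congrArg Matrix.SpecialLinearGroup.coeMonoidHom
        (Subgroup.mem_centralizer_singleton_iff.1 c.2)
      simpa [ht, Matrix.transvection, mul_add, add_mul] using this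

end Cfsg.Agent.S1339
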