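import Cfsg.Statements.S1340
import Mathlib
import Cfsg.Agent.H2.Fitting
import Cfsg.Agent.H2.Quasisimple
import Cfsg.Agent.H10.SL

set_option autoImplicit false
open Cfsg

namespace Cfsg.Agent.S1340

open Subgroup in
theorem gen {G H S : Type*} [Group G] [Group H] [Finite H] [Group S] (e : G ≃* H) (hS : IsQuasisimple S)
    (φ : S →* G) {t : G} (o : orderOf t = 2) (nc : t ∉ center G) (c : ∀ s, φ s * t = t * φ s)
    (n : ∀ g, g * t = t * g → ∀ s, ∃ s', g * φ s * g⁻¹ = φ s') {s : S} (hs : orderOf (φ s) = 2) :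
    ∃ t : H, orderOf t = 2 ∧ t ∉ center H ∧
      HasComponent (centralizer ({t} : Set H) ⧸ oddCore (centralizer ({t} : Set H))) := by
  refine ⟨e t, by simpa using o, fun r => nc (mem_center_iff.2 fun g => e.injective (by
    simpa using mem_center_iff.1 r (e g))), ?_⟩
  let ψ : S →* centralizer ({e t} : Set H) := ((e : G →* H).comp φ).codRestrict _ fun s =>
    mem_centralizer_singleton_iff.2 (by simpa using congrArg e (c s))
  have : ψ.range.Normal := ⟨fun _ ⟨s, h⟩ g => by
    obtain ⟨s', k⟩ := n (e.symm g) (e.injective (by simpa using mem_centralizer_singleton_iff.1 g.2)) s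
    exact ⟨s', Subtype.ext (by simpa [← h, ψ] using (congrArg e k).symm)⟩⟩
  let π := QuotientGroup.mk' (oddCore (centralizer ({e t} : Set H)))
  have : Nontrivial (π.comp ψ).range := (nontrivial_iff_ne_bot _).2 fun r => by
    have := (QuotientGroup.eq_one_iff _).1 (r.le ⟨s, rfl⟩)
    have k := orderOf_dvd_natCard _ this
    rw [← orderOf_coe, show orderOf (ψ s : H) = 2 by simpa [ψ] using hs] at k
    exact (Nat.not_even_iff_odd.2 H2.odd_card_oddCore) (even_iff_two_dvd.2 k)
  refine ⟨(π.comp ψ).range, Normal.isSubnormal ?_,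
    H2.isQuasisimple_of_surjective (π.comp ψ).rangeRestrict_surjective hS⟩
  rw [MonoidHom.range_comp]
  exact Normal.map ‹_› _ (QuotientGroup.mk'_surjective _)

/-- Let F be a finite field of odd order and n ≥ 3 with (n, |F|) ≠ (3, 3). Then GL(n, F) has a non-central involution t such that C(t) / O(C(t)) has a component. -/
theorem result {F : Type*} [Field F] [Fintype F] [DecidableEq F] (hF : Odd (Fintype.card F)) (n : ℕ) (hn : 3 ≤ n) (h33 : ¬ (n = 3 ∧ Fintype.card F = 3)) : ∃ t : Matrix.GeneralLinearGroup (Fin n) F, orderOf t = 2 ∧ t ∉ Subgroup.center (Matrix.GeneralLinearGroup (Fin n) F) ∧ Cfsg.HasComponent (↥(Subgroup.centralizer ({t} : Set (Matrix.GeneralLinearGroup (Fin n) F))) ⧸ Cfsg.oddCore ↥(Subgroup.centralizer ({t} : Set (Matrix.GeneralLinearGroup (Fin n) F)))) := by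
  obtain ⟨m, rfl⟩ : ∃ m, n = m + 3 := ⟨n - 3, by omega⟩
  have h2 : (2 : F) ≠ 0 := Ring.two_ne_zero fun r => by
    have := (FiniteField.even_card_iff_char_two (F := F)).1 r
    obtain ⟨k, hk⟩ := hF; omega
  have h1 : (-1 : F) ≠ 1 := fun r => h2 (by linear_combination -r)
  have h4 : m + 2 = 2 → 4 ≤ Nat.card F := fun r => by
    have := Fintype.one_lt_card (α := F)
    rw [Nat.card_eq_fintype_card]; obtain ⟨k, hk⟩ := hF; omega
  let B : Matrix (Fin (m + 2)) (Fin (m + 2)) F →* Matrix (Fin (m + 2) ⊕ Fin 1) (Fin (m + 2) ⊕ Fin 1) F :=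
    ⟨⟨fun A => Matrix.fromBlocks A 0 0 1, Matrix.fromBlocks_one⟩, fun A B => by simp [Matrix.fromBlocks_multiply]⟩
  let T : Matrix (Fin (m + 2) ⊕ Fin 1) (Fin (m + 2) ⊕ Fin 1) F := Matrix.fromBlocks 1 0 0 (-1)
  have T2 : T * T = 1 := by simp [T, Matrix.fromBlocks_multiply]
  let d : Fin (m + 2) → F := Fin.cons (-1) (Fin.cons (-1) fun _ => 1)
  have d2 : ∀ i, d i * d i = 1 := by simp [d, Fin.forall_fin_succ]
  refine gen (Units.mapEquiv (Matrix.reindexRingEquiv F (finSumFinEquiv (m := m + 2) (n := 1))).toMulEquiv)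
    ⟨⟨H10.commutator_SL_fin_eq_top (by omega) h4⟩, H10.isSimpleGroup_PSL_fin (by omega) h4⟩
    ((Units.map B).comp Matrix.SpecialLinearGroup.toGL) (t := ⟨T, T, T2, T2⟩)
    (orderOf_eq_prime (Units.ext (by simp [pow_two, T2])) fun r => h1 ?_) (fun r => ?_) (fun s => Units.ext ?_)
    (fun g h s => ?_) (s := ⟨Matrix.diagonal d, by simp [d, Fin.prod_univ_succ]⟩)
    (orderOf_eq_prime (Units.ext ?_) fun r => h1 ?_)
  · simpa [T] using congrArg (fun g : GL _ F => g.1 (.inr 0) (.inr 0)) r
  · have : Matrix.transvection (.inl 0) (.inr 0) 1 * T = T * Matrix.transvection (.inl 0) (.inr 0) 1 :=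
      congrArg Units.val (Subgroup.mem_center_iff.1 r (Matrix.SpecialLinearGroup.toGL
        ⟨Matrix.transvection (.inl 0) (.inr 0) 1, Matrix.det_transvection_of_ne _ _ (by simp) _⟩))
    have := congrFun (congrFun this (.inl 0)) (.inr 0)
    simp [T, Matrix.transvection, mul_add, add_mul, h1] at this
  · simp [B, T, Matrix.fromBlocks_multiply]
  · obtain ⟨a, b, c, d, hg⟩ : ∃ a b c d, g.1 = Matrix.fromBlocks a b c d := ⟨_, _, _, _, (Matrix.fromBlocks_toBlocks _).symm⟩
    have h := congrArg Units.val h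
    simp only [Units.val_mul, hg, T, Matrix.fromBlocks_multiply, Matrix.fromBlocks_inj] at h
    have z : ∀ {p q} {x : Matrix p q F}, -x = x → x = 0 := fun {p q x} h => by
      ext i j; have := congrFun (congrFun h i) j
      exact (mul_eq_zero.1 (by rw [Matrix.neg_apply] at this; linear_combination -this)).resolve_left h2
    obtain rfl : b = 0 := z (by simpa using h.2.1)
    obtain rfl : c = 0 := z (by simpa using h.2.2.1.symm)
    have ha : IsUnit a.det := by
      have := (Matrix.isUnit_iff_isUnit_det _).1 g.isUnit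
      rw [hg, Matrix.det_fromBlocks_zero₂₁] at this
      exact isUnit_of_mul_isUnit_left this
    refine ⟨⟨a * s * a⁻¹, by simp [ha.ne_zero]⟩, mul_inv_eq_iff_eq_mul.2 (Units.ext ?_)⟩
    change g.1 * B s = B (a * s * a⁻¹) * g.1
    simp [hg, B, Matrix.fromBlocks_multiply, Matrix.nonsing_inv_mul _ ha, mul_assoc]
  · rw [pow_two]
    change B (.diagonal d) * B (.diagonal d) = 1
    simp [B, Matrix.fromBlocks_multiply, d2]
  · have : B (.diagonal d) = 1 := congrArg Units.val r
    simpa [B, d] using congrFun (congrFun this (.inl 0)) (.inl 0)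

end Cfsg.Agent.S1340
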