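import Cfsg.Statements.S1628
import Mathlib
import Cfsg.Agent.H25.RuC

set_option autoImplicit false
open Cfsg

namespace Cfsg.Agent.S1628

/-- The Conway–Wales lattice as stored is even with no vectors of true norm 2: stored norms are multiples of 8, never equal to 8, and the minimum over nonzero vectors is 16. -/
theorem result : (∀ x ∈ Cfsg.Spor.ruLattice, (8 : ℤ) ∣ Cfsg.Spor.ruNorm x) ∧ (∀ x ∈ Cfsg.Spor.ruLattice, Cfsg.Spor.ruNorm x ≠ 8) ∧ (∀ x ∈ Cfsg.Spor.ruLattice, x ≠ 0 → 16 ≤ Cfsg.Spor.ruNorm x) ∧ ∃ x ∈ Cfsg.Spor.ruLattice, Cfsg.Spor.ruNorm x = 16 := by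
  have h : ∀ x ∈ Spor.ruLattice, x ≠ 0 → 16 ≤ Spor.ruNorm x := fun x hx h0 => by
    rw [H25.Ru.norm_eq]
    exact H25.Ru.min_norm (H25.Ru.mem_iff.1 hx) fun e => h0 ((map_eq_zero_iff _ H25.Ru.cw.injective).1 e)
  refine ⟨fun x hx => H25.Ru.norm_eq x ▸ H25.Ru.eight_dvd (H25.Ru.mem_iff.1 hx), fun x hx e => ?_, h,
    (H25.Ru.e4 0).1, (H25.Ru.e4 0).2, (H25.Ru.dt_norm _).trans (H25.Ru.e4_nm 0)⟩
  by_cases h0 : x = 0
  · simp [h0, Spor.ruNorm] at e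
  · have := h x hx h0; omega

end Cfsg.Agent.S1628
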