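import Cfsg.Statements.S1652
import Mathlib
import Cfsg.Agent.H28.HJ7
import Cfsg.Agent.S0981
import Cfsg.Agent.H10.SmallIso

set_option autoImplicit false
open Cfsg

namespace Cfsg.Agent.S1652

/-- A group of J₃ type contains SL(2,16):2: let a finite simple group have a single conjugacy class of involutions and an involution t whose centraliser C has a normal extraspecial subgroup Q of order 32 with no elementary abelian subgroup of order 8, whose centraliser in C lies in Q, with C / Q isomorphic to the alternating group of degree 5. Then some subgroup H has a normal subgroup of index 2 isomorphic to the special linear group of dimension 2 over a field with 16 elements. -/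
theorem result {G : Type*} [Group G] [Finite G] [IsSimpleGroup G] (t : G) (ht : orderOf t = 2) (Q : Subgroup (Subgroup.centralizer ({t} : Set G))) [Q.Normal] (hQ : Cfsg.IsExtraspecial 2 Q) (hcard : Nat.card Q = 32) (hminus : ∀ E : Subgroup Q, Cfsg.IsElementaryAbelian 2 E → Nat.card E ≤ 2 ^ 2) (h2c : Subgroup.centralizer (Q : Set (Subgroup.centralizer ({t} : Set G))) ≤ Q) (e : (Subgroup.centralizer ({t} : Set G)) ⧸ Q ≃* alternatingGroup (Fin 5)) (hone : ∀ x y : G, orderOf x = 2 → orderOf y = 2 → IsConj x y) : ∃ (H : Subgroup G) (N : Subgroup H) (K : Type) (_ : Field K) (_ : Fintype K), N.Normal ∧ N.index = 2 ∧ Fintype.card K = 16 ∧ Nonempty (N ≃* Matrix.SpecialLinearGroup (Fin 2) K) := by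
  obtain ⟨⟨f⟩, J⟩ := (H28.HJ.hyp_simple ht hQ hcard e).j3 hone
  have J0 := J.equiv f
  have : Finite H25.J3.G0 := Finite.of_equiv _ f.toEquiv
  have c1 : Nat.card (H25.Lc 15 H25.J3.g) = 4080 := le_antisymm H25.J3.up2 H25.J3.lo2
  have c2 : Nat.card (H25.Lc 31 H25.J3.g) = 8160 := H25.J3.card1
  have le : H25.Lc 15 H25.J3.g ≤ H25.Lc 31 H25.J3.g := H25.Lc_le.2 fun a ha => H25.mem_Lc _ (by
    have h4 : a < 4 := by simpa using (Nat.testBit_two_pow_sub_one 4 a).symm.trans ha
    interval_cases a <;> rfl)
  obtain ⟨a, ha, b, hb, -, -, ab⟩ := H28.HJ.ex17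
  have pf := H28.HJ.perf15
  generalize H25.Lc 15 H25.J3.g = N at *
  generalize H25.Lc 31 H25.J3.g = H at *
  have : IsSimpleGroup N := H25.simple_of_sc (x := ⟨a * b, mul_mem ha hb⟩) (p := 17) (by norm_num)
    ((Subgroup.orderOf_coe _).symm.trans ab) c1 (by norm_num) (fun c hc => by
      obtain ⟨k, h⟩ := (J0.s17 ((Nat.card_zpowers _).trans ab)).1.le (H28.HJ.mem_Cz.2 (show (c : H25.J3.G0) * (a * b) = _ by
        have : (c : H25.J3.G0)⁻¹ * (a * b) * c = a * b := congrArg Subtype.val hc
        nth_rewrite 1 [← this]; group))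
      exact ⟨k, Subtype.ext h⟩)
    (H25.ppow_ne (A := 12) [2, 3, 5, 17] (by simp; norm_num) (by norm_num) (by norm_num) (by norm_num) (by decide +kernel))
    (Subgroup.map_injective N.subtype_injective (by
      rw [Subgroup.map_subtype_commutator, pf, ← MonoidHom.range_eq_map, Subgroup.range_subtype]))
  let _ : Fintype (GaloisField 2 4) := Fintype.ofFinite _
  have hF : Fintype.card (GaloisField 2 4) = 16 := by
    rw [← Nat.card_eq_fintype_card, GaloisField.card 2 4 (by norm_num)]; rfl
  obtain ⟨φ⟩ := S0981.result c1 hF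
  have ψ := (f.symm.subgroupMap H)
  have i2 : ((N.subgroupOf H).map ψ.toMonoidHom).index = 2 := by
    have h1 := (N.subgroupOf H).card_mul_index
    rw [Nat.card_congr (Subgroup.subgroupOfEquivOfLe le).toEquiv, c1, c2] at h1
    rw [Subgroup.index_map_of_bijective ψ.bijective]; omega
  exact ⟨_, _, _, _, _, Subgroup.normal_of_index_eq_two i2, i2, hF,
    ⟨((ψ.subgroupMap _).symm.trans (Subgroup.subgroupOfEquivOfLe le)).trans
      (φ.trans (H10.slEquivPsl (H10.center_SL_eq_bot (by norm_num) (by rw [hF]; rfl))).symm)⟩⟩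

end Cfsg.Agent.S1652
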