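import Cfsg.Statements.S1686
import Mathlib
import Cfsg.Agent.H19.Refl3

set_option autoImplicit false
open Cfsg

namespace Cfsg.Agent.S1686

open Cfsg.Agent.H19


/-- In the presented Fischer group Fi₂₂, the subgroup generated by the images of b, …, i is isomorphic to PΩ(7, 3), the commutator subgroup of the isometry group of the quadratic form x₀² + x₁y₁ + x₂y₂ + x₃y₃ over the integers mod 3, modulo its centre. -/
theorem result : Nonempty ((((Subgroup.closure ({Cfsg.Spor.Fi22.b, Cfsg.Spor.Fi22.c, Cfsg.Spor.Fi22.d, Cfsg.Spor.Fi22.e, Cfsg.Spor.Fi22.f, Cfsg.Spor.Fi22.g, Cfsg.Spor.Fi22.h, Cfsg.Spor.Fi22.i} : Set (FreeGroup Cfsg.Spor.Fi22.Gen))).map (PresentedGroup.mk (Cfsg.Spor.coxRelators Cfsg.Spor.Fi22.edges ∪ {r | r ∈ Cfsg.Spor.Fi22.extra})))) ≃* Cfsg.POmega (ZMod 3) (Cfsg.quadFormOdd 3 (ZMod 3))) := by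
  rw [H15.Fi22.good.map_closure [Spor.Fi22.b, Spor.Fi22.c, Spor.Fi22.d, Spor.Fi22.e, Spor.Fi22.f, Spor.Fi22.g, Spor.Fi22.h, Spor.Fi22.i] (by simp) (ws := [[1], [2], [3], [4], [5], [6], [7], [8]]) (by decide +kernel)]
  obtain ⟨c, l, i, -, e, -⟩ := M22.lab
  have h : FG 1 _ := ⟨M22.pg, M22.center_bot, lev22 M22.pg.toT3 ⟨c, l, i⟩⟩
  obtain ⟨f, -⟩ := o7_22 l (fun g hg => h.one (i ▸ hg)) (i ▸ h.pg.conj)
  refine f.map (MulEquiv.subgroupCongr (congrArg _ (Set.ext fun g => ?_))).trans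
  simp only [Pts, Set.mem_ofPred_eq, List.mem_cons, List.not_mem_nil, or_false, exists_eq_or_imp,
    exists_eq_left, H15.lprod_single, ← e 1 (by decide), ← e 2 (by decide), ← e 3 (by decide),
    ← e 4 (by decide), ← e 5 (by decide), ← e 6 (by decide), ← e 7 (by decide), ← e 8 (by decide)]
  rfl

end Cfsg.Agent.S1686
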