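import Cfsg.Statements.S1724
import Mathlib
import Cfsg.Agent.H28.HJ7
import Cfsg.Agent.H28.J2Q

set_option autoImplicit false
open Cfsg

namespace Cfsg.Agent.S1724

/-- In a group of Hall–Janko type (large-extraspecial hypothesis with Q of order 32, quotient Ω⁻(4, 2), z not weakly closed in Q, more than one class of involutions), a Sylow 7-subgroup is its own centraliser and its normaliser is non-abelian of order 42. -/
theorem result {G : Type*} [Group G] [Finite G] (z : G) (hz : orderOf z = 2) (Q : Subgroup (Subgroup.centralizer ({z} : Set G))) [Q.Normal] (hF : Cfsg.generalizedFittingSubgroup (Subgroup.centralizer ({z} : Set G)) = Q) (hQ : Cfsg.IsExtraspecial 2 Q) (hcard : Nat.card Q = 2 ^ 5) (e : (Subgroup.centralizer ({z} : Set G)) ⧸ Q ≃* Cfsg.Omega (ZMod 2) (Cfsg.quadFormMinus 1 (ZMod 2) 1 1)) (hnwc : ∃ g : G, (∃ hq : g * z * g⁻¹ ∈ Subgroup.centralizer ({z} : Set G), (⟨g * z * g⁻¹, hq⟩ : Subgroup.centralizer ({z} : Set G)) ∈ Q) ∧ g * z * g⁻¹ ≠ z) (hcl : ∃ x y : G,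 orderOf x = 2 ∧ orderOf y = 2 ∧ ¬ IsConj x y) (D : Sylow 7 G) : Subgroup.centralizer ((D : Subgroup G) : Set G) = D ∧ Nat.card (Subgroup.normalizer ((D : Subgroup G) : Set G)) = 42 ∧ ¬ IsMulCommutative (Subgroup.normalizer ((D : Subgroup G) : Set G)) := by
  obtain ⟨g, ⟨h1, -⟩, h2⟩ := hnwc
  obtain ⟨f⟩ := (H28.HJ.hyp_om hz hF hQ hcard e).j2 ⟨g, h1, h2⟩ hcl
  have cG : Nat.card G = 604800 := (Nat.card_congr f.toEquiv).trans H28.J2P.card_K
  have : Fact (Nat.Prime 7) := ⟨by norm_num⟩
  have h7 : ¬ 7 ^ 2 ∣ Nat.card G := by rw [cG]; norm_num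
  have cD : Nat.card D = 7 := by
    rw [D.card_eq_multiplicity, cG, show 604800 = 7 * 86400 from rfl,
      Nat.factorization_mul (by norm_num) (by norm_num), Finsupp.add_apply,
      Nat.factorization_eq_zero_of_not_dvd (n := 86400) (by norm_num), Nat.Prime.factorization_self (by norm_num)]
    rfl
  obtain ⟨h3, h4, -, r, h5, -, h6⟩ := H28.HJ.syl_nc h7 cD
  obtain ⟨x, hx⟩ := exists_prime_orderOf_dvd_card' (G := D) 7 cD.symm.dvd
  have hC : Subgroup.centralizer ((D : Subgroup G) : Set G) = D := D.3 (fun c => by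
    have hs : ∀ y : G, orderOf y ∈ [1, 2, 3, 4, 5, 6, 7, 8, 10, 12, 15] := fun y =>
      ((H29.spec_congr f).trans H28.J2P.spec_K).le ⟨y, rfl⟩
    have hc : Commute (x : G) c := c.2 x x.2
    have h8 : orderOf (c : G) ∣ 7 ^ 1 := by
      by_cases h : 7 ∣ orderOf (c : G)
      · have := hs c
        simp only [List.mem_cons, List.not_mem_nil, or_false] at this
        rw [show orderOf (c : G) = 7 by omega]; rfl
      · have h9 := hs (x * c)
        rw [hc.orderOf_mul_eq_mul_orderOf_of_coprime (by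
          rw [Subgroup.orderOf_coe, hx]; exact (Nat.Prime.coprime_iff_not_dvd this.out).2 h),
          Subgroup.orderOf_coe, hx] at h9
        simp only [List.mem_cons, List.not_mem_nil, or_false] at h9
        rw [show orderOf (c : G) = 1 by omega]; exact one_dvd _
    exact ⟨1, Subtype.ext (orderOf_dvd_iff_pow_eq_one.1 h8)⟩) h4
  rw [hC, cD] at h6
  have h9 := (Subgroup.normalizer ((D : Subgroup G) : Set G)).card_mul_index
  rw [h6, cG] at h9
  have : r = 6 := by
    have := Nat.le_of_dvd (by norm_num) h5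
    interval_cases r <;> omega
  subst this
  refine ⟨hC, h6, fun h => ?_⟩
  have := Subgroup.card_le_of_le (show Subgroup.normalizer ((D : Subgroup G) : Set G) ≤ D from fun c hc =>
    hC.le fun y hy => congrArg Subtype.val (h.1.1 ⟨y, Subgroup.le_normalizer hy⟩ ⟨c, hc⟩))
  omega

end Cfsg.Agent.S1724
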