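import Cfsg.Statements.S1910
import Mathlib
import Cfsg.Agent.H2.Misc

set_option autoImplicit false
open Cfsg

namespace Cfsg.Agent.S1910

open Cfsg.Agent.FT Subgroup
open scoped commutatorElement

theorem aux {G : Type*} [Group G] [Finite G] {Q L T S : Subgroup G} (hQ : Even #Q)
    (h : ∀ y x : G, orderOf y = 2 → y ∈ L → y ∈ cj x L → x ∈ N(L)) (hi : PiGrp {2}ᶜ (Q ⊓ L)) (hT : T ≤ L ⊓ N(Q))
    (hc : ∃ g, L = cj g Q) (hTS : T ≤ S) (hS : Syl 2 S (Q ⊔ T)) :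
    ∃ x, cj x T ≤ S ⊓ N(T) ⊓ Q ∨ cj x T ≤ T ⊔ (S ⊓ N(T) ⊓ Q) ∧ T ⊓ cj x T = ⊥ := by
  have hn : T ≤ N(Q) := hT.trans inf_le_right
  have hTp := hS.pi.mono hTS
  have h1 : T ⊔ S ⊓ Q = S := by rw [← inf_sup_left' hn hTS, sup_comm, inf_eq_left.2 hS.le]
  have h2 : S ⊓ N(T) = T ⊔ (S ⊓ N(T) ⊓ Q) := by
    rw [← inf_sup_left' hn (le_inf hTS (le_nrm T)), sup_comm, inf_eq_left.2 (inf_le_left.trans hS.le)]
  have hSQ : S ≤ N(Q) := hS.le.trans (nml_sup_left hn).nrm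
  by_cases e : S ⊓ N(T) = S
  · obtain ⟨g, rfl⟩ := hc
    obtain ⟨x, -, hx⟩ := (hS.inf_nml (nml_sup_left hn)).syl_Jsub (hTp.cj g⁻¹) (le_cj_iff.1 (hT.trans inf_le_left))
    exact ⟨x * g⁻¹, Or.inl (by rwa [e, ← cj_cj])⟩
  · obtain ⟨x, hx, hx'⟩ := SetLike.not_le_iff_exists.1 (hS.pi.lt_subnorm (inf_le_left.lt_of_ne e)).not_ge
    refine ⟨x, Or.inr ⟨h2 ▸ cj_le_of_nrm hx.2 (le_inf hTS (le_nrm T)), by_contra fun h3 => hx' ⟨hx.1, ?_⟩⟩⟩
    obtain ⟨y, hy, ho⟩ := (hTp.inf_left _).exists_elt h3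
    have h4 := h y x ho (hT hy.1).1 (cj_mono x (hT.trans inf_le_left) hy.2)
    have h5 : L ⊓ (S ⊓ N(T)) = T := by
      rw [h2, inf_sup_left' (normsI (norms_of_le (le_inf hTS (le_nrm T))) hn) (hT.trans inf_le_left),
        (hS.pi.mono (inf_le_right.trans (inf_le_left.trans inf_le_left))).eq_bot
          (hi.mono (le_inf (inf_le_right.trans inf_le_right) inf_le_left)), sup_bot_eq]
    rw [← h5]
    exact normsI (zpowers_le.2 h4) (zpowers_le.2 hx.2) (mem_zpowers x)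

theorem emb {G : Type*} [Group G] [Finite G] {T R : Subgroup G} (hc : R ≤ C(T)) (hi : T ⊓ R = ⊥)
    (h : ∃ x, cj x T ≤ R ∨ cj x T ≤ T ⊔ R ∧ T ⊓ cj x T = ⊥) : ∃ f : T →* R, Function.Injective f := by
  obtain ⟨x, h | ⟨h1, h2⟩⟩ := h
  · exact ⟨(inclusion h).comp (cjEquiv x T).toMonoidHom, (inclusion_injective h).comp (cjEquiv x T).injective⟩
  · have hn : R ≤ N(T) := cents_norm hc
    have h3 : cj x T /ₛ T ≤ R /ₛ T := (quo_mono T h1).trans (quo_sup_left hn).le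
    have e := (cjEquiv x T).trans (quoEquiv (h1.trans (nml_sup_left hn).nrm) h2)
    exact ⟨(quoEquiv hn hi).symm.toMonoidHom.comp ((inclusion h3).comp e.toMonoidHom),
      (quoEquiv hn hi).symm.injective.comp ((inclusion_injective h3).comp e.injective)⟩

/-- Let Q be a tightly embedded subgroup of a finite group G, g an element outside N_G(Q), T a nontrivial Sylow 2-subgroup of Q^g ∩ N_G(Q), and S a Sylow 2-subgroup of QT containing T. Then T ∩ Q = 1, and N_S(T) is the direct product of T and N_S(T) ∩ Q, with N_S(T) ∩ Q isomorphic to T. -/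
theorem result {G : Type*} [Group G] [Finite G] (Q : Subgroup G) (hQ : Cfsg.IsTightlyEmbedded Q)
    (g : G) (hg : g ∉ Subgroup.normalizer (Q : Set G))
    (T : Subgroup G) (hT1 : T ≠ ⊥) (hT : T ≤ Q.map (MulAut.conj g).toMonoidHom ⊓ Subgroup.normalizer (Q : Set G))
    (hTsyl : IsPGroup 2 T ∧ ¬ 2 ∣ T.relIndex (Q.map (MulAut.conj g).toMonoidHom ⊓ Subgroup.normalizer (Q : Set G)))
    (S : Subgroup G) (hTS : T ≤ S) (hS : S ≤ Q ⊔ T) (hSsyl : IsPGroup 2 S ∧ ¬ 2 ∣ S.relIndex (Q ⊔ T)) :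
    T ⊓ Q = ⊥ ∧
      T ⊓ (S ⊓ Subgroup.normalizer (T : Set G) ⊓ Q) = ⊥ ∧
      ⁅T, S ⊓ Subgroup.normalizer (T : Set G) ⊓ Q⁆ = ⊥ ∧
      T ⊔ (S ⊓ Subgroup.normalizer (T : Set G) ⊓ Q) = S ⊓ Subgroup.normalizer (T : Set G) ∧
      Nonempty (↥(S ⊓ Subgroup.normalizer (T : Set G) ⊓ Q) ≃* T) := by
  have hp := Nat.prime_two
  rw [← cj_def] at hT hTsyl
  have hS' : Syl 2 S (Q ⊔ T) := syl_of_not_dvd hS (pGrp_of_isPGroup hp hSsyl.1) hSsyl.2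
  have hT' : Syl 2 T (cj g Q ⊓ N(Q)) := syl_of_not_dvd hT (pGrp_of_isPGroup hp hTsyl.1) hTsyl.2
  have hi : PiGrp {2}ᶜ (Q ⊓ cj g Q) := odd_iff_piGrp.1 (hQ.2 g hg)
  have hn : T ≤ N(Q) := hT.trans inf_le_right
  have t1 : ∀ y x : G, orderOf y = 2 → y ∈ cj g Q → y ∈ cj x (cj g Q) → x ∈ N(cj g Q) := fun y x ho h1 h2 => by
    have := tight_mem_nrm hQ (g := g⁻¹ * x * g) (y := g⁻¹ * y * g⁻¹⁻¹) ((orderOf_conj _ _).trans ho)
      (by rw [inv_inv]; exact mem_cj.1 h1) (by rw [mul_assoc g⁻¹ x, ← cj_cj, ← cj_cj]; exact conj_mem_cj.2 h2)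
    rwa [← cj_nrm, mem_cj]
  have h1 : T ⊓ Q = ⊥ := (hT'.pi.inf_left Q).eq_bot
    (hi.mono (le_inf inf_le_right (inf_le_left.trans (hT.trans inf_le_left))))
  have h2 : T ⊓ (S ⊓ N(T) ⊓ Q) = ⊥ := inf_eq_bot_mono h1 le_rfl inf_le_right
  have hTR : T ≤ N(S ⊓ N(T) ⊓ Q) := normsI (norms_of_le (le_inf hTS (le_nrm T))) hn
  have h3 : T ≤ C(S ⊓ N(T) ⊓ Q) := cents_of_norms_of_inf (inf_le_left.trans inf_le_right) hTR h2
  refine ⟨h1, h2, comm_eq_bot.2 h3, ?_, ?_⟩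
  · rw [← inf_sup_left' hn (le_inf hTS (le_nrm T)), sup_comm, inf_eq_left.2 (inf_le_left.trans hS)]
  obtain ⟨f, hf⟩ := emb (centsC h3) h2 (aux hQ.1 t1 hi hT ⟨g, rfl⟩ hTS hS')
  have hR : PGrp 2 (S ⊓ N(T) ⊓ Q) := hS'.pi.mono (inf_le_left.trans inf_le_left)
  have hRQ : S ⊓ N(T) ⊓ Q ≤ Q := inf_le_right
  generalize S ⊓ N(T) ⊓ Q = R at *
  obtain ⟨y, hy, ho⟩ := hT'.pi.exists_elt hT1
  have h4 : R ≤ Q ⊓ N(cj g Q) := le_inf hRQ fun x hx => t1 y x ho (hT hy).1 (by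
    rw [mem_cj, mul_assoc, mem_cen.1 (centsC h3 hx) y hy, inv_mul_cancel_left]; exact (hT hy).1)
  obtain ⟨U, hU, hRU⟩ := (hT'.pi.sup' hR hTR).exists_syl
    (sup_le (le_sup_of_le_left (hT.trans inf_le_left)) le_sup_right : T ⊔ R ≤ cj g Q ⊔ R)
  have h5 : U ⊓ N(R) ⊓ cj g Q = T := by
    refine hT'.max (hU.pi.mono (inf_le_left.trans inf_le_left))
      (le_inf (le_inf (le_sup_left.trans hRU) hTR) (hT.trans inf_le_left)) (le_inf inf_le_right ?_)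
    have h6 : R ⊓ cj g Q = ⊥ := (hR.inf_left _).eq_bot (hi.mono (inf_le_inf_right _ hRQ))
    obtain ⟨z, hz, hz2⟩ := hR.exists_elt fun e => hT1 (eq_bot_iff_card'.2 (by
      have := Nat.card_le_card_of_injective f hf
      rw [e, card_bot'] at this
      exact this.antisymm (card_pos T)))
    refine le_trans ?_ (tight_cen_le hQ hz2 (hRQ hz))
    exact (centsC (cents_of_norms_of_inf (inf_le_left.trans inf_le_right) (normsI (norms_of_le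
      (le_inf (le_sup_right.trans hRU) (le_nrm R))) (h4.trans inf_le_right))
      (inf_eq_bot_mono h6 le_rfl inf_le_right))).trans (cen_le_cen1 hz)
  have h6 := aux (by rw [card_cj]; exact hQ.1) (fun y x => tight_mem_nrm hQ) (inf_comm Q _ ▸ hi) h4
    ⟨g⁻¹, (cj_inv_cj g Q).symm⟩ (le_sup_right.trans hRU) hU
  rw [h5] at h6
  obtain ⟨f', hf'⟩ := emb h3 (inf_comm T R ▸ h2) h6
  exact ⟨(MulEquiv.ofBijective f ((Nat.bijective_iff_injective_and_card f).2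
    ⟨hf, (Nat.card_le_card_of_injective f hf).antisymm (Nat.card_le_card_of_injective f' hf')⟩)).symm⟩

end Cfsg.Agent.S1910
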