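import Cfsg.Statements.S1915
import Mathlib
import Mathlib
import Cfsg.Agent.H20.Sm3

set_option autoImplicit false
open Cfsg

namespace Cfsg.Agent.S1915

open Subgroup Cfsg.Agent.FT Cfsg.Agent.GW Cfsg.Agent.H20.Sm

theorem no_fr {G : Type*} [Group G] [Finite G] {H : Subgroup G} (h : PRankLE 2 1 H) {a b : G}
    (ha : a ∈ H) (hb : b ∈ H) : ¬ Fr a b := fun hf => by
  have h1 := hf.V_le ha hb
  have := h ((⟪a⟫ ⊔ ⟪b⟫).subgroupOf H) ⟨⟨fun x y => Subtype.ext (congrArg (fun t : H => t) (Subtype.ext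
    (hf.ab.comm x.2 y.2)))⟩⟩ fun x hx => Subtype.ext (by simpa [sq] using hf.sq hx)
  rw [Nat.card_congr (subgroupOfEquivOfLe h1).toEquiv, hf.card] at this
  omega

theorem exists_fr {H : Type*} [Group H] [Finite H] (h : ¬ PRankLE 2 1 H) : ∃ a b : H, Fr a b := by
  unfold PRankLE at h
  push Not at h
  obtain ⟨E, h1, h2, h3⟩ := h
  obtain ⟨a, ha, a1⟩ : ∃ a ∈ E, a ≠ 1 := by
    by_contra! c
    rw [(eq_bot_iff_forall E).2 c] at h3
    simp at h3
  have ia := invo_of (by rw [← sq, h2 a ha]) a1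
  obtain ⟨b, hb, b1⟩ : ∃ b ∈ E, b ∉ ⟪a⟫ := by
    by_contra! c
    have := card_le_of_le (show E ≤ ⟪a⟫ from c)
    rw [ia.card] at this
    omega
  rw [ia.mem_zpowers, not_or] at b1
  exact ⟨a, b, ia, invo_of (by rw [← sq, h2 b hb]) b1.1, (ab_iff_forall.1 h1) a ha b hb, b1.2⟩

theorem fr_coe {G : Type*} [Group G] [Finite G] {H : Subgroup G} {a b : H} (h : Fr a b) :
    Fr (a : G) b :=
  ⟨(orderOf_coe a).trans h.l, (orderOf_coe b).trans h.r, congrArg Subtype.val h.comm,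
    fun e => h.ne (Subtype.ext e)⟩

theorem rank0 {G : Type*} [Group G] [Finite G] {H A : Subgroup G} (h : H ≤ A)
    (h0 : PRankLE 2 0 A) : PRankLE 2 0 H := fun E h1 h2 => by
  have := h0 (E.map (inclusion h)) (FT.Ab.map _ h1) (by
    rintro _ ⟨x, hx, rfl⟩
    rw [← map_pow, h2 x hx, map_one])
  rwa [card_map_of_injective (inclusion_injective h)] at this

theorem perf {G : Type*} [Group G] [Finite G] {A : Subgroup G} (hA : layer A = ⊤) : ⁅A, A⁆ = A := by
  have : E(A) = A := by rw [lay_def, hA, ← MonoidHom.range_eq_map, range_subtype]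
  have h := lay_perf A
  rwa [this] at h

/-- Let A be a semisimple subgroup (A = E(A)) of a finite group and U a Klein four-group normalizing A. If the subgroup of A generated by the normalizers N_A(V) of the nontrivial subgroups V of U has 2-rank exactly 1, then A has 2-rank exactly 1. -/
theorem result {G : Type*} [Group G] [Finite G] (A : Subgroup G) (hA : Cfsg.layer ↥A = ⊤)
    (U : Subgroup G) (hU : IsKleinFour U) (hUA : U ≤ Subgroup.normalizer (A : Set G))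
    (hΓ : Cfsg.PRankLE 2 1 ↥(⨆ V : {V : Subgroup G // V ≤ U ∧ V ≠ ⊥}, A ⊓ Subgroup.normalizer ((V : Subgroup G) : Set G)) ∧
      ¬ Cfsg.PRankLE 2 0 ↥(⨆ V : {V : Subgroup G // V ≤ U ∧ V ≠ ⊥}, A ⊓ Subgroup.normalizer ((V : Subgroup G) : Set G))) :
    Cfsg.PRankLE 2 1 A ∧ ¬ Cfsg.PRankLE 2 0 A := by
  have hle : (⨆ V : {V : Subgroup G // V ≤ U ∧ V ≠ ⊥}, A ⊓ Subgroup.normalizer ((V : Subgroup G) : Set G)) ≤ A :=
    iSup_le fun V => inf_le_left
  refine ⟨by_contra fun hc => ?_, fun h0 => hΓ.2 (rank0 hle h0)⟩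
  obtain ⟨a, b, hab⟩ := exists_fr hc
  have h4 := hU.card_four
  obtain ⟨u, v, huv⟩ := exists_fr (H := U) fun h => by
    have := h ⊤ ⟨⟨fun x y => Subtype.ext (IsKleinFour.isMulCommutative.1.1 _ _)⟩⟩
      fun x _ => by rw [← hU.exponent_two]; exact Monoid.pow_exponent_eq_one x
    rw [card_top, h4] at this
    omega
  refine four_core (perf hA) (pGrp_of_card (n := 2) Nat.prime_two h4) hUA u.2 v.2 (fr_coe huv)
    (fun u hu u1 a ha b hb e1 e2 => ?_) a.2 b.2 (fr_coe hab)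
  have k : ∀ a ∈ A, u * a * u⁻¹ = a → a ∈ (⨆ V : {V : Subgroup G // V ≤ U ∧ V ≠ ⊥}, A ⊓ Subgroup.normalizer ((V : Subgroup G) : Set G)) :=
    fun a ha e => mem_iSup_of_mem ⟨⟪u⟫, zpowers_le.2 hu, by simpa using u1⟩
      ⟨ha, cen_le_nrm _ ((cen_zpowers u).ge (mem_cen1.2 (mul_inv_eq_iff_eq_mul.1 e).symm))⟩
  exact no_fr hΓ.1 (k a ha e1) (k b hb e2)

end Cfsg.Agent.S1915
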