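import Cfsg.Statements.S1914
import Mathlib
import Mathlib
import Cfsg.Agent.H20.Sm7
import Cfsg.Agent.S1915

set_option autoImplicit false
open Cfsg

namespace Cfsg.Agent.S1914

open Subgroup Cfsg.Agent.FT Cfsg.Agent.GW Cfsg.Agent.H20.Sm

/-- Let A be a semisimple subgroup (a central product of quasisimple groups, A = E(A)) of a finite group and t an involution normalizing A such that the Sylow 2-subgroups of C_A(t) are cyclic of order 4. Then A has 2-rank exactly 1. -/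
theorem result {G : Type*} [Group G] [Finite G] (A : Subgroup G) (hA : Cfsg.layer ↥A = ⊤)
    (t : G) (ht : orderOf t = 2) (htA : t ∈ Subgroup.normalizer (A : Set G))
    (hC : ∀ R : Sylow 2 ↥(A ⊓ Subgroup.centralizer ({t} : Set G)), IsCyclic R ∧ Nat.card R = 4) :
    Cfsg.PRankLE 2 1 A ∧ ¬ Cfsg.PRankLE 2 0 A := by
  have it : Invo t := ht
  have hC' : ∀ R, Syl 2 R (A ⊓ C[t]) → Cyc R ∧ #R = 4 := fun R hR => by
    obtain ⟨P, rfl⟩ := hR.exists_sylow Nat.prime_two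
    have := (hC P).1
    exact ⟨isCyclic_of_surjective _ (equivMapOfInjective _ _ (subtype_injective _)).surjective,
      (card_map_of_injective (subtype_injective _)).trans (hC P).2⟩
  obtain ⟨R, hR⟩ := exists_syl 2 (A ⊓ C[t])
  obtain ⟨h1, h2⟩ := hC' R hR
  obtain ⟨x, rfl⟩ := cyc_iff.1 h1
  rw [card_zpowers'] at h2
  obtain ⟨xA, xt⟩ := hR.le (mem_zpowers x)
  replace xt := mem_cen1.1 xt
  have z1 : x * x ≠ 1 := fun e => by
    have := Nat.le_of_dvd two_pos (orderOf_dvd_of_pow_eq_one (by rwa [sq] : x ^ 2 = 1))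
    omega
  have z2 : x * x * (x * x) = 1 := by rw [← p4, ← h2, pow_orderOf_eq_one]
  refine ⟨by_contra fun hc => ?_, fun h0 => ?_⟩
  swap
  · have := h0 ⟪(⟨x * x, mul_mem xA xA⟩ : A)⟫ (ab_zpowers _) (by
      rintro _ ⟨k, rfl⟩
      rw [sq, ← Commute.mul_zpow (Commute.refl _), show (⟨x * x, mul_mem xA xA⟩ : A) * _ = 1 from
        Subtype.ext z2, one_zpow])
    rw [card_zpowers', ← orderOf_coe, invo_of z2 z1] at this
    omega
  obtain ⟨a, b, hab⟩ := S1915.exists_fr hc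
  have hP : PGrp 2 (⟪x⟫ ⊔ ⟪t⟫) := hR.pi.sup it.pGrp
    (zpowers_le.2 (cen_le_nrm _ ((cen_zpowers x).ge (mem_cen1.2 xt.symm))))
  obtain ⟨T, hT, hn, hx⟩ := hP.exists_syl_norms (sup_le (zpowers_le.2 (le_nrm A xA))
    (zpowers_le.2 htA))
  replace hx : x ∈ T := hx ⟨mem_sup_left (mem_zpowers x), xA⟩
  have tT : t ∈ N(T) := hn (mem_sup_right (mem_zpowers t))
  have fx : ∀ g ∈ T, t * g * t⁻¹ = g → g ∈ ⟪x⟫ := fun g hg e =>
    (hR.max (hT.pi.mono inf_le_left) (le_inf (zpowers_le.2 hx) (hR.le.trans inf_le_right))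
      (inf_le_inf_right _ hT.le)).le ⟨hg, mem_cen1.2 (mul_inv_eq_iff_eq_mul.1 e).symm⟩
  obtain ⟨z, ⟨hz, hzS⟩, hz2 : Invo z⟩ := (hT.pi.mono inf_le_left).exists_elt
    ((hT.pi.sup it.pGrp (zpowers_le.2 tT)).meet_cen hT.pi (nml_sup_left (zpowers_le.2 tT)).nrm
      fun e => z1 (by rw [mem_bot.1 (e.le hx), mul_one]))
  replace hzS := le_cen1.2 hzS
  obtain rfl : z = x * x := (uniq h1 hR.pi (mul_mem (mem_zpowers x) (mem_zpowers x)) z1 z2
    (fx z hz (by rw [mem_cen1.1 (hzS (mem_sup_right (mem_zpowers t))), mul_inv_cancel_right]))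
    hz2.sq).resolve_left hz2.ne
  have h : Hy A T t x (x * x) := ⟨S1915.perf hA, hT, htA, tT, it.sq, it.ne, hx, rfl, z1, z2,
    by rw [← xt, mul_inv_cancel_right], le_sup_left.trans hzS, fx, fun a ha b hb e1 e2 hf => by
      obtain ⟨Q, hQ, h3⟩ := hf.pGrp.exists_syl (M := A ⊓ C[t]) (hf.V_le
        ⟨ha, mem_cen1.2 (mul_inv_eq_iff_eq_mul.1 e1).symm⟩
        ⟨hb, mem_cen1.2 (mul_inv_eq_iff_eq_mul.1 e2).symm⟩)
      exact hf.not_cyc ((hC' Q hQ).1.mono h3)⟩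
  replace hab := S1915.fr_coe hab
  obtain ⟨k, -, hk⟩ := hT.syl_Jsub hab.pGrp (hab.V_le a.2 b.2)
  have ha' := hk (mem_cj'.2 ⟨_, hab.l_mem, rfl⟩)
  have hb' := hk (mem_cj'.2 ⟨_, hab.r_mem, rfl⟩)
  replace hab := hab.cj k
  by_cases e : k * a * k⁻¹ = x * x
  · exact h.false hb' hab.r.sq hab.r.ne (e ▸ hab.ne)
  · exact h.false ha' hab.l.sq hab.l.ne e

end Cfsg.Agent.S1914
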