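import Cfsg.Statements.S1916
import Mathlib
import Cfsg.Agent.H20.L2a
import Cfsg.Agent.GW.Fin
import Cfsg.Agent.GW.Fin2
import Cfsg.Agent.H10.Sym3

set_option autoImplicit false
open Cfsg

namespace Cfsg.Agent.S1916

open Cfsg.Agent.FT Cfsg.Agent.GW Cfsg.Agent.H20 Cfsg.Agent.H10 Subgroup Equiv
open scoped MatrixGroups

section

variable {G : Type*} [Group G] [Finite G] {A : Type*} [Group A] [Finite A] {ι : A →* G} {a : G}

theorem not_four (hι : Function.Injective ι) (h : ∀ R : Sylow 2 ↥(ι.range ⊓ C[a]), IsCyclic R)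
    {θ : MulAut A} (hθ : Ind ι a θ) {u v : A} (hf : Fr u v) (hu : θ u = u) (hv : θ v = v) : False := by
  have h1 := Fr.map hι hf
  obtain ⟨S, hS, h2⟩ := h1.pGrp.exists_syl (h1.V_le (H := ι.range ⊓ C[a]) ⟨⟨u, rfl⟩, (hθ.mem_cen1 hι).2 hu⟩
    ⟨⟨v, rfl⟩, (hθ.mem_cen1 hι).2 hv⟩)
  obtain ⟨T, rfl⟩ := hS.exists_sylow Nat.prime_two
  exact h1.not_cyc (Cyc.mono (Cyc.map _ (h T)) h2)

theorem a7_four (σ : Perm (Fin 7)) (h : σ * σ = 1) : ∃ u v : alternatingGroup (Fin 7), Fr u v ∧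
    σ * u * σ⁻¹ = u ∧ σ * v * σ⁻¹ = v := by
  let u : alternatingGroup (Fin 7) := ⟨swap 0 1 * swap 2 3, by simp⟩
  let v : alternatingGroup (Fin 7) := ⟨swap 0 2 * swap 1 3, by simp⟩
  have hf : Fr u v := ⟨invo_of (by decide) (by decide), invo_of (by decide) (by decide), by decide, by decide⟩
  obtain ⟨τ, h1, h2, h3⟩ : ∃ τ : Perm (Fin 7), τ.cycleType = σ.cycleType ∧ τ * u = u * τ ∧ τ * v = v * τ := by
    by_cases c : σ = 1
    · exact ⟨1, by rw [c], by simp, by simp⟩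
    obtain ⟨k, hk⟩ := Perm.cycleType_prime_order (σ := σ) (by rw [invo_of h c]; exact Nat.prime_two)
    have hs := σ.sum_cycleType_le
    rw [hk, Multiset.sum_replicate, Fintype.card_fin, smul_eq_mul, invo_of h c] at hs
    rw [hk, invo_of h c]
    obtain rfl | rfl | rfl : k = 0 ∨ k = 1 ∨ k = 2 := by omega
    · exact ⟨swap 4 5, by decide, by decide, by decide⟩
    · exact ⟨swap 0 1 * swap 2 3, by decide, by decide, by decide⟩
    · exact ⟨swap 0 1 * swap 2 3 * swap 4 5, by decide, by decide, by decide⟩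
  obtain ⟨g, rfl⟩ := isConj_iff.1 (Perm.isConj_iff_cycleType_eq.2 h1)
  refine ⟨_, _, Fr.map (f := (MulAut.conjNormal g : MulAut (alternatingGroup (Fin 7))).toMonoidHom)
    (MulEquiv.injective _) hf, ?_, ?_⟩
  · change g * τ * g⁻¹ * (g * u * g⁻¹) * (g * τ * g⁻¹)⁻¹ = g * u * g⁻¹
    rw [show g * τ * g⁻¹ * (g * u * g⁻¹) * (g * τ * g⁻¹)⁻¹ = g * (τ * u * τ⁻¹) * g⁻¹ by group, h2,
      mul_inv_cancel_right]
  · change g * τ * g⁻¹ * (g * v * g⁻¹) * (g * τ * g⁻¹)⁻¹ = g * v * g⁻¹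
    rw [show g * τ * g⁻¹ * (g * v * g⁻¹) * (g * τ * g⁻¹)⁻¹ = g * (τ * v * τ⁻¹) * g⁻¹ by group, h3,
      mul_inv_cancel_right]

theorem a7_case {ι : alternatingGroup (Fin 7) →* G} (hι : Function.Injective ι) (ha : Invo a)
    (hn : a ∈ N(ι.range)) (h : ∀ R : Sylow 2 ↥(ι.range ⊓ C[a]), IsCyclic R) : False := by
  obtain ⟨θ, hθ⟩ := exists_ind hι hn
  obtain ⟨σ, hσ⟩ := alt_aut_conj (by simp) θ (.inl (by simp))
  have h1 : θ * θ = 1 := (hθ.mul hθ).uniq hι (ha.sq ▸ Ind.one)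
  have h2 : (⟨σ * σ, by simp [Perm.mem_alternatingGroup]⟩ : alternatingGroup (Fin 7)) ∈ center _ :=
    mem_center_iff.2 fun x => Subtype.ext (by
      have := congrArg Subtype.val (DFunLike.congr_fun h1 x)
      rw [MulAut.mul_apply, hσ, hσ] at this
      exact (mul_inv_eq_iff_eq_mul.1 (show σ * σ * x * (σ * σ)⁻¹ = x from (by group : _ = _).trans this)).symm)
  rw [alternatingGroup.center_eq_bot (by simp), mem_bot] at h2
  obtain ⟨u, v, h3, h4, h5⟩ := a7_four σ (congrArg Subtype.val h2)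
  exact not_four hι h hθ h3 (Subtype.ext ((hσ u).trans h4)) (Subtype.ext ((hσ v).trans h5))

theorem psl_case {F : Type} [Field F] [Finite F] {ι : PSL(2, F) →* G} (hι : Function.Injective ι)
    (ho : Odd (Nat.card F)) (ha : Invo a) (hn : a ∈ N(ι.range))
    (h : ∀ R : Sylow 2 ↥(ι.range ⊓ C[a]), IsCyclic R) :
    ∃ g, Ind ι a (pglAut g) ∧ Invo g ∧ g ∉ pslSub F := by
  obtain ⟨θ, hθ⟩ := exists_ind hι hn
  have h1 : θ * θ = 1 := (hθ.mul hθ).uniq hι (ha.sq ▸ Ind.one)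
  obtain ⟨u, v, h2, h3⟩ := exists_fixed_four (two_ne_zero_of_odd ho)
  obtain ⟨g, rfl⟩ | ⟨g, σ, -, rfl⟩ := aut_prime θ Nat.prime_two ((sq θ).trans h1)
  swap
  · exact (not_four hι h hθ (Fr.map (f := (pglAut g).toMonoidHom) (MulEquiv.injective _) h2)
      (by simp [(h3 σ).1]) (by simp [(h3 σ).2])).elim
  have h4 : Invo g := invo_of (pglAut_inj (by rw [map_mul, h1, map_one])) (by
    rintro rfl
    exact not_four hι h hθ h2 (by simp) (by simp))
  refine ⟨g, hθ, h4, fun c => ?_⟩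
  obtain ⟨x, rfl⟩ := exists_pslPi_eq c
  have h5 : Invo x := (orderOf_injective _ pslPi_injective x).symm.trans h4
  obtain ⟨p, hp, _⟩ := exists_charP F
  haveI := Fact.mk hp
  obtain ⟨k, -⟩ | ⟨-, T, k, -⟩ := cen_psl p (MulEquiv.refl _) h5.ne
  · obtain rfl := (Nat.prime_dvd_prime_iff_eq Nat.prime_two hp).1
      ((show orderOf x = 2 from h5) ▸ orderOf_dvd_of_pow_eq_one k)
    exact absurd (by exact_mod_cast CharP.cast_eq_zero F 2) (two_ne_zero_of_odd ho)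
  obtain ⟨s, hs⟩ := k.exists_fr h5
  exact not_four hι h hθ hs (by simp [pglAut_pslPi]) (by simp [pglAut_pslPi, hs.comm])

end

/-- Let L be a non-abelian simple subgroup of a finite group with dihedral Sylow 2-subgroups, and a, b two distinct commuting involutions normalizing L such that C_L(a) and C_L(b) have cyclic Sylow 2-subgroups and L is not contained in the subgroup generated by a, b, C_L(a) and C_L(b). Then ab centralizes L. -/
theorem result {G : Type*} [Group G] [Finite G] (L : Subgroup G) (hL : IsSimpleGroup L) (hLn : ¬ IsMulCommutative L)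
    (hD : ∀ P : Sylow 2 L, ∃ n : ℕ, Nonempty (↥(P : Subgroup L) ≃* DihedralGroup n))
    (a b : G) (ha : orderOf a = 2) (hb : orderOf b = 2) (hab : a ≠ b) (hc : a * b = b * a)
    (haL : a ∈ Subgroup.normalizer (L : Set G)) (hbL : b ∈ Subgroup.normalizer (L : Set G))
    (hCa : ∀ R : Sylow 2 ↥(L ⊓ Subgroup.centralizer ({a} : Set G)), IsCyclic R)
    (hCb : ∀ R : Sylow 2 ↥(L ⊓ Subgroup.centralizer ({b} : Set G)), IsCyclic R)
    (hgen : ¬ L ≤ Subgroup.closure ({a, b} : Set G) ⊔ (L ⊓ Subgroup.centralizer ({a} : Set G)) ⊔ (L ⊓ Subgroup.centralizer ({b} : Set G))) :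
    a * b ∈ Subgroup.centralizer (L : Set G) := by
  have hs := not_sol_of_not_comm hLn
  obtain ⟨P⟩ : Nonempty (Sylow 2 L) := inferInstance
  have hP := syl_top Nat.prime_two P
  obtain ⟨n, ⟨e⟩⟩ := hD P
  have hn : 2 ≤ n := by_contra fun c => by
    interval_cases n
    · haveI := Finite.of_equiv _ e.toEquiv
      exact not_finite (DihedralGroup 0)
    · exact hs (sol_npc (npc_of_cyc hP (cyc_of_prime (by
        rw [Nat.card_congr e.toEquiv, DihedralGroup.nat_card]; exact Nat.prime_two))))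
  obtain ⟨T, t, hd, -⟩ := dh_of_iso hP.pi hn e
  obtain ⟨F, _, _, h1, h2, ⟨e⟩⟩ | ⟨⟨e⟩⟩ := gw_iso' hs (hd.d2.dg hP)
  all_goals
    obtain ⟨ι, hι, rfl⟩ : ∃ ι : _ →* G, Function.Injective ι ∧ ι.range = L :=
      ⟨L.subtype.comp e.symm.toMonoidHom, L.subtype_injective.comp e.symm.injective, by
        rw [MonoidHom.range_comp, MonoidHom.range_eq_top.2 e.symm.surjective, ← MonoidHom.range_eq_map,
          range_subtype]⟩
  swap
  · exact (a7_case hι ha haL hCa).elim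
  rw [← Nat.card_eq_fintype_card] at h1 h2
  obtain ⟨g, h3, h4, h5⟩ := psl_case hι h1 ha haL hCa
  obtain ⟨g', h6, h7, h8⟩ := psl_case hι h1 hb hbL hCb
  by_cases c : g' = g
  · have := h3.mul h6
    rw [← map_mul, c, h4.sq, map_one] at this
    exact this.cen
  refine (hgen ?_).elim
  have hf : Fr g g' := ⟨h4, h7, pglAut_inj (by
    rw [map_mul, map_mul]; exact (h3.mul h6).uniq hι (hc ▸ h6.mul h3)), c⟩
  have hi : (pslSub F).index = 2 := by
    obtain ⟨k, hk⟩ := h1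
    rw [index_pslSub, Nat.gcd_eq_left (by omega)]
  generalize hX : closure {a, b} ⊔ (ι.range ⊓ C[a]) ⊔ (ι.range ⊓ C[b]) = X
  let Y : Subgroup PGL(2, F) :=
    { carrier := {y | ∃ x ∈ X, Ind ι x (pglAut y)}
      mul_mem' := fun ⟨x, h, k⟩ ⟨x', h', k'⟩ => ⟨_, mul_mem h h', by rw [map_mul]; exact k.mul k'⟩
      one_mem' := ⟨1, one_mem _, by rw [map_one]; exact Ind.one⟩
      inv_mem' := fun ⟨x, h, k⟩ => ⟨_, inv_mem h, by rw [map_inv]; exact k.inv⟩ }
  have k1 {a : G} {g : PGL(2, F)} (h : Ind ι a (pglAut g)) {x : PSL(2, F)} (hx : pslPi F x ∈ C[g]) :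
      ι x ∈ ι.range ⊓ C[a] := ⟨⟨x, rfl⟩, (h.mem_cen1 hι).2 (pslPi_injective (by
        rw [pslPi_pglAut, ← mem_cen1.1 hx, mul_inv_cancel_right]))⟩
  have k2 {a : G} {g : PGL(2, F)} (h : Ind ι a (pglAut g)) (h1 : g ∉ pslSub F) (h2 : a ∈ X)
      (h3 : ι.range ⊓ C[a] ≤ X) : C[g] ≤ Y := by
    have k {y : PGL(2, F)} (hy : y ∈ C[g]) (c : y ∈ pslSub F) : y ∈ Y := by
      obtain ⟨x, rfl⟩ := exists_pslPi_eq c
      exact ⟨ι x, h3 (k1 h hy), pglAut_pslPi x ▸ Ind.self x⟩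
    intro y hy
    by_cases c : y ∈ pslSub F
    · exact k hy c
    · exact (Y.mul_mem_cancel_right (show g ∈ Y from ⟨a, h2, h⟩)).1 (k (mul_mem hy (self_mem_cen1 g))
        ((mul_mem_iff_of_index_two hi).2 (iff_of_false c h1)))
  have k3 : ι.range ⊓ C[a] ≤ X := hX ▸ le_sup_of_le_left le_sup_right
  have h9 := (psl_le_cen_sup h1 h2 hf h5).trans (sup_le
    (k2 h3 h5 (hX ▸ mem_sup_left (mem_sup_left (subset_closure (by simp)))) k3)
    (k2 h6 h8 (hX ▸ mem_sup_left (mem_sup_left (subset_closure (by simp)))) (hX ▸ le_sup_right)))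
  have h10 : (X.comap ι).Normal := ⟨fun z hz y => by
    obtain ⟨x, hx, k⟩ := h9 (pslPi_mem y)
    rw [pglAut_pslPi] at k
    exact mem_comap.2 ((k z).symm ▸ mul_mem (mul_mem hx hz) (inv_mem hx))⟩
  haveI := e.symm.isSimpleGroup
  obtain ⟨x, hx⟩ := exists_pslPi_eq ((mul_mem_iff_of_index_two hi).2 (iff_of_false h5 h8))
  rw [MonoidHom.range_eq_map, map_le_iff_le_comap, h10.eq_bot_or_eq_top.resolve_left fun c => hf.mul.ne ?_]
  rw [← hx, show x = 1 from mem_bot.1 (c.le (k3 (k1 h3 (hx ▸ hf.left.mem)))), map_one]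

end Cfsg.Agent.S1916
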