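import Cfsg.Statements.S1921
import Mathlib
import Cfsg.Agent.H2.Pump

set_option autoImplicit false
open Cfsg

namespace Cfsg.Agent.S1921

open Cfsg.Agent.FT Subgroup
open scoped commutatorElement

/-- Let a be an involution of a finite group H and L a component of H with a L a⁻¹ ≠ L; put M = ⟨L, aLa⁻¹⟩ and let J be the subgroup generated by the elements x · a x a⁻¹ with x ∈ L (the diagonal). Then every element of M outside J·Z(M) generates M together with J. -/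
theorem result {H : Type*} [Group H] [Finite H] (a : H) (ha : orderOf a = 2) (L : Subgroup H) (hL : Cfsg.IsComponent L)
    (hLa : L.map (MulAut.conj a).toMonoidHom ≠ L) (x : H) (hxM : x ∈ L ⊔ L.map (MulAut.conj a).toMonoidHom)
    (hxJ : x ∉ Subgroup.closure {y : H | ∃ l ∈ L, y = l * (a * l * a⁻¹)} ⊔
      ((L ⊔ L.map (MulAut.conj a).toMonoidHom) ⊓ Subgroup.centralizer ((L ⊔ L.map (MulAut.conj a).toMonoidHom : Subgroup H) : Set H))) :
    Subgroup.closure {y : H | ∃ l ∈ L, y = l * (a * l * a⁻¹)} ⊔ Subgroup.zpowers x = L ⊔ L.map (MulAut.conj a).toMonoidHom := by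
  have hD := comp_top.2 hL
  have h := hD.diag Nat.prime_two ha (le_nrm_top ⊤ trivial) fun e => hLa (cj_eq_self.2 e)
  have hJ : closure {y : H | ∃ l ∈ L, y = l * (a * l * a⁻¹)} = h.diag := by
    rw [← closure_eq h.diag]
    congr 1
    ext y
    simp only [Set.mem_ofPred_eq, SetLike.mem_coe, h.mem_diag, dfun_two, eq_comm]
  have hc : cj a L ≤ C(L) := by simpa using h.cen 1 one_pos one_lt_two
  rw [hJ, ← cj_def] at hxJ ⊢
  rw [← cj_def] at hxM
  have h1 : h.diag ≤ L ⊔ cj a L := orbs_two ha L ▸ h.diag_le.trans inf_le_left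
  refine le_antisymm (sup_le h1 (zpowers_le.2 hxM)) ?_
  obtain ⟨l, hl, m, hm, rfl⟩ := (mem_sup_norm (cents_norm hc)).1 hxM
  obtain ⟨k, hk, rfl⟩ := mem_cj'.1 hm
  generalize hX : h.diag ⊔ ⟪l * (a * k * a⁻¹)⟫ = X
  have h2 : h.diag ≤ X := hX ▸ le_sup_left
  have h3 : l * k⁻¹ * dfun a 2 k = l * (a * k * a⁻¹) := by rw [dfun_two]; group
  have h4 : l * k⁻¹ ∈ L ⊓ X := by
    refine mem_inf.2 ⟨mul_mem hl (inv_mem hk), ?_⟩
    rw [← mul_inv_cancel_right (l * k⁻¹) (dfun a 2 k), h3]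
    exact mul_mem (hX ▸ mem_sup_right (mem_zpowers _)) (inv_mem (h2 (h.dfun_mem hk)))
  have h5 : L ⊓ X ⊴ L := ⟨inf_le_left, h.le_sup_cen.trans (sup_le (normsI h.diag_norms (norms_of_le h2))
    (cents_norm (centsS inf_le_left le_rfl)))⟩
  have h6 : L ≤ X := inf_eq_left.1 ((hD.qs.simple h5).resolve_right fun e => hxJ (by
    rw [← h3, sup_comm]
    exact mul_mem_sup ⟨mem_sup_left h4.1, (cen_sup _ _).ge ⟨e h4, centsC hc h4.1⟩⟩ (h.dfun_mem hk)))
  refine sup_le h6 fun y hy => ?_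
  obtain ⟨k, hk, rfl⟩ := mem_cj'.1 hy
  rw [← inv_mul_cancel_left k (a * k * a⁻¹), ← dfun_two]
  exact mul_mem (inv_mem (h6 hk)) (h2 (h.dfun_mem hk))

end Cfsg.Agent.S1921
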