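import Cfsg.Statements.S1922
import Cfsg.Agent.GO.Sm2

set_option autoImplicit false
open Cfsg

namespace Cfsg.Agent.S1922

/-- Let z be an involution of a finite group G and H a proper subgroup such that z lies in gHg⁻¹ exactly when g ∈ H. Then the following are equivalent: (1) for every conjugate t ≠ z of z commuting with z, the product zt lies in gHg⁻¹ exactly when g ∈ H; (2) z lies in the centre of some Sylow 2-subgroup of G, and for every conjugate t ≠ z of z commuting with z, the centralizer of zt is contained in H. -/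
theorem result {G : Type*} [Group G] [Finite G] (z : G) (hz : orderOf z = 2) (H : Subgroup G) (hH : H ≠ ⊤)
    (h0 : ∀ g : G, z ∈ H.map (MulAut.conj g).toMonoidHom ↔ g ∈ H) :
    (∀ t : G, IsConj z t → t ≠ z → t * z = z * t → ∀ g : G, z * t ∈ H.map (MulAut.conj g).toMonoidHom ↔ g ∈ H) ↔
      ((∃ P : Sylow 2 G, z ∈ (Subgroup.center ↥(P : Subgroup G)).map (P : Subgroup G).subtype) ∧
        ∀ t : G, IsConj z t → t ≠ z → t * z = z * t → Subgroup.centralizer ({z * t} : Set G) ≤ H) := by
  refine (GO.s1922 hz hH h0).trans (and_congr_left' ⟨fun ⟨P, hP, h⟩ => ?_,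
    fun ⟨P, h⟩ => ⟨P, FT.syl_top Nat.prime_two P, (FT.center_eq_map (P : Subgroup G)).symm ▸ h⟩⟩)
  obtain ⟨P, rfl⟩ := (FT.syl_top_iff Nat.prime_two).1 hP
  exact ⟨P, FT.center_eq_map (P : Subgroup G) ▸ h⟩

end Cfsg.Agent.S1922
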