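import Cfsg.Statements.S2062
import Cfsg.Agent.L1.Aut

set_option autoImplicit false
open Cfsg

namespace Cfsg.Agent.S2062

open Cfsg.Agent.H14

/-- the group with an element of order 11 and an involution as generators. -/
noncomputable def S : CSub A24 :=
  S22s.regen [0xbc9507c4d512d03a04892b9879b6c0, 0xbb4c93ae2453ac893e8c9d4b018820]
    [(0, 1), (1, 0), (2, 0), (3, 0), (5, 0), (5, 0), (6, 0), (8, 5), (8, 0), (9, 0), (10, 0), (11,
    0), (12, 0), (0, 6), (1, 0), (8, 0), (17, 9), (10, 0), (2, 2), (6, 0), (7, 0), (3, 5), (9, 0),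
    (10, 0), (6, 0), (7, 12), (8, 0), (2, 0), (0, 0), (8, 0), (5, 0), (15, 0), (14, 0), (20, 0),
    (16, 0), (36, 0), (11, 7), (16, 0), (17, 0), (21, 0), (27, 0), (34, 0), (35, 0), (30, 0), (37,
    0), (45, 0), (46, 0), (47, 0)]
    (by decide +kernel)

/-- a Sylow 11-subgroup. -/
noncomputable def P : CSub A24 :=
  CSub.cyc A24 0xbc9507c4d512d03a04892b9879b6c0 11 [(1, [0xbae364d212228ad0986c7d45341dc0])] (by decide +kernel)

theorem card_mulAut : Nat.card (MulAut S.K) = 2 * 443520 :=
  card_aut S SP2s P (a := 0xbc9507c4d512d03a04892b9879b6c0) (b := 0xbb4c93ae2453ac893e8c9d4b018820)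
    (x := 0xbca07b51c8a8d6f49a6a6922c28440) (p := 11) (n := 24) (m := 40320) (fuel := 760) rfl (by norm_num)
    (rels := [([false, true, false, false, false, true], 3), ([false, false, false, false, false, true,
    false, false, true], 3)])
    (certs := [0xbdab49ca307b9ac5a928398a418820, 0xbba4142e964d4e2545859c1e3690c0,
    0xb860b1da54998457550d244e963d40, 0xbd0d2242b138588b3a63129af49560,
    0xbae364d212228ad0986c7d45341dc0, 0xbd5662a82e64a648d04f4592d38e00,
    0xb9aca6b9614408fac8a71d26c12620, 0xbc435119ca6d133858e462c657a240,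
    0xbc1d13d5462d86992df36850223280, 0xbaa8e606cb1c5e7341a24c8882cea0,
    0xbc9507c4d512d03a04892b9879b6c0])
    (L := [0xb8eb44413279da152e3371844b1580, 0xbb4b45bd30922cc99e2e51aa118880,
    0xbac319ca904a98db39e81186429ea0, 0xbda349aab07a5666c9c13b08510d00,
    0xbd9cb94e247d425a0ce849990509a0])
    (U := 0x5f81d4)
    (lv := [(1, [0xbdab49ca307b9ac5a928398a418820, 0xbc9507c4d512d03a04892b9879b6c0,
    0xbc435119ca6d133858e462c657a240, 0xb9aca6b9614408fac8a71d26c12620,
    0xbba4142e964d4e2545859c1e3690c0, 0xbae364d212228ad0986c7d45341dc0,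
    0xbd0d2242b138588b3a63129af49560, 0xbc1d13d5462d86992df36850223280,
    0xbd5662a82e64a648d04f4592d38e00, 0xbaa8e606cb1c5e7341a24c8882cea0,
    0xb860b1da54998457550d244e963d40])])
    (cert := assocL [(0xbc9507c4d512d03a04892b9879b6c0, 0xbdab49ca307b9ac5a928398a418820),
    (0xbc435119ca6d133858e462c657a240, 0x15f38b584a8d5249c2eb228b81857),
    (0xb9aca6b9614408fac8a71d26c12620, 0xb9a2b142ca255a9952672b9e860c20),
    (0xbba4142e964d4e2545859c1e3690c0, 0xbc5ca4aeb2299a3a4184458ef14c20),
    (0xbae364d212228ad0986c7d45341dc0, 0xbd4d0651cb3d9a25486f245059a420),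
    (0xbd0d2242b138588b3a63129af49560, 0x2189310a75bd416ce36a0eae94057),
    (0xbc1d13d5462d86992df36850223280, 0xcad81d1373151224d4abd760c857),
    (0xbd5662a82e64a648d04f4592d38e00, 0x30670a5eda21509924b716d534457),
    (0xbaa8e606cb1c5e7341a24c8882cea0, 0xbbad21a8d4445b382c457d4874b020),
    (0xb860b1da54998457550d244e963d40, 0x3d0494c69b15463b6155b1d488457)])
    (by decide +kernel) (by decide +kernel)

theorem regen_K {G Ω : Type*} [Group G] [MulAction G Ω] {A : Amb G Ω} (S : CSub A) (gs : List ℕ)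
    (prog : List (ℕ × ℕ)) (H) : (S.regen gs prog H).K = S.K := rfl

theorem S_K : S.K = S22s.K := regen_K _ _ _ _

/-- The outer automorphism group of the Mathieu group M₂₂ (the permutations in the automorphism group of the length-24 binary code that fix each of two given points) has order 2. -/
theorem result : Nat.card (Cfsg.Out ↥Cfsg.Spor.M22) = 2 := by
  have : IsSimpleGroup S22s.K := simple_S22
  exact card_out_of_equiv (K := S22s.K) equivM22 (n := 443520) S22s.card_eq
    (Nat.not_prime_of_dvd_of_lt (m := 2) (by norm_num) le_rfl (by norm_num)) (S_K ▸ card_mulAut)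

end Cfsg.Agent.S2062
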