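import Cfsg.Statements.S2063
import Cfsg.Agent.L1.Aut

set_option autoImplicit false
open Cfsg

namespace Cfsg.Agent.S2063

open Cfsg.Agent.H14

/-- the group with an element of order 5 and an involution as generators. -/
noncomputable def S : CSub A24 :=
  S23s.regen [0xbdab098c324ac4e8a00629d5423d8d, 0xbb4c93ae2453ac893e8c9d4b018820]
    [(1, 0), (1, 0), (2, 0), (4, 0), (4, 0), (5, 0), (6, 0), (7, 0), (8, 8), (10, 0), (10, 0), (11,
    0), (12, 0), (14, 0), (6, 0), (7, 0), (17, 0), (18, 9), (10, 0), (0, 2), (1, 0), (4, 0), (5, 0),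
    (6, 0), (7, 0), (8, 6), (9, 0), (10, 10), (9, 0), (0, 2), (5, 0), (6, 0), (3, 7), (6, 0), (5,
    0), (10, 0), (17, 9), (18, 0), (39, 0), (31, 0), (32, 0), (41, 0), (42, 0), (43, 0), (44, 0),
    (46, 0), (46, 0), (47, 0), (49, 0), (49, 0), (14, 18), (15, 0), (23, 0), (26, 0), (27, 0), (36,
    0), (48, 0), (58, 0), (58, 0), (60, 0)]
    (by decide +kernel)

/-- a Sylow 5-subgroup. -/
noncomputable def P : CSub A24 :=
  CSub.cyc A24 0xbdab098c324ac4e8a00629d5423d8d 5 [(0, [0xbdaa39d1c46853161c45428d28016f])] (by decide +kernel)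

theorem card_mulAut : Nat.card (MulAut S.K) = 1 * 10200960 :=
  card_aut S S23s P (a := 0xbdab098c324ac4e8a00629d5423d8d) (b := 0xbb4c93ae2453ac893e8c9d4b018820)
    (x := 0xbb144b4c354c50b3d2126bc461940e) (p := 5) (n := 24) (m := 2040192) (fuel := 760) rfl (by norm_num)
    (rels := [([false, true], 23), ([false, false, false, false, true, false, true], 6), ([false, false,
    false, true, false, false, true, false, true], 6)])
    (certs := [0xbdab49ca307b9ac5a928398a418820, 0xbd661b38ac799a83d1301c89158940,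
    0xbcecaa98887c9b01852c5ba2538a80, 0xbd66eb450b015e7549a3a120c0a4c2,
    0xbdab299183045eb099a751510a25c2, 0xbcec6a9607011e3a39ab0c58852642,
    0xbcec5aa06a14014945e17316733489, 0xbd671b30e11200a311f49406b734a9,
    0xbdaa49c17413001715ea320e393629, 0xbd66cb2d4e49c462c01220e818bd0d,
    0xbdab098c324ac4e8a00629d5423d8d, 0xbcec8a9e8648c522300e8ac2a2be0d,
    0xbcec7aaa456d12482c51605c64006f, 0xbd66bb04d16a92540c448524e600ef,
    0xbdaa39d1c46853161c45428d28016f])
    (L := [0xb90740c9303096c682283bcb6aba6a, 0xbc6a320acf819a859d2c538b3a4820,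
    0xbd6c19b22f821b25a8ee488a019a84, 0xbac23800b37b847b292861a24a36b2,
    0xb9a3454ab0235cc14c683d8af4ac01, 0xbd6d498e305a5ac785c231c0492145])
    (U := 0x802f38)
    (lv := [(0, [0xbdab49ca307b9ac5a928398a418820, 0xbdab098c324ac4e8a00629d5423d8d,
    0xbdab299183045eb099a751510a25c2, 0xbdaa39d1c46853161c45428d28016f,
    0xbdaa49c17413001715ea320e393629])])
    (cert := assocL [(0xbdab098c324ac4e8a00629d5423d8d, 0xbdab49ca307b9ac5a928398a418820),
    (0xbdab299183045eb099a751510a25c2, 0xbd6d298cb449dea4384162e24834c0),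
    (0xbdaa39d1c46853161c45428d28016f, 0xbd6d09d0a36a847331eb7062492500),
    (0xbdaa49c17413001715ea320e393629, 0xbcec7aa08614132a2dae0b22553c60)])
    (by decide +kernel) (by decide +kernel)

theorem regen_K {G Ω : Type*} [Group G] [MulAction G Ω] {A : Amb G Ω} (S : CSub A) (gs : List ℕ)
    (prog : List (ℕ × ℕ)) (H) : (S.regen gs prog H).K = S.K := rfl

theorem S_K : S.K = S23s.K := regen_K _ _ _ _

/-- The outer automorphism group of the Mathieu group M₂₃ (the stabiliser of a point in the automorphism group of the length-24 binary code) is trivial: every automorphism is inner. -/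
theorem result : Nat.card (Cfsg.Out ↥Cfsg.Spor.M23) = 1 := by
  have : IsSimpleGroup S23s.K := simple_S23
  exact card_out_of_equiv (K := S23s.K) equivM23 (n := 10200960) S23s.card_eq
    (Nat.not_prime_of_dvd_of_lt (m := 2) (by norm_num) le_rfl (by norm_num)) (S_K ▸ card_mulAut)

end Cfsg.Agent.S2063
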