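import Cfsg.Statements.S2068
import Cfsg.Agent.H15.J4.XO

set_option autoImplicit false
open Cfsg

namespace Cfsg.Agent.S2068

/-- The outer automorphism group of the Janko group J₄ (the finitely presented group of the definitions) is trivial: every automorphism is inner. -/
theorem result : Nat.card (Cfsg.Out Cfsg.Spor.J4) = 1 := by
  exact (Subgroup.index_eq_card _).symm.trans
    (Subgroup.index_eq_one.2 (eq_top_iff.2 fun α _ => Cfsg.Agent.H15.J4.inn α))

end Cfsg.Agent.S2068
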