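import Cfsg.Statements.S2131
import Mathlib
import Cfsg.Agent.JR.Spec
import Cfsg.Agent.H25.J1O
-- import your own Cfsg.Agent.* helpers here

set_option autoImplicit false
open Cfsg

namespace Cfsg.Agent.S2131


open Subgroup Cfsg.Agent.FT in
theorem aux {G : Type*} [Group G] [Finite G] {t : G} {φ : JR.A5 →* G} (h : JR.Ja t φ) :
    Nonempty (↥C[t] ≃* Multiplicative (ZMod 2) × JR.A5) := by
  haveI : Fact (Nat.Prime 2) := ⟨Nat.prime_two⟩
  let e₁ : Multiplicative (ZMod 2) ≃* ⟪t⟫ := mulEquivOfPrimeCardEq (p := 2) (by simp) (by rw [card_zpowers', h.ht])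
  let f : Multiplicative (ZMod 2) × JR.A5 →* G := MonoidHom.noncommCoprod (⟪t⟫.subtype.comp e₁.toMonoidHom) φ
    fun a b => mem_cen.mp (h.dp.cen ⟨b, rfl⟩) _ (e₁ a).2
  have hf : ∀ a b, f (a, b) = e₁ a * φ b := fun a b => rfl
  have hinj : Function.Injective f := by
    rw [injective_iff_map_eq_one]
    rintro ⟨a, b⟩ hab
    rw [hf] at hab
    have h1 : (e₁ a : G) = 1 := eq_one_of_mem_inf h.dp.inf (e₁ a).2 (by
      rw [eq_inv_of_mul_eq_one_left hab]; exact inv_mem ⟨b, rfl⟩)
    rw [h1, one_mul] at hab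
    exact Prod.ext (e₁.injective (Subtype.ext (h1.trans (by simp)))) (h.inj (hab.trans (map_one φ).symm))
  have hr : f.range = C[t] := by
    refine (MonoidHom.noncommCoprod_range _ _ _).trans (Eq.trans ?_ h.dp.sup)
    rw [ MonoidHom.range_comp, MonoidHom.range_eq_top.mpr e₁.surjective,
      ← MonoidHom.range_eq_map, range_subtype]
  exact ⟨((MonoidHom.ofInjective hinj).trans (MulEquiv.subgroupCongr hr)).symm⟩


/-- The Janko group J₁ (the group generated by two explicit 7 × 7 matrices over the integers modulo 11) has an involution whose centraliser is isomorphic to the direct product of a group of order 2 with the alternating group of degree 5. -/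
theorem result : ∃ t : ↥Cfsg.Spor.J1, orderOf t = 2 ∧ Nonempty (↥(Subgroup.centralizer ({t} : Set ↥Cfsg.Spor.J1)) ≃* Multiplicative (ZMod 2) × ↥(alternatingGroup (Fin 5))) := by
  haveI := H25.J1O.simple
  haveI : Finite Spor.J1 := Nat.finite_of_card_ne_zero (by rw [H25.J1.hcard]; norm_num)
  obtain ⟨t, φ, h⟩ := JR.ja_of_card' H25.J1.hcard
  exact ⟨t, h.ht, aux h⟩

end Cfsg.Agent.S2131
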