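import Cfsg.Statements.S2134
import Cfsg.Agent.H15.HeZ

set_option autoImplicit false
open Cfsg

namespace Cfsg.Agent.S2134
open Cfsg.Agent.H15 Cfsg.Agent.H14

/-- The Held group (presented on seven involutions, as in the definitions) has an involution whose centraliser is isomorphic to the centraliser of a transvection in SL(5, 2) (a group of shape 2^{1+6}:GL(3, 2)). -/
theorem result (s : Matrix.SpecialLinearGroup (Fin 5) (ZMod 2)) (hs : (s : Matrix (Fin 5) (Fin 5) (ZMod 2)) = Matrix.transvection 0 1 1) : ∃ z : Cfsg.Spor.He, orderOf z = 2 ∧ Nonempty (↥(Subgroup.centralizer ({z} : Set Cfsg.Spor.He)) ≃* ↥(Subgroup.centralizer ({s} : Set (Matrix.SpecialLinearGroup (Fin 5) (ZMod 2))))) := by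
  let e : Matrix.SpecialLinearGroup (Fin 5) (ZMod 2) ≃* GL (Fin 5) (ZMod 2) :=
    MulEquiv.ofBijective Matrix.SpecialLinearGroup.toGL ⟨Matrix.SpecialLinearGroup.toGL_injective, fun g =>
      ⟨⟨g.1, (by decide : ∀ x : ZMod 2, x ≠ 0 → x = 1) _ g.det_ne_zero⟩,
        Units.ext (Matrix.SpecialLinearGroup.coe_GL_coe_matrix _)⟩⟩
  have h1 : e s = (lprod HeZ.uA.e [6])⁻¹ := Units.ext (hs.trans HeZ.inv_s.symm)
  have h2 : (Subgroup.centralizer {s}).map e.toMonoidHom = Subgroup.centralizer {lprod HeZ.uA.e [6]} := by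
    ext g
    obtain ⟨g, rfl⟩ := e.surjective g
    refine (Subgroup.mem_map_iff_mem e.injective).trans ?_
    rw [Subgroup.mem_centralizer_singleton_iff, Subgroup.mem_centralizer_singleton_iff, ← e.injective.eq_iff, map_mul,
      map_mul, h1]
    exact Commute.inv_right_iff
  obtain ⟨f⟩ := HeZ.main
  exact ⟨_, orderOf_two (He.base0.pow (u := [3]) (by decide +kernel))
    (He.A0.ne_of_neAt (x := 2) (v := []) (by decide +kernel)),
    ⟨f.trans ((MulEquiv.subgroupCongr h2).symm.trans (Subgroup.equivMapOfInjective _ _ e.injective).symm)⟩⟩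

end Cfsg.Agent.S2134
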