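import Cfsg.Statements.S2212
import Cfsg.Agent.GW.U3
import Cfsg.Agent.H11.UBal
import Cfsg.Agent.S0283
import Cfsg.Agent.S0279

set_option autoImplicit false
open Cfsg

namespace Cfsg.Agent.S2212

section
open Subgroup Cfsg.Agent.FT Cfsg.Agent.GW Cfsg.Agent.GO Cfsg.Agent.H11
variable {G A : Type*} [Group G] [Finite G] [Group A] [Finite A] {q : ℕ} {C P Z : Subgroup A}

theorem tb_us [IsSimpleGroup G] {S Z : Subgroup G} (h : US q S Z) (hS : Syl 2 S ⊤) : TB G := by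
  have h1 : ¬ Ab (⊤ : Subgroup G) := fun e => h.not_le fun x hx => by
    obtain ⟨y, h1, h2⟩ := SetLike.not_le_iff_exists.1 h.not_le
    have := h.le_der.trans (comm_eq_bot.2 ((ab_iff.1 (e.mono le_top)))).le
    have h3 := h.cardZ ▸ card_le_of_le this
    have := h.four
    simp at h3
    omega
  have h2 : ∀ N : Subgroup G, N ⊴ ⊤ → N = ⊤ ∨ N = ⊥ := fun N hN => (nml_top_iff.1 hN).eq_bot_or_eq_top.symm
  refine (h.comp hS ((h2 _ (pcore_nml _ _)).resolve_left fun e => ?_) ⟨Subn.refl _, qs_iff.2 ⟨(h2 _ (der_nml _)).resolve_right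
    fun e => h1 (ab_iff.2 (comm_eq_bot.1 e)), top_ne_bot, fun N hN => (h2 N hN).imp_right fun e => e.le.trans bot_le⟩⟩).1.of_equiv
    topEquiv
  exact h.not_le ((hS.pi.eq_bot ((pcore_pi {2}ᶜ ⊤).mono (le_top.trans e.ge))).le.trans bot_le)

variable (h : US q P Z) (hP : Syl 2 P C) (hn : C ≤ N(P)) (hZ : C ≤ C(Z)) (hO : C ⊓ C(P) ≤ Z)
  (hC : ∀ x : G, Invo x → ∃ j : C →* G, Function.Injective j ∧ j.range = C[x])
include h hP hn hZ hO hC

theorem comm {x u g : G} (hx : Invo x) (hu : u ∈ C[x]) (hg : g ∈ C[x]) (h2 : u * u = 1) : u * g = g * u := by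
  obtain ⟨j, h3, e⟩ := hC x hx
  obtain ⟨u, rfl⟩ := e.ge hu
  obtain ⟨g, rfl⟩ := e.ge hg
  have h4 : u.1 * u.1 = 1 := congrArg Subtype.val (h3 (by rw [map_mul, h2, map_one]) : u * u = 1)
  rw [← map_mul, ← map_mul]
  exact congrArg j (Subtype.ext (hZ g.2 u ((h.mem u).2 ⟨hP.mem_of_nml hn u.2 (piElt_of_pow_eq_one
    ((piNat_prime Nat.prime_two).2 rfl) ((sq _).trans h4)), h4⟩)))

theorem odd_bot {x : G} (hx : Invo x) {K : Subgroup G} (hK : K ⊴ C[x]) (ho : PiGrp {2}ᶜ K) : K = ⊥ := by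
  obtain ⟨j, h3, e⟩ := hC x hx
  refine eq_bot_iff.2 fun k hk => ?_
  obtain ⟨w, rfl⟩ := e.ge (hK.le hk)
  have key : ∀ y : C, y.1 ∈ P → j y ∈ K → y = 1 := fun y h1 h2 => Subtype.ext ((hP.pi.piElt h1).eq_one (by
    have := ho.piElt h2
    rwa [PiElt, orderOf_injective j h3, ← orderOf_coe] at this))
  rw [key w (h.le (hO ⟨w.2, fun p hp => ?_⟩)) hk, map_one]
  · exact one_mem _
  have := key (⟨p, hP.le hp⟩⁻¹ * (w * ⟨p, hP.le hp⟩ * w⁻¹)) (mul_mem (inv_mem hp) (conj_mem (hn w.2) hp)) (by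
    simp only [map_mul, map_inv, ← mul_assoc]
    exact mul_mem (conj_mem' (hK.nrm (e.le ⟨_, rfl⟩)) hk) (inv_mem hk))
  exact (mul_inv_eq_iff_eq_mul.1 (inv_mul_eq_one.1 (congrArg Subtype.val this)).symm).symm

theorem exists_us (he : Even (Nat.card G)) : ∃ S Z : Subgroup G, Syl 2 S ⊤ ∧ US q S Z := by
  obtain ⟨S, hS⟩ := exists_syl 2 (⊤ : Subgroup G)
  obtain ⟨x, hx, h1⟩ := exists_invo ((hS.pi.mono inf_le_left).dvd (hS.pi.center_ne_bot
    (hS.ne_bot rfl ⟨Nat.prime_two, card_top' (G := G) ▸ he.two_dvd⟩)))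
  obtain ⟨j, h3, e⟩ := hC x h1
  have h2 := h.map (j.comp (inclusion hP.le)) (h3.comp (inclusion_injective _))
  suffices e' : (j.comp (inclusion hP.le)).range = S from ⟨S, _, hS, e' ▸ h2⟩
  refine hS.max ?_ (fun s hs => ?_) le_top
  · unfold PiGrp
    rw [h2.card, ← h.card]
    exact hP.pi
  · obtain ⟨s, rfl⟩ := e.ge (mem_cen1.2 (hx.2 s hs))
    refine ⟨⟨s, hP.mem_of_nml hn s.2 ?_⟩, rfl⟩
    have := hS.pi.piElt hs
    rwa [PiElt, orderOf_injective j h3, ← orderOf_coe] at this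

theorem od {S Z : Subgroup G} (k : US q S Z) : Od((⊤ : Subgroup G)) = ⊥ := by
  have h1 : Abelem 2 Z := ⟨k.ab, fun x hx => (sq x).trans ((k.mem x).1 hx).2⟩
  refine eq_bot_iff.2 (coprime_abelian_gen_cent1 k.ab (fun e => ?_) (le_top.trans (pcore_nrm _ _))
    ((pcore_pi _ _).cop' (h1.pGrp Nat.prime_two)) fun z hz h2 => (odd_bot h hP hn hZ hO hC
      (invo_iff.2 ⟨((k.mem z).1 hz).2, h2⟩) (nml_inf_of_norms' (le_top.trans (pcore_nrm _ _))) ((pcore_pi _ _).mono inf_le_left)).le)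
  exact absurd ((k.cardZ ▸ k.four).trans (Nat.le_of_dvd two_pos (h1.card_dvd_of_cyc e))) (by norm_num)

theorem embed (he : Even (Nat.card G)) (hS : ∀ P : Sylow 2 G, ¬ (P : Subgroup G).Normal) {F : Type*} [Field F] [Fintype F]
    (hF : Fintype.card F = q ^ 2) : ∃ (f : G →* MulAut (PSU 3 F q)) (i : PSU 3 F q →* G), Function.Injective f ∧
      (∀ k, f (i k) = MulAut.conj k) ∧ ∀ g, ∃ m, Odd m ∧ g ^ m ∈ i.range := by
  obtain ⟨S, Z, h1, k⟩ := exists_us h hP hn hZ hO hC he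
  have h2 := od h hP hn hZ hO hC k
  obtain h3 | ⟨L, h3, h4, F', _, _, h5, ⟨e⟩⟩ := k.main h1 h2
  · obtain ⟨P, rfl⟩ := (syl_top_iff Nat.prime_two).1 h1
    exact absurd (nml_top_iff.1 ⟨le_top, h3⟩) (hS P)
  obtain ⟨e'⟩ := H8.psu_congr (K := F') (L := F) (by simp [h5, hF]) 3 q
  have := nml_top_iff.1 h3
  have h6 : PiNat {2}ᶜ L.index := relIndex_top_right (H := L) ▸ h1.relIndex_of_le h4
  have := S0283.result hF 3 le_rfl (by have := k.four; omega)
  have := (e.trans e').isSimpleGroup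
  have h7 : L ⊓ C(L) = ⊥ := by
    rw [center_eq_map, (inferInstance : (center L).Normal).eq_bot_or_eq_top.resolve_right fun c => k.not_le ?_, Subgroup.map_bot]
    have : S ≤ C(S) := fun x hx y hy => congrArg Subtype.val (mem_center_iff.1 (c.ge (mem_top ⟨x, h4 hx⟩)) ⟨y, h4 hy⟩)
    have h3 := k.cardZ ▸ card_le_of_le (k.le_der.trans (comm_eq_bot.2 this).le)
    have := k.four
    simp at h3
    omega
  have h8 : C(L) = ⊥ := eq_bot_of_le (pcore_max (PiNat.of_dvd h6 ?_) ⟨le_top, norms_cent h3.nrm⟩) h2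
  refine ⟨(MulAut.congr (e.trans e')).toMonoidHom.comp MulAut.conjNormal, L.subtype.comp (e.trans e').symm.toMonoidHom,
    (injective_iff_map_eq_one _).2 fun g hg => h8.le fun y hy => ?_, fun k => ?_, fun g => ⟨L.index, Nat.odd_iff.2 (Nat.two_dvd_ne_zero.1 ((p'nat_iff Nat.prime_two).1 h6)), ?_⟩⟩
  · have := congrArg Subtype.val (DFunLike.congr_fun ((map_eq_one_iff _ (MulAut.congr (e.trans e')).injective).1 hg) ⟨y, hy⟩)
    exact (mul_inv_eq_iff_eq_mul.1 this).symm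
  · ext x
    have : ∀ a b : L, MulAut.conjNormal (a : G) b = a * b * a⁻¹ := fun a b => Subtype.ext rfl
    simp [this]
  · exact ⟨_, congrArg Subtype.val ((e.trans e').symm_apply_apply ⟨_, L.pow_index_mem g⟩)⟩
  · rw [← relIndex_bot_left, ← h7, inf_relIndex_right]
    exact relIndex_dvd_index_of_normal _ _

end

section
open Subgroup Cfsg.Agent.FT Cfsg.Agent.GW Cfsg.Agent.GO Cfsg.Agent.H11
variable {F : Type*} [Field F] [CharP F 2] {σ : F →+* F} {q : ℕ} (hq : QConj σ q) (h : ¬ (3 = 3 ∧ q = 2))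

theorem iso : hermB (Fin 3) σ ![1, 1, 0] ![1, 1, 0] = 0 := by
  simp [hermB_apply, Fin.sum_univ_three, CharTwo.add_self_eq_zero]

omit [CharP F 2] in
theorem ktr (c : (trHom σ).ker) : c.1 + σ c.1 = 0 := c.2

/-- the transvections with a fixed centre -/
noncomputable def tv (c : (trHom σ).ker) : SU 3 F q :=
  (suEquiv hq 3).symm ⟨(hq.isHerm _).trv iso (ktr c), (hq.isHerm _).eich_mem_sisom _ _ _⟩

theorem tv_mul (c d : (trHom σ).ker) : tv hq c * tv hq d = tv hq (c + d) := by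
  rw [tv, tv, ← map_mul]
  congr 1
  ext x : 3
  simp only [MulMemClass.coe_mul, LinearEquiv.mul_apply]
  rw [IsHerm.trv_apply, IsHerm.trv_apply, IsHerm.trv_apply, map_sub, map_smul, iso, AddSubgroup.coe_add]
  module

theorem tv_zero : tv hq 0 = 1 := by
  rw [tv, map_eq_one_iff _ (suEquiv hq 3).symm.injective]
  ext x : 3
  simp [IsHerm.trv_apply]

theorem tv_sq (c : (trHom σ).ker) : tv hq c * tv hq c = 1 := by
  rw [tv_mul, show c + c = 0 from Subtype.ext (CharTwo.add_self_eq_zero _), tv_zero]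

include hq in
theorem odd_cen : ¬ 2 ∣ Nat.card (center (SU 3 F q)) := by
  have := hq.finite
  have := Fintype.ofFinite F
  rw [S0279.result (Nat.card_eq_fintype_card.symm.trans hq.card) 3 le_rfl]
  exact fun e => absurd (e.trans (Nat.gcd_dvd_left _ _)) (by norm_num)

theorem exists_one : ∃ x, hermB (Fin 3) σ ![1, 1, 0] x = 1 := ⟨![1, 0, 0], by simp [hermB_apply, Fin.sum_univ_three]⟩

theorem tv_inj {c d : (trHom σ).ker} (e : (tv hq c : PSU 3 F q) = tv hq d) : c = d := by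
  have := (suEquiv hq 3).symm.injective (eq_of_mk_eq_of_pow (odd_cen hq) ⟨1, (sq _).trans (tv_sq hq c)⟩
    ⟨1, (sq _).trans (tv_sq hq d)⟩ e)
  obtain ⟨x, hx⟩ := exists_one (σ := σ)
  simpa [IsHerm.trv_apply, hx] using congrArg (fun g : SIsom _ => g.1.1 x 0) this

theorem fix_iff {γ} (c : (trHom σ).ker) : hq.psuBar le_rfl h γ (tv hq c) = tv hq c ↔ ∀ x,
    (γ.1.2 c * γ.1.2 (hermB (Fin 3) σ ![1, 1, 0] x)) • γ.1.1 ![1, 1, 0] =
      (c * hermB (Fin 3) σ ![1, 1, 0] (γ.1.1 x)) • ![1, 1, 0] := by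
  rw [QConj.psuBar, matBar_mk]
  refine Iff.trans ⟨fun e => eq_of_mk_eq_of_pow (odd_cen hq) ⟨1, ?_⟩ ⟨1, (sq _).trans (tv_sq hq c)⟩ e, congrArg _⟩ ?_
  · rw [← map_pow, map_eq_one_iff _ (suEquiv hq 3).symm.injective, Subtype.ext_iff, coe_pow, ← map_pow, ← coe_pow,
      ← map_pow, show tv hq c ^ 2 ^ 1 = 1 from (sq _).trans (tv_sq hq c)]
    simp
  rw [tv, (suEquiv hq 3).symm.apply_eq_iff_eq, Subtype.ext_iff, MulEquiv.apply_symm_apply, semiConj_eq_iff]
  refine forall_congr' fun x => ?_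
  rw [IsHerm.trv_apply, IsHerm.trv_apply, SemiSim.map_sub, SemiSim.map_smul, sub_right_inj, map_mul]
  all_goals exact ktr c

/-- the parameter `1` -/
def one : (trHom σ).ker := ⟨1, show (1 : F) + σ 1 = 0 by rw [map_one, CharTwo.add_self_eq_zero]⟩

theorem fixA {β} (hβ : β ∈ ((hq.psuBar le_rfl h).comp (ofIsom _ _)).range) (e : β (tv hq one) = tv hq one) (c) :
    β (tv hq c) = tv hq c := by
  obtain ⟨g, rfl⟩ := hβ
  refine (fix_iff hq h c).2 fun x => ?_
  have := (fix_iff hq h one).1 e x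
  simp only [one, ofIsom_field, RingAut.one_apply, one_mul] at this ⊢
  rw [mul_smul, this, mul_smul]

theorem fixB {β : MulAut (PSU 3 F q)} (e : ∀ c, β (tv hq c) = tv hq c) {m : ℕ} (hm : Odd m) (hβ : β ^ m ∈ Inn _) :
    β ∈ ((hq.psuBar le_rfl h).comp (ofIsom _ _)).range := by
  have := hq.finite
  obtain ⟨π, h1, h2⟩ := hq.exists_autType le_rfl h
  obtain ⟨γ, rfl⟩ := hq.psuBar_surjective le_rfl h β
  obtain ⟨x, hx⟩ := exists_one (σ := σ)
  have h3 := (fix_iff hq h one).1 (e _) x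
  have h4 : γ.1.1 ![1, 1, 0] ≠ 0 := fun c => by simpa using congrFun ((SemiSim.map_eq_zero _).1 c) 0
  obtain ⟨i, hi⟩ := BS.u_galois σ γ.1.2.toRingHom fun c hc => by
    have h5 := (fix_iff hq h ⟨c, show c + σ c = 0 by rw [hc, CharTwo.add_self_eq_zero]⟩).1 (e _) x
    simp only [one, hx, map_one, one_mul, mul_one, one_smul] at h3 h5
    rw [mul_smul, ← h3] at h5
    exact smul_left_injective F h4 h5
  have h5 : γ.1.2 ^ 2 = 1 := by
    have h6 : σ * σ = 1 := RingHom.ext hq.invol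
    have : γ.1.2.toRingHom * γ.1.2.toRingHom = 1 := by rw [hi, ← pow_add, ← two_mul, pow_mul, sq, h6, one_pow]
    exact RingEquiv.ext fun a => DFunLike.congr_fun this a
  have h6 : γ.1.2 ^ m = 1 := by rw [← h1, ← map_pow]; exact h2.ge (inn_le_range_matBar hβ)
  obtain ⟨k, rfl⟩ := hm
  rw [pow_succ, pow_mul, h5, one_pow, one_mul] at h6
  exact h2.le ((h1 γ).trans h6)

theorem invo_tv : Invo (tv hq one : PSU 3 F q) :=
  invo_iff.2 ⟨by rw [← QuotientGroup.mk_mul, tv_sq, QuotientGroup.mk_one], fun e => one_ne_zero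
    (congrArg Subtype.val (tv_inj hq (e.trans (by rw [tv_zero, QuotientGroup.mk_one])) : one = 0))⟩

theorem tv_comm (c d) : (tv hq c : PSU 3 F q) * tv hq d = tv hq d * tv hq c := by
  rw [← QuotientGroup.mk_mul, ← QuotientGroup.mk_mul, tv_mul, tv_mul, add_comm]

omit [CharP F 2] in
include hq h in
theorem conj_comm {β : MulAut (PSU 3 F q)} {k} : β ∈ C[MulAut.conj k] ↔ β k = k := by
  rw [mem_cen1, ← mul_inv_eq_iff_eq_mul, ← (hq.conj_injective le_rfl h).eq_iff (a := β k)]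
  exact Eq.congr_left (by ext; simp)

end

section
open Subgroup Cfsg.Agent.FT Cfsg.Agent.GW Cfsg.Agent.GO Cfsg.Agent.H11
variable {G A : Type*} [Group G] [Group A]

theorem map_cen {f : G →* A} (hf : Function.Injective f) (x : G) : C[x].map f = f.range ⊓ C[f x] := by
  ext y
  refine ⟨?_, ?_⟩
  · rintro ⟨y, hy, rfl⟩
    exact ⟨⟨y, rfl⟩, mem_cen1.2 (by rw [← map_mul, mem_cen1.1 hy, map_mul])⟩
  · rintro ⟨⟨y, rfl⟩, hy⟩
    exact ⟨y, mem_cen1.2 (hf (by rw [map_mul, mem_cen1.1 hy, map_mul])), rfl⟩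

theorem fratt {E X : Subgroup A} {x : A} (h : OneCl E) (hE : E ⊴ X) (hx : x ∈ E) (h1 : Invo x) : X = E ⊔ X ⊓ C[x] := by
  refine le_antisymm (fun g hg => ?_) (sup_le hE.le inf_le_left)
  obtain ⟨e, he, h2⟩ := h x hx _ (conj_mem (hE.nrm hg) hx) h1 (h1.conj g)
  rw [← mul_inv_cancel_left e g]
  refine mul_mem_sup he (mem_inf.2 ⟨mul_mem (inv_mem (hE.le he)) hg, mem_cen1.2 ?_⟩)
  rw [mul_assoc, mul_inv_eq_iff_eq_mul.1 h2.symm]
  group

variable {F : Type*} [Field F] [Fintype F] [CharP F 2] {σ : F →+* F} {n : ℕ} (hq : QConj σ (2 ^ n))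
  (h : ¬ (3 = 3 ∧ 2 ^ n = 2)) (hn : 2 ≤ n) (hF : Fintype.card F = (2 ^ n) ^ 2)
include hn hF

theorem model {C : Subgroup (MulAut (PSU 3 F (2 ^ n)))} (hC : C = ((hq.psuBar le_rfl h).comp (ofIsom _ _)).range ⊓
    C[MulAut.conj (tv hq one : PSU 3 F (2 ^ n))]) : OneCl (Inn (PSU 3 F (2 ^ n))) ∧
      ∃ P Z, US (2 ^ n) P Z ∧ Syl 2 P C ∧ C ≤ N(P) ∧ C ≤ C(Z) ∧ C ⊓ C(P) ≤ Z := by
  have := S0283.result hF 3 le_rfl (by omega)
  have inj := hq.conj_injective le_rfl h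
  have h1 := invo_tv hq
  obtain ⟨S, hS, h2⟩ := h1.pGrp.exists_syl le_top
  obtain ⟨P, rfl⟩ := (syl_top_iff Nat.prime_two).1 hS
  obtain ⟨Z, k⟩ := us_psu hn hF P
  have t : TB (Inn (PSU 3 F (2 ^ n))) := (tb_us k hS).of_equiv (MonoidHom.ofInjective inj)
  have k' := k.map (MulAut.conj.comp (Subgroup.subtype _)) (inj.comp (subtype_injective _))
  have h3 : Syl 2 (MulAut.conj.comp (P : Subgroup (PSU 3 F (2 ^ n))).subtype).range (Inn _) := by
    rw [MonoidHom.range_comp, range_subtype, Inn, MonoidHom.range_eq_map]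
    exact hS.map _
  have h4 : MulAut.conj (tv hq one : PSU 3 F (2 ^ n)) ∈ (MulAut.conj.comp (P : Subgroup (PSU 3 F (2 ^ n))).subtype).range :=
    ⟨⟨_, h2 (mem_zpowers _)⟩, rfl⟩
  generalize (MulAut.conj.comp (P : Subgroup (PSU 3 F (2 ^ n))).subtype).range = T at k' h3 h4
  generalize pmap (G' := MulAut (PSU 3 F (2 ^ n))) _ Z = Y at k'
  obtain ⟨Y', R, fr⟩ := t.frame h3
  obtain rfl : Y = Y' := le_antisymm (fun x hx => fr.om x ((k'.mem x).1 hx).1 ((k'.mem x).1 hx).2) fun x hx =>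
    (k'.mem x).2 ⟨fr.ZT hx, by rw [← sq, fr.el.pow hx]⟩
  have le : Inn _ ≤ ((hq.psuBar le_rfl h).comp (ofIsom _ _)).range := inn_le_range_matBar
  have as : AS ((hq.psuBar le_rfl h).comp (ofIsom _ _)).range (Inn _) :=
    ⟨⟨le, le_normalizer_of_normal⟩, eq_bot_iff.2 fun β hβ => MulEquiv.ext fun x =>
      (conj_comm hq h).1 (mem_cen1.2 (hβ.2 _ ⟨x, rfl⟩).symm)⟩
  have sq : ∀ c, MulAut.conj (tv hq c : PSU 3 F (2 ^ n)) * MulAut.conj (tv hq c : PSU 3 F (2 ^ n)) = 1 := fun c => by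
    rw [← map_mul, ← QuotientGroup.mk_mul, tv_sq, QuotientGroup.mk_one, map_one]
  have h5 := (k'.mem _).2 ⟨h4, sq _⟩
  have h6 : C ≤ N(T) := hC ▸ t.cen1 as fr h5 ((map_ne_one_iff _ inj).2 h1.ne)
  have h7 : T ≤ C := hC ▸ le_inf (h3.le.trans le) fun x hx => mem_cen1.2 (k'.cen h5 x hx)
  have h8 : Syl 2 T C := (h3.of_relIndex le ?_).subl h7 (hC ▸ inf_le_left)
  have h9 : ∀ c, MulAut.conj (tv hq c : PSU 3 F (2 ^ n)) ∈ Y := fun c => (k'.mem _).2 ⟨h8.mem_of_nml h6 (hC ▸ ⟨le ⟨_, rfl⟩,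
    mem_cen1.2 (by rw [← map_mul, tv_comm, map_mul])⟩) (piElt_of_pow_eq_one ((piNat_prime Nat.prime_two).2 rfl)
      ((_root_.sq _).trans (sq c))), sq c⟩
  refine ⟨fr.cl, T, Y, k', h8, h6, fun β hβ z hz => ?_, (inf_le_inf_right _ (hC ▸ inf_le_left)).trans (t.cenT as fr)⟩
  · obtain ⟨c, e⟩ := (Function.Injective.bijective_of_nat_card_le (f := fun c => (⟨_, h9 c⟩ : Y)) (fun c d e =>
      tv_inj hq (inj (congrArg Subtype.val e))) (k'.cardZ.trans hq.card_ker_tr.symm).le).2 ⟨z, hz⟩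
    rw [hC] at hβ
    obtain rfl : MulAut.conj (tv hq c : PSU 3 F (2 ^ n)) = z := congrArg Subtype.val e
    exact (mem_cen1.1 ((conj_comm hq h).2 (fixA hq h hβ.1 ((conj_comm hq h).1 hβ.2) c))).symm
  · have h9 := card_mul_relIndex le
    rw [hq.card_range_psuBar, ← Nat.card_congr (MonoidHom.ofInjective inj).toEquiv, mul_comm] at h9
    rw [Nat.eq_of_mul_eq_mul_right Nat.card_pos h9]
    exact p'nat_of_not_dvd fun e => absurd (e.trans (Nat.gcd_dvd_left _ _)) (by norm_num)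

end

/-- Characterization of the three-dimensional projective unitary groups over finite fields of characteristic two by the centralizer of an involution. Let q = 2^n > 2 and let PGU₃(q) be the quotient of the full unitary group of a non-degenerate Hermitian form in three variables over the field with q² elements by its centre. Let G be a finite group of even order in which all involutions are conjugate, the centralizer of an involution is isomorphic to the centralizer of an involution in PGU₃(q), and a Sylow 2-subgroup is not normal. Then G ≅ PGU₃(q). -/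
theorem result {G : Type*} [Group G] [Finite G] {F : Type*} [Field F] [Fintype F] [CharP F 2] (q : ℕ) (hq : 2 < q) (hF : Fintype.card F = q ^ 2)
    (heven : Even (Nat.card G)) (hconj : ∀ s t : G, orderOf s = 2 → orderOf t = 2 → IsConj s t)
    (hC : ∀ (x : G) (y : (↥(Cfsg.GU 3 F q) ⧸ Subgroup.center ↥(Cfsg.GU 3 F q))), orderOf x = 2 → orderOf y = 2 →
      Nonempty (↥(Subgroup.centralizer ({x} : Set G)) ≃* ↥(Subgroup.centralizer ({y} : Set (↥(Cfsg.GU 3 F q) ⧸ Subgroup.center ↥(Cfsg.GU 3 F q))))))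
    (hS : ∀ P : Sylow 2 G, ¬ (P : Subgroup G).Normal) :
    Nonempty (G ≃* (↥(Cfsg.GU 3 F q) ⧸ Subgroup.center ↥(Cfsg.GU 3 F q))) := by
  obtain ⟨n, rfl⟩ : ∃ n, q = 2 ^ n := ringChar.eq F 2 ▸ H11.exists_eq_char_pow hF
  have hn : 2 ≤ n := by
    by_contra c
    interval_cases n <;> simp at hq
  have h : ¬ (3 = 3 ∧ 2 ^ n = 2) := by omega
  have k := H11.qConj_conjQ hF
  generalize H11.conjQ hF = σ at k
  obtain ⟨cl, P, Z, h1, h2, h3, h4, h5⟩ := model k h hn hF rfl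
  set Γ := ((k.psuBar le_rfl h).comp (H11.ofIsom _ _)).range with hΓ
  let ε : (GU 3 F (2 ^ n) ⧸ Subgroup.center (GU 3 F (2 ^ n))) ≃* Γ := (H11.quotCenterEquiv (H11.guEquiv k 3)).trans
    ((QuotientGroup.quotientMulEquivOfEq (((k.isHerm _).center_uisom (H11.hermB_sep _) (by simp)).trans
      (k.ker_psuBar_ofIsom le_rfl h).symm)).trans (QuotientGroup.quotientKerEquivRange _))
  have le : Inn _ ≤ Γ := H11.inn_le_range_matBar
  have inj := k.conj_injective le_rfl h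
  have i0 : GW.Invo (MulAut.conj (tv k one : PSU 3 F (2 ^ n))) := (orderOf_injective _ inj _).trans (invo_tv k)
  have hj : ∀ x : G, GW.Invo x → ∃ j : ↥(Γ ⊓ Subgroup.centralizer {MulAut.conj (tv k one : PSU 3 F (2 ^ n))}) →* G,
      Function.Injective j ∧ j.range = Subgroup.centralizer {x} := fun x hx => by
    have h6 : Function.Injective (Γ.subtype.comp ε.toMonoidHom) := Γ.subtype_injective.comp ε.injective
    obtain ⟨y, hy⟩ := ε.surjective ⟨_, le ⟨(tv k one : PSU 3 F (2 ^ n)), rfl⟩⟩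
    have h7 : (Γ.subtype.comp ε.toMonoidHom) y = MulAut.conj (tv k one : PSU 3 F (2 ^ n)) := congrArg Subtype.val hy
    obtain ⟨e⟩ := hC x y hx (by rw [← orderOf_injective _ h6, h7]; exact i0)
    have h8 := map_cen h6 y
    rw [h7, MonoidHom.range_comp, MonoidHom.range_eq_top.2 ε.surjective, ← MonoidHom.range_eq_map,
      Subgroup.range_subtype] at h8
    let e' := e.trans ((Subgroup.equivMapOfInjective _ _ h6).trans (MulEquiv.subgroupCongr h8))
    exact ⟨(Subgroup.subtype _).comp e'.symm.toMonoidHom, (Subgroup.subtype_injective _).comp e'.symm.injective, by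
      rw [MonoidHom.range_comp, MonoidHom.range_eq_top.2 e'.symm.surjective, ← MonoidHom.range_eq_map,
        Subgroup.range_subtype]⟩
  obtain ⟨f, i, h6, h7, h8⟩ := embed h1 h2 h3 h4 h5 hj heven hS hF
  have i1 : GW.Invo (i (tv k one)) := by rwa [GW.Invo, ← orderOf_injective _ h6, h7]
  have le' : Inn _ ≤ f.range := by rintro _ ⟨x, rfl⟩; exact ⟨_, h7 x⟩
  have h9 : f.range ⊓ Subgroup.centralizer {MulAut.conj (tv k one : PSU 3 F (2 ^ n))} =
      Γ ⊓ Subgroup.centralizer {MulAut.conj (tv k one : PSU 3 F (2 ^ n))} := by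
    rw [← h7, ← map_cen h6]
    refine FT.eq_of_card_eq ?_ ?_
    · rintro _ ⟨g, hg, rfl⟩
      obtain ⟨m, hm, x, hx⟩ := h8 g
      refine ⟨fixB k h (fun c => (conj_comm k h).1 (FT.mem_cen1.2 ?_)) hm ⟨x, by rw [← h7, hx, map_pow]⟩,
        ((map_cen h6 _).le ⟨g, hg, rfl⟩).2⟩
      rw [← h7, ← map_mul, ← map_mul, comm h1 h2 h3 h4 h5 hj i1 (FT.mem_cen1.2 ?_) hg ?_]
      · rw [← map_mul, tv_comm, map_mul]
      · rw [← map_mul, ← QuotientGroup.mk_mul, tv_sq, QuotientGroup.mk_one, map_one]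
    · obtain ⟨j, h9, e⟩ := hj _ i1
      rw [FT.card_map_inj h6, ← e, h7]
      exact (Nat.card_congr (MonoidHom.ofInjective h9).toEquiv).symm
  have e : f.range = Γ := by
    rw [fratt cl ⟨le', Subgroup.le_normalizer_of_normal⟩ ⟨_, rfl⟩ i0, h9,
      ← fratt cl ⟨le, Subgroup.le_normalizer_of_normal⟩ ⟨_, rfl⟩ i0]
  exact ⟨(MonoidHom.ofInjective h6).trans ((MulEquiv.subgroupCongr e).trans ε.symm)⟩

end Cfsg.Agent.S2212
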