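import Cfsg.Statements.S2247
import Mathlib
import Cfsg.Agent.H13.SzBasic

set_option autoImplicit false
open Cfsg

namespace Cfsg.Agent.S2247

/-- In the Suzuki group with q = 2^(2m+1), m ≥ 1 (realised as the stabiliser in SL₄ of the Suzuki–Tits ovoid), the normalizer of a Sylow 2-subgroup P is a maximal subgroup and is the only maximal subgroup containing P. -/
theorem result {F : Type*} [Field F] [Fintype F] {m : ℕ} (hm : 1 ≤ m) (hF : Fintype.card F = 2 ^ (2 * m + 1)) (P : Sylow 2 ↥(Cfsg.Sz F m)) :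
    IsCoatom (Subgroup.normalizer ((P : Subgroup ↥(Cfsg.Sz F m)) : Set ↥(Cfsg.Sz F m))) ∧
    ∀ M : Subgroup ↥(Cfsg.Sz F m), IsCoatom M → (P : Subgroup ↥(Cfsg.Sz F m)) ≤ M → M = Subgroup.normalizer ((P : Subgroup ↥(Cfsg.Sz F m)) : Set ↥(Cfsg.Sz F m)) := by
  have hF' : Nat.card F = 2 ^ (2 * m + 1) := by rw [Nat.card_eq_fintype_card, hF]
  obtain ⟨k, hk⟩ := (H13.szDataA hm hF').exists_conj_U_eq_sylow P
  set S := (H13.szDataA hm hF').conj k with hS
  rw [← hk, S.normalizer_U]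
  have hne : MulAction.stabilizer (Cfsg.Sz F m) S.inf ≠ ⊤ := by
    intro h
    have : S.w ∈ MulAction.stabilizer (Cfsg.Sz F m) S.inf := h ▸ Subgroup.mem_top _
    rw [MulAction.mem_stabilizer_iff, S.w_smul_inf] at this
    exact S.pt_ne_inf _ _ this
  refine ⟨⟨hne, fun M hM => ?_⟩, fun M hM hPM => ?_⟩
  · obtain ⟨g, hg, hg'⟩ := SetLike.exists_of_lt hM
    exact S.split.eq_top_of_stabilizer_le hM.le hg hg'
  · have : M ≤ MulAction.stabilizer (Cfsg.Sz F m) S.inf := by
      intro g hg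
      by_contra hg'
      exact hM.1 (S.eq_top_of_U_le hPM hg hg')
    exact ((hM.le_iff.1 this).resolve_left hne).symm

end Cfsg.Agent.S2247
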