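import Cfsg.Statements.S2271
import Mathlib


set_option autoImplicit false
open Cfsg

namespace Cfsg.Agent.S2271

open Equiv Finset

section
variable {Ω : Type} [Fintype Ω] [DecidableEq Ω]

theorem sum_right (f : Perm Ω → ℤ) (ρ : Perm Ω) (h : ∀ g, f (g * ρ) = - f g) : ∑ g, f g = 0 := by
  have h1 : ∑ g, f (g * ρ) = ∑ g, f g := Equiv.sum_comp (Equiv.mulRight ρ) f
  simp only [h, Finset.sum_neg_distrib] at h1
  omega

theorem sum_left (f : Perm Ω → ℤ) (ρ : Perm Ω) (h : ∀ g, f (ρ * g) = - f g) : ∑ g, f g = 0 := by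
  have h1 : ∑ g, f (ρ * g) = ∑ g, f g := Equiv.sum_comp (Equiv.mulLeft ρ) f
  simp only [h, Finset.sum_neg_distrib] at h1
  omega

theorem exists_not_mem (S : Finset Ω) (h : S.card < Fintype.card Ω) : ∃ x, x ∉ S := by
  by_contra hc
  push Not at hc
  have : S = univ := eq_univ_of_forall hc
  rw [this, card_univ] at h
  omega

theorem ex4 (h : 5 ≤ Fintype.card Ω) (a b c d : Ω) : ∃ x, x ≠ a ∧ x ≠ b ∧ x ≠ c ∧ x ≠ d := by
  obtain ⟨x, hx⟩ := exists_not_mem ({a, b, c, d} : Finset Ω)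
    (lt_of_le_of_lt Finset.card_le_four (by omega))
  exact ⟨x, by simpa [not_or] using hx⟩

theorem exrho (h : 5 ≤ Fintype.card Ω) (p q y z : Ω) (hpq : p ≠ q) :
    ∃ ρ : Perm Ω, Perm.sign ρ = -1 ∧ ρ y = y ∧ ρ z = z ∧
      ((ρ p = p ∧ ρ q = q) ∨ (ρ p = q ∧ ρ q = p)) := by
  have key : ∀ w : Ω, ∃ ρ : Perm Ω, Perm.sign ρ = -1 ∧ ρ p = p ∧ ρ q = q ∧ ρ w = w := by
    intro w
    obtain ⟨u, h1, h2, h3, -⟩ := ex4 h p q w w
    obtain ⟨v, h4, h5, h6, h7⟩ := ex4 h p q w u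
    exact ⟨swap u v, Perm.sign_swap h7.symm, swap_apply_of_ne_of_ne h1.symm h4.symm,
      swap_apply_of_ne_of_ne h2.symm h5.symm, swap_apply_of_ne_of_ne h3.symm h6.symm⟩
  by_cases hy : y = p ∨ y = q
  · obtain ⟨ρ, h1, h2, h3, h4⟩ := key z
    exact ⟨ρ, h1, by rcases hy with rfl | rfl <;> assumption, h4, Or.inl ⟨h2, h3⟩⟩
  by_cases hz : z = p ∨ z = q
  · obtain ⟨ρ, h1, h2, h3, h4⟩ := key y
    exact ⟨ρ, h1, h4, by rcases hz with rfl | rfl <;> assumption, Or.inl ⟨h2, h3⟩⟩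
  push Not at hy hz
  exact ⟨swap p q, Perm.sign_swap hpq, swap_apply_of_ne_of_ne hy.1 hy.2,
    swap_apply_of_ne_of_ne hz.1 hz.2, Or.inr ⟨swap_apply_left _ _, swap_apply_right _ _⟩⟩

/-- agreement count -/
def phi (a b g : Perm Ω) : ℤ := ∑ y, if g (b y) = a (g y) then 1 else 0

theorem step1 (h : 5 ≤ Fintype.card Ω) (a b : Perm Ω) (c : ℤ)
    (hc : ∀ g, Perm.sign g = 1 → phi a b g = c) (w : Ω → Ω → ℤ) (hw : ∀ x y, w x y = w y x)
    (p q : Ω) (hpq : p ≠ q) :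
    ∑ g : Perm Ω, w (g p) (g q) * phi a b g = c * ∑ g : Perm Ω, w (g p) (g q) := by
  have h1 : ∑ g : Perm Ω, w (g p) (g q) * (Perm.sign g : ℤ) * phi a b g = 0 := by
    simp only [phi, Finset.mul_sum]
    rw [Finset.sum_comm]
    refine Finset.sum_eq_zero fun y _ => ?_
    obtain ⟨ρ, h1, h2, h3, h4⟩ := exrho h p q y (b y) hpq
    refine sum_right _ ρ fun g => ?_
    simp only [Perm.mul_apply, h2, h3, map_mul, h1]
    rcases h4 with ⟨h4, h5⟩ | ⟨h4, h5⟩ <;> rw [h4, h5]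
    · split_ifs <;> simp
    · rw [hw (g q)]; split_ifs <;> simp
  have h2 : ∑ g : Perm Ω, w (g p) (g q) * (Perm.sign g : ℤ) = 0 := by
    refine sum_right _ (swap p q) fun g => ?_
    simp only [Perm.mul_apply, swap_apply_left, swap_apply_right, map_mul, Perm.sign_swap hpq]
    rw [hw (g q)]; simp
  have h3 : ∀ g : Perm Ω, w (g p) (g q) * phi a b g + w (g p) (g q) * (Perm.sign g : ℤ) * phi a b g
      = c * w (g p) (g q) + c * (w (g p) (g q) * (Perm.sign g : ℤ)) := by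
    intro g
    rcases Int.units_eq_one_or (Perm.sign g) with h | h
    · rw [hc g h, h]; simp; ring
    · rw [h]; simp
  have h4 := Finset.sum_congr rfl (fun g (_ : g ∈ (univ : Finset (Perm Ω))) => h3 g)
  rw [Finset.sum_add_distrib, Finset.sum_add_distrib, h1, ← Finset.mul_sum, ← Finset.mul_sum, h2] at h4
  simpa using h4

def ee (X Y u v : Ω) : ℤ := if (X = u ∧ Y = v) ∨ (X = v ∧ Y = u) then 1 else 0

def RR (p q r s X Y : Ω) : ℤ := ee X Y p q + ee X Y r s - ee X Y p r - ee X Y q s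

def DD (p q r s A B C D : Ω) : ℤ :=
  RR p q r s A B + RR p q r s C D - RR p q r s A C - RR p q r s B D

omit [Fintype Ω] in
theorem ee_symm (X Y u v : Ω) : ee X Y u v = ee Y X u v := by
  unfold ee; congr 1; apply propext; tauto

omit [Fintype Ω] in
theorem ee_symm' (X Y u v : Ω) : ee X Y u v = ee X Y v u := by
  unfold ee; congr 1; apply propext; tauto

omit [Fintype Ω] in
theorem RR_symm (p q r s X Y : Ω) : RR p q r s X Y = RR p q r s Y X := by
  simp only [RR, ee_symm X Y]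

omit [Fintype Ω] in
theorem ee_swap (X Y u v a b : Ω) :
    ee (swap a b X) (swap a b Y) u v = ee X Y (swap a b u) (swap a b v) := by
  unfold ee
  simp only [swap_apply_eq_iff]

omit [Fintype Ω] in
theorem DD_nonneg {p q r s A B C D : Ω} (h1 : p ≠ q) (h2 : p ≠ r) (h3 : p ≠ s) (h4 : q ≠ r)
    (h5 : q ≠ s) (h6 : r ≠ s) (k1 : A ≠ B) (k2 : A ≠ C) (k3 : A ≠ D) (k4 : B ≠ C)
    (k5 : B ≠ D) (k6 : C ≠ D)
    (h : ((A = p ∧ B = q) ∨ (A = q ∧ B = p) ∨ (A = r ∧ B = s) ∨ (A = s ∧ B = r)) ∨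
      ((C = p ∧ D = q) ∨ (C = q ∧ D = p) ∨ (C = r ∧ D = s) ∨ (C = s ∧ D = r))) :
    1 ≤ DD p q r s A B C D := by
  unfold DD RR ee
  rcases h with (⟨rfl, rfl⟩ | ⟨rfl, rfl⟩ | ⟨rfl, rfl⟩ | ⟨rfl, rfl⟩) |
    (⟨rfl, rfl⟩ | ⟨rfl, rfl⟩ | ⟨rfl, rfl⟩ | ⟨rfl, rfl⟩) <;>
  simp [h1, h2, h3, h4, h5, h6, k1, k2, k3, k4, k5, k6, h1.symm, h2.symm, h3.symm, h4.symm,
    h5.symm, h6.symm, k1.symm, k2.symm, k3.symm, k4.symm, k5.symm, k6.symm] <;>
  split_ifs <;> simp_all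

theorem quad (h : 5 ≤ Fintype.card Ω) (b : Perm Ω) (hb : b ≠ 1) :
    ∃ p q r s : Ω, p ≠ q ∧ p ≠ r ∧ p ≠ s ∧ q ≠ r ∧ q ≠ s ∧ r ≠ s ∧ b p = q ∧
      b r ≠ p ∧ b q ≠ s := by
  obtain ⟨p, hp⟩ : ∃ p, b p ≠ p := by
    by_contra hc
    push Not at hc
    exact hb (Equiv.ext hc)
  obtain ⟨r, h1, h2, h3, -⟩ := ex4 h p (b p) (b⁻¹ p) p
  obtain ⟨s, h4, h5, h6, h7⟩ := ex4 h p (b p) (b (b p)) r
  refine ⟨p, b p, r, s, hp.symm, h1.symm, h4.symm, h2.symm, h5.symm, h7.symm, rfl, ?_, h6.symm⟩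
  intro h8
  exact h3 (by rw [← h8]; simp)

theorem main (h : 5 ≤ Fintype.card Ω) (a b : Perm Ω) (ha : a ≠ 1) (hb : b ≠ 1) (c : ℤ)
    (hc : ∀ g, Perm.sign g = 1 → phi a b g = c) : False := by
  obtain ⟨p, q, r, s, h1, h2, h3, h4, h5, h6, h7, h8, h9⟩ := quad h b hb
  obtain ⟨p', q', r', s', k1, k2, k3, k4, k5, k6, k7, k8, k9⟩ := quad h a ha
  let D : Perm Ω → ℤ := fun g => DD p' q' r' s' (g p) (g q) (g r) (g s)
  have e1 : ∀ g, D (g * swap q r) = - D g := by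
    intro g
    simp only [D, Perm.mul_apply, swap_apply_left, swap_apply_right,
      swap_apply_of_ne_of_ne h1 h2, swap_apply_of_ne_of_ne h5.symm h6.symm, DD]
    ring
  have e2 : ∀ g, D (g * swap p s) = - D g := by
    intro g
    simp only [D, Perm.mul_apply, swap_apply_left, swap_apply_right,
      swap_apply_of_ne_of_ne h1.symm h5, swap_apply_of_ne_of_ne h2.symm h6, DD]
    rw [RR_symm _ _ _ _ (g s) (g q), RR_symm _ _ _ _ (g r) (g p), RR_symm _ _ _ _ (g s) (g r),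
      RR_symm _ _ _ _ (g q) (g p)]
    ring
  have e3 : ∀ g, D (swap q' r' * g) = - D g := by
    intro g
    simp only [D, Perm.mul_apply, DD, RR, ee_swap, swap_apply_left, swap_apply_right,
      swap_apply_of_ne_of_ne k1 k2, swap_apply_of_ne_of_ne k5.symm k6.symm]
    ring
  have e4 : ∀ g, D (swap p' s' * g) = - D g := by
    intro g
    simp only [D, Perm.mul_apply, DD, RR, ee_swap, swap_apply_left, swap_apply_right,
      swap_apply_of_ne_of_ne k1.symm k5, swap_apply_of_ne_of_ne k2.symm k6,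
      ee_symm' _ _ s' q', ee_symm' _ _ r' p', ee_symm' _ _ s' r', ee_symm' _ _ q' p']
    ring
  have z1 : ∑ g, D g * phi a b g = 0 := by
    have s1 := fun x y hxy => step1 h a b c hc (RR p' q' r' s') (RR_symm p' q' r' s') x y hxy
    have s2 : ∑ g, D g = 0 := sum_right D _ e1
    simp only [D, DD, add_mul, sub_mul, Finset.sum_add_distrib, Finset.sum_sub_distrib] at s2 ⊢
    rw [s1 p q h1, s1 r s h6, s1 p r h2, s1 q s h5]
    linear_combination c * s2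
  let T : Ω → Ω → ℤ := fun y x => ∑ g : Perm Ω, D g * if g y = x ∧ g (b y) = a x then 1 else 0
  have z2 : ∑ g, D g * phi a b g = ∑ y, ∑ x, T y x := by
    simp only [T, phi, Finset.mul_sum]
    rw [Finset.sum_comm]
    refine Finset.sum_congr rfl fun y _ => ?_
    rw [Finset.sum_comm]
    refine Finset.sum_congr rfl fun g _ => ?_
    rw [← Finset.mul_sum]
    congr 1
    rw [Finset.sum_eq_single (g y)]
    · simp
    · intro x _ hx
      simp [hx.symm]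
    · simp
  have hpos : ∀ (g : Perm Ω) (y x : Ω), ((y = p ∧ b y = q) ∨ (y = q ∧ b y = p) ∨ (y = r ∧ b y = s) ∨
      (y = s ∧ b y = r)) → ((x = p' ∧ a x = q') ∨ (x = q' ∧ a x = p') ∨ (x = r' ∧ a x = s') ∨
      (x = s' ∧ a x = r')) → g y = x → g (b y) = a x → 1 ≤ D g := by
    intro g y x hy hx hg1 hg2
    have inj : ∀ {u v}, u ≠ v → g u ≠ g v := fun h h' => h (g.injective h')
    refine DD_nonneg k1 k2 k3 k4 k5 k6 (inj h1) (inj h2) (inj h3) (inj h4) (inj h5) (inj h6) ?_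
    rcases hy with ⟨hy1, hy2⟩ | ⟨hy1, hy2⟩ | ⟨hy1, hy2⟩ | ⟨hy1, hy2⟩ <;>
      rw [hy2] at hg2 <;> rw [hy1] at hg1 <;> rw [hg1, hg2] <;>
      rcases hx with hx | hx | hx | hx <;> rw [hx.2, hx.1] <;> simp
  have z3 : ∀ y x, 0 ≤ T y x := by
    intro y x
    by_cases c1 : (y ≠ q ∧ y ≠ r) ∧ (b y ≠ q ∧ b y ≠ r)
    · refine (sum_right _ (swap q r) fun g => ?_).ge
      simp only [e1, Perm.mul_apply, swap_apply_of_ne_of_ne c1.1.1 c1.1.2,
        swap_apply_of_ne_of_ne c1.2.1 c1.2.2, neg_mul]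
    by_cases c2 : (y ≠ p ∧ y ≠ s) ∧ (b y ≠ p ∧ b y ≠ s)
    · refine (sum_right _ (swap p s) fun g => ?_).ge
      simp only [e2, Perm.mul_apply, swap_apply_of_ne_of_ne c2.1.1 c2.1.2,
        swap_apply_of_ne_of_ne c2.2.1 c2.2.2, neg_mul]
    by_cases c3 : (x ≠ q' ∧ x ≠ r') ∧ (a x ≠ q' ∧ a x ≠ r')
    · refine (sum_left _ (swap q' r') fun g => ?_).ge
      simp only [e3, Perm.mul_apply, swap_apply_eq_iff, swap_apply_of_ne_of_ne c3.1.1 c3.1.2,
        swap_apply_of_ne_of_ne c3.2.1 c3.2.2, neg_mul]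
    by_cases c4 : (x ≠ p' ∧ x ≠ s') ∧ (a x ≠ p' ∧ a x ≠ s')
    · refine (sum_left _ (swap p' s') fun g => ?_).ge
      simp only [e4, Perm.mul_apply, swap_apply_eq_iff, swap_apply_of_ne_of_ne c4.1.1 c4.1.2,
        swap_apply_of_ne_of_ne c4.2.1 c4.2.2, neg_mul]
    have hb' : ∀ u, b u = q → u = p := fun u hu => b.injective (hu.trans h7.symm)
    have ha' : ∀ u, a u = q' → u = p' := fun u hu => a.injective (hu.trans k7.symm)
    have hy : (y = p ∧ b y = q) ∨ (y = q ∧ b y = p) ∨ (y = r ∧ b y = s) ∨ (y = s ∧ b y = r) := by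
      grind
    have hx : (x = p' ∧ a x = q') ∨ (x = q' ∧ a x = p') ∨ (x = r' ∧ a x = s') ∨
      (x = s' ∧ a x = r') := by grind
    refine Finset.sum_nonneg fun g _ => ?_
    split_ifs with hg
    · have := hpos g y x hy hx hg.1 hg.2
      omega
    · simp
  have z4 : 0 < T p p' := by
    obtain ⟨g0, hg1, hg2⟩ : ∃ g0 : Perm Ω, g0 p = p' ∧ g0 q = q' := by
      refine ⟨swap (swap p p' q) q' * swap p p', ?_, by simp⟩
      rw [Perm.mul_apply, swap_apply_left]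
      refine swap_apply_of_ne_of_ne ?_ k1
      intro h
      apply h1
      apply (swap p p').injective
      rw [← h, swap_apply_left]
    refine Finset.sum_pos' (fun g _ => ?_) ⟨g0, mem_univ _, ?_⟩
    · split_ifs with hg
      · have := hpos g p p' (Or.inl ⟨rfl, h7⟩) (Or.inl ⟨rfl, k7⟩) hg.1 hg.2
        omega
      · simp
    · have hg3 : g0 (b p) = a p' := by rw [h7, k7, hg2]
      have := hpos g0 p p' (Or.inl ⟨rfl, h7⟩) (Or.inl ⟨rfl, k7⟩) hg1 hg3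
      rw [if_pos ⟨hg1, hg3⟩]
      omega
  have z5 : 0 < ∑ y, ∑ x, T y x :=
    Finset.sum_pos' (fun y _ => Finset.sum_nonneg fun x _ => z3 y x)
      ⟨p, mem_univ _, Finset.sum_pos' (fun x _ => z3 p x) ⟨p', mem_univ _, z4⟩⟩
  omega

theorem card_fix (a b g : Perm Ω) :
    (Nat.card (Function.fixedPoints ⇑(1 * a * 1⁻¹ * (g * b * g⁻¹))) : ℤ) = phi a⁻¹ b g := by
  have : Nat.card (Function.fixedPoints ⇑(1 * a * 1⁻¹ * (g * b * g⁻¹))) =
      Nat.card {y // g (b y) = a⁻¹ (g y)} := by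
    refine (Nat.card_congr (Equiv.subtypeEquiv g fun y => ?_)).symm
    simp only [Function.mem_fixedPoints, Function.IsFixedPt, one_mul, inv_one, mul_one,
      Perm.mul_apply, Perm.eq_inv_iff_eq]
    simp
  rw [this, Nat.card_eq_fintype_card, Fintype.card_subtype, phi, Finset.card_filter]
  simp
end

/-- Let n ≥ 5 and let a, b be non-identity permutations in the symmetric group S_n. Then the number of fixed points is not constant on the set of products a′b′ with a′ conjugate to a and b′ conjugate to b under the alternating group: there are even permutations g₁, h₁, g₂, h₂ such that (g₁ a g₁⁻¹)(h₁ b h₁⁻¹) and (g₂ a g₂⁻¹)(h₂ b h₂⁻¹) have different numbers of fixed points. -/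
theorem result (n : ℕ) (hn : 5 ≤ n) (a b : Equiv.Perm (Fin n)) (ha : a ≠ 1) (hb : b ≠ 1) :
    ∃ g₁ h₁ g₂ h₂ : Equiv.Perm (Fin n), g₁ ∈ alternatingGroup (Fin n) ∧ h₁ ∈ alternatingGroup (Fin n) ∧ g₂ ∈ alternatingGroup (Fin n) ∧ h₂ ∈ alternatingGroup (Fin n) ∧
      Nat.card (Function.fixedPoints ⇑(g₁ * a * g₁⁻¹ * (h₁ * b * h₁⁻¹))) ≠
        Nat.card (Function.fixedPoints ⇑(g₂ * a * g₂⁻¹ * (h₂ * b * h₂⁻¹))) := by
  by_contra hcon
  push Not at hcon
  refine main (by simpa using hn) a⁻¹ b (by simpa using ha) hb (phi a⁻¹ b 1) fun g hg => ?_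
  rw [← card_fix, ← card_fix]
  exact congrArg _ (hcon 1 g 1 1 (one_mem _) (Equiv.Perm.mem_alternatingGroup.2 hg) (one_mem _) (one_mem _))

end Cfsg.Agent.S2271
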