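import Cfsg.Statements.S2272
import Mathlib
import Cfsg.Agent.H10.AH

set_option autoImplicit false
open Cfsg

namespace Cfsg.Agent.S2272

/-- Let F be a finite field and d ≥ 3, and let a, b be non-identity elements of PSL_d(F). Then the product of the conjugacy classes of a and b is not a single conjugacy class: there are conjugates a′ of a and b′ of b such that a′b′ is not conjugate to ab. -/
theorem result {F : Type*} [Field F] [Fintype F] (d : ℕ) (hd : 3 ≤ d)
    (a b : Matrix.ProjectiveSpecialLinearGroup (Fin d) F) (ha : a ≠ 1) (hb : b ≠ 1) :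
    ∃ g h : Matrix.ProjectiveSpecialLinearGroup (Fin d) F, ¬ IsConj (a * b) (g * a * g⁻¹ * (h * b * h⁻¹)) := by
  obtain ⟨A, rfl⟩ := H10.slQ_surjective a
  obtain ⟨B, rfl⟩ := H10.slQ_surjective b
  have hA := H10.not_scalar_of_slQ_ne_one ha
  have hB := H10.not_scalar_of_slQ_ne_one hb
  have h3 : 3 ≤ Fintype.card (Fin d) := by simpa using hd
  by_contra hcon
  push Not at hcon
  have key : ∀ s : F, (A * B).1.trace = 0 ↔ s = 0 := by
    intro s
    obtain ⟨g, hg⟩ := H10.ah_exists_trace h3 A B hA hB s
    have := hcon 1 (H10.slQ (Fin d) F g)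
    rw [one_mul, inv_one, mul_one, ← map_inv, ← map_mul, ← map_mul, ← map_mul, ← map_mul] at this
    rw [H10.ah_trace_conj this, hg]
  exact one_ne_zero ((key 1).1 ((key 0).2 rfl))

end Cfsg.Agent.S2272
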