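import Cfsg.Statements.S2276
import Mathlib
import Cfsg.Agent.H27.Apx3

set_option autoImplicit false
open Cfsg

namespace Cfsg.Agent.S2276

/-- Let n ≥ 5, p ≥ 3 a prime, and u, w non-identity elements of p-power order in the alternating group A_n. Then there is g ∈ A_n such that u·(g w g⁻¹) does not have p-power order and ⟨u, g w g⁻¹⟩ is not solvable. -/
theorem result (n : ℕ) (hn : 5 ≤ n) (p : ℕ) (hp : p.Prime) (hp3 : 3 ≤ p) (u w : alternatingGroup (Fin n)) (hu : u ≠ 1) (hw : w ≠ 1)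
    (hu' : ∃ k : ℕ, orderOf u = p ^ k) (hw' : ∃ k : ℕ, orderOf w = p ^ k) :
    ∃ g : alternatingGroup (Fin n), (¬ ∃ k : ℕ, orderOf (u * (g * w * g⁻¹)) = p ^ k) ∧
      ¬ Group.IsSolvable ↥(Subgroup.closure ({u, g * w * g⁻¹} : Set (alternatingGroup (Fin n)))) := by
  obtain ⟨a, ha⟩ := hu'
  obtain ⟨b, hb⟩ := hw'
  obtain ⟨g, h1, h2, h3⟩ := H27.Apx.full hn hp hp3 (u : Equiv.Perm (Fin n)) w (fun h => hu (Subtype.ext h))
    (fun h => hw (Subtype.ext h)) ((Subgroup.orderOf_coe u).trans ha) ((Subgroup.orderOf_coe w).trans hb)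
  refine ⟨⟨g, Equiv.Perm.mem_alternatingGroup.mpr h1⟩, ?_, fun hs => h3 ?_⟩
  · rintro ⟨k, hk⟩
    have := pow_orderOf_eq_one (u * (⟨g, Equiv.Perm.mem_alternatingGroup.mpr h1⟩ * w *
      ⟨g, Equiv.Perm.mem_alternatingGroup.mpr h1⟩⁻¹))
    rw [hk] at this
    exact h2 k (congrArg Subtype.val this)
  · have := Group.isSolvable_of_surjective (hf := MonoidHom.subgroupMap_surjective (alternatingGroup (Fin n)).subtype
      (Subgroup.closure {u, ⟨g, Equiv.Perm.mem_alternatingGroup.mpr h1⟩ * w *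
        ⟨g, Equiv.Perm.mem_alternatingGroup.mpr h1⟩⁻¹}))
    rw [MonoidHom.map_closure, Set.image_pair] at this
    exact this

end Cfsg.Agent.S2276
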