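import Cfsg.Statements.S2277
import Mathlib
import Cfsg.Agent.FT.BG01
-- import your own Cfsg.Agent.* helpers here

set_option autoImplicit false
open Cfsg

namespace Cfsg.Agent.S2277


open Subgroup Cfsg.Agent.FT
open scoped commutatorElement

theorem three {A : Type*} [CommGroup A] (γ w : MulAut A) (hc : ∀ a, γ (w a) = w (γ a))
    (h2 : ∀ a, w (w a) = a → a = 1) {a b c : A} (ha : γ a = a) (hb : γ b = w b) (hc' : γ c = w (w c))
    (h : a * b * c = 1) : c = 1 := by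
  have h1 : ∀ a, w a = a → a = 1 := fun a ha => h2 a (by rw [ha, ha])
  have e1 : a * w b * w (w c) = 1 := by rw [← hb, ← hc', ← ha, ← map_mul, ← map_mul, h, map_one]
  have e2 : a * w (w b) * w (w (w (w c))) = 1 := by
    have := congrArg γ e1
    rwa [map_mul, map_mul, ha, hc, hb, hc, hc, hc', map_one] at this
  have u : b * c * w c = 1 := h1 _ (by
    rw [map_mul, map_mul]
    apply mul_left_cancel (a := a)
    calc a * (w b * w c * w (w c)) = (a * w b * w (w c)) * w c := by ac_rfl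
      _ = (a * b * c) * w c := by rw [e1, h]
      _ = _ := by ac_rfl)
  have v : b * c * w (w c) = 1 := h2 _ (by
    rw [map_mul, map_mul, map_mul, map_mul]
    apply mul_left_cancel (a := a)
    calc a * (w (w b) * w (w c) * w (w (w (w c)))) = (a * w (w b) * w (w (w (w c)))) * w (w c) := by ac_rfl
      _ = (a * b * c) * w (w c) := by rw [e2, h]
      _ = _ := by ac_rfl)
  have : w c = 1 := h1 _ (mul_left_cancel (v.trans u.symm))
  exact w.injective (by rw [this, map_one])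

theorem cube {G : Type*} [Group G] [Finite G] {p : ℕ} (hp3 : 3 ≤ p) {N P : Subgroup G} (hab : Ab N) (hP : PGrp p P)
    (hn : P ≤ N(N)) (hf : ∀ z ∈ Z(P), z ≠ 1 → N ⊓ C[z] = ⊥) {e c : G} (he : e ∈ ucn 2 P) (hc : c ∈ P)
    (hce : e * c ≠ c * e) : #(N ⊓ C[c]) ^ 3 ≤ #N := by
  have heP : e ∈ P := ucn_le _ _ he
  set z := c⁻¹ * e * c * e⁻¹ with hz
  have hzZ : z ∈ Z(P) := by
    have := (mem_ucn_succ.mp he).2 c⁻¹ (inv_mem hc)
    rw [ucn_one] at this
    have h2 := inv_mem this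
    rw [commutatorElement_inv, commutatorElement_def, inv_inv] at h2
    exact h2
  have hz1 : z ≠ 1 := by
    intro h
    apply hce
    calc e * c = c * z * e := by rw [hz]; group
      _ = c * e := by rw [h, mul_one]
  have hz2 : z * z ≠ 1 := by
    intro h
    have h1 : PiElt {p} z := hP.piElt hzZ.1
    have h2 : PiElt {2} z := pElt_of_pow_eq_one Nat.prime_two (by rw [pow_two, h])
    exact hz1 (h1.eq_one (PiNat.p' h2 (by omega)))
  have hzc : z * c = c * z := (mem_cen.mp hzZ.2 c hc).symm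
  have hze : e * z = z * e := mem_cen.mp hzZ.2 e heP
  have e1 : e * c * e⁻¹ = c * z := by rw [hz]; group
  have e2 : e * (c * z) * e⁻¹ = c * z * z := by
    calc e * (c * z) * e⁻¹ = (e * c * e⁻¹) * (e * z * e⁻¹) := by group
      _ = c * z * z := by rw [e1, hze]; group
  have c1 : #(N ⊓ C[c * z]) = #(N ⊓ C[c]) := by
    rw [← card_cj e (N ⊓ C[c]), cj_inf, cj_cen1, cj_of_mem_nrm (hn heP), e1]
  have c2 : #(N ⊓ C[c * z * z]) = #(N ⊓ C[c]) := by
    rw [← c1, ← card_cj e (N ⊓ C[c * z]), cj_inf, cj_cen1, cj_of_mem_nrm (hn heP), e2]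
  have i1 : (N ⊓ C[c]) ⊓ (N ⊓ C[c * z]) = ⊥ := by
    rw [eq_bot_iff, ← hf z hzZ hz1]
    rintro x ⟨⟨hx, h1⟩, -, h2⟩
    refine ⟨hx, mem_cen1.mpr ?_⟩
    have h1 := mem_cen1.mp h1
    have h2 := mem_cen1.mp h2
    apply mul_left_cancel (a := c)
    rw [← mul_assoc, ← h1, mul_assoc, h2, mul_assoc]
  have n1 : N ⊓ C[c * z] ≤ N(N ⊓ C[c]) := inf_le_left.trans (hab.norms inf_le_left)
  have i2 : ((N ⊓ C[c]) ⊔ (N ⊓ C[c * z])) ⊓ (N ⊓ C[c * z * z]) = ⊥ := by
    rw [eq_bot_iff]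
    rintro x ⟨hx, hxN, h3⟩
    obtain ⟨a, ⟨haN, ha⟩, b, ⟨hbN, hb⟩, rfl⟩ := (mem_sup_norm n1).mp hx
    have ha := mem_cen1.mp ha
    have hb := mem_cen1.mp hb
    have h3 := mem_cen1.mp (inv_mem h3)
    letI : CommGroup N := { (inferInstance : Group N) with mul_comm := fun a b => hab.is_comm.comm a b }
    have := three (A := N) (pfun (autHom N) c⁻¹) (pfun (autHom N) z) (a := ⟨a, haN⟩) (b := ⟨b, hbN⟩)
      (c := ⟨(a * b)⁻¹, inv_mem hxN⟩) ?_ ?_ ?_ ?_ ?_ ?_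
    · have h4 : (a * b)⁻¹ = 1 := congrArg Subtype.val this
      rw [mem_bot, ← inv_eq_one, h4]
    · intro y
      apply Subtype.ext
      simp only [pfun_autHom (hn (inv_mem hc)), pfun_autHom (hn hzZ.1)]
      calc c⁻¹ * (z * y * z⁻¹) * c⁻¹⁻¹ = c⁻¹ * (z * c) * (c⁻¹ * y * c) * (z * c)⁻¹ * c := by group
        _ = _ := by rw [hzc]; group
    · intro y hy
      have h4 := congrArg Subtype.val hy
      simp only [pfun_autHom (hn hzZ.1)] at h4
      have : (y : G) ∈ N ⊓ C[z * z] := ⟨y.2, mem_cen1.mpr (by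
        calc (y : G) * (z * z) = z * (z * y * z⁻¹) * z⁻¹ * (z * z) := by rw [h4]
          _ = _ := by group)⟩
      rw [hf _ (mul_mem hzZ hzZ) hz2] at this
      exact Subtype.ext this
    · apply Subtype.ext
      simp only [pfun_autHom (hn (inv_mem hc))]
      rw [inv_inv, mul_assoc, ha]; group
    · apply Subtype.ext
      simp only [pfun_autHom (hn (inv_mem hc)), pfun_autHom (hn hzZ.1)]
      calc c⁻¹ * b * c⁻¹⁻¹ = c⁻¹ * (b * (c * z)) * z⁻¹ := by group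
        _ = _ := by rw [hb]; group
    · apply Subtype.ext
      simp only [pfun_autHom (hn (inv_mem hc)), pfun_autHom (hn hzZ.1)]
      calc c⁻¹ * (a * b)⁻¹ * c⁻¹⁻¹ = c⁻¹ * ((a * b)⁻¹ * (c * z * z)) * z⁻¹ * z⁻¹ := by group
        _ = _ := by rw [h3]; group
    · exact Subtype.ext (mul_inv_cancel (a * b))
  have l1 : (N ⊓ C[c]) ⊔ (N ⊓ C[c * z]) ≤ N := sup_le inf_le_left inf_le_left
  have := card_le (sup_le l1 (inf_le_left : N ⊓ C[c * z * z] ≤ N))
  rw [card_sup_of_inf (inf_le_left.trans (hab.norms l1)) i2, card_sup_of_inf n1 i1, c1, c2] at this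
  simpa [pow_succ] using this

theorem factor {G : Type*} [Group G] [Finite G] {p : ℕ} {N P : Subgroup G} (hN : PiGrp {p}ᶜ N) (hP : PGrp p P)
    (hn : P ≤ N(N)) {c d : G} (hc : c ∈ P) (hd : d ∈ P) (h : ∀ x ∈ N, PGrp p (⟪x * c * x⁻¹⟫ ⊔ ⟪d⟫)) :
    MulEq (N ⊓ C[d]) (N ⊓ C[c]) N := by
  have hi : N ⊓ P = ⊥ := hN.inf_eq_bot' hP
  have hS : Syl p P (N ⊔ P) := SD.hall_right' ⟨hn, rfl, hi⟩ hN hP
  have key : ∀ y ∈ N, ∀ u ∈ P, y⁻¹ * u * y ∈ P → y ∈ C[u] := by
    intro y hy u hu h1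
    have : y⁻¹ * (u * y * u⁻¹) = 1 := eq_one_of_mem_inf hi (mul_mem (inv_mem hy) (conj_mem (hn hu) hy))
      (by have := mul_mem h1 (inv_mem hu); simpa [mul_assoc] using this)
    rw [mem_cen1]
    calc y * u = y * (y⁻¹ * (u * y * u⁻¹)) * u := by rw [this, mul_one]
      _ = _ := by group
  refine ⟨inf_le_left, inf_le_left, fun x hx => ?_⟩
  obtain ⟨g, hg, hle⟩ := hS.syl_subJ (h x hx) (sup_le (zpowers_le.mpr (mul_mem (mul_mem (mem_sup_left hx)
    (mem_sup_right hc)) (inv_mem (mem_sup_left hx)))) (zpowers_le.mpr (mem_sup_right hd)))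
  obtain ⟨y, hy, u, hu, rfl⟩ := (mem_sup_norm hn).mp hg
  rw [← cj_cj, cj_of_mem hu] at hle
  have h1 := mem_cj.mp (hle (mem_sup_right (mem_zpowers d)))
  have h2 := mem_cj.mp (hle (mem_sup_left (mem_zpowers _)))
  refine ⟨y, ⟨hy, key y hy d hd h1⟩, y⁻¹ * x, ⟨N.mul_mem (N.inv_mem hy) hx, ?_⟩, by group⟩
  have := key (x⁻¹ * y) (mul_mem (inv_mem hx) hy) c hc (by simpa [mul_assoc] using h2)
  simpa using inv_mem this

universe u in
theorem main {p : ℕ} (hp3 : 3 ≤ p) (n : ℕ) : ∀ {G : Type u} [Group G] [Finite G] (N P : Subgroup G) (C D : Set G),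
    #N + #P = n → PiGrp {p}ᶜ N → PGrp p P → P ≤ N(N) → C ⊆ P → D ⊆ P → (∀ L : Subgroup G, C ⊆ L → P ≤ L) →
    (∀ L : Subgroup G, D ⊆ L → P ≤ L) → (∀ x ∈ N, ∀ c ∈ C, ∀ d ∈ D, PGrp p (⟪x * c * x⁻¹⟫ ⊔ ⟪d⟫)) → P ≤ C(N) := by
  induction n using Nat.strong_induction_on with
  | _ n ih =>
  intro G _ _ N P C D hn hN hP hPN hC hD hC' hD' h
  have hcop : Cop N P := hN.cop' hP
  have sub : ∀ M, M < N → P ≤ N(M) → P ≤ C(M) := fun M hM hPM =>
    ih _ (by have := card_lt hM; omega) M P C D rfl (hN.mono hM.le) hP hPM hC hD hC' hD'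
      fun x hx => h x (hM.le hx)
  have quo : ∀ K : Subgroup G, N ≤ N(K) → P ≤ N(K) → #(N /ₛ K) + #(P /ₛ K) < n → P /ₛ K ≤ C(N /ₛ K) := by
    intro K hNK hPK hlt
    refine ih _ hlt (N /ₛ K) (P /ₛ K) ((fun x => coset(K, x)) '' C) ((fun x => coset(K, x)) '' D) rfl
      (hN.quo K) (hP.quo K) (quo_norms K hPN) ?_ ?_ ?_ ?_ ?_
    · rintro _ ⟨c, hc, rfl⟩; exact mem_quo_of_mem (hPK (hC hc)) (hC hc)
    · rintro _ ⟨c, hc, rfl⟩; exact mem_quo_of_mem (hPK (hD hc)) (hD hc)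
    · intro L hL
      exact (quo_le_iff hPK).mpr (hC' _ fun c hc => mem_qpre.mpr ⟨hPK (hC hc), hL ⟨c, hc, rfl⟩⟩)
    · intro L hL
      exact (quo_le_iff hPK).mpr (hD' _ fun c hc => mem_qpre.mpr ⟨hPK (hD hc), hL ⟨c, hc, rfl⟩⟩)
    · rintro u hu _ ⟨c, hc, rfl⟩ _ ⟨d, hd, rfl⟩
      obtain ⟨x, hx, hxK, rfl⟩ := mem_quo.mp hu
      have h1 : x * c * x⁻¹ ∈ N(K) := mul_mem (mul_mem hxK (hPK (hC hc))) (inv_mem hxK)
      have := (h x hx c hc d hd).quo K
      rwa [quo_sup (zpowers_le.mpr h1) (zpowers_le.mpr (hPK (hD hd))), quo_zpowers h1, quo_zpowers (hPK (hD hd)),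
        coset_conj hxK (hPK (hC hc))] at this
  by_cases hN1 : N = ⊥
  · rw [hN1, cen_bot]; exact le_top
  by_cases hred : ∃ M, M ⊴ N ∧ M ≠ ⊥ ∧ M ≠ N ∧ P ≤ N(M)
  · obtain ⟨M, hM, h1, h2, h3⟩ := hred
    refine stable_factor_cent_quo hM h3 hcop (quo M hM.nrm h3 ?_) (sub M (lt_of_le_of_ne hM.le h2) h3)
    have := card_quo_lt hM h1
    have := card_quo_le P M
    omega
  push Not at hred
  by_cases hK : P ⊓ C(N) ≠ ⊥
  · have hKP : P ⊓ C(N) ⊴ P := subcent_nml hPN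
    have hNK : N ≤ N(P ⊓ C(N)) := cents_norm (centsC inf_le_right)
    have := quo _ hNK hKP.nrm (by
      have := card_quo_lt hKP hK
      have := card_quo_le N (P ⊓ C(N))
      omega)
    rw [quo_cents_iff hKP.nrm hNK] at this
    rw [← comm_eq_bot, eq_bot_iff, ← hcop.inf]
    exact le_inf (comm_le_right hPN) (this.trans inf_le_left)
  push Not at hK
  by_cases hq : ∀ q, q.Prime → ¬ PGrp q N
  · apply centsC
    apply le_of_forall_syl
    intro q hq' _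
    obtain ⟨Q, hQ, hPQ⟩ := coprime_Sylow_exists q hPN hcop (Or.inr hP.sol)
    exact ⟨Q, hQ, centsC (sub Q (lt_of_le_of_ne hQ.le (by rintro rfl; exact hq q hq' hQ.pi)) hPQ)⟩
  push Not at hq
  obtain ⟨q, -, hq⟩ := hq
  have hab : Ab N := by
    rw [ab_iff_der]
    by_contra h1
    exact hred _ (der_nml N) h1 (hq.sol.der_lt hN1).ne (norms_der hPN)
  have hf : ∀ z ∈ Z(P), z ≠ 1 → N ⊓ C[z] = ⊥ := by
    intro z hz hz1
    by_contra h1
    refine hred _ (hab.nml inf_le_left) h1 (fun h2 => hz1 ?_) (normsI hPN (norms_cen1 (le_cen1.mpr hz.2)))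
    have : z ∈ P ⊓ C(N) := ⟨hz.1, le_cen1.mp (inf_eq_left.mp h2)⟩
    rwa [hK] at this
  by_cases hP1 : P = ⊥
  · rw [hP1]; exact bot_le
  exfalso
  by_cases hPab : Ab P
  · have ex : ∀ C : Set G, (∀ L : Subgroup G, C ⊆ L → P ≤ L) → ∃ c ∈ C, c ≠ 1 := by
      intro C hC
      by_contra h1
      push Not at h1
      exact hP1 (eq_bot_iff.mpr (hC ⊥ h1))
    obtain ⟨c, hc, hc1⟩ := ex C hC'
    obtain ⟨d, hd, hd1⟩ := ex D hD'
    have := (factor hN hP hPN (hC hc) (hD hd) fun x hx => h x hx c hc d hd).sup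
    rw [hf c (hPab.center.symm ▸ hC hc) hc1, hf d (hPab.center.symm ▸ hD hd) hd1, bot_sup_eq] at this
    exact hN1 this.symm
  · obtain ⟨e, he, he'⟩ := SetLike.exists_of_lt (hP.nil.center_lt_ucn_two hPab)
    have ex : ∀ C : Set G, (∀ L : Subgroup G, C ⊆ L → P ≤ L) → ∃ c ∈ C, e * c ≠ c * e := by
      intro C hC
      by_contra h1
      push Not at h1
      exact he' ⟨ucn_le _ _ he, le_cen1.mp (hC C[e] fun c hc => mem_cen1.mpr (h1 c hc).symm)⟩
    obtain ⟨c, hc, hc1⟩ := ex C hC'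
    obtain ⟨d, hd, hd1⟩ := ex D hD'
    have h1 := (factor hN hP hPN (hC hc) (hD hd) fun x hx => h x hx c hc d hd).card_dvd
    have h2 := cube hp3 hab hP hPN hf he (hC hc) hc1
    have h3 := cube hp3 hab hP hPN hf he (hD hd) hd1
    have h4 := Nat.le_of_dvd (Nat.mul_pos (card_pos _) (card_pos _)) h1
    have h5 := one_lt_card hN1
    have h6 : #N ^ 3 ≤ #N * #N := by
      calc #N ^ 3 ≤ (#(N ⊓ C[d]) * #(N ⊓ C[c])) ^ 3 := Nat.pow_le_pow_left h4 3
        _ = #(N ⊓ C[d]) ^ 3 * #(N ⊓ C[c]) ^ 3 := mul_pow _ _ _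
        _ ≤ _ := Nat.mul_le_mul h3 h2
    have h7 : #N * #N < #N ^ 3 := by
      rw [← pow_two]; exact Nat.pow_lt_pow_right h5 (by norm_num)
    omega


/-- Let p ≥ 3 be prime and G a finite group with a Sylow p-subgroup P and a normal p-complement N (N normal, of order prime to p, with NP = G). Suppose P is generated by a subset C and also by a subset D, and that ⟨x c x⁻¹, d⟩ is a p-group for all x ∈ N, c ∈ C, d ∈ D. Then P centralizes N, so that G = N × P. -/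
theorem result {G : Type*} [Group G] [Finite G] (p : ℕ) [Fact p.Prime] (hp3 : 3 ≤ p) (P : Sylow p G)
    (N : Subgroup G) [N.Normal] (hN : (Nat.card N).Coprime p) (hNP : N ⊔ (P : Subgroup G) = ⊤)
    (C D : Set G) (hC : Subgroup.closure C = (P : Subgroup G)) (hD : Subgroup.closure D = (P : Subgroup G))
    (h : ∀ x ∈ N, ∀ c ∈ C, ∀ d ∈ D, IsPGroup p ↥(Subgroup.closure ({x * c * x⁻¹, d} : Set G))) :
    ⁅(P : Subgroup G), N⁆ = ⊥ := by
  have hp : p.Prime := Fact.out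
  rw [comm_eq_bot]
  refine main hp3 _ N P C D rfl ((p'grp_iff_coprime hp).mpr hN) (pGrp_of_isPGroup hp P.isPGroup')
    (by rw [Subgroup.normalizer_eq_top]; exact le_top) (hC ▸ subset_closure) (hD ▸ subset_closure)
    (fun L hL => hC ▸ (closure_le L).mpr hL) (fun L hL => hD ▸ (closure_le L).mpr hL) fun x hx c hc d hd => ?_
  have := pGrp_of_isPGroup hp (h x hx c hc d hd)
  rwa [Set.insert_eq, Subgroup.closure_union, ← zpowers_eq_closure, ← zpowers_eq_closure] at this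

end Cfsg.Agent.S2277
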