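import Cfsg.Statements.S2291
import Mathlib
import Cfsg.Agent.H12.PrV3

set_option autoImplicit false
open Cfsg

namespace Cfsg.Agent.S2291

open Cfsg.Agent.H12
/-- Let F be a field with q² elements and n ≥ 3 with (n, q) ≠ (3, 2). Then the simple group PSU_n(q) (for the standard Hermitian form) has a presentation with 2 generators and at most 80 relations. -/
theorem result {F : Type*} [Field F] [Fintype F] (q n : ℕ) (hF : Fintype.card F = q ^ 2) (hn : 3 ≤ n) (h32 : ¬ (n = 3 ∧ q = 2)) :
    ∃ rels : Finset (FreeGroup (Fin 2)), rels.card ≤ 80 ∧ Nonempty (PresentedGroup (↑rels : Set (FreeGroup (Fin 2))) ≃* Cfsg.PSU n F q) := by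
  haveI := H17.isCyclic_center_su hF hn
  by_cases h : n = 3
  · subst h
    obtain ⟨s, hs⟩ := pres_su3 hF fun h => h32 ⟨rfl, h⟩
    exact (hs.modCenter.mono (by omega)).out'
  · obtain ⟨m, rfl⟩ : ∃ m, n = m + 4 := ⟨n - 4, by omega⟩
    obtain ⟨s, hs⟩ := pres_su hF m
    obtain ⟨t, ht⟩ := hs.two (H7.Pr.su_two hF hn fun e => absurd e h)
    exact (ht.modCenter.mono (by split_ifs <;> omega)).out'

end Cfsg.Agent.S2291
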