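import Cfsg.Statements.S2378
import Mathlib
import Cfsg.Agent.H12.SS9
import Cfsg.Agent.S1059
import Cfsg.Agent.S1060
import Cfsg.Agent.S1061
import Cfsg.Agent.S1062
import Cfsg.Agent.S1063
import Cfsg.Agent.S1064
import Cfsg.Agent.S1065

set_option autoImplicit false
open Cfsg

namespace Cfsg.Agent.S2378

open Cfsg.Agent.H12

/-- Sylow subgroups for primes away from the characteristic and the Weyl group. Let `G` be the Chevalley group of type G₂, B₂, D₄, F₄, E₆, E₇ or E₈ over a field with `q` elements, with the degrees of its Weyl group listed beside the type (their product is the order of the Weyl group), and let `r` be a prime dividing the order of `G`, not dividing `q` and not dividing the order of the Weyl group. Let `d` be the multiplicative order of `q` modulo `r`, `a` the number of degrees divisible by `d`, and `m` the `r`-part of the value at `q` of the `d`-th cyclotomic polynomial. Then every Sylow `r`-subgroup of `G` is homocyclic: a direct product of `a` cyclic groups of order `m` (in particular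 abelian). -/
theorem result {F : Type*} [Field F] [Fintype F] {q : ℕ} (hq : Fintype.card F = q)
    (c : Cfsg.Lie.ChevalleyDatum × List ℕ)
    (hc : c ∈ [(Cfsg.Lie.chevG2, [2, 6]), (Cfsg.Lie.chevB2, [2, 4]), (Cfsg.Lie.chevD4, [2, 4, 4, 6]), (Cfsg.Lie.chevF4, [2, 6, 8, 12]),
      (Cfsg.Lie.chevE6, [2, 5, 6, 8, 9, 12]), (Cfsg.Lie.chevE7, [2, 6, 8, 10, 12, 14, 18]), (Cfsg.Lie.chevE8, [2, 8, 12, 14, 18, 20, 24, 30])])
    (r : ℕ) [Fact r.Prime] (hrq : ¬ r ∣ q) (hrW : ¬ r ∣ c.2.prod) (hrG : r ∣ Nat.card ↥(c.1.group F)) (P : Sylow r ↥(c.1.group F)) :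
    Nonempty (↥(P : Subgroup ↥(c.1.group F)) ≃*
      (Fin (c.2.filter (fun e => orderOf (q : ZMod r) ∣ e)).length →
        Multiplicative (ZMod (r ^ padicValNat r ((Polynomial.cyclotomic (orderOf (q : ZMod r)) ℤ).eval (q : ℤ)).natAbs)))) := by
  simp only [List.mem_cons, List.not_mem_nil, or_false] at hc
  rcases hc with rfl | rfl | rfl | rfl | rfl | rfl | rfl
  · exact sylow_homocyclic sylChk_G2 (stSt_hProd_injective_of_ker hT_ker_G2)
      (fun c hc => pow_eq_one_of_mem_cker kerChk_G2 (hT_ker (F := AlgebraicClosure F) cartG2_chk ▸ hc))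
      (by decide) (by decide) hq (a := 1) (N := 6) (one_dvd _)
      ((one_mul _).trans <| (Cfsg.Agent.S1059.result hq).trans (by simp [mul_assoc])) r hrq hrW hrG P
  · exact sylow_homocyclic sylChk_B2 stSt_hProd_B2
      (fun c hc => pow_eq_one_of_mem_cker kerChk_B2 (hT_ker (F := AlgebraicClosure F) cartB2_chk ▸ hc))
      (by decide) (by decide) hq (a := Nat.gcd 2 (q - 1)) (N := 4) ((Nat.gcd_dvd_left _ _).trans (by decide))
      ((Cfsg.Agent.S1060.result hq).trans (by simp [mul_assoc])) r hrq hrW hrG P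
  · exact sylow_homocyclic sylChk_D4 stSt_hProd_D4
      (fun c hc => pow_eq_one_of_mem_cker kerChk_D4 (hT_ker (F := AlgebraicClosure F) cartD4_chk ▸ hc))
      (by decide) (by decide) hq (a := Nat.gcd 2 (q - 1) ^ 2) (N := 12) ((pow_dvd_pow_of_dvd (Nat.gcd_dvd_left _ _) 2).trans (by decide))
      ((Cfsg.Agent.S1061.result hq).trans (by simp [mul_assoc])) r hrq hrW hrG P
  · exact sylow_homocyclic sylChk_F4 (stSt_hProd_injective_of_ker hT_ker_F4)
      (fun c hc => pow_eq_one_of_mem_cker kerChk_F4 (hT_ker (F := AlgebraicClosure F) cartF4_chk ▸ hc))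
      (by decide) (by decide) hq (a := 1) (N := 24) (one_dvd _)
      ((one_mul _).trans <| (Cfsg.Agent.S1062.result hq).trans (by simp [mul_assoc])) r hrq hrW hrG P
  · exact sylow_homocyclic sylChk_E6 stSt_hProd_E6
      (fun c hc => pow_eq_one_of_mem_cker kerChk_E6 (hT_ker (F := AlgebraicClosure F) cartE6_chk ▸ hc))
      (by decide) (by decide) hq (a := Nat.gcd 3 (q - 1)) (N := 36) ((Nat.gcd_dvd_left _ _).trans (by decide))
      ((Cfsg.Agent.S1063.result hq).trans (by simp [mul_assoc])) r hrq hrW hrG P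
  · exact sylow_homocyclic sylChk_E7 stSt_hProd_E7
      (fun c hc => pow_eq_one_of_mem_cker kerChk_E7 (hT_ker (F := AlgebraicClosure F) cartE7_chk ▸ hc))
      (by decide) (by decide) hq (a := Nat.gcd 2 (q - 1)) (N := 63) ((Nat.gcd_dvd_left _ _).trans (by decide))
      ((Cfsg.Agent.S1064.result hq).trans (by simp [mul_assoc])) r hrq hrW hrG P
  · exact sylow_homocyclic sylChk_E8 (stSt_hProd_injective_of_ker hT_ker_E8)
      (fun c hc => pow_eq_one_of_mem_cker kerChk_E8 (hT_ker (F := AlgebraicClosure F) cartE8_chk ▸ hc))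
      (by decide) (by decide) hq (a := 1) (N := 120) (one_dvd _)
      ((one_mul _).trans <| (Cfsg.Agent.S1065.result hq).trans (by simp [mul_assoc])) r hrq hrW hrG P

end Cfsg.Agent.S2378
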