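import Cfsg.Statements.S2419
import Mathlib
import Cfsg.Agent.H12.Gen2

set_option autoImplicit false
open Cfsg

namespace Cfsg.Agent.S2419

open Cfsg.Agent.H12

/-- The Coxeter groups of types B₂, G₂, E₆, E₇, E₈ are generated by the Coxeter element `s₁ s₂ ⋯ s_l` together with one suitable reflection (a conjugate of a simple reflection); for types D₄ and F₄ the Coxeter element together with two suitable reflections suffices. -/
theorem result (c : (Σ n : ℕ, CoxeterMatrix (Fin n)) × ℕ)
    (hc : c ∈ [(⟨2, CoxeterMatrix.B 2⟩, 1), (⟨2, CoxeterMatrix.G₂⟩, 1), (⟨4, Cfsg.Lie.coxeterD4⟩, 2), (⟨4, CoxeterMatrix.F₄⟩, 2),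
      (⟨6, CoxeterMatrix.E₆⟩, 1), (⟨7, CoxeterMatrix.E₇⟩, 1), (⟨8, CoxeterMatrix.E₈⟩, 1)]) :
    ∃ T : Finset c.1.2.Group, T.card = c.2 ∧ (∀ t ∈ T, ∃ (g : c.1.2.Group) (i : Fin c.1.1), t = g * c.1.2.simple i * g⁻¹) ∧
      Subgroup.closure (({((List.finRange c.1.1).map c.1.2.simple).prod} : Set c.1.2.Group) ∪ ↑T) = ⊤ := by
  simp only [List.mem_cons, List.not_mem_nil, or_false] at hc
  rcases hc with rfl | rfl | rfl | rfl | rfl | rfl | rfl
  · exact cox_gen (l := 2) cartB2_eq coxeter_B2 [([], 0)]
      [([(0, false), (1, false)], [1])]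
      (by decide +kernel) (by decide +kernel)
  · exact cox_gen (l := 2) cartG2_eq coxeter_G2 [([], 0)]
      [([(0, false), (1, false)], [1])]
      (by decide +kernel) (by decide +kernel)
  · exact cox_gen (l := 4) cartD4_eq coxeter_D4 [([], 0), ([2], 1)]
      [([(2, false), (0, false), (2, true)], [1]), ([(3, false), (2, false), (3, true)], [3]),
      ([(3, false), (1, false), (3, true)], [2])]
      (by decide +kernel) (by decide +kernel)
  · exact cox_gen (l := 4) cartF4_eq coxeter_F4 [([], 0), ([], 2)]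
      [([(2, false), (0, false), (2, true)], [1]), ([(3, false), (2, false), (3, true)], [3])]
      (by decide +kernel) (by decide +kernel)
  · exact cox_gen (l := 6) cartE6_eq coxeter_E6 [([4, 3, 2], 0)]
      [([(1, false), (0, false), (1, true)], [5, 4, 2, 3, 1, 3, 2, 4, 5]), ([(2, false), (0,
      false), (2, true)], [3]), ([(3, false), (0, false), (3, true)], [4]), ([(4, false), (0,
      false), (4, true)], [5]), ([(5, false), (0, false), (5, true)], [5, 4, 1, 3, 2, 0, 2, 3,
      1, 4, 5]), ([(5, false), (1, false), (5, true)], [5, 4, 3, 2, 0, 2, 3, 4, 5]), ([(7,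
      false), (0, false), (7, true)], [0]), ([(2, false), (1, false), (2, true)], [1]), ([(9,
      false), (1, false), (9, true)], [2])]
      (by decide +kernel) (by decide +kernel)
  · exact cox_gen (l := 7) cartE7_eq coxeter_E7 [([5, 4, 3, 2], 0)]
      [([(1, false), (0, false), (1, true)], [6, 5, 4, 2, 3, 1, 3, 2, 4, 5, 6]), ([(2, false),
      (0, false), (2, true)], [3]), ([(3, false), (0, false), (3, true)], [4]), ([(4, false),
      (0, false), (4, true)], [5]), ([(5, false), (0, false), (5, true)], [6]), ([(6, false),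
      (0, false), (6, true)], [6, 5, 4, 1, 3, 2, 0, 2, 3, 1, 4, 5, 6]), ([(6, false), (1,
      false), (6, true)], [6, 5, 4, 3, 2, 0, 2, 3, 4, 5, 6]), ([(8, false), (0, false), (8,
      true)], [0]), ([(2, false), (1, false), (2, true)], [1]), ([(10, false), (1, false), (10,
      true)], [2])]
      (by decide +kernel) (by decide +kernel)
  · exact cox_gen (l := 8) cartE8_eq coxeter_E8 [([6, 5, 4, 3, 2], 0)]
      [([(1, false), (0, false), (1, true)], [7, 6, 5, 4, 2, 3, 1, 3, 2, 4, 5, 6, 7]), ([(2,
      false), (0, false), (2, true)], [3]), ([(3, false), (0, false), (3, true)], [4]), ([(4,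
      false), (0, false), (4, true)], [5]), ([(5, false), (0, false), (5, true)], [6]), ([(6,
      false), (0, false), (6, true)], [7]), ([(7, false), (0, false), (7, true)], [7, 6, 5, 4,
      1, 3, 2, 0, 2, 3, 1, 4, 5, 6, 7]), ([(7, false), (1, false), (7, true)], [7, 6, 5, 4, 3,
      2, 0, 2, 3, 4, 5, 6, 7]), ([(9, false), (0, false), (9, true)], [0]), ([(2, false), (1,
      false), (2, true)], [1]), ([(11, false), (1, false), (11, true)], [2])]
      (by decide +kernel) (by decide +kernel)

end Cfsg.Agent.S2419
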