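import Cfsg.Statements.S2509
import Mathlib
import Cfsg.Agent.H29.Pn7
import Cfsg.Agent.H3.PnC

set_option autoImplicit false
open Cfsg

namespace Cfsg.Agent.S2509

/-- Let G be a finite direct product of groups PSp_{2m_i}(F_i) (the symplectic group on a 2m_i-dimensional space modulo its centre), where each m_i is a power of 2 (m_i = 1, giving PSL₂, is allowed), each F_i is a finite field of odd order, and each factor PSp_{2m_i}(F_i) is a simple group. Then every subgroup H of G of odd index is pronormal in G: for every g ∈ G the subgroups H and gHg⁻¹ are conjugate by an element of the subgroup they generate. -/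
theorem result {t : ℕ}
    (m : Fin t → ℕ) (F : Fin t → Type*) [∀ i, Field (F i)] [∀ i, Fintype (F i)]
    (hm : ∀ i, ∃ k : ℕ, m i = 2 ^ k) (hodd : ∀ i, Odd (Fintype.card (F i)))
    (hs : ∀ i, IsSimpleGroup (Cfsg.PSp (m i) (F i)))
    (H : Subgroup (Π i, Cfsg.PSp (m i) (F i))) (hH : Odd H.index) : Cfsg.IsPronormal H := by
  classical
  have h2 : ∀ i, (2 : F i) ≠ 0 := fun i => H10.two_ne_zero_of_odd (by simpa using hodd i)
  have k : ∀ i, H29.Pn.PP (Matrix.symplecticGroup (Fin (m i)) (F i)) := fun i => by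
    obtain ⟨k, hk⟩ := hm i
    obtain ⟨e⟩ := H3.Pn.B1 (h2 i) (Fin (m i))
    obtain ⟨Q, u, hQ, hu, hU, hx, hc⟩ := H3.Pn.C (h2 i)
    exact H29.Pn.PP.of_mulEquiv e.symm (H29.Pn.pp_unitary (h2 i) (by simpa using hk) hQ hu hU hx hc)
  refine (H29.Pn.allPron_pi _ k).of_surjective
    (MonoidHom.pi fun i => (QuotientGroup.mk' _).comp (Pi.evalMonoidHom _ i)) (fun x => ?_) H hH
  choose y hy using fun i => QuotientGroup.mk'_surjective _ (x i)
  exact ⟨y, funext hy⟩

end Cfsg.Agent.S2509
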