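import Cfsg.Statements.S2518
import Mathlib
import Cfsg.Agent.H12.SpG2
import Cfsg.Agent.S2475

set_option autoImplicit false
open Cfsg

namespace Cfsg.Agent.S2518

open Cfsg.Agent.H12

/-- Let F₃ be the field with 3 elements and F₁₃ the field with 13 elements. The Chevalley group G₂(F₃) and PSL(2, F₁₃) have the same prime graph: the same prime divisors of their orders, and for distinct primes r, s an element of order rs in one iff in the other. -/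
theorem result {F : Type*} [Field F] [Fintype F] (hF : Fintype.card F = 3) {E : Type*} [Field E] [Fintype E] (hE : Fintype.card E = 13) :
    ((∀ r : ℕ, r.Prime → (r ∣ Nat.card ↥(Cfsg.Lie.chevG2.group F) ↔ r ∣ Nat.card (Matrix.ProjectiveSpecialLinearGroup (Fin 2) E))) ∧
      (∀ r s : ℕ, r.Prime → s.Prime → r ≠ s → ((∃ x : ↥(Cfsg.Lie.chevG2.group F), orderOf x = r * s) ↔ (∃ y : (Matrix.ProjectiveSpecialLinearGroup (Fin 2) E), orderOf y = r * s)))) := by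
  have : Fact (Nat.Prime 13) := ⟨by norm_num⟩
  have : CharP F 3 := charP_of_card_eq_prime hF
  have : CharP E 13 := charP_of_card_eq_prime hE
  obtain ⟨-, h2, h3, -, h5⟩ := exists_orderOf_G2 (p := 3) hF
  have h6 := Cfsg.Agent.S2475.result (F := E) 13 (by omega)
  rw [hE] at h6
  have h7 : ∀ m, (∃ y : Matrix.ProjectiveSpecialLinearGroup (Fin 2) E, orderOf y = m) ↔
      m ∣ 13 ∨ m ∣ 6 ∨ m ∣ 7 := fun m => Set.ext_iff.1 h6 m
  have h8 : ∀ x : Cfsg.Lie.chevG2.group F, orderOf x ∣ 8 ∨ orderOf x ∣ 13 ∨ orderOf x ∣ 7 ∨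
      orderOf x ∣ 12 ∨ orderOf x ∣ 9 := fun x => by
    rcases orderOf_dvd_G2 (p := 3) x hF with e | e | e | e | e | ⟨e, -⟩ | ⟨-, e⟩
    exacts [Or.inl e, Or.inr (Or.inl e), Or.inr (Or.inr (Or.inl e)),
      Or.inr (Or.inr (Or.inr (Or.inl e))), Or.inr (Or.inr (Or.inr (Or.inl (e.trans (by decide))))),
      absurd e (by decide), Or.inr (Or.inr (Or.inr (Or.inr e)))]
  have h9 : ∀ m, m ∣ 13 ∨ m ∣ 6 ∨ m ∣ 7 → ∃ x : Cfsg.Lie.chevG2.group F, orderOf x = m := by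
    have : ∀ m n, m ∣ n → n ≠ 0 → (∃ x : Cfsg.Lie.chevG2.group F, orderOf x = n) →
        ∃ x : Cfsg.Lie.chevG2.group F, orderOf x = m := fun m n h h' ⟨x, hx⟩ =>
      ⟨x ^ (orderOf x / m), orderOf_pow_orderOf_div (hx ▸ h') (hx ▸ h)⟩
    rintro m (h | h | h)
    exacts [this m _ h (by decide) h2, this m _ h (by decide) h5, this m _ h (by decide) h3]
  have h10 : ∀ r s : ℕ, r.Prime → (s.Prime ∧ r ≠ s ∨ s = 1) → r * s ∣ 8 ∨ r * s ∣ 13 ∨ r * s ∣ 7 ∨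
      r * s ∣ 12 ∨ r * s ∣ 9 → r * s ∣ 13 ∨ r * s ∣ 6 ∨ r * s ∣ 7 := fun r s hr hs h => by
    have h1 : r * s ≤ 13 := by rcases h with h | h | h | h | h <;> have := Nat.le_of_dvd (by decide) h <;> omega
    have h2 := hr.two_le
    have h3 : 1 ≤ s := hs.elim (·.1.one_le) (·.ge)
    have h4 : r ≤ 13 := by nlinarith
    have h5 : s ≤ 13 := by nlinarith
    have key : ∀ r < 14, ∀ s < 14, (r.Prime ∧ (s.Prime ∧ r ≠ s ∨ s = 1)) ∧ (r * s ∣ 8 ∨ r * s ∣ 13 ∨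
      r * s ∣ 7 ∨ r * s ∣ 12 ∨ r * s ∣ 9) → r * s ∣ 13 ∨ r * s ∣ 6 ∨ r * s ∣ 7 := by
      set_option synthInstance.maxSize 1024 in decide +kernel
    exact key r (by omega) s (by omega) ⟨⟨hr, hs⟩, h⟩
  refine ⟨fun r hr => ?_, fun r s hr hs hrs => ?_⟩
  · have := Fact.mk hr
    refine ⟨fun h => ?_, fun h => ?_⟩
    · obtain ⟨x, rfl⟩ := exists_prime_orderOf_dvd_card' r h
      obtain ⟨y, hy⟩ := (h7 _).2 (by simpa using h10 _ 1 hr (Or.inr rfl) (by simpa using h8 x))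
      exact hy ▸ orderOf_dvd_natCard y
    · obtain ⟨x, hx⟩ := h9 _ ((h7 _).1 (exists_prime_orderOf_dvd_card' r h))
      exact hx ▸ orderOf_dvd_natCard x
  · rw [h7]
    exact ⟨fun ⟨x, hx⟩ => h10 r s hr (Or.inl ⟨hs, hrs⟩) (hx ▸ h8 x), h9 _⟩

end Cfsg.Agent.S2518
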