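import Cfsg.Statements.S2652
import Mathlib
import Cfsg.Agent.H19.MT6

set_option autoImplicit false
open Cfsg

namespace Cfsg.Agent.S2652

open Cfsg.Agent.H19


/-- Let T be a Sylow 2-subgroup of the Fischer group Fi₂₃ (the finitely presented group `Spor.Fi23`; T has order 2¹⁸). Then every elementary abelian subgroup of Fi₂₃ contained in T and normal in T has order at most 2¹¹, and there is exactly one such subgroup of order 2¹¹. -/
theorem result
    (T : Sylow 2 Cfsg.Spor.Fi23) :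
    (∀ A : Subgroup Cfsg.Spor.Fi23, A ≤ T → (A.subgroupOf T).Normal → Cfsg.IsElementaryAbelian 2 A →
        Nat.card A ≤ 2 ^ 11) ∧
    ∃! A : Subgroup Cfsg.Spor.Fi23, A ≤ T ∧ (A.subgroupOf T).Normal ∧ Cfsg.IsElementaryAbelian 2 A ∧
        Nat.card A = 2 ^ 11 := by
  have : Finite Spor.Fi23 :=
    Nat.finite_of_card_ne_zero (by rw [Cfsg.Agent.H15.Fi23.card]; norm_num)
  obtain ⟨c, l, f⟩ := model23
  obtain ⟨X, j⟩ := js23 l f
  obtain ⟨g, a, -, k⟩ := j.top T
  have cd := (card_cm g _).trans j.card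
  refine ⟨fun A le _ el => (le_total _ _).elim id fun q => (k A le (el_iff.1 el) q ▸ cd).le,
    _, ⟨a, ⟨fun x hx u => ?_⟩, el_iff.2 (j.el.cm' g), cd⟩, fun A h => k A h.1 (el_iff.1 h.2.2.1) h.2.2.2.ge⟩
  have e := k (cm (u : Spor.Fi23) (cm g (AA 1 X))) (fun y hy => by
    simpa using J_mem (inv_mem u.2) (a (mem_cm.1 hy))) ((j.el.cm' g).cm' _) (by rw [card_cm, cd])
  exact mem_cm.1 (e.ge hx)

end Cfsg.Agent.S2652
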