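import Cfsg.Statements.S2809
import Mathlib
import Cfsg.Agent.H22.Latt
import Cfsg.Agent.H3.Frattini

set_option autoImplicit false
open Cfsg

namespace Cfsg.Agent.S2809

/-- Let H be a finite group, p a prime, R a p-subgroup of H with C_H(R) ≤ R, and L a subgroup of N_H(R) acting nilpotently on R (some iterated commutator [R, L, …, L] is trivial). Then L is a p-group. -/
theorem result {H : Type*} [Group H] [Finite H] {p : ℕ} [Fact p.Prime] (R : Subgroup H) (hR : IsPGroup p ↥R) (hC : Subgroup.centralizer (R : Set H) ≤ R) (L : Subgroup H) (hL : L ≤ Subgroup.normalizer (R : Set H)) (hnil : ∃ n : ℕ, Cfsg.iterCommutator R L n = ⊥) : IsPGroup p ↥L := by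
  open Subgroup Cfsg.Agent.H18 Cfsg.Agent.H22 in
  open scoped commutatorElement Pointwise in
  obtain ⟨n, hn⟩ := hnil
  refine pgrp_of_res_le_C (H := ⊤) hR (inf_le_right.trans hC) le_top (le_C_iff_comm'.2 ?_)
  have : ∀ k, ⁅R, pResidualOf p L⁆ ≤ iterCommutator R L k := by
    intro k
    induction k with
    | zero => exact comm_le_of_le_N ((pResidualOf_le L).trans hL)
    | succ k ih => exact comm_res_le_of_le hR hL (commutator_mono ih (pResidualOf_le L))
  exact eq_bot_iff.2 (hn ▸ this n)

end Cfsg.Agent.S2809
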