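import Cfsg.Statements.S2810
import Mathlib
import Cfsg.Agent.H22.Latt
import Cfsg.Agent.H3.Frattini

set_option autoImplicit false
open Cfsg

namespace Cfsg.Agent.S2810

/-- Let H be a finite group of characteristic p and L a subgroup of H centralizing every factor of some H-invariant chain 1 = A₀ ≤ A₁ ≤ … ≤ Aₙ = O_p(H) of normal subgroups (that is, [A_{i+1}, L] ≤ Aᵢ for each i). Then L ≤ O_p(H). -/
theorem result {H : Type*} [Group H] [Finite H] {p : ℕ} [Fact p.Prime] (hchar : Subgroup.centralizer (Cfsg.pCore p H : Set H) ≤ Cfsg.pCore p H) (L : Subgroup H) (n : ℕ) (A : Fin (n + 1) → Subgroup H) (h0 : A 0 = ⊥) (hn : A (Fin.last n) = Cfsg.pCore p H) (hmono : Monotone A) (hnorm : ∀ i, (A i).Normal) (hcent : ∀ i : Fin n, ⁅A i.succ, L⁆ ≤ A i.castSucc) : L ≤ Cfsg.pCore p H := by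
  open Subgroup Cfsg.Agent.H18 Cfsg.Agent.H22 in
  open scoped commutatorElement Pointwise in
  have h1 : ∀ i : Fin n, ⁅A i.succ, ncl ⊤ L⁆ ≤ A i.castSucc := fun i => by
    haveI := hnorm i.succ
    haveI := hnorm i.castSucc
    exact (le_cmod.1 (ncl_le (le_N_cmod (le_N_of_normal _ _) (le_N_of_normal _ _))
      (le_cmod.2 ⟨le_N_of_normal _ _, hcent i⟩))).2
  have h2 : ∀ i : Fin (n + 1), ⁅pCore p H, pResidualOf p (ncl ⊤ L)⁆ ≤ A i := by
    intro i
    induction i using Fin.reverseInduction with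
    | last => rw [hn]; exact commutator_le_left _ _
    | cast i ih =>
      exact comm_res_le_of_le pgrp_pCore (le_N_of_normal _ _)
        ((commutator_mono ih (pResidualOf_le _)).trans (h1 i))
  refine (le_ncl ⊤ L).trans (le_pCore (normal_of_top_le_N (le_N_ncl _ _))
    (pgrp_of_res_le_C (H := ⊤) pgrp_pCore (inf_le_right.trans hchar) le_top (le_C_iff_comm'.2 ?_)))
  exact eq_bot_iff.2 (h0 ▸ h2 0)

end Cfsg.Agent.S2810
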