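import Cfsg.Statements.S2813
import Mathlib
import Cfsg.Agent.H22.Latt
import Cfsg.Agent.H3.Frattini

set_option autoImplicit false
open Cfsg

namespace Cfsg.Agent.S2813

/-- Let K be a subgroup of the finite group H with O_p(K) = 1 and Y a p-subgroup of N_H(K) with [K, Y, Y] = 1. Then [K, Y] = 1. -/
theorem result {H : Type*} [Group H] [Finite H] {p : ℕ} [Fact p.Prime] (K : Subgroup H) (hO : Cfsg.pCore p ↥K = ⊥) (Y : Subgroup H) (hY : IsPGroup p ↥Y) (hYK : Y ≤ Subgroup.normalizer (K : Set H)) (hq : ⁅⁅K, Y⁆, Y⁆ = ⊥) : ⁅K, Y⁆ = ⊥ := by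
  open Subgroup Cfsg.Agent.H18 Cfsg.Agent.H22 in
  open scoped commutatorElement Pointwise in
  have h1 : ⁅K, Y⁆ ≤ K := comm_le_of_le_N hYK
  have h2 : ⁅K, Y⁆ ≤ C[Y] := le_C_iff_comm.2 hq
  have h3 : ncl K Y ≤ N[Y] := by
    rw [ncl_eq_comm_sup]; exact sup_le (h2.trans (C_le_N Y)) le_normalizer
  have h4 : Y ≤ pCoreOf p (K ⊔ Y) := le_pCoreOf_sn ((sn_of_N (le_ncl K Y) h3).trans
    (sn_of_N (ncl_le (le_sup_left.trans le_normalizer) le_sup_right)
      (sup_le (le_N_ncl K Y) ((le_ncl K Y).trans le_normalizer)))) hY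
  rw [eq_bot_iff, ← pCoreOf_eq_bot_iff.2 hO, pCoreOf_eq_inf le_sup_left (sup_le le_normalizer hYK)]
  exact le_inf h1 ((commutator_mono le_rfl h4).trans
    (comm_le_of_le_N' (le_sup_left.trans (le_N_pCoreOf _))))

end Cfsg.Agent.S2813
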