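import Cfsg.Statements.S2814
import Mathlib
import Cfsg.Agent.H2.Balance3

set_option autoImplicit false
open Cfsg

namespace Cfsg.Agent.S2814

open Cfsg.Agent.FT Subgroup
open scoped commutatorElement

/-- Let A be a subgroup of the finite group H and K the subnormal closure of A (intersection of the subnormal subgroups containing A). Then K is the normal closure of A inside K and N_H(A) ≤ N_H(K); K = A·O^p(K), O^p(K) being generated by the elements of K of order prime to p; and if A is a p-group, O^p(K) = [O^p(K), A]. -/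
theorem result {H : Type*} [Group H] [Finite H] {p : ℕ} [Fact p.Prime] (A : Subgroup H) (K : Subgroup H) (hK : K = Cfsg.subnormalClosure A) : (Subgroup.normalClosure ((A.subgroupOf K : Subgroup ↥K) : Set ↥K)).map K.subtype = K ∧ Subgroup.normalizer (A : Set H) ≤ Subgroup.normalizer (K : Set H) ∧ A ⊔ (Cfsg.pResidual p ↥K).map K.subtype = K ∧ (IsPGroup p ↥A → ⁅(Cfsg.pResidual p ↥K).map K.subtype, A⁆ = (Cfsg.pResidual p ↥K).map K.subtype) := by
  have hp : p.Prime := Fact.out
  have hs : Subn K ⊤ := subn_top.2 (hK ▸ Cfsg.Agent.H2.isSubnormal_sInf fun _ h => h.2)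
  have hA : A ≤ K := hK ▸ le_sInf fun _ h => h.1
  have hm : ∀ L, A ≤ L → Subn L ⊤ → K ≤ L := fun L h1 h2 => hK ▸ sInf_le ⟨h1, subn_top.1 h2⟩
  rw [pResidual_map hp]
  have hB := piGen_nml {p}ᶜ K
  have h3 : A ⊔ piGen {p}ᶜ K = K := by
    refine le_antisymm (sup_le hA hB.le) (hm _ le_sup_left (Subn.trans ?_ hs))
    rw [sup_comm, ← qpre_quo (hA.trans hB.nrm)]
    refine qpre_subn hB ((PiGrp.nil (p := p) ?_).subn (quo_mono _ hA))
    exact (piGrp_quo_iff hB.nrm).2 (piNat_compl_compl.1 (piGen_relIndex _ K))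
  refine ⟨le_antisymm (map_subtype_le _) (hm _ ?_ ((nml_map_subtype _).subn.trans hs)), fun g hg => ?_, h3, fun hP => ?_⟩
  · exact (map_so hA).ge.trans (map_mono le_normalClosure)
  · refine mem_nrm_of_cj_le (cj_le_iff.2 (hm _ ?_ ?_))
    · exact (cj_of_mem_nrm (inv_mem hg)).ge.trans (cj_mono _ hA)
    · have := hs.cj g⁻¹; rwa [cj_top] at this
  · have hn : A ≤ N(piGen {p}ᶜ K) := hA.trans hB.nrm
    have hD : K ≤ N(⁅piGen {p}ᶜ K, A⁆) := h3.ge.trans (sup_le (norm_comm_right _ _) (norm_comm_left _ _))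
    have hle : ⁅piGen {p}ᶜ K, A⁆ ≤ K := comm_le_of_le hB.le hA
    have h4 : K ≤ ⁅piGen {p}ᶜ K, A⁆ ⊔ A := by
      refine hm _ le_sup_right (Subn.trans (Nml.subn ⟨sup_le hle hA, h3.ge.trans (sup_le (norms_of_le le_sup_right) ?_)⟩) hs)
      refine norms_of_comm_le ((comm_sup_le ((sup_le hle hA).trans hD) (comm_le_left (hB.le.trans hD)) ?_).trans le_sup_left)
      rw [commC]
    refine le_antisymm (comm_le_left hn) (piGen_min hD ?_)
    have h5 : ⁅piGen {p}ᶜ K, A⁆.relIndex K = ⁅piGen {p}ᶜ K, A⁆.relIndex A := by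
      rw [← relIndex_sup_norm (hA.trans hD), le_antisymm (sup_le hle hA) h4]
    rw [h5]
    exact piNat_compl_compl.2 ((pGrp_of_isPGroup hp hP).relIndex _)

end Cfsg.Agent.S2814
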