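import Cfsg.Statements.S2815
import Mathlib
import Cfsg.Agent.H4.FrakM

set_option autoImplicit false
open Cfsg

namespace Cfsg.Agent.S2815

/-- Let H be a finite group and p a prime dividing its order with O_p(H) = 1, and suppose K = O^p(H) (generated by the elements of order prime to p) is quasisimple. Then K = F*(H); for every nontrivial p-subgroup Y of H, K = [K, Y] and K lies in the subgroup generated by the K-conjugates of Y; every normal subgroup of H not containing K has order prime to p; and H is p-irreducible. -/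
theorem result {H : Type*} [Group H] [Finite H] {p : ℕ} [Fact p.Prime] (hp : p ∣ Nat.card H) (hO : Cfsg.pCore p H = ⊥) (hq : Cfsg.IsQuasisimple ↥(Cfsg.pResidual p H)) : Cfsg.pResidual p H = Cfsg.generalizedFittingSubgroup H ∧ (∀ Y : Subgroup H, IsPGroup p ↥Y → Y ≠ ⊥ → ⁅Cfsg.pResidual p H, Y⁆ = Cfsg.pResidual p H ∧ Cfsg.pResidual p H ≤ ⨆ k : ↥(Cfsg.pResidual p H), Y.map (MulAut.conj (k : H)).toMonoidHom) ∧ (∀ C : Subgroup H, C.Normal → ¬ Cfsg.pResidual p H ≤ C → (Nat.card ↥C).Coprime p) ∧ Cfsg.IsPIrreducible p H := by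
  open Subgroup Cfsg.Agent.H18 Cfsg.Agent.H22 Cfsg.Agent.H4 in
  have hO' : pCoreOf p (⊤ : Subgroup H) = ⊥ := by rw [pCoreOf_top, hO]
  have hK : IsComponent (pResidual p H) := ⟨Normal.isSubnormal inferInstance, hq⟩
  have e : pResidual p H = generalizedFittingSubgroup H := by
    refine le_antisymm ((H2.le_layer hK).trans H2.layer_le_generalizedFitting) ?_
    rw [← FS_top, ← pResidualOf_top]; exact FS_le_res hO'
  have h3 : ∀ C : Subgroup H, C.Normal → ¬ pResidual p H ≤ C → (Nat.card ↥C).Coprime p := by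
    intro C hC h1
    have h2 := (H2.component_le_or_commutator_eq_bot hK hC.isSubnormal).resolve_left h1
    refine coprime_card_of_forall fun x hx ⟨k, hk⟩ => ?_
    have := eq_bot_of_le_C_FS hO' (pgrp_zpowers hk) le_top (by
      rw [FS_top, ← e]; exact (zpowers_le.2 hx).trans (le_C_iff_comm'.2 h2))
    simpa using this
  refine ⟨e, fun Y hY hne => ?_, h3, pirr_top_iff.1 ⟨fun hc => ?_, fun K _ hN hc => ?_⟩⟩
  · have h1 : ⁅pResidual p H, Y⁆ = pResidual p H := by
      refine (H2.commutator_eq_self_or_bot_of_isQuasisimple hq (le_N_of_normal _ _)).resolve_right fun h1 => ?_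
      exact hne (eq_bot_of_le_C_FS hO' hY le_top (by rw [FS_top, ← e]; exact le_C_iff_comm'.2 h1))
    exact ⟨h1, h1.ge.trans (comm_le_ncl _ _)⟩
  · have := hc.coprime hO'
    rw [card_top, coprime_card_iff_not_dvd] at this
    exact this hp
  · rw [pResidualOf_top]
    by_contra h1
    exact hc (pcl_of_coprime (h3 K (normal_of_top_le_N hN) h1))

end Cfsg.Agent.S2815
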