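import Cfsg.Statements.S2816
import Mathlib
import Cfsg.Agent.H4.FrakM

set_option autoImplicit false
open Cfsg

namespace Cfsg.Agent.S2816

/-- Let H be a finite group and p a prime with O_p(H) = 1, and Y a p-subgroup of H. Then for every subnormal subgroup K of H containing Y, [F*(H), Y] = [F*(K), Y] = [F*(K), Y, Y]; and if Y₀ ≤ Y with [F*(H), Y, Y₀] = 1 then Y₀ = 1 (in particular [F*(H), Y] = 1 forces Y = 1). -/
theorem result {H : Type*} [Group H] [Finite H] {p : ℕ} [Fact p.Prime] (hO : Cfsg.pCore p H = ⊥) (Y : Subgroup H) (hY : IsPGroup p ↥Y) : (∀ K : Subgroup H, K.IsSubnormal → Y ≤ K → ⁅Cfsg.generalizedFittingSubgroup H, Y⁆ = ⁅(Cfsg.generalizedFittingSubgroup ↥K).map K.subtype, Y⁆ ∧ ⁅(Cfsg.generalizedFittingSubgroup ↥K).map K.subtype, Y⁆ = ⁅⁅(Cfsg.generalizedFittingSubgroup ↥K).map K.subtype, Y⁆, Y⁆) ∧ (∀ Y₀ : Subgroup H, Y₀ ≤ Y → ⁅⁅Cfsg.generalizedFittingSubgroup H, Y⁆, Y₀⁆ = ⊥ → Y₀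 = ⊥) := by
  open Subgroup Cfsg.Agent.H18 Cfsg.Agent.H22 Cfsg.Agent.H4 in
  have hO' : pCoreOf p (⊤ : Subgroup H) = ⊥ := by rw [pCoreOf_top, hO]
  have h0 := FS_comm_comm (FS_eq_self (sn_FS (⊤ : Subgroup H)) le_rfl) (pCoreOf_eq_bot_sn (sn_FS ⊤) hO') hY
    (le_top.trans (le_normalizer.trans (N_le_N_FS ⊤)))
  refine ⟨fun K hK hYK => ?_, fun Y₀ h1 h2 => ?_⟩
  · have hK' := sn_top hK
    have h1 : ⁅FS (⊤ : Subgroup H), Y⁆ ≤ K := by
      revert hYK
      refine hK'.induction_on (P := fun X => Y ≤ X → ⁅FS (⊤ : Subgroup H), Y⁆ ≤ X) (fun _ => le_top) ?_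
      intro X Z h1 h2 h3 ih h4
      rw [← h0]
      exact (commutator_mono (ih (h4.trans h1)) h4).trans (comm_le_of_le_N' h2)
    have h2 : ⁅FS (⊤ : Subgroup H), Y⁆ ≤ FS K := by
      rw [← FS_inf_sn hK']
      exact le_inf (comm_le_of_le_N (le_top.trans (le_normalizer.trans (N_le_N_FS ⊤)))) h1
    refine ⟨?_, (FS_comm_comm (FS_eq_self (sn_FS K) le_rfl) (pCoreOf_eq_bot_sn ((sn_FS K).trans hK') hO') hY
      (hYK.trans (le_normalizer.trans (N_le_N_FS K)))).symm⟩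
    rw [← FS_top]
    refine le_antisymm (h0.ge.trans (commutator_mono h2 le_rfl)) (commutator_mono ?_ le_rfl)
    exact (FS_inf_sn hK').ge.trans inf_le_left
  · refine eq_bot_of_comm_comm_FS hO' (hY.to_le h1) le_top (le_bot_iff.1 (le_trans ?_ h2.le))
    rw [FS_top]
    exact commutator_mono (commutator_mono le_rfl h1) le_rfl

end Cfsg.Agent.S2816
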