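import Cfsg.Statements.S2817
import Mathlib
import Cfsg.Agent.H4.FrakM

set_option autoImplicit false
open Cfsg

namespace Cfsg.Agent.S2817

/-- Let H be a finite group and p a prime with O_p(H) = 1, Q a p-subgroup of H, L = [F*(H), Q], and F the largest normal subgroup of F*(H) centralized by Q (a normal subgroup of F*(H) centralized by Q and containing every such). Then F = C_{F*(H)}(LQ); L = [L, Q]; L ∩ F ≤ Φ(L); every p-subgroup B of N_H(Q) with [L, B] ≤ F satisfies [L, B] = 1; and C_H(FL) has order prime to p. -/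
theorem result {H : Type*} [Group H] [Finite H] {p : ℕ} [Fact p.Prime] (hO : Cfsg.pCore p H = ⊥) (Q : Subgroup H) (hQ : IsPGroup p ↥Q) (L : Subgroup H) (hL : L = ⁅Cfsg.generalizedFittingSubgroup H, Q⁆) (F : Subgroup H) (hF : F ≤ Cfsg.generalizedFittingSubgroup H ∧ Cfsg.generalizedFittingSubgroup H ≤ Subgroup.normalizer (F : Set H) ∧ Q ≤ Subgroup.centralizer (F : Set H) ∧ ∀ N : Subgroup H, N ≤ Cfsg.generalizedFittingSubgroup H → Cfsg.generalizedFittingSubgroup H ≤ Subgroup.normalizer (N : Set H) → Q ≤ Subgroup.centralizer (N : Set H) → N ≤ F) : F = Cfsg.generalizedFittingSubgroup H ⊓ Subgroup.centralizer ((L ⊔ Q : Subgroup H) : Set H) ∧ ⁅L, Q⁆ = L ∧ L ⊓ F ≤ (frattini ↥L).map L.subtype ∧ (∀ B : Subgroup H, IsPGroup p ↥B → B ≤ Subgroup.normalizer (Q : Set H) → ⁅L, B⁆ ≤ F → ⁅L, B⁆ = ⊥) ∧ (Nat.card ↥(Subgroup.centralizer ((F ⊔ L : Subgroup H) : Set H))).Coprime p := by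
  open Subgroup Cfsg.Agent.H18 Cfsg.Agent.H22 Cfsg.Agent.H4 in
  have hO' : pCoreOf p (⊤ : Subgroup H) = ⊥ := by rw [pCoreOf_top, hO]
  rw [← FS_top] at hL hF ⊢
  set E := FS (⊤ : Subgroup H) with hE
  have hEN : ∀ X : Subgroup H, X ≤ N[E] := fun X => le_top.trans (le_normalizer.trans (N_le_N_FS ⊤))
  have hsn : ∀ X : Subgroup H, X ≤ E → E ≤ N[X] → FS X = X ∧ pCoreOf p X = ⊥ := fun X h1 h2 =>
    ⟨FS_eq_self ((sn_of_N h1 h2).trans (sn_FS ⊤)) h1, pCoreOf_eq_bot_sn ((sn_of_N h1 h2).trans (sn_FS ⊤)) hO'⟩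
  obtain ⟨hF1, hF2, hF3, hF4⟩ := hF
  have hLE : L ≤ E := by rw [hL]; exact comm_le_of_le_N (hEN Q)
  have hEL : E ≤ N[L] := by rw [hL]; exact le_N_comm_left _ _
  have hNL : N[Q] ≤ N[L] := by rw [hL]; exact le_N_commutator (hEN _) le_rfl
  have hQL : Q ≤ N[L] := le_normalizer.trans hNL
  have hncl : ncl E Q = L ⊔ Q := by rw [hL]; exact ncl_eq_comm_sup _ _
  have e1 : F = E ⊓ C[L ⊔ Q] := by
    rw [← hncl]
    refine le_antisymm (le_inf hF1 (ncl_le_C hF2 (le_centralizer_iff.1 hF3))) (hF4 _ inf_le_left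
      (le_N_inf le_normalizer (le_N_C (le_N_ncl _ _))) ?_)
    exact le_centralizer_iff.1 (inf_le_right.trans (C_anti (le_ncl _ _)))
  have hEE := hsn E le_rfl le_normalizer
  have hLL := hsn L hLE hEL
  have e2 : ⁅L, Q⁆ = L := by rw [hL]; exact FS_comm_comm hEE.1 hEE.2 hQ (hEN Q)
  have hZ : L ⊓ F ≤ C[L ⊔ Q] := inf_le_right.trans (e1.le.trans inf_le_right)
  have hZ' : L ⊓ F ≤ ⁅L, L⁆ := by
    refine le_of_forall_syl fun q hq => ?_
    haveI := Fact.mk hq
    obtain ⟨R, hR⟩ := exists_sylIn q (L ⊓ F)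
    refine ⟨R, hR, ?_⟩
    by_cases hqp : q = p
    · subst hqp
      refine le_trans (le_pCoreOf (hR.le.trans inf_le_left) ?_ hR.isP) (hLL.2.le.trans bot_le)
      exact (le_centralizer_iff.1 ((hR.le.trans hZ).trans (C_anti le_sup_left))).trans (C_le_N _)
    · obtain ⟨T, hT, hRT⟩ := exists_sylIn_ge hR.isP ((hR.le.trans inf_le_left).trans (le_sup_left (b := Q)))
      have hTL : T ≤ L := (le_pResidualOf hT.le (H2.coprime_of_isPGroup_of_ne hqp hT.isP)).trans
        (pResidualOf_le_of_le_sup hQ hQL le_rfl)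
      refine le_trans (le_inf (le_inf (hR.le.trans hZ) ?_) hRT)
        ((center_inf_res_le' hT).trans (commutator_mono hTL hTL))
      refine (hR.le.trans inf_le_left).trans (e2.ge.trans ?_)
      exact (commutator_mono le_sup_left (le_pResidualOf le_sup_right
        (H2.coprime_of_isPGroup_of_ne (Ne.symm hqp) hQ))).trans (comm_le_of_le_N' (le_N_pResidualOf _))
  have h3 : ∀ U : Subgroup H, U ≤ L → U ⊔ (L ⊓ F) = L → U = L := by
    intro U h1 h2
    have h4 : L ⊓ F ≤ C[U ⊔ (L ⊓ F)] := by rw [h2]; exact hZ.trans (C_anti le_sup_left)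
    have h5 := H2.commutator_sup_of_le_centralizer h4
    rw [h2] at h5
    exact le_antisymm h1 (h2.ge.trans (sup_le le_rfl (hZ'.trans (h5.le.trans (comm_le_of_le_N le_normalizer)))))
  refine ⟨e1, e2, (le_map_frattini_iff inf_le_left).2 h3, fun B hB hBN h4 => ?_, ?_⟩
  · have h5 := FS_comm_sup_C hLL.1 hLL.2 hB (hBN.trans hNL)
    have := h3 (L ⊓ C[B]) inf_le_left (le_antisymm (sup_le inf_le_left inf_le_left) (by
      conv_lhs => rw [← h5]
      exact sup_le ((le_inf (comm_le_of_le_N (hBN.trans hNL)) h4).trans le_sup_right) le_sup_left))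
    exact le_C_iff_comm.1 (this.ge.trans inf_le_right)
  · have hC1 := hsn (E ⊓ C[L]) inf_le_left (le_N_inf le_normalizer (le_N_C hEL))
    have h5 := FS_comm_sup_C hC1.1 hC1.2 hQ (le_N_inf (hEN Q) (le_N_C hQL))
    have h6 : E ⊓ C[F ⊔ L] ≤ F ⊔ L := by
      refine (inf_le_inf_left _ (C_anti le_sup_right)).trans (h5.ge.trans (sup_le ?_ ?_))
      · exact ((commutator_mono inf_le_left le_rfl).trans hL.ge).trans le_sup_right
      · refine le_trans ?_ le_sup_left
        rw [e1, C_sup, inf_assoc]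
    refine coprime_card_of_forall fun x hx ⟨k, hk⟩ => ?_
    have hx' : zpowers x ≤ C[F ⊔ L] := zpowers_le.2 hx
    have hEFL : E ≤ N[F ⊔ L] := le_N_sup hF2 hEL
    have h7 : ⁅⁅zpowers x, E⁆, F ⊔ L⁆ ≤ ⊥ := by
      refine three_subgroups (le_N_of_normal _ _) (le_N_of_normal _ _) (le_N_of_normal _ _) ?_ ?_
      · exact (commutator_mono (comm_le_of_le_N' hEFL) le_rfl).trans (le_C_iff_comm'.1 hx').le
      · rw [le_C_iff_comm'.1 hx', commutator_bot_left]
    have h8 : ⁅E, zpowers x⁆ ≤ F ⊔ L := by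
      refine le_trans (le_inf (comm_le_of_le_N (hEN _)) ?_) h6
      rw [commutator_comm]; exact le_C_iff_comm.2 (le_bot_iff.1 h7)
    have := eq_bot_of_comm_comm_FS hO' (pgrp_zpowers hk) le_top
      (le_bot_iff.1 ((commutator_mono h8 le_rfl).trans (le_C_iff_comm'.1 hx').le))
    simpa using this

end Cfsg.Agent.S2817
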