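import Cfsg.Statements.S2818
import Mathlib
import Cfsg.Agent.H22.Latt
import Cfsg.Agent.H3.Frattini

set_option autoImplicit false
open Cfsg

namespace Cfsg.Agent.S2818

/-- Let P be a finite p-subgroup of a group G and H a subgroup of N_G(P) with [P, H] ≤ Ω₁(Z(P)) (the elements of order dividing p in the centre of P). Then H centralizes the Frattini subgroup of P. -/
theorem result {G : Type*} [Group G] [Finite G] {p : ℕ} [Fact p.Prime] (P : Subgroup G) (hP : IsPGroup p ↥P) (H : Subgroup G) (hH : H ≤ Subgroup.normalizer (P : Set G)) (h : ⁅P, H⁆ ≤ Cfsg.omegaOne p (P ⊓ Subgroup.centralizer (P : Set G))) : ⁅(frattini ↥P).map P.subtype, H⁆ = ⊥ := by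
  open Subgroup Cfsg.Agent.H18 Cfsg.Agent.H22 in
  open scoped commutatorElement Pointwise in
  rw [← le_C_iff_comm, H3.map_frattini_subtype_le_iff hP]
  have hZ : ⁅P, H⁆ ≤ C[P] := h.trans ((omegaOne_le _).trans inf_le_right)
  have h1 : ⁅⁅P, H⁆, P⁆ = ⊥ := le_C_iff_comm.1 hZ
  refine ⟨le_C_iff_comm.2 (commutator_commutator_eq_bot_of_rotate h1 (by rwa [commutator_comm H P])),
    fun x hx g hg => ?_⟩
  have h2 := commutator_mem_commutator hx hg
  have h3 : ⁅x, g⁆ ^ p = 1 := pow_eq_one_of_mem_omegaOne (center_le_C P) (h h2)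
  have h4 : Commute x ⁅x, g⁆ := hZ h2 x hx
  have h5 : g * x * g⁻¹ = ⁅x, g⁆⁻¹ * x := by rw [commutatorElement_def]; group
  rw [← mul_inv_eq_iff_eq_mul, ← conj_pow, h5, h4.symm.inv_left.mul_pow, inv_pow, h3, inv_one,
    one_mul]

end Cfsg.Agent.S2818
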