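import Cfsg.Statements.S2819
import Mathlib
import Cfsg.Agent.H22.Latt
import Cfsg.Agent.H3.Frattini

set_option autoImplicit false
open Cfsg

namespace Cfsg.Agent.S2819

section
open Subgroup Cfsg.Agent.H18 Cfsg.Agent.H22
open scoped commutatorElement Pointwise

theorem mul_pow_comm {G : Type*} [Group G] {P : Subgroup G} {a b : G} (ha : a ∈ P) (hb : b ∈ P)
    (n : ℕ) : (a ^ n)⁻¹ * (a * b) ^ n * (b ^ n)⁻¹ ∈ ⁅P, P⁆ := by
  rw [← map_subtype_commutator]
  refine ⟨((⟨a, ha⟩ : P) ^ n)⁻¹ * (⟨a, ha⟩ * ⟨b, hb⟩) ^ n * (⟨b, hb⟩ ^ n)⁻¹, ?_, rfl⟩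
  rw [SetLike.mem_coe, ← Abelianization.ker_of, MonoidHom.mem_ker]
  simp only [map_mul, map_inv, map_pow, mul_pow]
  simp

end

/-- Let P be a finite p-subgroup of a group G, H a subgroup of N_G(P), and Y a subgroup of H centralizing the derived subgroup P' such that [P, Y] is elementary abelian. Then O^p(⟨Y^H⟩), the subgroup of the normal closure of Y in H generated by its elements of order prime to p, centralizes the Frattini subgroup of P. -/
theorem result {G : Type*} [Group G] [Finite G] {p : ℕ} [Fact p.Prime] (P : Subgroup G) (hP : IsPGroup p ↥P) (H : Subgroup G) (hH : H ≤ Subgroup.normalizer (P : Set G)) (Y : Subgroup G) (hYH : Y ≤ H) (hYc : Y ≤ Subgroup.centralizer ((⁅P, P⁆ : Subgroup G) : Set G)) (hel : Cfsg.IsElementaryAbelian p ⁅P, Y⁆) (NY : Subgroup G) (hNY : NY = (Subgroup.normalClosure ((Y.subgroupOf H : Subgroup ↥H) : Set ↥H)).map H.subtype) : (Cfsg.pResidual p ↥NY).map NY.subtype ≤ Subgroup.centralizer (((frattini ↥P).map P.subtype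 : Subgroup G) : Set G) := by
  open Subgroup Cfsg.Agent.H18 Cfsg.Agent.H22 in
  open scoped commutatorElement Pointwise in
  rw [map_normalClosure_subgroupOf hYH] at hNY
  have hPP : H ≤ N[⁅P, P⁆] := le_N_commutator hH hH
  have hP' : P ≤ N[⁅P, P⁆] := normalizer_commutator_ge_left _ _
  have hF : H ≤ N[(frattini P).map P.subtype] :=
    hH.trans (H1.normalizer_le_normalizer_map_of_characteristic _)
  have h1 : (frattini P).map P.subtype ≤ cmod Y ⁅P, P⁆ := by
    rw [H3.map_frattini_subtype_le_iff hP]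
    refine ⟨le_cmod.2 ⟨le_normalizer, comm_le_of_le_N' (hYH.trans hPP)⟩, fun x hx =>
      ⟨hP' (pow_mem hx p), fun y hy => ?_⟩⟩
    have h2 : ⁅y, x⁆ ∈ ⁅P, Y⁆ := by rw [commutator_comm]; exact commutator_mem_commutator hy hx
    have h3 := mul_pow_comm (comm_le_of_le_N (hYH.trans hH) h2) hx p
    rw [hel.2 _ h2, inv_one, one_mul, commutatorElement_def, inv_mul_cancel_right, conj_pow] at h3
    exact h3
  have h2 : ⁅(frattini P).map P.subtype, NY⁆ ≤ ⁅P, P⁆ := by
    rw [hNY]
    exact (le_cmod.1 (ncl_le (le_N_cmod hF hPP) (le_cmod.2 ⟨hYH.trans hPP, by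
      rw [commutator_comm]; exact (le_cmod.1 h1).2⟩))).2
  have h3 : NY ≤ H := hNY ▸ ncl_le_self hYH
  refine res_le_C_of_chain (hP.to_le (map_subtype_le _)) (h3.trans hF)
    ((commutator_mono le_rfl (pResidualOf_le _)).trans h2) ((pResidualOf_le _).trans ?_)
  rw [hNY]; exact ncl_le (le_N_C hPP) hYc

end Cfsg.Agent.S2819
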