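import Cfsg.Statements.S2820
import Mathlib
import Cfsg.Agent.H2.Balance3

set_option autoImplicit false
open Cfsg

namespace Cfsg.Agent.S2820

open Cfsg.Agent.FT Subgroup
open scoped commutatorElement

/-- Let A and B be subnormal subgroups of the finite group H with A a p-group and B = O^p(B) (B generated by its elements of order prime to p). Then A normalizes B and B = O^p(AB), the subgroup of ⟨A, B⟩ generated by its elements of order prime to p. -/
theorem result {H : Type*} [Group H] [Finite H] {p : ℕ} [Fact p.Prime] (A B : Subgroup H) (hA : A.IsSubnormal) (hB : B.IsSubnormal) (hAp : IsPGroup p ↥A) (hBres : (Cfsg.pResidual p ↥B).map B.subtype = B) : A ≤ Subgroup.normalizer (B : Set H) ∧ (Cfsg.pResidual p ↥(A ⊔ B)).map (A ⊔ B).subtype = B := by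
  have hp : p.Prime := Fact.out
  rw [pResidual_map hp] at hBres ⊢
  have h1 : A ≤ O[{p}]((⊤ : Subgroup H)) := pcore_max_subn (pGrp_of_isPGroup hp hAp) (subn_top.2 hA)
  have h2 : piGen {p}ᶜ (O[{p}]((⊤ : Subgroup H)) ⊔ B) ≤ B :=
    ((subn_top.2 hB).mono le_sup_right le_top).piGen_sup (piGrp_compl_compl.2 (pcore_pi _ _))
      (le_top.trans (pcore_nrm _ _))
  have h3 : piGen {p}ᶜ (A ⊔ B) = B :=
    le_antisymm ((piGen_mono _ (sup_le_sup_right h1 B)).trans h2) (hBres.ge.trans (piGen_mono _ le_sup_right))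
  exact ⟨le_sup_left.trans ((piGen_nml {p}ᶜ (A ⊔ B)).nrm.trans_eq (by rw [h3])), h3⟩

end Cfsg.Agent.S2820
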