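import Cfsg.Statements.S2823
import Mathlib
import Cfsg.Agent.H22.Latt
import Cfsg.Agent.H3.Frattini

set_option autoImplicit false
open Cfsg

namespace Cfsg.Agent.S2823

/-- Let H be a finite group, p a prime, T a Sylow p-subgroup and L a subgroup of characteristic p containing T; let Z_L be the subgroup generated by the Ω₁(Z(S)) over the Sylow p-subgroups S of L and O^p(L) the subgroup generated by the elements of L of order prime to p. Then Z_L = Ω₁(Z(L))·[Z_L, O^p(L)] and [Z_L, L] = [Z_L, O^p(L)]. -/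
theorem result {H : Type*} [Group H] [Finite H] {p : ℕ} [Fact p.Prime] (T : Sylow p H) (L : Subgroup H) (hTL : (T : Subgroup H) ≤ L) (hL : Subgroup.centralizer (Cfsg.pCore p ↥L : Set ↥L) ≤ Cfsg.pCore p ↥L) : Cfsg.sylowCenterClosure p L = (Cfsg.omegaOne p (L ⊓ Subgroup.centralizer ((L : Subgroup H) : Set H))) ⊔ ⁅Cfsg.sylowCenterClosure p L, (Cfsg.pResidual p ↥L).map L.subtype⁆ ∧ ⁅Cfsg.sylowCenterClosure p L, L⁆ = ⁅Cfsg.sylowCenterClosure p L, (Cfsg.pResidual p ↥L).map L.subtype⁆ := by
  open Subgroup Cfsg.Agent.H18 Cfsg.Agent.H22 in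
  open scoped commutatorElement Pointwise in
  have hT := (sylIn_top T).mono hTL le_top
  have hL' := chP_iff.2 hL
  have hV := elemAb_le (pred_Y L).ea (Z_le_Y hL')
  have hN := le_N_sylowCenterClosure (p := p) L
  have h1 := comm_le_of_le_N ((pResidualOf_le (p := p) L).trans hN)
  have hK : L ≤ N[⁅sylowCenterClosure p L, pResidualOf p L⁆] :=
    le_N_commutator hN (le_N_pResidualOf L)
  have e : sylowCenterClosure p L =
      omegaOneCenter p L ⊔ ⁅sylowCenterClosure p L, pResidualOf p L⁆ := by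
    refine le_antisymm (sylowCenterClosure_le_of_N hT
      (le_N_sup (le_normalizer.trans (N_le_N_omegaOneCenter L)) hK) ?_) (sup_le ?_ h1)
    · refine le_trans (le_inf (le_sylowCenterClosure hT) ((omegaOneCenter_le _).trans inf_le_right))
        ((fixed_syl_le (elemAb_iff.1 hV).1 (elemAb_pgrp hV) hN hT).trans
          (sup_le_sup ?_ inf_le_left))
      exact le_omegaOne (inf_le_inf_right _ (sylowCenterClosure_le L)) fun a ha => hV.2 a ha.1
    · refine le_trans (omegaOne_le_iff.2 fun x hx e => mem_omegaOne (mem_inf.2 ⟨?_, ?_⟩) e)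
        (le_sylowCenterClosure hT)
      · refine pCoreOf_le_syl hT (hL' (mem_inf.2 ⟨hx.1, C_anti (pCoreOf_le L) hx.2⟩))
      · exact C_anti hTL hx.2
  refine ⟨e, le_antisymm ?_ (commutator_mono le_rfl (pResidualOf_le L))⟩
  conv_lhs => rw [e]
  refine sup_comm_le ((omegaOneCenter_le _).trans (inf_le_left.trans hK)) le_normalizer ?_
    (comm_le_of_le_N hK)
  rw [le_C_iff_comm.1 ((omegaOneCenter_le _).trans inf_le_right)]; exact bot_le

end Cfsg.Agent.S2823
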