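import Cfsg.Statements.S2825
import Mathlib
import Cfsg.Agent.H22.Latt
import Cfsg.Agent.H3.Frattini

set_option autoImplicit false
open Cfsg

namespace Cfsg.Agent.S2825

/-- Let L be a subnormal subgroup of the finite group H, p a prime, Y_H and Y_L the largest p-reduced normal subgroups. Then Y_H ∩ L = Y_H ∩ Y_L and this subgroup is a p-reduced normal subgroup of L; C_L(Y_L) = C_L(Y_H) = C_L(Y_H ∩ L); and if O^p(H) ≤ L, then [Y_L, L] = 1 if and only if [Y_H, H] = 1. -/
theorem result {H : Type*} [Group H] [Finite H] {p : ℕ} [Fact p.Prime] (L : Subgroup H) (hL : L.IsSubnormal) : Cfsg.largestPReduced p H ⊓ L = Cfsg.largestPReduced p H ⊓ (Cfsg.largestPReducedOf p L) ∧ Cfsg.IsPReducedNormal p ((Cfsg.largestPReduced p H ⊓ L).subgroupOf L) ∧ L ⊓ Subgroup.centralizer ((Cfsg.largestPReducedOf p L : Subgroup H) : Set H) = L ⊓ Subgroup.centralizer (Cfsg.largestPReduced p H : Set H) ∧ L ⊓ Subgroup.centralizer (Cfsg.largestPReduced p H : Set H) = L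 ⊓ Subgroup.centralizer ((Cfsg.largestPReduced p H ⊓ L : Subgroup H) : Set H) ∧ (Cfsg.pResidual p H ≤ L → (⁅(Cfsg.largestPReducedOf p L), L⁆ = ⊥ ↔ ⁅Cfsg.largestPReduced p H, (⊤ : Subgroup H)⁆ = ⊥)) := by
  open Subgroup Cfsg.Agent.H18 Cfsg.Agent.H22 in
  open scoped commutatorElement Pointwise in
  have h := sn_top hL
  have hY := pred_Y (p := p) (⊤ : Subgroup H)
  have h1 := hY.inf_sn h
  have h2 := C_Y_eq_C_Y (p := p) h
  rw [← Y_top]
  refine ⟨le_antisymm (le_inf inf_le_left h1.le_Y) (inf_le_inf_left _ (pred_Y L).le),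
    (pred_subgroupOf h1.le).2 h1, h2, le_antisymm (inf_le_inf_left _ (C_anti inf_le_left))
      (le_inf inf_le_left (hY.inf_C_inf_le h)), fun hr => ?_⟩
  rw [← le_C_iff_comm', ← le_C_iff_comm', ← inf_eq_left, h2, inf_eq_left]
  exact ⟨fun h3 => hY.le_C_of_res (H2.SubnormalIn.refl _) (pResidualOf_top.le.trans (hr.trans h3)),
    fun h3 => le_top.trans h3⟩

end Cfsg.Agent.S2825
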