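import Cfsg.Statements.S2826
import Mathlib
import Cfsg.Agent.H22.Latt
import Cfsg.Agent.H3.Frattini

set_option autoImplicit false
open Cfsg

namespace Cfsg.Agent.S2826

/-- Let H be a finite group of characteristic p, T a Sylow p-subgroup, and V a normal elementary abelian p-subgroup of H containing Ω₁(Z(T)). Then C_H(Ω₁(Z(T))) = C_H([V, O^p(H)] ∩ Ω₁(Z(T))), O^p(H) being generated by the elements of order prime to p. -/
theorem result {H : Type*} [Group H] [Finite H] {p : ℕ} [Fact p.Prime] (hH : Subgroup.centralizer (Cfsg.pCore p H : Set H) ≤ Cfsg.pCore p H) (T : Sylow p H) (V : Subgroup H) [V.Normal] (hV : Cfsg.IsElementaryAbelian p V) (hZV : (Cfsg.omegaOne p ((T : Subgroup H) ⊓ Subgroup.centralizer (((T : Subgroup H) : Subgroup H) : Set H))) ≤ V) : Subgroup.centralizer ((Cfsg.omegaOne p ((T : Subgroup H) ⊓ Subgroup.centralizer (((T : Subgroup H) : Subgroup H) : Set H))) : Set H) = Subgroup.centralizer (((⁅V, Cfsg.pResidual p H⁆ ⊓ (Cfsg.omegaOne p ((T : Subgroup H) ⊓ Subgroup.centralizer (((T :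 Subgroup H) : Subgroup H) : Set H)))) : Subgroup H) : Set H) := by
  open Subgroup Cfsg.Agent.H18 Cfsg.Agent.H22 in
  open scoped commutatorElement Pointwise in
  refine le_antisymm (C_anti inf_le_right) (le_centralizer_iff.1 ?_)
  have hVT : V ≤ T := syl_le_of_N (sylIn_top T) le_top (elemAb_pgrp hV) (le_N_of_normal _ _)
  refine le_trans (le_inf hZV ((omegaOne_le _).trans inf_le_right))
    ((fixed_syl_le (elemAb_iff.1 hV).1 (elemAb_pgrp hV) (le_N_of_normal _ _) (sylIn_top T)).trans
      (sup_le (inf_le_right.trans (C_anti le_top)) (le_trans ?_ (le_C_C _))))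
  rw [pResidualOf_top]
  exact le_inf inf_le_left (le_omegaOne (inf_le_inf_right _ ((commutator_le_left _ _).trans hVT))
    fun a ha => hV.2 a (commutator_le_left _ _ ha.1))

end Cfsg.Agent.S2826
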