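import Cfsg.Statements.S2830
import Mathlib
import Cfsg.Agent.H4.FrakM

set_option autoImplicit false
open Cfsg

namespace Cfsg.Agent.S2830

/-- Let H act by conjugation on the elementary abelian p-subgroup V of a finite group G (H ≤ N(V)), with H p-irreducible and O^p(H) not centralizing V. Then C_H(V) is p-closed and C_T(V) ≤ O_p(H) for every p-subgroup T of H. If in addition O_p(H) centralizes V, then C_T(V) = T ∩ O_p(H) for every p-subgroup T of H, and V is p-reduced for H: O_p(H/C_H(V)) = 1. -/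
theorem result {G : Type*} [Group G] [Finite G] {p : ℕ} [Fact p.Prime] (V H : Subgroup G) (hV : Cfsg.IsElementaryAbelian p V) (hHV : H ≤ Subgroup.normalizer (V : Set G)) (hH : Cfsg.IsPIrreducible p ↥H) (hnc : ¬ (Cfsg.pResidual p ↥H).map H.subtype ≤ Subgroup.centralizer (V : Set G)) [hn : ((Subgroup.centralizer (V : Set G)).subgroupOf H).Normal] : Cfsg.IsPClosed p ↥(H ⊓ Subgroup.centralizer (V : Set G)) ∧ (∀ T : Subgroup G, T ≤ H → IsPGroup p ↥T → T ⊓ Subgroup.centralizer (V : Set G) ≤ Cfsg.pCoreOf p H) ∧ (Cfsg.pCoreOf p H ≤ Subgroup.centralizer (V : Set G) → (∀ T : Subgroup G, T ≤ H → IsPGroup p ↥T → T ⊓ Subgroup.centralizer (V : Set G) = T ⊓ Cfsg.pCoreOf p H) ∧ Cfsg.pCore p (↥H ⧸ (Subgroup.centralizer (V : Set G)).subgroupOf H) = ⊥) := by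
  open Subgroup Cfsg.Agent.H18 Cfsg.Agent.H22 Cfsg.Agent.H4 in
  have h := pirr_iff.2 hH
  have hN : H ≤ N[H ⊓ C[V]] := le_N_inf le_normalizer (le_N_C hHV)
  have h1 := h.pcl_of_not_le inf_le_left hN fun h1 => hnc (h1.trans inf_le_right)
  have h2 : ∀ T : Subgroup G, T ≤ H → IsPGroup p ↥T → T ⊓ C[V] ≤ pCoreOf p H := fun T h2 h3 =>
    (h1.le_pCoreOf (inf_le_inf_right _ h2) (h3.to_le inf_le_left)).trans (pCoreOf_mono_N inf_le_left hN)
  refine ⟨pcl_iff.1 h1, h2, fun h3 => ⟨fun T h4 h5 =>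
    le_antisymm (le_inf inf_le_left (h2 T h4 h5)) (inf_le_inf_left _ h3), opm_le_iff_pCore.1 ?_⟩⟩
  have hN' : H ≤ N[opm p H C[V]] := le_N_opm le_normalizer (le_N_C hHV)
  have h4 := res_opm_le (p := p) (le_N_C hHV)
  have h5 := h.pcl_of_not_le (opm_le H _) hN' fun h5 => hnc (by
    have := pResidualOf_mono (p := p) h5
    rw [pResidualOf_idem] at this
    exact this.trans h4)
  rw [← pResidualOf_sup_syl h5.syl_pCoreOf]
  exact sup_le h4 ((pCoreOf_mono_N (opm_le H _) hN').trans h3)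

end Cfsg.Agent.S2830
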