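import Cfsg.Statements.S2832
import Mathlib
import Cfsg.Agent.H4.FrakM

set_option autoImplicit false
open Cfsg

namespace Cfsg.Agent.S2832

/-- Let H be a finite group with Sylow p-subgroup T such that H is T-minimal (generated by the conjugates of T, with T in exactly one maximal subgroup), and let N be a normal subgroup of H. Then either H/N is a p-group or H/N is minimal over the image of T in the same sense. -/
theorem result {H : Type*} [Group H] [Finite H] {p : ℕ} [Fact p.Prime] (T : Sylow p H) (hmin : Cfsg.IsMinimalOver (T : Subgroup H)) (N : Subgroup H) [N.Normal] : IsPGroup p (H ⧸ N) ∨ Cfsg.IsMinimalOver ((T : Subgroup H).map (QuotientGroup.mk' N)) := by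
  open Subgroup Cfsg.Agent.H18 Cfsg.Agent.H22 Cfsg.Agent.H4 in
  obtain ⟨M, h⟩ := minOv_top_iff.2 hmin
  have hs := QuotientGroup.mk'_surjective N
  by_cases h1 : N ≤ M
  · refine Or.inr (minOv_top_iff.1 ⟨M.map (QuotientGroup.mk' N), ?_, map_mono h.le, fun X h2 h3 => ?_, ?_⟩)
    · refine lt_top_iff_ne_top.2 fun e => h.lt.ne ?_
      rw [← comap_map_eq_self (f := QuotientGroup.mk' N) (H := M) (by rwa [QuotientGroup.ker_mk']), e, comap_top]
    · rw [← map_comap_eq_self_of_surjective hs X]
      refine map_mono (h.uniq _ (map_le_iff_le_comap.1 h2) (lt_top_iff_ne_top.2 fun e => h3.ne ?_))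
      rw [← map_comap_eq_self_of_surjective hs X, e, map_top_of_surjective _ hs]
    · rw [← map_top_of_surjective _ hs, ← map_ncl, h.ncl_eq]
  · left
    have h2 := h.res_le T.isPGroup' le_top (le_N_of_normal _ _) h1
    rw [← pgrp_top_iff, ← pResidualOf_eq_bot_iff, ← map_top_of_surjective _ hs, ← map_pResidualOf,
      Subgroup.map_eq_bot_iff, QuotientGroup.ker_mk']
    exact h2

end Cfsg.Agent.S2832
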