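import Cfsg.Statements.S2834
import Mathlib
import Cfsg.Agent.H4.PIrr
import Cfsg.Agent.H2.Zipper

set_option autoImplicit false
open Cfsg

namespace Cfsg.Agent.S2834

section
open Subgroup Cfsg.Agent.H18 Cfsg.Agent.H22 Cfsg.Agent.H4

variable {G : Type*} [Group G] {p : ℕ}

def W (A X : Subgroup G) : Subgroup G := sSup {B | (∃ g, B = cj g A) ∧ B ≤ X}

theorem W_le (A X : Subgroup G) : W A X ≤ X := sSup_le fun _ h => h.2

theorem le_W {A X : Subgroup G} {g : G} (h : cj g A ≤ X) : cj g A ≤ W A X := le_sSup ⟨⟨g, rfl⟩, h⟩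

theorem W_mono {A X Y : Subgroup G} (h : X ≤ Y) : W A X ≤ W A Y :=
  sSup_le_sSup fun _ hB => ⟨hB.1, hB.2.trans h⟩

theorem cj_W (A X : Subgroup G) (g : G) : cj g (W A X) ≤ W A (cj g X) := by
  refine cj_le_iff.2 (sSup_le ?_)
  rintro _ ⟨⟨h, rfl⟩, hB⟩
  rw [le_cj_iff, inv_inv, ← cj_mul]
  exact le_W (by rw [cj_mul]; exact cj_mono g hB)

def Good (p : ℕ) (A X : Subgroup G) : Prop :=
  IsPGroup p X ∧ pCore p G ≤ X ∧ X ≤ W A X ⊔ pCore p G

theorem Good.eq {A X : Subgroup G} (h : Good p A X) : W A X ⊔ pCore p G = X :=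
  le_antisymm (sup_le (W_le _ _) h.2.1) h.2.2

theorem Good.cj {A X : Subgroup G} (h : Good p A X) (g : G) : Good p A (cj g X) := by
  refine ⟨isPGroup_cj g h.1, ?_, ?_⟩
  · rw [← cj_eq_of_normal g (pCore p G)]; exact cj_mono g h.2.1
  · refine (cj_mono g h.2.2).trans ?_
    rw [cj_sup, cj_eq_of_normal g (pCore p G)]
    exact sup_le_sup_right (cj_W _ _ _) _

theorem Good.sup {A X : Subgroup G} (h : Good p A X) (hA : IsPGroup p A) {g : G}
    (hN : H22.cj g A ≤ N[X]) : Good p A (H22.cj g A ⊔ X) :=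
  ⟨pgrp_sup (isPGroup_cj g hA) h.1 hN, h.2.1.trans le_sup_right,
    sup_le ((le_W le_sup_left).trans le_sup_left)
      (h.2.2.trans (sup_le_sup_right (W_mono le_sup_right) _))⟩

theorem Good.step [Fact p.Prime] [Finite G] {A R S : Subgroup G} (h : Good p A R) (hS : IsPGroup p S)
    (hRS : R ≤ S) : (∃ g, H22.cj g A ≤ S ∧ ¬ H22.cj g A ≤ R ∧ H22.cj g A ≤ N[R]) ∨
      (S ≤ N[R] ∧ ∀ g, H22.cj g A ≤ S → H22.cj g A ≤ R) := by
  by_cases h1 : ∀ g, H22.cj g A ≤ S → H22.cj g A ≤ R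
  · refine Or.inr ⟨?_, h1⟩
    have e : W A R = W A S := by
      refine le_antisymm (W_mono hRS) (sSup_le ?_)
      rintro _ ⟨⟨g, rfl⟩, hg⟩
      exact le_W (h1 g hg)
    rw [← h.eq, e]
    refine le_N_sup (le_N_iff_cj.2 fun s hs => (cj_W _ _ _).trans ?_) (le_N_of_normal _ _)
    rw [cj_eq_of_mem hs]
  · left
    push Not at h1
    obtain ⟨g, hg, hg'⟩ := h1
    obtain ⟨_, ⟨⟨k, rfl⟩, h2⟩, h3, h4⟩ := H2.exists_le_normalizer_sSup_of_subnormalIn S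
      {B | (∃ g, B = H22.cj g A) ∧ B ≤ S} {B | (∃ g, B = H22.cj g A) ∧ B ≤ R}
      (fun U hU => sn_of_res_le (p := p) (by rw [pResidualOf_eq_bot_of_pgrp hS]; exact bot_le) hU.2)
      (by
        rintro _ ⟨⟨k, rfl⟩, hk⟩ s hs
        change (∃ g, H22.cj s (H22.cj k A) = H22.cj g A) ∧ H22.cj s (H22.cj k A) ≤ S
        exact ⟨⟨s * k, (cj_mul _ _ _).symm⟩, cj_le_of_mem hs hk⟩)
      ⟨fun B hB => ⟨hB.1, hB.2.trans hRS⟩, fun c => hg' (c ⟨⟨g, rfl⟩, hg⟩).2⟩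
    refine ⟨k, h2, fun c => h3 ⟨⟨k, rfl⟩, c⟩, ?_⟩
    rw [← h.eq]
    exact le_N_sup h4 (le_N_of_normal _ _)

end

/-- The L-Lemma: let H be a finite group with Sylow p-subgroup T such that H is T-minimal (generated by the conjugates of T, T in exactly one maximal subgroup M), and let A ≤ T with A not contained in O_p(H). Then there is a subgroup L of H containing A·O_p(H) such that (a) A·O_p(L) lies in exactly one maximal subgroup L₀ of L, and L₀ = L ∩ gMg⁻¹ for some g ∈ H; (b) L = ⟨A, xAx⁻¹⟩·O_p(L) for every x ∈ L outside L₀. -/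
theorem result {H : Type*} [Group H] [Finite H] {p : ℕ} [Fact p.Prime] (T : Sylow p H) (hmin : Cfsg.IsMinimalOver (T : Subgroup H)) (M : Subgroup H) (hM : IsCoatom M ∧ (T : Subgroup H) ≤ M) (A : Subgroup H) (hAT : A ≤ (T : Subgroup H)) (hA : ¬ A ≤ Cfsg.pCore p H) : ∃ L : Subgroup H, A ⊔ Cfsg.pCore p H ≤ L ∧ ∃ L₀ : Subgroup H, A ⊔ (Cfsg.pCoreOf p L) ≤ L₀ ∧ L₀ < L ∧ (∀ X : Subgroup H, A ⊔ (Cfsg.pCoreOf p L) ≤ X → X < L → X ≤ L₀) ∧ (∃ g : H, L₀ = L ⊓ ((M : Subgroup H).map (MulAut.conj (g : H)).toMonoidHom)) ∧ ∀ x ∈ L, x ∉ L₀ → (A ⊔ ((A : Subgroup H).map (MulAut.conj (x : H)).toMonoidHom)) ⊔ (Cfsg.pCoreOf p L) = L := by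
  open Subgroup Cfsg.Agent.H18 Cfsg.Agent.H22 Cfsg.Agent.H4 in
  have hm : MinOv ⊤ (T : Subgroup H) M := minOv_top_of hmin hM.1 hM.2
  have hT : SylIn p (T : Subgroup H) ⊤ := sylIn_top T
  have hAp : IsPGroup p A := hT.isP.to_le hAT
  have hm' : ∀ g : H, MinOv ⊤ (cj g T) (cj g M) := fun g => hm.cj_N (mem_N_of_normal g ⊤)
  -- the family
  obtain ⟨X₀, ⟨hX₀, hX₀'⟩, hmax₀⟩ := exists_max_card
    (P := fun X => Good p A X ∧ ∀ g, ¬ N[X] ≤ cj g M) (H := pCore p H)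
    ⟨⟨pgrp_pCore, le_rfl, le_sup_right⟩, fun g c => (hm' g).lt.not_ge ((le_N_of_normal _ _).trans c)⟩
  obtain ⟨X, hX, hX', hmax, hAX, hAN⟩ : ∃ X, Good p A X ∧ (∀ g, ¬ N[X] ≤ cj g M) ∧
      (∀ L, Good p A L → X < L → ∃ g, N[L] ≤ cj g M) ∧ ¬ A ≤ X ∧ A ≤ N[X] := by
    obtain ⟨s, -, hs⟩ := syl_exists_le_cj hT le_top hX₀.1
    rcases hX₀.step (isPGroup_cj s hT.isP) hs with ⟨g, -, h1, h2⟩ | ⟨h1, h2⟩
    · refine ⟨cj g⁻¹ X₀, hX₀.cj _, fun k c => hX₀' (g * k) ?_, fun L hL hlt => ?_, ?_, ?_⟩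
      · rw [cj_mul, le_cj_iff, cj_N]; exact c
      · by_contra c
        push Not at c
        have := hmax₀ L ⟨hL, c⟩
        have h3 := card_lt_of_lt hlt
        rw [card_cj] at h3
        omega
      · rwa [← cj_le_iff]
      · rwa [← cj_N, ← cj_le_iff]
    · exfalso
      refine hX₀' s ((hm' s).uniq _ h1 (lt_top_iff_ne_top.2 fun c => hA ?_))
      have : X₀ ≤ pCore p H := le_pCore (normal_of_top_le_N c.ge) hX₀.1
      have h3 := (h2 s (cj_mono s hAT)).trans this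
      rwa [← cj_eq_of_normal s (pCore p H), cj_le_cj] at h3
  have uniq : ∀ R, Good p A R → X < R → ∀ a b, R ≤ cj a M → R ≤ cj b M → cj a M = cj b M := by
    intro R
    induction R using subgroup_gt_induction with
    | h R ih =>
      intro hR hlt
      obtain ⟨c, hc⟩ := hmax R hR hlt
      have key : ∀ b, R ≤ cj b M → cj b M = cj c M := fun b hb => by
        obtain ⟨m, hm1, hs⟩ := syl_exists_le_cj (sylIn_cj (hT.mono hM.2 le_top) b) hb hR.1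
        have e : cj m (cj b M) = cj b M := cj_eq_of_mem hm1
        have hS : cj m (cj b (T : Subgroup H)) ≤ cj b M := by rw [← e]; exact cj_mono _ (cj_mono _ hM.2)
        rcases hR.step (isPGroup_cj m (isPGroup_cj b hT.isP)) hs with ⟨g, h0, h1, h2⟩ | ⟨h1, -⟩
        · have hlt' : R < cj g A ⊔ R := right_lt_sup.2 h1
          exact ih _ hlt' (hR.sup hAp h2) (hlt.trans hlt') b c (sup_le (h0.trans hS) hb)
            (sup_le (h2.trans hc) (le_normalizer.trans hc))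
        · have h3 := hm' (m * b)
          rw [cj_mul, cj_mul, e] at h3
          have h4 := h3.uniq _ (h1.trans hc) (hm' c).lt
          exact (eq_of_le_of_card_ge h4 (by rw [card_cj, card_cj])).symm
      intro a b ha hb
      rw [key a ha, key b hb]
  have hR0 : Good p A (A ⊔ X) := by
    have := hX.sup hAp (g := 1) (by rwa [cj_one]); rwa [cj_one] at this
  have hlt0 : X < A ⊔ X := right_lt_sup.2 hAX
  obtain ⟨a, ha⟩ := hmax _ hR0 hlt0
  have ha' : A ⊔ X ≤ cj a M := le_normalizer.trans ha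
  obtain ⟨L, hLN, ⟨hL1, hL2⟩, hLmin⟩ := exists_minimal_subgroup
    (P := fun L => A ⊔ X ≤ L ∧ ¬ L ≤ cj a M) (H := N[X]) ⟨sup_le hAN le_normalizer, hX' a⟩
  have hXO : X ≤ pCoreOf p L := le_pCoreOf (le_sup_right.trans hL1) hLN hX.1
  have hOa : pCoreOf p L ≤ cj a M := by
    obtain ⟨s, -, hs⟩ := syl_exists_le_cj hT le_top
      (pgrp_sup hR0.1 (pgrp_pCoreOf L) (hL1.trans (le_N_pCoreOf L)))
    have hs' := hs.trans (cj_mono s hM.2)
    rw [uniq _ hR0 hlt0 a s ha' (le_sup_left.trans hs')]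
    exact le_sup_right.trans hs'
  have hY : ∀ Y, A ⊔ pCoreOf p L ≤ Y → Y < L → Y ≤ L ⊓ cj a M := fun Y h1 h2 => by
    refine le_inf h2.le ?_
    by_contra c
    exact h2.ne (hLmin Y ⟨(sup_le_sup_left hXO A).trans h1, c⟩ h2.le)
  refine ⟨L, (sup_le_sup_left hX.2.1 A).trans hL1, L ⊓ cj a M,
    sup_le (le_inf (le_sup_left.trans hL1) (le_sup_left.trans ha')) (le_inf (pCoreOf_le L) hOa),
    inf_lt_left.2 hL2, hY, ⟨a, rfl⟩, fun x hx hx' => ?_⟩
  rw [cj_def]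
  have hle : A ⊔ cj x A ⊔ pCoreOf p L ≤ L :=
    sup_le (sup_le (le_sup_left.trans hL1) (cj_le_of_mem hx (le_sup_left.trans hL1))) (pCoreOf_le L)
  by_contra c
  have h1 := (hY _ (sup_le_sup_right le_sup_left _) (lt_of_le_of_ne hle c)).trans inf_le_right
  have h2 : cj x (A ⊔ X) ≤ cj a M := by
    rw [cj_sup, cj_eq_of_mem_N (hLN hx)]
    exact sup_le ((le_sup_right.trans le_sup_left).trans h1) (le_sup_right.trans ha')
  rw [cj_le_iff, ← cj_mul] at h2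
  have h3 := uniq _ hR0 hlt0 _ _ h2 ha'
  rw [cj_mul] at h3
  have h4 : x⁻¹ ∈ cj a M := (hm' a).inf_N_le (hm' a).le le_rfl ⟨trivial, mem_N_iff_cj.2 h3⟩
  exact hx' ⟨hx, (Subgroup.inv_mem_iff _).1 h4⟩

end Cfsg.Agent.S2834
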