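import Cfsg.Statements.S2836
import Mathlib
import Cfsg.Agent.H4.FrakM

set_option autoImplicit false
open Cfsg

namespace Cfsg.Agent.S2836

/-- Let L be a finite group, L₀ a maximal subgroup, T a Sylow p-subgroup of L₀, Y ≤ T, and suppose L is Y-minimal. Let D be the intersection of the conjugates of L₀ (the core of L₀). Then D contains O_p(L) and D/O_p(L) is the Frattini subgroup of L/O_p(L), so D is p-closed; and every normal subgroup N of L contained in L₀ is p-closed with N/O_p(N) a nilpotent group of order prime to p. -/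
theorem result {L : Type*} [Group L] [Finite L] {p : ℕ} [Fact p.Prime] (L₀ : Subgroup L) (hL₀ : IsCoatom L₀) (T : Sylow p ↥L₀) (Y : Subgroup L) (hYT : Y ≤ (T : Subgroup ↥L₀).map L₀.subtype) (hmin : Cfsg.IsMinimalOver Y) : (Cfsg.pCore p L ≤ L₀.normalCore ∧ (L₀.normalCore).map (QuotientGroup.mk' (Cfsg.pCore p L)) = frattini (L ⧸ Cfsg.pCore p L) ∧ Cfsg.IsPClosed p ↥(L₀.normalCore)) ∧ ∀ (N : Subgroup L) [N.Normal], N ≤ L₀ → Cfsg.IsPClosed p ↥N ∧ Group.IsNilpotent (↥N ⧸ Cfsg.pCore p ↥N) ∧ (Nat.card (↥N ⧸ Cfsg.pCore p ↥N)).Coprime p := by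
  open Subgroup Cfsg.Agent.H18 Cfsg.Agent.H22 Cfsg.Agent.H4 in
  have hT := sylIn_map_subtype T
  have h := minOv_top_of hmin hL₀ (hYT.trans hT.le)
  have hY := hT.isP.to_le hYT
  have hs := QuotientGroup.mk'_surjective (pCore p L)
  have hO : pCore p L ≤ L₀ := by rw [← pCoreOf_top]; exact h.pCoreOf_le hY
  have h1 : ∀ N : Subgroup L, N.Normal → N ≤ L₀ →
      N.map (QuotientGroup.mk' (pCore p L)) ≤ frattini (L ⧸ pCore p L) := fun N hN h1 => by
    rw [map_le_frattini_iff hs, QuotientGroup.ker_mk']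
    exact fun U h2 e => h.le_frattini hY h1 (le_N_of_normal _ _) U le_top (by rwa [pCoreOf_top]) e
  refine ⟨⟨normal_le_normalCore.2 hO, le_antisymm (h1 _ inferInstance (normalCore_le _)) ?_,
    pcl_iff.1 (h.pcl_of_le hY (normalCore_le _) (le_N_of_normal _ _))⟩, fun N hN h2 => ?_⟩
  · rw [← map_comap_eq_self_of_surjective hs (frattini _)]
    refine map_mono (normal_le_normalCore.2 ?_)
    by_contra hc
    have h2 := hL₀.2 _ (lt_of_le_not_ge (le_sup_left (b := (frattini (L ⧸ pCore p L)).comap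
      (QuotientGroup.mk' (pCore p L)))) fun h3 => hc (le_sup_right.trans h3))
    refine hL₀.1 ((map_le_frattini_iff hs).1 (map_comap_le _ _) L₀ ?_ h2)
    rwa [QuotientGroup.ker_mk']
  · have h3 := h.pcl_of_le hY h2 (le_N_of_normal _ _)
    refine ⟨pcl_iff.1 h3, ?_, ?_⟩
    · have hk : ((QuotientGroup.mk' (pCore p L)).comp N.subtype).ker = pCore p N := by
        rw [← MonoidHom.comap_ker, QuotientGroup.ker_mk']
        exact H2.pCore_subgroupOf_of_isSubnormal hN.isSubnormal
      haveI := frattini_nilpotent (G := L ⧸ pCore p L)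
      haveI : Group.IsNilpotent ((QuotientGroup.mk' (pCore p L)).comp N.subtype).range := by
        refine H2.isNilpotent_of_le (K := frattini _) ?_
        rw [MonoidHom.range_comp, range_subtype]; exact h1 N hN h2
      exact Group.nilpotent_of_mulEquiv ((QuotientGroup.quotientKerEquivRange _).symm.trans
        (QuotientGroup.quotientMulEquivOfEq hk))
    · have := syl_card_coprime_relIndex h3.syl_pCoreOf
      rwa [relIndex, pCoreOf_subgroupOf, index_eq_card] at this

end Cfsg.Agent.S2836
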