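import Cfsg.Statements.S2837
import Mathlib
import Cfsg.Agent.H4.FrakM

set_option autoImplicit false
open Cfsg

namespace Cfsg.Agent.S2837

/-- Let L be a finite group of characteristic p, L₀ a maximal subgroup, Y an elementary abelian p-subgroup of L₀ with L Y-minimal and O_p(L) ≤ N_L(Y). Put A = the normal closure of O_p(L) ∩ Y in L. Then for every g ∈ L outside L₀: Φ(A) = A' = [A ∩ Y, A] = [A ∩ Y, A ∩ gYg⁻¹] ≤ C_Y(L), and Y ∩ gYg⁻¹ = (A ∩ Y) ∩ (A ∩ gYg⁻¹) = C_Y(L) = C_A(L). -/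
theorem result {L : Type*} [Group L] [Finite L] {p : ℕ} [Fact p.Prime] (hchar : Subgroup.centralizer (Cfsg.pCore p L : Set L) ≤ Cfsg.pCore p L) (L₀ : Subgroup L) (hL₀ : IsCoatom L₀) (Y : Subgroup L) (hYL₀ : Y ≤ L₀) (hYel : Cfsg.IsElementaryAbelian p Y) (hmin : Cfsg.IsMinimalOver Y) (hOY : Cfsg.pCore p L ≤ Subgroup.normalizer (Y : Set L)) (A : Subgroup L) (hA : A = Subgroup.normalClosure (((Cfsg.pCore p L ⊓ Y : Subgroup L)) : Set L)) (g : L) (hg : g ∉ L₀) : (frattini ↥A).map A.subtype = ⁅A, A⁆ ∧ ⁅A, A⁆ = ⁅A ⊓ Y, A⁆ ∧ ⁅A ⊓ Y, A⁆ = ⁅A ⊓ Y, A ⊓ Y.map (MulAut.conj g).toMonoidHom⁆ ∧ ⁅A ⊓ Y, A⁆ ≤ Y ⊓ Subgroup.center L ∧ Y ⊓ Y.map (MulAut.conj g).toMonoidHom = Y ⊓ Subgroup.center L ∧ (A ⊓ Y) ⊓ (A ⊓ Y.map (MulAut.conj g).toMonoidHom) = Y ⊓ Subgroup.center L ∧ A ⊓ Subgroup.center L = Y ⊓ Subgroup.center L := by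
  open Subgroup Cfsg.Agent.H18 Cfsg.Agent.H22 Cfsg.Agent.H4 in
  have h := minOv_top_of hmin hL₀ hYL₀
  have hgen := h.sup_cj (mem_top g) hg
  rw [cj_def]
  rw [← ncl_top] at hA
  set O := pCore p L with hO
  have hYC := (elemAb_iff.1 hYel).1
  have hYC' : cj g Y ≤ C[cj g Y] := by rw [← cj_C]; exact cj_mono g hYC
  have hOY' : O ≤ N[cj g Y] := WC.le_N_cj (H := ⊤) hOY (le_N_of_normal ⊤ O) (mem_top g)
  have eB : cj g (O ⊓ Y) = O ⊓ cj g Y := by rw [cj_inf, cj_eq_of_normal]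
  have hZ : Y ⊓ cj g Y = Y ⊓ center L := by
    refine le_antisymm (le_inf inf_le_left ?_) (le_inf inf_le_left ?_)
    · rw [← C_top, ← hgen, C_sup]
      exact inf_le_inf hYC hYC'
    · intro x hx
      rw [mem_cj, mul_assoc, ← mem_center_iff.1 hx.2 g]
      simpa using hx.1
  have hc1 : ⁅O ⊓ Y, cj g Y⁆ ≤ O ⊓ cj g Y :=
    le_inf ((commutator_mono inf_le_left le_rfl).trans (comm_le_of_le_N (le_N_of_normal _ O)))
      (comm_le_of_le_N' (inf_le_left.trans hOY'))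
  have hc2 : ⁅O ⊓ cj g Y, Y⁆ ≤ O ⊓ Y :=
    le_inf ((commutator_mono inf_le_left le_rfl).trans (comm_le_of_le_N (le_N_of_normal _ O)))
      (comm_le_of_le_N' (inf_le_left.trans hOY))
  have hB1 : ⁅O ⊓ Y, Y⁆ = ⊥ := le_C_iff_comm.1 (inf_le_right.trans hYC)
  have hB2 : ⁅O ⊓ cj g Y, cj g Y⁆ = ⊥ := le_C_iff_comm.1 (inf_le_right.trans hYC')
  have hN12 : O ⊓ Y ≤ N[O ⊓ cj g Y] := le_N_inf (le_N_of_normal _ O) (inf_le_left.trans hOY')
  have hN21 : O ⊓ cj g Y ≤ N[O ⊓ Y] := le_N_inf (le_N_of_normal _ O) (inf_le_left.trans hOY)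
  have eA : A = (O ⊓ Y) ⊔ (O ⊓ cj g Y) := by
    rw [hA]
    refine le_antisymm (ncl_le ?_ le_sup_left) (sup_le (le_ncl _ _) (eB.ge.trans (cj_le_ncl (mem_top g))))
    rw [← hgen]
    refine sup_le (le_N_iff_cj.2 fun y hy => ?_) (le_N_iff_cj.2 fun y hy => ?_)
    · rw [cj_sup, cj_eq_of_mem_N (le_N_inf (le_N_of_normal _ O) le_normalizer hy)]
      refine sup_le le_sup_left ((le_sup_comm_of_cj hy).trans (sup_le_sup_right ?_ _))
      rw [commutator_comm]; exact hc2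
    · rw [cj_sup, cj_eq_of_mem_N (H := O ⊓ cj g Y) (le_N_inf (le_N_of_normal _ O) le_normalizer hy)]
      refine sup_le ((le_sup_comm_of_cj hy).trans (sup_le ?_ le_sup_left)) le_sup_right
      rw [commutator_comm]; exact hc1.trans le_sup_right
  have hAO : A ≤ O := by rw [eA]; exact sup_le inf_le_left inf_le_left
  have e1 : A ⊓ Y = O ⊓ Y := le_antisymm (inf_le_inf_right _ hAO) (le_inf (le_sup_left.trans eA.ge) inf_le_right)
  have e2 : A ⊓ cj g Y = O ⊓ cj g Y :=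
    le_antisymm (inf_le_inf_right _ hAO) (le_inf (le_sup_right.trans eA.ge) inf_le_right)
  rw [e1, e2]
  set D := ⁅O ⊓ Y, O ⊓ cj g Y⁆ with hD
  have hDZ : D ≤ Y ⊓ center L := by
    rw [← hZ]
    exact le_inf ((comm_le_of_le_N hN21).trans inf_le_right) ((comm_le_of_le_N' hN12).trans inf_le_right)
  have hDN : ∀ X : Subgroup L, X ≤ N[D] := fun X =>
    (le_centralizer_iff.1 ((hDZ.trans inf_le_right).trans (center_le_centralizer _))).trans (C_le_N D)
  have e3 : ⁅O ⊓ Y, A⁆ = D := by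
    refine le_antisymm ?_ (commutator_mono le_rfl (le_sup_right.trans eA.ge))
    rw [eA]
    exact comm_sup_le (hDN _) (hDN _) ((commutator_mono le_rfl inf_le_right).trans (hB1.le.trans bot_le)) le_rfl
  have e4 : ⁅A, A⁆ = D := by
    refine le_antisymm ?_ (e3.ge.trans (commutator_mono (le_sup_left.trans eA.ge) le_rfl))
    conv_lhs => rw [commutator_comm]; lhs; rw [eA]
    refine sup_comm_le (hDN _) (hDN _) e3.le ?_
    rw [eA]
    refine comm_sup_le (hDN _) (hDN _) (by rw [commutator_comm])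
      ((commutator_mono le_rfl inf_le_right).trans (hB2.le.trans bot_le))
  have hAp : IsPGroup p A := pgrp_pCore.to_le hAO
  have hZO : center L ≤ O := (center_le_centralizer _).trans hchar
  refine ⟨le_antisymm ((H3.map_frattini_subtype_le_iff hAp).2 ⟨le_rfl, fun x hx => ?_⟩)
    (H3.commutator_le_map_frattini hAp), e4.trans e3.symm, e3, e3.le.trans hDZ, hZ, ?_, ?_⟩
  · have hx' := hx
    rw [eA, mem_sup_of_le_N hN12] at hx'
    obtain ⟨a, ha, b, hb, rfl⟩ := hx'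
    haveI : (⁅A, A⁆).Normal := normal_of_top_le_N (e4 ▸ hDN ⊤)
    rw [← QuotientGroup.eq_one_iff, QuotientGroup.mk_pow, QuotientGroup.mk_mul, Commute.mul_pow,
      ← QuotientGroup.mk_pow, ← QuotientGroup.mk_pow, hYel.2 a ha.2, (elemAb_cj g hYel).2 b hb.2]
    · simp
    · rw [← commutatorElement_eq_one_iff_commute, commutatorElement_def, ← QuotientGroup.mk_inv,
        ← QuotientGroup.mk_inv, ← QuotientGroup.mk_mul, ← QuotientGroup.mk_mul, ← QuotientGroup.mk_mul,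
        QuotientGroup.eq_one_iff, e4]
      exact commutator_mem_commutator ha hb
  · rw [← inf_inf_distrib_left, hZ]
    exact inf_eq_right.2 (inf_le_right.trans hZO)
  · refine le_antisymm (fun x hx => ⟨?_, hx.2⟩) (le_inf ((le_inf (inf_le_right.trans hZO) inf_le_left).trans
      (le_sup_left.trans eA.ge)) inf_le_right)
    have hx' : x ∈ A := hx.1
    rw [eA, mem_sup_of_le_N hN12] at hx'
    obtain ⟨a, ha, b, hb, rfl⟩ := hx'
    refine Y.mul_mem ha.2 ?_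
    have h1 : b ∈ center L := by
      rw [← C_top, ← hgen, C_sup]
      refine ⟨?_, hYC' hb.2⟩
      have := (C[Y]).mul_mem ((C[Y]).inv_mem (hYC ha.2)) (center_le_centralizer _ hx.2)
      simpa using this
    have h2 : b ∈ cj g Y := hb.2
    rw [mem_cj, mul_assoc, ← mem_center_iff.1 h1 g] at h2
    simpa using h2

end Cfsg.Agent.S2837
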