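import Cfsg.Statements.S2838
import Mathlib
import Cfsg.Agent.H4.FrakM

set_option autoImplicit false
open Cfsg

namespace Cfsg.Agent.S2838

/-- For a nontrivial p-subgroup Q of a finite group H the following are equivalent: Q is a weakly closed subgroup (it is the only H-conjugate of itself inside some Sylow p-subgroup containing it); Q = P for every conjugate P of Q with [Q, P] ≤ Q ∩ P; Q is normal in N_H(R) for every p-subgroup R of H containing Q. -/
theorem result {H : Type*} [Group H] [Finite H] {p : ℕ} [Fact p.Prime] (Q : Subgroup H) (hQp : IsPGroup p ↥Q) (hQ1 : Q ≠ ⊥) : (Cfsg.IsWeaklyClosedSubgroup p Q ↔ ∀ g : H, ⁅Q, ((Q : Subgroup H).map (MulAut.conj (g : H)).toMonoidHom)⁆ ≤ Q ⊓ ((Q : Subgroup H).map (MulAut.conj (g : H)).toMonoidHom) → ((Q : Subgroup H).map (MulAut.conj (g : H)).toMonoidHom) = Q) ∧ (Cfsg.IsWeaklyClosedSubgroup p Q ↔ ∀ R : Subgroup H, IsPGroup p ↥R → Q ≤ R → Subgroup.normalizer ((R : Subgroup H) : Set H) ≤ Subgroup.normalizer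 ((Q : Subgroup H) : Set H)) := by
  open Subgroup Cfsg.Agent.H18 Cfsg.Agent.H22 Cfsg.Agent.H4 in
  rw [wc_top_iff]
  refine ⟨⟨fun h g h1 => h.eq_of_N (mem_top g) (le_N_of_comm_le (h1.trans inf_le_left)),
    fun h => wc_of_comm le_top hQp fun g _ h1 h2 => h g (le_inf (comm_le_of_le_N h2) (comm_le_of_le_N' h1))⟩,
    ⟨fun h R h1 h2 => (le_inf le_top le_rfl).trans (h.inf_N_le h1 h2),
    fun h => wc_of_N le_top hQp fun R h1 h2 _ => inf_le_right.trans (h R h1 h2)⟩⟩

end Cfsg.Agent.S2838
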