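import Cfsg.Statements.S2841
import Mathlib
import Cfsg.Agent.H4.FrakM

set_option autoImplicit false
open Cfsg

namespace Cfsg.Agent.S2841

/-- Let Q be a nontrivial p-subgroup of the finite group H that is a weakly closed subgroup and N a normal subgroup of H. Then N = N_N(Q)·[N, Q] and [N, Q] = (Q ∩ [N, Q])·[N, Q, Q]. -/
theorem result {H : Type*} [Group H] [Finite H] {p : ℕ} [Fact p.Prime] (Q : Subgroup H) (hQp : IsPGroup p ↥Q) (hQ1 : Q ≠ ⊥) (hwc : Cfsg.IsWeaklyClosedSubgroup p Q) (N' : Subgroup H) [N'.Normal] : (∀ n : H, n ∈ N' → ∃ a ∈ N' ⊓ Subgroup.normalizer ((Q : Subgroup H) : Set H), ∃ b ∈ ⁅N', Q⁆, n = a * b) ∧ (∀ c : H, c ∈ ⁅N', Q⁆ → ∃ a ∈ Q ⊓ ⁅N', Q⁆, ∃ b ∈ ⁅⁅N', Q⁆, Q⁆, c = a * b) := by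
  open Subgroup Cfsg.Agent.H18 Cfsg.Agent.H22 Cfsg.Agent.H4 in
  have h := wc_top_iff.1 hwc
  have hN : Q ≤ N[N'] := le_N_of_normal _ _
  refine ⟨fun n hn => ?_, fun c hc => ?_⟩
  · obtain ⟨c, h1, a, h2, e⟩ := h.exists_mul le_top hN (N'.inv_mem hn)
    exact ⟨a⁻¹, inv_mem h2, c⁻¹, inv_mem h1, by rw [← mul_inv_rev, e, inv_inv]⟩
  · have h1 := comm_le_ncl N' Q hc
    rw [h.ncl_eq_comm_comm le_top hN, sup_comm, mem_sup_of_le_N (le_N_comm_right _ _)] at h1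
    obtain ⟨a, ha, b, hb, rfl⟩ := h1
    refine ⟨a, ⟨ha, ?_⟩, b, hb, rfl⟩
    exact ((⁅N', Q⁆).mul_mem_cancel_right (comm_le_of_le_N (le_N_comm_right _ _) hb)).1 hc

end Cfsg.Agent.S2841
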