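import Cfsg.Statements.S2846
import Mathlib
import Cfsg.Agent.H4.FrakM

set_option autoImplicit false
open Cfsg

namespace Cfsg.Agent.S2846

/-- Let Q be a nontrivial large p-subgroup of the finite group H, S a Sylow p-subgroup containing Q, and L a subgroup containing S with O_p(L) ≠ 1 and C_H(O_p(L)) ≤ O_p(L). Then there are a subgroup M containing S having the basic property (M ∈ 𝔐_H, writing Y_X for the largest p-reduced normal subgroup of X and 𝓛_H for the set of subgroups X with O_p(X) ≠ 1 and C_H(O_p(X)) ≤ O_p(X): M ∈ 𝓛_H, M·C_H(Y_M) is the only maximal member of 𝓛_H containing M and its largest p-reduced normal subgroup is again Y_M, C_M(Y_M) is p-closed, and the image of C_M(Y_M) in M/O_p(M) lies in the Frattini subgroup of M/O_p(M)) and a subgroup L* with S ≤ L* ≤ M, O_p(L*) ≠ 1, C_H(O_p(L*)) ≤ O_p(L*), such that L·C_H(Y_L) = L*·C_H(Y_L), the weak closures of Q in L and in L* agree and lie in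 that of M, and Y_L = Y_{L*} ≤ Y_M. If moreover Q is not normal in L, then Q is normal in neither L* nor M. -/
theorem result {H : Type*} [Group H] [Finite H] {p : ℕ} [Fact p.Prime] (Q : Subgroup H) (hQp : IsPGroup p ↥Q) (hQ1 : Q ≠ ⊥) (hLg : Cfsg.IsLarge Q) (S : Sylow p H) (hQS : Q ≤ (S : Subgroup H)) (L : Subgroup H) (hSL : (S : Subgroup H) ≤ L) (hL : L ∈ Cfsg.charPSubgroups p H) : ∃ M Ls : Subgroup H, (S : Subgroup H) ≤ M ∧ Cfsg.IsInFrakM p M ∧ (S : Subgroup H) ≤ Ls ∧ Ls ≤ M ∧ Ls ∈ Cfsg.charPSubgroups p H ∧ L ⊔ Subgroup.centralizer (((Cfsg.largestPReducedOf p L) : Subgroup H) : Set H) = Ls ⊔ Subgroup.centralizer (((Cfsg.largestPReducedOf p L) : Subgroup H) : Set H) ∧ Cfsg.weakClosure Q L = Cfsg.weakClosure Q Ls ∧ Cfsg.weakClosure Q Ls ≤ Cfsg.weakClosure Q M ∧ (Cfsg.largestPReducedOf p L) = (Cfsg.largestPReducedOf p Ls) ∧ (Cfsg.largestPReducedOf p Ls) ≤ (Cfsg.largestPReducedOf p M) ∧ (¬ L ≤ Subgroup.normalizer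 ((Q : Subgroup H) : Set H) → ¬ Ls ≤ Subgroup.normalizer ((Q : Subgroup H) : Set H) ∧ ¬ M ≤ Subgroup.normalizer ((Q : Subgroup H) : Set H)) := by
  open Subgroup Cfsg.Agent.H18 Cfsg.Agent.H22 Cfsg.Agent.H4 in
  have h := large_wc hLg hQp hQ1
  have hP := large_parP hLg hQp hQ1
  have hS := sylIn_top S
  obtain ⟨M, h1, h2, h3⟩ := exists_frakM hP hS hSL hL
  have hc := chP_of_mem_charP hL
  obtain ⟨Ls, h4, h5, h6, h7⟩ := h3.exists_Ls hS hSL hc
  have hY := Y_ne_bot hc (mem_charP.1 hL).1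
  have hLs := hP.mem_charP hS h4 (pred_Y Ls).pgrp (h6 ▸ hY) (pred_Y Ls).le (le_N_Y Ls)
  have e : ncl L Q = ncl Ls Q := by
    rw [← large_ncl_sup_C hLg hQp (hQS.trans hSL) (pred_Y L).pgrp hY (le_N_Y L), h7,
      large_ncl_sup_C hLg hQp (hQS.trans h4) (pred_Y L).pgrp hY (h6 ▸ le_N_Y Ls)]
  have h8 : ¬ L ≤ N[Q] → ¬ Ls ≤ N[Q] := fun h8 h9 => h8 (by
    have := le_N_ncl L Q
    rwa [e, ncl_eq_self h9] at this)
  refine ⟨M, Ls, h1, h2, h4, h5, hLs, h7, ?_, ?_, h6, ?_, fun h9 => ⟨h8 h9, fun h10 => h8 h9 (h5.trans h10)⟩⟩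
  · rw [h.weakClosure_eq (hQS.trans hSL), h.weakClosure_eq (hQS.trans h4), e]
  · rw [h.weakClosure_eq (hQS.trans h1), h.weakClosure_eq (hQS.trans h4)]; exact ncl_mono h5 le_rfl
  · rw [← h6]; exact h3.Y_le hS hSL (chP_of_mem_charP h2.1)

end Cfsg.Agent.S2846
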