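import Cfsg.Statements.S2851
import Mathlib
import Cfsg.Agent.H4.FrakM

set_option autoImplicit false
open Cfsg

namespace Cfsg.Agent.S2851

/-- Standing hypotheses: G a finite group, S a Sylow p-subgroup, Q a nontrivial large p-subgroup of G contained in S, M a subgroup containing S with the basic property (M ∈ 𝔐_G(S)); Y_M the largest p-reduced normal subgroup of M and M† = M·C_G(Y_M). Let F be the preimage in M† of the generalized Fitting subgroup of M†/C_{M†}(Y_M). If Y_M is asymmetric in G and H is a subgroup of characteristic p containing F, then Y_M ≤ Y_H. -/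
theorem result {G : Type*} [Group G] [Finite G] {p : ℕ} [Fact p.Prime] (S : Sylow p G) (Q : Subgroup G) (hQp : IsPGroup p ↥Q) (hQ1 : Q ≠ ⊥) (hQS : Q ≤ (S : Subgroup G)) (hQ : Cfsg.IsLarge Q) (M : Subgroup G) (hSM : (S : Subgroup G) ≤ M) (hM : Cfsg.IsInFrakM p M) (hasym : ¬ Cfsg.IsSymmetricIn (Cfsg.largestPReducedOf p M)) [hn : ((Subgroup.centralizer (((Cfsg.largestPReducedOf p M) : Subgroup G) : Set G)).subgroupOf (M ⊔ Subgroup.centralizer (((Cfsg.largestPReducedOf p M) : Subgroup G) : Set G))).Normal] (F : Subgroup G) (hF : F = ((Cfsg.generalizedFittingSubgroup (↥(M ⊔ Subgroup.centralizer (((Cfsg.largestPReducedOf p M) : Subgroup G) : Set G)) ⧸ (Subgroup.centralizer (((Cfsg.largestPReducedOf p M) : Subgroup G) : Set G)).subgroupOf (M ⊔ Subgroup.centralizer (((Cfsg.largestPReducedOf p M) : Subgroup G) : Set G)))).comap (QuotientGroup.mk' ((Subgroup.centralizer (((Cfsg.largestPReducedOf p M) : Subgroup G) : Set G)).subgroupOf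 (M ⊔ Subgroup.centralizer (((Cfsg.largestPReducedOf p M) : Subgroup G) : Set G))))).map ((M ⊔ Subgroup.centralizer (((Cfsg.largestPReducedOf p M) : Subgroup G) : Set G))).subtype) (H : Subgroup G) (hFH : F ≤ H) (hH : Subgroup.centralizer (Cfsg.pCore p ↥H : Set ↥H) ≤ Cfsg.pCore p ↥H) : (Cfsg.largestPReducedOf p M) ≤ Cfsg.largestPReducedOf p H := by
  open Subgroup Cfsg.Agent.H18 Cfsg.Agent.H22 Cfsg.Agent.H4 in
  have h := fm_of_large hQp hQ1 hQ hSM hM
  have hH' : ChP p H := chP_iff.2 hH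
  have hd := h.dag_eq
  set Y := Cfsg.largestPReducedOf p M with hY
  set D := M ⊔ C[Y] with hD
  set f := QuotientGroup.mk' ((C[Y]).subgroupOf D) with hf
  have hCF : C[Y] ≤ F := by
    rw [hF]
    intro x hx
    refine ⟨⟨x, mem_sup_right hx⟩, ?_, rfl⟩
    have : f ⟨x, mem_sup_right hx⟩ = 1 := (QuotientGroup.eq_one_iff _).2 hx
    simp only [SetLike.mem_coe, mem_comap]
    rw [this]; exact one_mem _
  have hOH : pCoreOf p M ≤ H := (h.O_le_C.trans hCF).trans hFH
  obtain ⟨T, hT, -, h2⟩ := h.exists_syl hasym hOH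
  have hTR : T ≤ H ⊓ N[Y] := le_inf hT.le (h2.trans h.N_O_le)
  refine le_trans (PRed.le_Y ?_) (Y_le_Y_of_le hH' hT hTR inf_le_left)
  have hYM : PRed p M Y := pred_Y M
  have hYD : PRed p D Y := hYM.of_sup_eq (hYM.le.trans le_sup_left) (by rw [hD, sup_assoc, sup_idem])
  have hRD : H ⊓ N[Y] ≤ D := inf_le_right.trans hd.ge
  refine ⟨le_inf ((h.Y_le_O).trans hOH) le_normalizer, inf_le_right, hYM.ea, ?_⟩
  set X := opm p (H ⊓ N[Y]) C[Y] with hX
  have hXR : X ≤ H ⊓ N[Y] := opm_le _ _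
  have hnC : H ⊓ N[Y] ≤ N[C[Y]] := le_N_C inf_le_right
  have h0 : pCoreOf p (⊤ : Subgroup (D ⧸ (C[Y]).subgroupOf D)) = ⊥ := by
    rw [pCoreOf_top]; exact opm_le_iff_pCore.1 hYD.red
  have hXp : IsPGroup p ((X.subgroupOf D).map f) := by
    rw [pgrp_iff]
    rintro _ ⟨x, hx, rfl⟩
    obtain ⟨k, hk⟩ := pow_mem_of_mem_opm hnC hx
    exact ⟨k, by rw [← map_pow]; exact (QuotientGroup.eq_one_iff _).2 hk⟩
  have hFN : FS ⊤ ≤ N[(X.subgroupOf D).map f] := by
    have a1 : (H ⊓ N[Y]).subgroupOf D ≤ N[X.subgroupOf D] := by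
      rw [N_subgroupOf (hXR.trans hRD)]
      exact comap_mono (le_N_opm le_normalizer hnC)
    refine le_trans ?_ (map_le_N_map f a1)
    intro y hy
    obtain ⟨x, rfl⟩ := QuotientGroup.mk'_surjective _ y
    refine ⟨x, ⟨hFH ?_, hd.le x.2⟩, rfl⟩
    rw [hF]; rw [FS_top] at hy
    exact ⟨x, hy, rfl⟩
  have hb : (X.subgroupOf D).map f = ⊥ := by
    refine eq_bot_of_le_C_FS h0 hXp le_top (le_C_iff_comm.2 (le_bot_iff.1 ?_))
    rw [← pCoreOf_eq_bot_sn (sn_FS ⊤) h0]
    refine le_trans (le_inf (comm_le_of_le_N' (le_top.trans (le_normalizer.trans (N_le_N_FS ⊤))))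
      (comm_le_of_le_N hFN)) ?_
    exact le_pCoreOf inf_le_left (le_N_inf le_normalizer hFN) (hXp.to_le inf_le_right)
  intro x hx
  have : f ⟨x, hRD (hXR hx)⟩ ∈ (X.subgroupOf D).map f := ⟨_, hx, rfl⟩
  rw [hb, mem_bot] at this
  exact (QuotientGroup.eq_one_iff (N := (C[Y]).subgroupOf D) ⟨x, hRD (hXR hx)⟩).1 this

end Cfsg.Agent.S2851
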