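import Cfsg.Statements.S2855
import Mathlib
import Cfsg.Agent.H4.PIrr

set_option autoImplicit false
open Cfsg

namespace Cfsg.Agent.S2855

open Subgroup Cfsg.Agent.H18 Cfsg.Agent.H22 Cfsg.Agent.H4 in
theorem spirr_sup {G : Type*} [Group G] [Finite G] {p : ℕ} [Fact p.Prime] {H D : Subgroup G}
    (h : SPIrr p H) (hD : IsPGroup p D) (hN : H ≤ N[D]) : SPIrr p (H ⊔ D) := by
  refine ⟨fun hc => h.1 (hc.mono le_sup_left), fun K hK hKN hc => ?_⟩
  have nD : H ⊔ D ≤ N[D] := sup_le hN le_normalizer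
  have hKD : K ≤ N[D] := hK.trans nD
  have hDK : D ≤ N[K] := le_sup_right.trans hKN
  have hDO : D ≤ pCoreOf p (H ⊔ D) := le_pCoreOf le_sup_right nD hD
  have nO : H ⊔ D ≤ N[pCoreOf p (H ⊔ D)] := le_N_pCoreOf _
  have e : K ≤ (H ⊓ (D ⊔ K)) ⊔ D := by
    have := dedekind_N' (A := D) (B := H) (L := D ⊔ K) hN le_sup_left
    rw [sup_comm, ← this, sup_comm D H]
    exact le_inf hK le_sup_right
  have hOO : pCoreOf p H ≤ pCoreOf p (H ⊔ D) := by
    have a : pCoreOf p H ≤ N[D] := (pCoreOf_le H).trans hN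
    refine le_sup_left.trans (le_pCoreOf (sup_le_sup_right (pCoreOf_le H) D) ?_
      (pgrp_sup (pgrp_pCoreOf H) hD a))
    exact sup_le (le_N_sup (le_N_pCoreOf H) hN) (le_N_sup_self a)
  by_cases h1 : ⁅H ⊓ (D ⊔ K), H⁆ ≤ pCoreOf p H
  · refine absurd ((commutator_mono e le_rfl).trans ?_) hc
    refine sup_comm_le ((inf_le_left.trans le_sup_left).trans nO) (le_sup_right.trans nO) ?_
      ((comm_le_of_le_N nD).trans hDO)
    exact comm_sup_le (le_sup_left.trans nO) (le_sup_right.trans nO) (h1.trans hOO)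
      ((comm_le_of_le_N' (inf_le_left.trans hN)).trans hDO)
  · have := h.2 _ inf_le_left (le_N_inf le_normalizer (le_N_sup hN (le_sup_left.trans hKN))) h1
    refine res_le_of_le_sup hD hDK ((res_sup_le hD hN).trans (sup_le ?_ le_sup_right))
    rw [sup_comm]; exact this.trans inf_le_right

/-- Let H be a finite group, p a prime, and 𝒦 a nonempty set of subgroups of H permuted transitively by conjugation, with R the subgroup generated by the members of 𝒦. Suppose O^p(H) ≤ R, each E ∈ 𝒦 has E·O_p(H) normal in R·O_p(H), and each E ∈ 𝒦 is p-minimal (generated by the conjugates of a Sylow p-subgroup T_E of E, with T_E in exactly one maximal subgroup of E). Then H is p-minimal in the same sense. If instead each E ∈ 𝒦 is strongly p-irreducible, then H is p-irreducible and, for E, K ∈ 𝒦, either O^p(E·O_p(H)) = O^p(K·O_p(H)) or [E, K] ≤ O_p(H). -/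
theorem result {H : Type*} [Group H] [Finite H] {p : ℕ} [Fact p.Prime] (𝒦 : Set (Subgroup H)) (hne : 𝒦.Nonempty) (hinv : ∀ h : H, ∀ E ∈ 𝒦, E.map (MulAut.conj h).toMonoidHom ∈ 𝒦) (htr : ∀ E ∈ 𝒦, ∀ K ∈ 𝒦, ∃ h : H, K = E.map (MulAut.conj h).toMonoidHom) (hres : Cfsg.pResidual p H ≤ sSup 𝒦) (hnorm : ∀ E ∈ 𝒦, sSup 𝒦 ⊔ Cfsg.pCore p H ≤ Subgroup.normalizer ((E ⊔ Cfsg.pCore p H : Subgroup H) : Set H)) : ((∀ E ∈ 𝒦, ∀ T : Sylow p ↥E, Cfsg.IsMinimalOver (T : Subgroup ↥E)) → ∀ T : Sylow p H, Cfsg.IsMinimalOver (T : Subgroup H)) ∧ ((∀ E ∈ 𝒦, Cfsg.IsStronglyPIrreducible p ↥E) → Cfsg.IsPIrreducible p H ∧ ∀ E ∈ 𝒦, ∀ K ∈ 𝒦, (Cfsg.pResidual p ↥(E ⊔ Cfsg.pCore p H)).map (E ⊔ Cfsg.pCore p H).subtype = (Cfsg.pResidual p ↥(K ⊔ Cfsg.pCore p H)).map (K ⊔ Cfsg.pCore p H).subtype ∨ ⁅E, K⁆ ≤ Cfsg.pCore p H) := by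
  open Subgroup Cfsg.Agent.H18 Cfsg.Agent.H22 Cfsg.Agent.H4 in
  set O := pCore p H with hO
  have hOp : IsPGroup p O := pgrp_pCore
  have nO : ∀ X : Subgroup H, X ≤ N[O] := fun X => le_N_of_normal X O
  set R := sSup 𝒦 ⊔ O with hR
  have hinv' : ∀ h : H, ∀ E ∈ 𝒦, cj h E ∈ 𝒦 := hinv
  have htr' : ∀ E ∈ 𝒦, ∀ K ∈ 𝒦, ∃ h : H, K = cj h E := htr
  have nS : ∀ X : Subgroup H, X ≤ N[sSup 𝒦] := fun X => by
    refine le_N_iff_cj.2 fun h _ => cj_le_iff.2 (sSup_le fun E hE => ?_)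
    rw [le_cj_iff, inv_inv]; exact le_sSup (hinv' h E hE)
  have nR : ∀ X : Subgroup H, X ≤ N[R] := fun X => le_N_sup (nS X) (nO X)
  have hER : ∀ E ∈ 𝒦, E ⊔ O ≤ R := fun E hE => sup_le_sup_right (le_sSup hE) O
  have hsn : ∀ E ∈ 𝒦, H2.SubnormalIn (E ⊔ O) ⊤ := fun E hE =>
    (sn_of_N (hER E hE) (hnorm E hE)).trans (sn_of_N le_top (nR ⊤))
  have hcj : ∀ (h : H) (E : Subgroup H), cj h (E ⊔ O) = cj h E ⊔ O := fun h E => by
    rw [cj_sup, cj_eq_of_normal h O]
  have hresR : pResidualOf p ⊤ ≤ R := by rw [pResidualOf_top]; exact hres.trans le_sup_left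
  have hOE : ∀ E ∈ 𝒦, pCoreOf p (E ⊔ O) = O := fun E hE =>
    le_antisymm ((pCoreOf_mono_sn (hsn E hE)).trans pCoreOf_top.le) (le_pCoreOf le_sup_right (nO _) hOp)
  refine ⟨fun hmin T => ?_, fun hs => ?_⟩
  · have hT : SylIn p (T : Subgroup H) ⊤ := sylIn_top T
    have hOT : O ≤ T := pCore_le_sylow T
    have hRT : R ⊔ T = ⊤ := top_le_iff.1 ((pResidualOf_sup_syl hT).ge.trans (sup_le_sup_right hresR _))
    have hM : ∀ E ∈ 𝒦, ∃ M, MinOv (E ⊔ O) (T ⊓ (E ⊔ O)) M := fun E hE => by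
      obtain ⟨T₀⟩ : Nonempty (Sylow p E) := inferInstance
      obtain ⟨M, hM⟩ := minOv_map_subtype_iff.2 (hmin E hE T₀)
      have h0 := sylIn_map_subtype T₀
      have h1 := hM.sup (nO E) ((inf_pCoreOf_le (H := ⊤) (le_N_of_normal _ _)
        |>.trans' (by rw [pCoreOf_top])).trans (hM.pCoreOf_le h0.isP))
      have h2 : SylIn p ((T₀ : Subgroup E).map E.subtype ⊔ O) (E ⊔ O) :=
        syl_sup h0 ⟨le_rfl, hOp, fun X a _ b => le_antisymm a b⟩ (nO E) (pgrp_sup h0.isP hOp (nO _))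
      obtain ⟨g, -, hg⟩ := h1.of_syl h2 (syl_inf_sn hT (hsn E hE))
      exact ⟨_, hg⟩
    obtain ⟨E, hE⟩ := hne
    obtain ⟨M, hM0⟩ := hM E hE
    -- subgroups of `R` normalised by `T`
    have key : ∀ X : Subgroup H, (T : Subgroup H) ≤ X → ¬ E ⊔ O ≤ X → X ⊓ R ≤ N[M] := fun X hX hn => by
      have a1 : X ⊓ (E ⊔ O) ≤ M :=
        hM0.le_of_not_le (inf_le_inf_right _ hX) inf_le_right fun c => hn (c.trans inf_le_left)
      have a2 : SylIn p (T ⊓ (E ⊔ O)) (X ⊓ (E ⊔ O)) :=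
        (syl_inf_sn hT (hsn E hE)).mono (inf_le_inf_right _ hX) inf_le_right
      have a3 : X ⊓ R ≤ N[X ⊓ (E ⊔ O)] :=
        le_N_inf (inf_le_left.trans le_normalizer) (inf_le_right.trans (hnorm E hE))
      rw [← syl_frattini_sup a2 (inf_le_inf_left _ (hER E hE)) a3]
      refine sup_le (a1.trans le_normalizer) (le_trans ?_ hM0.N_le_N)
      exact inf_le_inf_right _ (inf_le_right.trans (hnorm E hE))
    have hET : ¬ E ⊔ O ≤ T := fun c => hM0.not_pgrp (hT.isP.to_le c)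
    set W := sSup {Y : Subgroup H | Y ≤ R ⊓ N[M] ∧ (T : Subgroup H) ≤ N[Y]} with hW
    have hWle : W ≤ R ⊓ N[M] := sSup_le fun Y hY => hY.1
    have nW : (T : Subgroup H) ≤ N[W] := by
      refine le_N_iff_cj.2 fun t ht => cj_le_iff.2 (sSup_le fun Y hY => ?_)
      rw [le_cj_iff, inv_inv, cj_eq_of_mem_N (hY.2 ht)]; exact le_sSup hY
    have hXW : ∀ X : Subgroup H, (T : Subgroup H) ≤ X → ¬ E ⊔ O ≤ X → X ⊓ R ≤ W := fun X hX hn =>
      le_sSup ⟨le_inf inf_le_right (key X hX hn), le_N_inf (hX.trans le_normalizer) (nR _)⟩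
    have hall : ∀ X : Subgroup H, (T : Subgroup H) ≤ X → E ⊔ O ≤ X → ⊤ ≤ X := fun X hX hn => by
      rw [← hRT]
      refine sup_le (sup_le (sSup_le fun K hK => ?_) (hOT.trans hX)) hX
      obtain ⟨h, rfl⟩ := htr' E hE K hK
      have : h ∈ (T : Subgroup H) ⊔ R := by rw [sup_comm, hRT]; trivial
      obtain ⟨t, ht, r, hr, rfl⟩ := (mem_sup_of_le_N (nR _)).1 this
      refine le_trans (cj_mono _ (le_sup_left : E ≤ E ⊔ O)) ?_
      rw [cj_mul, cj_eq_of_mem_N (hnorm E hE hr)]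
      exact cj_le_of_mem (hX ht) hn
    refine minOv_top_iff.1 ⟨W ⊔ T, lt_top_iff_ne_top.2 fun c => ?_, le_sup_right, fun X hX hlt => ?_, ?_⟩
    · have e := dedekind_N' (L := R) nW (hWle.trans inf_le_left)
      rw [c, top_inf_eq] at e
      have : R ≤ W := e.le.trans (sup_le le_rfl (hXW T le_rfl hET))
      exact hM0.not_le_N hM0.le le_rfl ((hER E hE).trans (this.trans (hWle.trans inf_le_right)))
    · have e := dedekind_N (L := X) (nR (T : Subgroup H)) hX
      rw [sup_comm, hRT, top_inf_eq, inf_comm, sup_comm] at e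
      rw [e]
      exact sup_le_sup_right (hXW X hX fun c => hlt.not_ge (hall X hX c)) _
    · refine top_le_iff.1 (hall _ (le_ncl _ _) ?_)
      rw [← hM0.ncl_eq]; exact ncl_mono le_top inf_le_left
  · have hs' : ∀ E ∈ 𝒦, SPIrr p (E ⊔ O) := fun E hE => spirr_sup (spirr_iff.2 (hs E hE)) hOp (nO E)
    obtain ⟨T, hT⟩ := exists_sylIn p (⊤ : Subgroup H)
    have hOT : O ≤ T := pCoreOf_top.ge.trans (pCoreOf_le_syl hT)
    have hA : ∀ L : Subgroup H, ⊤ ≤ N[L] → (∀ E ∈ 𝒦, pResidualOf p (E ⊔ O) ≤ L) →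
        pResidualOf p ⊤ ≤ L := fun L hL h => by
      have a : R ≤ opm p ⊤ L := by
        have b : ∀ E ∈ 𝒦, E ⊔ O ≤ opm p ⊤ L := fun E hE =>
          le_opm_sn (hsn E hE) hL fun x hx => (pow_mem_pResidualOf hx).imp fun k hk => h E hE hk
        obtain ⟨E, hE⟩ := hne
        exact sup_le (sSup_le fun K hK => le_sup_left.trans (b K hK)) (le_sup_right.trans (b E hE))
      rw [← pResidualOf_idem]
      exact (pResidualOf_mono (hresR.trans a)).trans (res_opm_le hL)
    refine ⟨pirr_top_iff.1 ⟨fun c => ?_, fun K _ hK hc => ?_⟩, fun E hE K hK => ?_⟩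
    · obtain ⟨E, hE⟩ := hne
      exact (hs' E hE).1 (c.mono le_top)
    · by_cases h1 : ∀ E ∈ 𝒦, ⁅K ⊓ (E ⊔ O), E ⊔ O⁆ ≤ O
      · exfalso
        have a1 : ∀ E ∈ 𝒦, ⁅K ⊓ R, E ⊔ O⁆ ≤ O := fun E hE => by
          have hS := syl_inf_sn hT (hsn E hE)
          have nE : K ⊓ R ≤ N[E ⊔ O] := inf_le_right.trans (hnorm E hE)
          have b1 : ⁅K ⊓ R, E ⊔ O⁆ ≤ K ⊓ (E ⊔ O) :=
            le_inf ((comm_le_of_le_N (le_N_inf (le_top.trans hK) (nR _))).trans inf_le_left)
              (comm_le_of_le_N' nE)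
          have b2 := (pcl_of_comm_le (p := p) inf_le_right (hOE E hE).ge (h1 E hE)).2
          rw [hOE E hE] at b2
          have b3 : ∀ S, SylIn p S (E ⊔ O) → ⁅K ⊓ R, S⁆ ≤ O := fun S hS => by
            have hOS : O ≤ S := (hOE E hE).ge.trans (pCoreOf_le_syl hS)
            have c1 : K ⊓ (E ⊔ O) ≤ N[S] :=
              le_N_of_comm_le (by
                rw [commutator_comm]; exact ((commutator_mono le_rfl hS.le).trans (h1 E hE)).trans hOS)
            have c2 : K ⊓ R ≤ N[S] := le_N_iff_cj.2 fun k hk => by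
              refine syl_le_of_le_N hS (cj_le_of_mem_N (nE hk) hS.le) (isPGroup_cj k hS.isP) ?_
              refine (le_sup_comm_of_cj hk).trans (sup_le ?_ le_normalizer)
              exact ((commutator_mono le_rfl hS.le).trans b1).trans c1
            refine le_trans (le_inf ((commutator_mono le_rfl hS.le).trans b1) (comm_le_of_le_N' c2)) ?_
            exact b2 _ inf_le_left (hS.isP.to_le inf_le_right)
          rw [← (hs' E hE).pirr.pElementClosure_eq]
          exact (le_cmod.1 (pElementClosure_le_of_syl fun S hS => le_cmod.2 ⟨nO _, b3 S hS⟩)).2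
        have a2 : ⁅K ⊓ R, R⁆ ≤ O := by
          refine (le_cmod.1 (?_ : R ≤ cmod (K ⊓ R) O)).2
          obtain ⟨E, hE⟩ := hne
          exact sup_le (sSup_le fun E hE => le_sup_left.trans (le_cmod.2 ⟨nO _, a1 E hE⟩))
            (le_sup_right.trans (le_cmod.2 ⟨nO _, a1 E hE⟩))
        have a3 : ⁅K, R⁆ ≤ K ⊓ R := le_inf (comm_le_of_le_N (le_top.trans hK)) (comm_le_of_le_N' (nR _))
        have a4 : ⁅⁅R, R⁆, K⁆ ≤ O := by
          refine three_subgroups (nO _) (nO _) (nO _) ?_ ((commutator_mono a3 le_rfl).trans a2)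
          rw [commutator_comm R K]; exact (commutator_mono a3 le_rfl).trans a2
        have a5 : pResidualOf p ⊤ ≤ cmod K O := by
          refine hA _ (le_N_cmod hK (nO _)) fun E hE => le_cmod.2 ⟨nO _, ?_⟩
          rw [commutator_comm]
          exact (commutator_mono ((hs' E hE).pirr.res_le_der.trans
            (commutator_mono (hER E hE) (hER E hE))) le_rfl).trans a4
        have hS := syl_inf' hT hK le_top
        refine hc (pcl_of_syl_le hS (pgrp_sup hS.isP hOp (nO _)) ?_ le_sup_left)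
        refine (pResidualOf_sup_syl hS).ge.trans ?_
        refine sup_le (le_N_of_comm_le ?_) (le_sup_left.trans le_normalizer)
        refine sup_comm_le (le_sup_left.trans le_normalizer) (le_sup_right.trans le_normalizer) ?_
          ((comm_le_of_le_N (nO _)).trans le_sup_right)
        exact ((commutator_mono inf_le_right (pResidualOf_mono le_top)).trans (le_cmod.1 a5).2).trans
          le_sup_right
      · push Not at h1
        obtain ⟨E, hE, h1⟩ := h1
        have a := (hs' E hE).2 (K ⊓ (E ⊔ O)) inf_le_right (le_N_inf (le_top.trans hK) le_normalizer)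
          (by rwa [hOE E hE])
        refine hA K hK fun E' hE' => ?_
        obtain ⟨h, rfl⟩ := htr' E hE E' hE'
        rw [← hcj, ← cj_pResidualOf]
        exact cj_le_of_mem_N (hK trivial) (a.trans inf_le_left)
    · change pResidualOf p (E ⊔ O) = pResidualOf p (K ⊔ O) ∨ _
      have hD1 : ⁅E ⊔ O, K ⊔ O⁆ ≤ E ⊔ O := comm_le_of_le_N ((hER K hK).trans (hnorm E hE))
      have hD2 : ⁅E ⊔ O, K ⊔ O⁆ ≤ K ⊔ O := comm_le_of_le_N' ((hER E hE).trans (hnorm K hK))
      have hcard : Nat.card (pResidualOf p (E ⊔ O)) = Nat.card (pResidualOf p (K ⊔ O)) := by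
        obtain ⟨h, rfl⟩ := htr' E hE K hK
        rw [← hcj, ← cj_pResidualOf, card_cj]
      by_cases h1 : ⁅⁅E ⊔ O, K ⊔ O⁆, E ⊔ O⁆ ≤ O
      swap
      · left
        have a := (hs' E hE).2 _ hD1 (le_N_comm_left _ _) (by rwa [hOE E hE])
        refine eq_of_le_of_card_ge ?_ hcard.ge
        rw [← pResidualOf_idem]; exact pResidualOf_mono (a.trans hD2)
      by_cases h2 : ⁅⁅E ⊔ O, K ⊔ O⁆, K ⊔ O⁆ ≤ O
      swap
      · left
        have a := (hs' K hK).2 _ hD2 (le_N_comm_right _ _) (by rwa [hOE K hK])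
        refine (eq_of_le_of_card_ge ?_ hcard.le).symm
        rw [← pResidualOf_idem]; exact pResidualOf_mono (a.trans hD1)
      right
      refine (commutator_mono (le_sup_left : E ≤ E ⊔ O) (le_sup_left : K ≤ K ⊔ O)).trans ?_
      have a1 : ⁅pResidualOf p (E ⊔ O), K ⊔ O⁆ ≤ O := by
        refine (commutator_mono (hs' E hE).pirr.res_le_der le_rfl).trans
          (three_subgroups (nO _) (nO _) (nO _) h1 ?_)
        rw [commutator_comm (K ⊔ O)]; exact h1
      have a2 : ⁅E ⊔ O, pResidualOf p (K ⊔ O)⁆ ≤ O := by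
        rw [commutator_comm]
        refine (commutator_mono (hs' K hK).pirr.res_le_der le_rfl).trans
          (three_subgroups (nO _) (nO _) (nO _) ?_ h2)
        rw [commutator_comm (K ⊔ O)]; exact h2
      have hSE := syl_inf_sn hT (hsn E hE)
      have hSK := syl_inf_sn hT (hsn K hK)
      have b2 := (pcl_of_comm_le (p := p) hD1 (hOE E hE).ge h1).2
      rw [hOE E hE] at b2
      have a3 : ⁅T ⊓ (E ⊔ O), T ⊓ (K ⊔ O)⁆ ≤ O :=
        b2 _ (commutator_mono inf_le_right inf_le_right) (hT.isP.to_le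
          ((commutator_mono inf_le_left inf_le_left).trans (comm_le_of_le_N le_normalizer)))
      rw [← pResidualOf_sup_syl hSE]
      refine sup_comm_le (nO _) (nO _) a1 ?_
      rw [← pResidualOf_sup_syl hSK]
      exact comm_sup_le (nO _) (nO _) ((commutator_mono inf_le_right le_rfl).trans a2) a3

end Cfsg.Agent.S2855
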