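import Cfsg.Statements.S2859
import Mathlib
import Cfsg.Agent.H4.WC

set_option autoImplicit false
open Cfsg

namespace Cfsg.Agent.S2859

open Subgroup Cfsg.Agent.H18 Cfsg.Agent.H22 Cfsg.Agent.H4 in
theorem aux {G : Type*} [Group G] [Finite G] {p : ℕ} [Fact p.Prime] {Q Hc H₁ H₂ : Subgroup G}
    (h : WC p ⊤ Q) (hHc : Hc = ncl ⊤ Q) (h1 : H₁ ≤ Hc) (n1 : Hc ≤ N[H₁]) (h2 : H₂ ≤ Hc) (n2 : Hc ≤ N[H₂])
    (hprod : H₁ ⊔ H₂ = Hc) (hcomm : ⁅H₁, H₂⁆ ≤ N[Q]) {K : Subgroup G}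
    (hK : K = pResidualOf p (ncl (H₁ ⊔ Q) Q)) :
    (⁅K, Q⁆ = K ∧ ⁅K, H₁⁆ = K ∧ K ≤ ⁅H₁, H₁⁆ ∧ Hc ≤ N[K]) ∧ ⁅K, H₂⁆ ≤ pCoreOf p Hc ∧ K ≤ H₁ ∧
      H₁ ≤ N[K ⊔ Q] := by
  have hQ : Q ≤ Hc := hHc ▸ le_ncl _ _
  have hw : WC p (H₁ ⊔ Q) Q := h.mono le_sup_right le_top
  have hcl : ncl Hc Q = Hc := by rw [hHc]; exact h.ncl_ncl
  set O := pCoreOf p Hc with hO
  have nO : Hc ≤ N[O] := le_N_pCoreOf Hc
  have hOp : IsPGroup p O := pgrp_pCoreOf Hc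
  have hOH : O ≤ Hc := pCoreOf_le Hc
  have nD : Hc ≤ N[⁅H₁, H₂⁆] := le_N_commutator n1 n2
  have hDH : ⁅H₁, H₂⁆ ≤ Hc := (comm_le_of_le_N (h2.trans n1)).trans h1
  have hD : ⁅⁅H₁, H₂⁆, Hc⁆ ≤ O := by
    have : ⁅⁅H₁, H₂⁆, ncl Hc Q⁆ ≤ O := by
      refine comm_ncl_le' nD nO (hQ.trans nO) ?_
      refine le_trans ?_ (pCoreOf_mono_N hDH nD)
      refine le_trans (le_inf (comm_le_of_le_N (hQ.trans nD)) (comm_le_of_le_N' hcomm)) ?_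
      exact le_pCoreOf inf_le_left (le_N_inf le_normalizer hcomm) (h.pgrp.to_le inf_le_right)
    rwa [hcl] at this
  have e1 : ⁅K, Q⁆ = K := by rw [hK]; exact hw.comm_res
  have kk : pResidualOf p K = K := by rw [hK]; exact pResidualOf_idem _
  have hK1 : K ≤ H₁ := by
    rw [hK]; exact pResidualOf_le_of_le_sup h.pgrp (hQ.trans n1) (ncl_le_self le_sup_right)
  have n11 : Hc ≤ N[⁅H₁, H₁⁆] := le_N_commutator n1 n1
  have hK2 : K ≤ ⁅H₁, H₁⁆ ⊔ ⁅H₁, H₂⁆ := by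
    rw [← e1]
    refine (commutator_mono hK1 (hQ.trans hprod.ge)).trans ?_
    exact comm_sup_le (h1.trans (le_N_sup n11 nD)) (h2.trans (le_N_sup n11 nD)) le_sup_left le_sup_right
  have hK3 : K ≤ ⁅H₁, H₁⁆ := by
    rw [← kk]
    refine pResidualOf_le_of_le_sup hOp (hOH.trans n11) ?_
    rw [← e1]
    refine (commutator_mono hK2 hQ).trans ?_
    have h11 : ⁅H₁, H₁⁆ ≤ Hc := (comm_le_of_le_N le_normalizer).trans h1
    exact sup_comm_le (h11.trans (le_N_sup n11 nO)) (hDH.trans (le_N_sup n11 nO))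
      ((comm_le_of_le_N n11).trans le_sup_left) (hD.trans le_sup_right)
  have hK4 : ⁅K, H₂⁆ ≤ O := by
    refine (commutator_mono hK3 le_rfl).trans ?_
    refine three_subgroups (h1.trans nO) (h1.trans nO) (h2.trans nO) ?_ ?_
    · exact (commutator_mono le_rfl h1).trans hD
    · rw [commutator_comm H₂ H₁]; exact (commutator_mono le_rfl h1).trans hD
  have nW : H₁ ⊔ Q ≤ N[ncl (H₁ ⊔ Q) Q] := le_N_ncl _ _
  have nK1 : H₁ ≤ N[K] := by rw [hK]; exact (le_sup_left.trans nW).trans (N_le_N_pResidualOf _)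
  have hON : O ≤ N[Q] := h.pCoreOf_le_N le_top (hQ.trans le_normalizer)
  have nKO : O ≤ N[K] := by
    rw [hK]
    exact (le_N_ncl' (le_N_sup (hOH.trans n1) hON) hON).trans (N_le_N_pResidualOf _)
  have nK2 : H₂ ≤ N[K] := by
    have a1 : H₂ ≤ N[K ⊔ O] := by
      refine le_N_of_comm_le ?_
      exact sup_comm_le (le_sup_left.trans le_normalizer) (le_sup_right.trans le_normalizer)
        (hK4.trans le_sup_right) ((comm_le_of_le_N (h2.trans nO)).trans le_sup_right)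
    have a2 : pResidualOf p (K ⊔ O) = K :=
      le_antisymm (pResidualOf_le_of_le_sup hOp nKO le_rfl) (kk.ge.trans (pResidualOf_mono le_sup_left))
    rw [← a2]; exact a1.trans (N_le_N_pResidualOf _)
  have nK : Hc ≤ N[K] := hprod ▸ sup_le nK1 nK2
  refine ⟨⟨e1, le_antisymm (comm_le_of_le_N nK1) ?_, hK3, nK⟩, hK4, hK1, ?_⟩
  · have nX : Hc ≤ N[⁅K, H₁⁆] := le_N_commutator nK n1
    refine kk.ge.trans (pResidualOf_le_of_le_sup hOp (hOH.trans nX) (e1.ge.trans ?_))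
    refine (commutator_mono le_rfl (hQ.trans hprod.ge)).trans ?_
    exact comm_sup_le (h1.trans (le_N_sup nX nO)) (h2.trans (le_N_sup nX nO)) le_sup_left
      (hK4.trans le_sup_right)
  · rw [hK, hw.res_sup]; exact le_sup_left.trans nW

/-- Let Q be a nontrivial p-subgroup of the finite group H that is a weakly closed subgroup, H° the weak closure of Q in H (generated by the conjugates of Q) and H_∘ = O^p(H°). Suppose H₁, H₂ are normal subgroups of H° with H° = H₁H₂ and [H₁, H₂] ≤ N_H(Q), and put Kᵢ = O^p of the weak closure of Q in HᵢQ. Then for i = 1, 2: Kᵢ = [Kᵢ, Q] = [Kᵢ, Hᵢ] ≤ Hᵢ′ and Kᵢ is normal in H°; H_∘ = K₁K₂; and [K₁, K₂] ≤ O_p(H°). -/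
theorem result {G : Type*} [Group G] [Finite G] {p : ℕ} [Fact p.Prime] (Q : Subgroup G) (hQp : IsPGroup p ↥Q) (hQ1 : Q ≠ ⊥) (hwc : Cfsg.IsWeaklyClosedSubgroup p Q) (Hc : Subgroup G) (hHc : Hc = Cfsg.weakClosure Q ⊤) (H₁ H₂ : Subgroup G) (hn₁ : H₁ ≤ Hc ∧ Hc ≤ Subgroup.normalizer ((H₁ : Subgroup G) : Set G)) (hn₂ : H₂ ≤ Hc ∧ Hc ≤ Subgroup.normalizer ((H₂ : Subgroup G) : Set G)) (hprod : H₁ ⊔ H₂ = Hc) (hcomm : ⁅H₁, H₂⁆ ≤ Subgroup.normalizer ((Q : Subgroup G) : Set G)) (K₁ K₂ : Subgroup G) (hK₁ : K₁ = ((Cfsg.pResidual p ↥(Cfsg.weakClosure Q (H₁ ⊔ Q))).map ((Cfsg.weakClosure Q (H₁ ⊔ Q))).subtype)) (hK₂ : K₂ = ((Cfsg.pResidual p ↥(Cfsg.weakClosure Q (H₂ ⊔ Q))).map ((Cfsg.weakClosure Q (H₂ ⊔ Q))).subtype)) : (⁅K₁, Q⁆ = K₁ ∧ ⁅K₁, H₁⁆ = K₁ ∧ K₁ ≤ ⁅H₁, H₁⁆ ∧ Hc ≤ Subgroup.normalizer ((K₁ : Subgroup G) : Set G)) ∧ (⁅K₂, Q⁆ = K₂ ∧ ⁅K₂, H₂⁆ =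 K₂ ∧ K₂ ≤ ⁅H₂, H₂⁆ ∧ Hc ≤ Subgroup.normalizer ((K₂ : Subgroup G) : Set G)) ∧ K₁ ⊔ K₂ = ((Cfsg.pResidual p ↥Hc).map (Hc).subtype) ∧ ⁅K₁, K₂⁆ ≤ (Cfsg.pCoreOf p Hc) := by
  open Subgroup Cfsg.Agent.H18 Cfsg.Agent.H22 Cfsg.Agent.H4 in
  have h := wc_top_iff.1 hwc
  rw [h.weakClosure_eq le_top] at hHc
  rw [h.weakClosure_eq le_sup_right] at hK₁ hK₂
  obtain ⟨a1, a2, a3, a4⟩ := aux h hHc hn₁.1 hn₁.2 hn₂.1 hn₂.2 hprod hcomm hK₁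
  obtain ⟨b1, b2, b3, b4⟩ := aux h hHc hn₂.1 hn₂.2 hn₁.1 hn₁.2 (by rw [sup_comm, hprod])
    (by rw [commutator_comm]; exact hcomm) hK₂
  have hQ : Q ≤ Hc := hHc ▸ le_ncl _ _
  refine ⟨a1, b1, le_antisymm (sup_le ?_ ?_) ?_, (commutator_mono le_rfl b3).trans a2⟩
  · rw [hK₁]; exact pResidualOf_mono ((ncl_le_self le_sup_right).trans (sup_le hn₁.1 hQ))
  · rw [hK₂]; exact pResidualOf_mono ((ncl_le_self le_sup_right).trans (sup_le hn₂.1 hQ))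
  · refine pResidualOf_le_of_le_sup hQp (hQ.trans (le_N_sup a1.2.2.2 b1.2.2.2)) ?_
    have hcl : ncl Hc Q = Hc := by rw [hHc]; exact h.ncl_ncl
    rw [← hcl]
    refine ncl_le ?_ le_sup_right
    rw [← hprod]
    refine sup_le ?_ ?_
    · rw [sup_comm K₁ K₂, sup_assoc]; exact le_N_sup (hn₁.1.trans b1.2.2.2) a4
    · rw [sup_assoc]; exact le_N_sup (hn₂.1.trans a1.2.2.2) b4

end Cfsg.Agent.S2859
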