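import Cfsg.Statements.S2860
import Mathlib
import Cfsg.Agent.H4.WC

set_option autoImplicit false
open Cfsg

namespace Cfsg.Agent.S2860

section
open Subgroup Cfsg.Agent.H18 Cfsg.Agent.H22 Cfsg.Agent.H4

variable {G : Type*} [Group G] {p : ℕ}

theorem comm_sgo {X Y E : Subgroup G} (hX : X ≤ E) (hY : Y ≤ E) :
    ⁅X, Y⁆.subgroupOf E = ⁅X.subgroupOf E, Y.subgroupOf E⁆ := by
  apply map_injective E.subtype_injective
  rw [map_commutator, map_subgroupOf_eq_of_le hX, map_subgroupOf_eq_of_le hY, map_subgroupOf_eq_of_le]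
  exact (commutator_mono hX hY).trans (comm_le_of_le_N le_normalizer)

theorem res_sgo {X E : Subgroup G} (hX : X ≤ E) :
    (pResidualOf p X).subgroupOf E = pResidualOf p (X.subgroupOf E) := by
  apply map_injective E.subtype_injective
  rw [map_pResidualOf_inj E.subtype_injective, map_subgroupOf_eq_of_le hX,
    map_subgroupOf_eq_of_le ((pResidualOf_le X).trans hX)]

theorem ncl_sgo {X E : Subgroup G} (hX : X ≤ E) :
    (ncl E X).subgroupOf E = ncl ⊤ (X.subgroupOf E) := by
  apply map_injective E.subtype_injective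
  rw [map_ncl, map_subgroupOf_eq_of_le hX, map_subgroupOf_eq_of_le (ncl_le_self hX), map_subtype_top]

theorem qs_quot {G' : Type*} [Group G'] (g : G →* G') (hq : IsQuasisimple g.range)
    (hp : commutator G = ⊤) (X : Subgroup G) [X.Normal] (h1 : X ≤ g.ker) (h2 : ⁅g.ker, ⊤⁆ ≤ X) :
    IsQuasisimple (G ⧸ X) := by
  have h1' : X ≤ g.rangeRestrict.ker := by rwa [MonoidHom.ker_rangeRestrict]
  refine H2.isQuasisimple_of_ker_le_center (f := QuotientGroup.lift X g.rangeRestrict h1') ?_ ?_ ?_ hq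
  · intro y
    obtain ⟨x, rfl⟩ := g.rangeRestrict_surjective y
    exact ⟨x, rfl⟩
  · intro x hx
    obtain ⟨x, rfl⟩ := QuotientGroup.mk'_surjective X x
    have hx' : x ∈ g.ker := by rw [← MonoidHom.ker_rangeRestrict]; exact hx
    refine mem_center_iff.2 fun y => ?_
    obtain ⟨y, rfl⟩ := QuotientGroup.mk'_surjective X y
    rw [eq_comm, ← commutatorElement_eq_one_iff_mul_comm, ← map_commutatorElement]
    exact (QuotientGroup.eq_one_iff _).2 (h2 (commutator_mem_commutator hx' trivial))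
  · rw [commutator_def, ← map_top_of_surjective _ (QuotientGroup.mk'_surjective X), ← map_commutator,
      ← commutator_def, hp]

theorem comm_eq_of_qs [Fact p.Prime] [Finite G] (h0 : pCore p G = ⊥)
    (hq : IsQuasisimple (pResidualOf p (⊤ : Subgroup G))) {Y : Subgroup G} (hY : IsPGroup p Y)
    (hne : Y ≠ ⊥) : ⁅pResidualOf p (⊤ : Subgroup G), Y⁆ = pResidualOf p (⊤ : Subgroup G) := by
  have nL : ∀ X : Subgroup G, X ≤ N[pResidualOf p (⊤ : Subgroup G)] := fun X => le_top.trans (le_N_pResidualOf ⊤)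
  refine (H2.commutator_eq_self_or_bot_of_isQuasisimple hq (nL Y)).resolve_right fun c => hne ?_
  have h1 : Y ≤ C[pResidualOf p (⊤ : Subgroup G)] := le_C_iff_comm'.2 c
  obtain ⟨T, hT⟩ := exists_sylIn p C[pResidualOf p (⊤ : Subgroup G)]
  have h2 : PCl p C[pResidualOf p (⊤ : Subgroup G)] := by
    refine pcl_of_syl_N hT ((pResidualOf_sup_syl hT).ge.trans (sup_le ?_ le_normalizer))
    exact ((pResidualOf_mono le_top).trans (le_centralizer_iff.1 hT.le)).trans (C_le_N T)
  have h3 := (h2.le_pCoreOf h1 hY).trans (pCoreOf_mono_N le_top (le_N_C (nL ⊤)))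
  rwa [pCoreOf_top, h0, le_bot_iff] at h3

end

/-- Let Q be a nontrivial large p-subgroup of the finite group H, U a nontrivial elementary abelian p-subgroup of H, and Q ≤ E ≤ N_H(U) with Q not normal in E. Suppose O_p(E/C_E(U)) = 1 and O^p(E)·C_E(U)/C_E(U) is quasisimple. Let E° be the weak closure of Q in E (generated by the conjugates of Q inside E) and E_∘ = O^p(E°). Then O^p(E)·C_E(U) = E_∘·C_E(U); E_∘ is perfect and equals O^p(E_∘); E_∘/C_{E_∘}(U) and E_∘/O_p(E_∘) are quasisimple; and E_∘ = [E_∘, Y] for every p-subgroup Y of E not centralizing U. -/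
theorem result {G : Type*} [Group G] [Finite G] {p : ℕ} [Fact p.Prime] (Q : Subgroup G) (hQp : IsPGroup p ↥Q) (hQ1 : Q ≠ ⊥) (hQ : Cfsg.IsLarge Q) (U : Subgroup G) (hU : Cfsg.IsElementaryAbelian p U) (hU1 : U ≠ ⊥) (E : Subgroup G) (hQE : Q ≤ E) (hEU : E ≤ Subgroup.normalizer ((U : Subgroup G) : Set G)) (hQn : ¬ E ≤ Subgroup.normalizer ((Q : Subgroup G) : Set G)) [hn : ((Subgroup.centralizer ((U : Subgroup G) : Set G)).subgroupOf E).Normal] (hred : Cfsg.pCore p (↥E ⧸ (Subgroup.centralizer ((U : Subgroup G) : Set G)).subgroupOf E) = ⊥) (hqs : Cfsg.IsQuasisimple ↥(((Cfsg.pResidual p ↥E) ⊔ (Subgroup.centralizer ((U : Subgroup G) : Set G)).subgroupOf E).map (QuotientGroup.mk' ((Subgroup.centralizer ((U : Subgroup G) : Set G)).subgroupOf E)))) (Er : Subgroup G) (hEr : Er = ((Cfsg.pResidual p ↥(Cfsg.weakClosure Q E)).map ((Cfsg.weakClosure Q E)).subtype)) [hn2 : ((Subgroup.centralizer ((U : Subgroup G) : Set G)).subgroupOf Er).Normal] : ((Cfsg.pResidual p ↥E).map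 (E).subtype) ⊔ (E ⊓ Subgroup.centralizer ((U : Subgroup G) : Set G)) = Er ⊔ (E ⊓ Subgroup.centralizer ((U : Subgroup G) : Set G)) ∧ ⁅Er, Er⁆ = Er ∧ ((Cfsg.pResidual p ↥Er).map (Er).subtype) = Er ∧ Cfsg.IsQuasisimple (↥Er ⧸ (Subgroup.centralizer ((U : Subgroup G) : Set G)).subgroupOf Er) ∧ Cfsg.IsQuasisimple (↥Er ⧸ Cfsg.pCore p ↥Er) ∧ ∀ Y : Subgroup G, Y ≤ E → IsPGroup p ↥Y → ¬ Y ≤ Subgroup.centralizer ((U : Subgroup G) : Set G) → ⁅Er, Y⁆ = Er := by
  open Subgroup Cfsg.Agent.H18 Cfsg.Agent.H22 Cfsg.Agent.H4 in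
  have hw := large_wc hQ hQp hQ1
  have hwE := hw.mono hQE le_top
  rw [hw.weakClosure_eq hQE] at hEr
  change Er = pResidualOf p (ncl E Q) at hEr
  change pResidualOf p E ⊔ _ = _ ∧ _ ∧ pResidualOf p Er = Er ∧ _
  set f := QuotientGroup.mk' ((C[U]).subgroupOf E) with hf
  have hs : Function.Surjective f := QuotientGroup.mk'_surjective _
  have hker : f.ker = (C[U]).subgroupOf E := QuotientGroup.ker_mk' _
  have hL : (pResidual p E ⊔ (C[U]).subgroupOf E).map f = pResidualOf p ⊤ := by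
    rw [Subgroup.map_sup, (Subgroup.map_eq_bot_iff _).2 hker.ge, sup_bot_eq, ← pResidualOf_top,
      map_pResidualOf, map_top_of_surjective f hs]
  rw [hL] at hqs
  have hphi : ∀ X Y : Subgroup G, X ≤ E → Y ≤ E → (X.subgroupOf E).map f ≤ (Y.subgroupOf E).map f →
      X ≤ Y ⊔ (E ⊓ C[U]) := fun X Y hX hY h => by
    rw [Subgroup.map_le_map_iff, hker] at h
    have := map_mono (f := E.subtype) h
    rwa [Subgroup.map_sup, map_subgroupOf_eq_of_le hX, map_subgroupOf_eq_of_le hY, subgroupOf_map_subtype,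
      inf_comm] at this
  have key : ∀ Y : Subgroup G, Y ≤ E → IsPGroup p Y → ¬ Y ≤ C[U] →
      ⁅pResidualOf p ⊤, (Y.subgroupOf E).map f⁆ = pResidualOf p ⊤ := fun Y h1 h2 h3 => by
    refine comm_eq_of_qs hred hqs ((isPGroup_subgroupOf h2).map f) fun c => h3 ?_
    rw [Subgroup.map_eq_bot_iff, hker, subgroupOf_le_iff, inf_eq_right.2 h1] at c
    exact c
  have hQC : ¬ Q ≤ C[U] := fun c => hQn (hEU.trans (hQ.2 U (le_centralizer_iff.1 c) hU1))
  have hcE : ncl E Q ≤ E := ncl_le_self hQE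
  have hErE : Er ≤ E := hEr ▸ (pResidualOf_le _).trans hcE
  have hErc : Er ≤ ncl E Q := hEr ▸ pResidualOf_le _
  have nEr : E ≤ N[Er] := hEr ▸ (le_N_ncl E Q).trans (N_le_N_pResidualOf _)
  have kk : pResidualOf p Er = Er := by rw [hEr, pResidualOf_idem]
  have e1 : (Er.subgroupOf E).map f = pResidualOf p ⊤ := by
    rw [hEr, res_sgo hcE, map_pResidualOf, ncl_sgo hQE, map_ncl, map_top_of_surjective f hs]
    refine le_antisymm (pResidualOf_mono le_top) ?_
    rw [← pResidualOf_idem]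
    refine pResidualOf_mono ((key Q hQE hQp hQC).ge.trans ?_)
    exact (commutator_mono le_top le_rfl).trans (comm_le_ncl _ _)
  have hZ : ⁅Er ⊓ C[U], ncl E Q⁆ ≤ pCoreOf p Er := by
    have a := large_comm_ncl_C hQ hQp hQE (elemAb_pgrp hU) hU1 hEU
    rw [pCoreOf_eq_inf hErc (hcE.trans nEr)]
    refine le_inf ((commutator_mono inf_le_left le_rfl).trans (comm_le_of_le_N (hcE.trans nEr))) ?_
    rw [commutator_comm]; exact (commutator_mono le_rfl inf_le_right).trans a
  have nO : E ≤ N[pCoreOf p Er] := nEr.trans (N_le_N_pCoreOf _)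
  have hsup : ∀ K : Subgroup G, K ≤ Er → pResidualOf p ⊤ ≤ (K.subgroupOf E).map f → Er ≤ N[K] →
      Er ≤ K ⊔ (Er ⊓ C[U]) := fun K hK h hN => by
    have a := hphi Er K hErE (hK.trans hErE) (e1.le.trans h)
    have b := dedekind_N (A := K) (B := E ⊓ C[U]) (L := Er)
      ((hK.trans hErE).trans (le_N_inf le_normalizer (le_N_C hEU))) hK
    refine (le_inf a le_rfl).trans (b.le.trans (sup_le_sup_left ?_ _))
    exact le_inf inf_le_right (inf_le_left.trans inf_le_right)
  have hperf : ⁅Er, Er⁆ = Er := by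
    have h11 : ⁅Er, Er⁆ ≤ Er := comm_le_of_le_N le_normalizer
    have n11 : E ≤ N[⁅Er, Er⁆] := le_N_commutator nEr nEr
    refine le_antisymm h11 (kk.ge.trans (pResidualOf_le_of_le_sup (pgrp_pCoreOf Er)
      (((pCoreOf_le Er).trans hErE).trans n11) ?_))
    have a := hsup _ h11 (by
      rw [comm_sgo hErE hErE, map_commutator, e1, H2.commutator_eq_of_isQuasisimple hqs]) (hErE.trans n11)
    have e : ⁅Er, Q⁆ = Er := by rw [hEr]; exact hwE.comm_res
    refine e.ge.trans ((commutator_mono a (le_ncl E Q)).trans ?_)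
    exact sup_comm_le ((h11.trans hErE).trans (le_N_sup n11 nO))
      ((inf_le_left.trans hErE).trans (le_N_sup n11 nO))
      ((comm_le_of_le_N (hcE.trans n11)).trans le_sup_left) (hZ.trans le_sup_right)
  have hperf' : commutator Er = ⊤ := by
    apply map_injective Er.subtype_injective
    rw [map_subtype_commutator, map_subtype_top, hperf]
  set g : Er →* _ := f.comp (inclusion hErE) with hg
  have hgr : g.range = pResidualOf p ⊤ := by
    rw [← e1, hg, ← MonoidHom.map_range, inclusion_range]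
  have hgk : g.ker = (C[U]).subgroupOf Er := by
    rw [hg, ← MonoidHom.comap_ker, hker]; rfl
  rw [← hgr] at hqs
  refine ⟨le_antisymm (sup_le ?_ le_sup_right) (sup_le_sup_right ?_ _), hperf, kk,
    qs_quot g hqs hperf' _ hgk.ge ?_, qs_quot g hqs hperf' _ ?_ ?_, fun Y h1 h2 h3 => ?_⟩
  · refine hphi _ _ (pResidualOf_le E) hErE ?_
    rw [e1, res_sgo le_rfl, map_pResidualOf]; exact pResidualOf_mono le_top
  · rw [← kk]; exact pResidualOf_mono hErE
  · rw [hgk]; exact comm_le_of_le_N (le_N_of_normal _ _)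
  · rw [← Subgroup.map_eq_bot_iff, ← pCoreOf_top, eq_bot_iff]
    refine (map_pCoreOf_le g ⊤).trans ?_
    rw [← MonoidHom.range_eq_map, hgr, ← hred, ← pCoreOf_top]
    exact pCoreOf_mono_N le_top (le_N_pResidualOf ⊤)
  · rw [← map_le_map_iff_of_injective Er.subtype_injective, map_commutator, hgk, subgroupOf_map_subtype,
      map_subtype_top, inf_comm]
    exact (commutator_mono le_rfl hErc).trans hZ
  · have hK : ⁅Er, Y⁆ ≤ Er := comm_le_of_le_N (h1.trans nEr)
    have nK : Er ≤ N[⁅Er, Y⁆] := le_N_comm_left _ _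
    have nO' : Er ≤ N[pCoreOf p Er] := le_N_pCoreOf Er
    have a := hsup _ hK (by rw [comm_sgo hErE h1, map_commutator, e1, key Y h1 h2 h3]) nK
    refine le_antisymm hK (kk.ge.trans (pResidualOf_le_of_le_sup (pgrp_pCoreOf Er)
      ((pCoreOf_le Er).trans nK) ?_))
    refine hperf.ge.trans ((commutator_mono a le_rfl).trans ?_)
    exact sup_comm_le (hK.trans (le_N_sup nK nO')) (inf_le_left.trans (le_N_sup nK nO'))
      ((comm_le_of_le_N nK).trans le_sup_left)
      (((commutator_mono le_rfl hErc).trans hZ).trans le_sup_right)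

end Cfsg.Agent.S2860
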