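import Cfsg.Statements.S2861
import Cfsg.Agent.H5.LL

set_option autoImplicit false
open Cfsg

namespace Cfsg.Agent.S2861

/-- Standing hypotheses: G a finite group, S a Sylow p-subgroup, Q a nontrivial large p-subgroup of G contained in S, M a subgroup containing S with the basic property (M ∈ 𝔐_G(S)); Y_M the largest p-reduced normal subgroup of M and M† = M·C_G(Y_M). Let L ∈ 𝔏_G(Y_M) (L ∈ 𝔏_G(Y_M): Y_M ≤ L; O_p(L) is the normal closure in L of Y_M ∩ O_p(L) and normalizes Y_M; L is Y_M-minimal of characteristic p with N_L(Y_M) its unique maximal subgroup over Y_M; and L/O_p(L) ≅ SL₂(q) with q = |Y_M : Y_M ∩ O_p(L)|, or p = 2 and L/O_p(L) is a Suzuki group Sz(q) or dihedral of order 2r, r an odd prime) and A = O_p(L). Then Y_M·A/A is the unique nontrivial elementary abelian normal p-subgroup of N_L(Y_M)/A. -/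
theorem result {G : Type*} [Group G] [Finite G] {p : ℕ} [Fact p.Prime] (S : Sylow p G) (Q : Subgroup G) (hQp : IsPGroup p ↥Q) (hQ1 : Q ≠ ⊥) (hQS : Q ≤ (S : Subgroup G)) (hQ : Cfsg.IsLarge Q) (M : Subgroup G) (hSM : (S : Subgroup G) ≤ M) (hM : Cfsg.IsInFrakM p M) (L : Subgroup G) (hL : Cfsg.IsInFrakL p M L) (NL : Subgroup G) (hNL : NL = L ⊓ Subgroup.normalizer (((Cfsg.largestPReducedOf p M) : Subgroup G) : Set G)) [hn : (((Cfsg.pCoreOf p L)).subgroupOf NL).Normal] : let Ybar : Subgroup (↥NL ⧸ ((Cfsg.pCoreOf p L)).subgroupOf NL) := (((Cfsg.largestPReducedOf p M)).subgroupOf NL).map (QuotientGroup.mk' (((Cfsg.pCoreOf p L)).subgroupOf NL)); Ybar ≠ ⊥ ∧ Ybar.Normal ∧ Cfsg.IsElementaryAbelian p Ybar ∧ ∀ (V : Subgroup (↥NL ⧸ ((Cfsg.pCoreOf p L)).subgroupOf NL)), V.Normal → Cfsg.IsElementaryAbelian p V → V ≠ ⊥ → V = Ybar := by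
  open Subgroup Cfsg.Agent.FT Cfsg.Agent.H5e in
  intro Ybar
  obtain ⟨h1, h2⟩ := frakL hL
  have s := QuotientGroup.mk'_surjective (pCore p L)
  have k := QuotientGroup.ker_mk' (pCore p L)
  have hY := hL.1
  have ea := (H22.pred_Y (p := p) M).ea
  have l : NL ≤ L := hNL ▸ inf_le_left
  have hYN : largestPReducedOf p M ≤ NL := hNL ▸ le_inf hY (le_nrm _)
  let ψ : NL →* L ⧸ pCore p L := (QuotientGroup.mk' (pCore p L)).comp (inclusion l)
  have kψ : (pCoreOf p L).subgroupOf NL = ψ.ker := by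
    ext x
    rw [MonoidHom.mem_ker, MonoidHom.comp_apply, QuotientGroup.mk'_apply, QuotientGroup.eq_one_iff, mem_subgroupOf]
    exact ⟨fun ⟨y, hy, e⟩ => (Subtype.ext e : y = inclusion l x) ▸ hy, fun e => ⟨_, e, rfl⟩⟩
  let f := QuotientGroup.lift ((pCoreOf p L).subgroupOf NL) ψ kψ.le
  have inj : Function.Injective f := (QuotientGroup.injective_lift_iff _ _ _).2 kψ
  have e1 : Ybar.map f = ((largestPReducedOf p M).subgroupOf L).map (QuotientGroup.mk' (pCore p L)) := by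
    rw [map_map]
    ext x
    exact ⟨fun ⟨y, hy, e⟩ => ⟨inclusion l y, hy, e⟩, fun ⟨y, hy, e⟩ => ⟨⟨y, hYN hy⟩, hy, e⟩⟩
  have e2 : (⊤ : Subgroup _).map f = N(Ybar.map f) := by
    rw [e1]
    ext x
    obtain ⟨x, rfl⟩ := s x
    rw [← h1.nrm_map s k, ← so_nrm hY, mem_subgroupOf]
    refine ⟨fun ⟨y, _, e⟩ => ?_, fun e => ⟨QuotientGroup.mk ⟨x, hNL ▸ ⟨x.2, e⟩⟩, mem_top _, rfl⟩⟩
    obtain ⟨y, rfl⟩ := QuotientGroup.mk_surjective y
    have := (h1.nrm_map s k (x := inclusion l y)).1 (by rw [← so_nrm hY]; exact (hNL.le y.2).2)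
    rw [← mem_subgroupOf, so_nrm hY, h1.nrm_map s k, ← e]
    exact this
  refine ⟨fun e => h1.not_le_A ?_, (normal_subgroupOf_of_le_normalizer (hNL.le.trans inf_le_right)).map _
    (QuotientGroup.mk'_surjective _), (Abelem.so ea hYN).map _, fun V n a v1 => map_injective inj ?_⟩
  · rw [e, Subgroup.map_bot, eq_comm, Subgroup.map_eq_bot_iff, k] at e1
    exact e1
  · rw [e1] at e2 ⊢
    exact h2.q1 _ (e2 ▸ map_mono le_top) (e2 ▸ map_norms f (nml_top_iff.2 n).nrm) (Abelem.map a f)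
      (mt (Subgroup.map_eq_bot_iff_of_injective _ inj).1 v1)

end Cfsg.Agent.S2861
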