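import Cfsg.Statements.S2862
import Mathlib
import Cfsg.Agent.H4.FrakM
import Cfsg.Agent.H2.Zipper

set_option autoImplicit false
open Cfsg

namespace Cfsg.Agent.S2862

section
open Subgroup Cfsg.Agent.H18 Cfsg.Agent.H22 Cfsg.Agent.H4
open Cfsg.Agent.H2 (SubnormalIn)
open scoped commutatorElement

variable {G : Type*} [Group G] {p : ℕ}

theorem zipper_in [Finite G] {L Y : Subgroup G} (hY : Y ≤ L) (hn : ¬ SubnormalIn Y L)
    (h : ∀ X, Y ≤ X → X < L → SubnormalIn Y X) :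
    ∃ M, M < L ∧ Y ≤ M ∧ ∀ X, Y ≤ X → X < L → X ≤ M := by
  obtain ⟨M, h1, h2, h3⟩ := H2.zipper (A := Y.subgroupOf L) (fun c => hn ⟨hY, c⟩) (fun K hK hYK => by
    have a : K.map L.subtype < L := lt_of_le_of_ne (map_subtype_le K) fun c => hK (by
      rw [← map_subtype_subgroupOf K, c, subgroupOf_self])
    have b := (h _ (by rw [← map_subgroupOf_eq_of_le hY]; exact map_mono hYK) a).subgroupOf L
    rw [map_subtype_subgroupOf] at b
    exact b.2)
  refine ⟨M.map L.subtype, lt_of_le_of_ne (map_subtype_le M) fun c => h1.1 (by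
      rw [← map_subtype_subgroupOf M, c, subgroupOf_self]),
    by rw [← map_subgroupOf_eq_of_le hY]; exact map_mono h2, fun X hX hlt => ?_⟩
  rw [← map_subgroupOf_eq_of_le hlt.le]
  exact map_mono (h3 _ (fun c => hlt.not_ge (subgroupOf_eq_top.1 c)) (comap_mono hX))

/-- centralizer of a quadratically acting subgroup. -/
theorem quad_C [Finite G] {V L X : Subgroup G} {g : G} (hLV : L ≤ N[V]) (hg : g ∈ L) (hq : ⁅⁅V, X⁆, X⁆ = ⊥)
    (hgen : X ⊔ cj g X = L) : V ⊓ C[X] ≤ ⁅V, X⁆ ⊔ (V ⊓ C[L]) := by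
  obtain ⟨e1, -, -⟩ := quad_comm_sup hLV hg hq hgen
  rintro a ⟨ha, ha'⟩
  have hX : X ≤ L := hgen ▸ le_sup_left
  have hU : ⁅V, X⁆ ≤ V := comm_le_of_le_N (hX.trans hLV)
  have hUC : ⁅V, X⁆ ≤ C[X] := le_C_iff_comm.2 hq
  have e2 : ⁅V, cj g X⁆ = cj g ⁅V, X⁆ := by rw [cj_commutator, cj_eq_of_mem_N (hLV hg)]
  have h1 : ⁅a⁻¹, g⁆ ∈ ⁅V, X⁆ ⊔ ⁅V, cj g X⁆ := by
    rw [e1]; exact commutator_mem_commutator (inv_mem ha) hg
  obtain ⟨u, hu, v, hv, e⟩ := (mem_sup_of_le_N (hU.trans (le_N_comm_left _ _))).1 h1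
  have h2 : a * u ∈ V ⊓ C[L] := by
    refine ⟨mul_mem ha (hU hu), ?_⟩
    rw [← hgen, C_sup]
    refine ⟨mul_mem ha' (hUC hu), ?_⟩
    have e3 : a * u = g * a * g⁻¹ * v⁻¹ := by
      rw [eq_mul_inv_iff_mul_eq, mul_assoc, e, commutatorElement_def]; group
    rw [e3, ← cj_C]
    refine Subgroup.mul_mem _ (conj_mem_cj ha') (Subgroup.inv_mem _ ?_)
    rw [e2] at hv; exact cj_mono g hUC hv
  have : a = a * u * u⁻¹ := by group
  rw [this]
  exact mul_mem (mem_sup_right h2) (mem_sup_left (inv_mem hu))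

variable [Fact p.Prime] [Finite G]

theorem N_U_le {S M H L : Subgroup G} (h : FH p S M H) (hLH : L ≤ H) {g : G} (hg : g ∈ L)
    (hgen : Y[p,M] ⊔ cj g Y[p,M] = L) : L ⊓ N[⁅O[p,H], Y[p,M]⁆] ≤ N[Y[p,M]] := by
  have hf := h.fm
  have hw := hf.wc h.asym
  set Y := Y[p,M] with hY
  set P := O[p,M] with hP
  set A := O[p,H] with hA
  set U := ⁅A, Y⁆ with hU
  have nA : H ≤ N[A] := le_N_pCoreOf H
  have hAH : A ≤ H := pCoreOf_le H
  have hAp : IsPGroup p A := pgrp_pCoreOf H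
  have hPp : IsPGroup p P := pgrp_pCoreOf M
  have hUY : U ≤ Y := comm_le_of_le_N' h.O_le_NY
  have hUA : U ≤ A := comm_le_of_le_N (h.Y_le.trans nA)
  have hYC : Y ≤ C[Y] := hf.Y_le_O.trans hf.O_le_C
  have hPU : P ≤ C[U] := hf.O_le_C.trans (C_anti hUY)
  have hq : ⁅U, Y⁆ = ⊥ := le_C_iff_comm.1 (hUY.trans hYC)
  have hYL : Y ≤ L := hgen ▸ le_sup_left
  have hE : A ⊓ C[Y] = U ⊔ (A ⊓ C[L]) :=
    le_antisymm (quad_C (hLH.trans nA) hg hq hgen)
      (sup_le (le_inf hUA (hUY.trans hYC)) (inf_le_inf_left _ (C_anti hYL)))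
  set K := P ⊔ (L ⊓ N[U]) with hK
  have hKH : K ≤ H := sup_le h.le (inf_le_left.trans hLH)
  have nU : K ≤ N[U] := sup_le (hPU.trans (C_le_N U)) inf_le_right
  have hPY : P ≤ N[Y] := hf.O_le_C.trans (C_le_N Y)
  have nE : K ≤ N[A ⊓ C[Y]] := by
    refine sup_le (le_N_inf (h.le.trans nA) (le_N_C hPY)) ?_
    rw [hE]
    exact le_N_sup inf_le_right (le_N_inf ((inf_le_left.trans hLH).trans nA)
      (le_N_C (inf_le_left.trans le_normalizer)))
  have hKlt : K < H := lt_of_le_of_ne hKH fun c => h.not_res_le_C (by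
    have nU' : H ≤ N[U] := c ▸ nU
    have a1 : ⁅A, ncl H Y⁆ ≤ U := comm_ncl_le' nA nU' (h.Y_le.trans nU') le_rfl
    have a2 : U ≤ C[ncl H P] := ncl_le_C nU' (le_centralizer_iff.1 hPU)
    rw [h.ncl_O] at a2
    exact res_le_C_of_chain hAp nA ((commutator_mono le_rfl h.res_le_ncl).trans a1)
      ((pResidualOf_le H).trans (le_centralizer_iff.1 a2)))
  have hPK : P ≤ K := le_sup_left
  have hYK : Y ≤ O[p,K] := h.min K hPK hKlt
  have hOK : O[p,K] ≤ N[P] := hf.O_le_N h.asym (hPK.trans le_normalizer)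
  have hWe := hf.elemAb_ncl h.asym hYK (hOK.trans hf.N_O_le) (le_N_pCoreOf K)
  set W := ncl K Y with hW
  have hWp : IsPGroup p W := elemAb_pgrp hWe
  have hWC : W ≤ C[W] := (elemAb_iff.1 hWe).1
  have hYW : Y ≤ W := le_ncl K Y
  have hWK : W ≤ K := ncl_le_self (hf.Y_le_O.trans hPK)
  have nW : K ≤ N[W] := le_N_ncl K Y
  have hwK : WC p K P := hw.mono hPK le_top
  set Kc := ncl K P with hKc
  have hKcK : Kc ≤ K := ncl_le_self hPK
  have a1 : A ⊓ C[Y] ≤ C[W] := ncl_le_C nE inf_le_right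
  have a2 : ⁅A, Kc⁆ ≤ A ⊓ C[Y] := by
    refine comm_ncl_le' (hKH.trans nA) nE (hPK.trans nE) (le_inf (comm_le_of_le_N (h.le.trans nA)) ?_)
    exact (comm_le_of_le_N' h.O_le_N).trans hf.O_le_C
  have a3 : ⁅A, W⁆ ≤ U := comm_ncl_le' (hKH.trans nA) nU ((hf.Y_le_O.trans hPK).trans nU) le_rfl
  have a4 : U ≤ C[Kc] := ncl_le_C nU (le_centralizer_iff.1 hPU)
  have a5 : ⁅W, Kc⁆ ≤ W ⊓ A := by
    refine le_inf (comm_le_of_le_N (hKcK.trans nW)) (le_trans (le_inf ?_ ?_) h.chP)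
    · exact ((comm_le_of_le_N (hKcK.trans nW)).trans hWK).trans hKH
    · refine le_C_iff_comm.2 (le_bot_iff.1 (three_subgroups (le_N_of_normal _ _) (le_N_of_normal _ _)
        (le_N_of_normal _ _) ?_ ?_))
      · rw [commutator_comm Kc A]; exact (le_C_iff_comm.1 (a2.trans a1)).le
      · exact (le_C_iff_comm.1 (a3.trans a4)).le
  have hWAE : W ⊓ A ≤ A ⊓ C[Y] := le_inf inf_le_right (inf_le_left.trans (hWC.trans (C_anti hYW)))
  have hUY0 : U ≤ Y ⊓ A := le_inf hUY hUA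
  have a6 : ⁅A ⊓ C[Y], L ⊓ N[U]⁆ ≤ U := by
    rw [hE]
    refine sup_comm_le le_normalizer ((inf_le_left.trans (le_N_comm_left _ _))) (comm_le_of_le_N inf_le_right) ?_
    exact (commutator_mono inf_le_right inf_le_left).trans ((le_C_iff_comm.1 le_rfl).le.trans bot_le)
  have hY0C : P ≤ C[Y ⊓ A] := hf.O_le_C.trans (C_anti inf_le_left)
  have nY0 : K ≤ N[Y ⊓ A] := by
    refine sup_le (hY0C.trans (C_le_N _)) (le_N_of_comm_le ?_)
    exact (commutator_mono ((inf_le_inf_right _ hYW).trans hWAE) le_rfl).trans (a6.trans hUY0)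
  have a7 : pResidualOf p K ≤ cmod (W ⊓ A) (Y ⊓ A) := by
    have nD : K ≤ N[cmod (W ⊓ A) (Y ⊓ A)] := le_N_cmod (le_N_inf nW (hKH.trans nA)) nY0
    refine pResidualOf_le_of_le_sup hPp (hPK.trans nD) (sup_le le_sup_right (le_trans ?_ le_sup_left))
    exact le_cmod.2 ⟨le_sup_right.trans nY0, (commutator_mono hWAE le_rfl).trans (a6.trans hUY0)⟩
  have a8 : Y ⊓ A ≤ C[Kc] := ncl_le_C nY0 (le_centralizer_iff.1 hY0C)
  have a9 : pResidualOf p Kc ≤ C[W] := by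
    refine res_le_C_of_chain hWp (hKcK.trans nW) (U := Y ⊓ A) ?_
      ((pResidualOf_le _).trans (le_centralizer_iff.1 a8))
    refine comm_res_le_of_le hWp (hKcK.trans nW) ?_
    exact (commutator_mono ((commutator_mono le_rfl (pResidualOf_le _)).trans a5)
      (pResidualOf_mono hKcK)).trans (le_cmod.1 a7).2
  have a10 : Kc ≤ N[Y] := by
    refine hwK.res_sup.ge.trans ?_
    exact sup_le ((a9.trans (C_anti hYW)).trans (C_le_N Y)) hPY
  refine le_trans (le_sup_right : _ ≤ K) fun k hk => ?_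
  obtain ⟨c, hc, n, hn, rfl⟩ := hwK.exists_mul le_rfl (hPK.trans le_normalizer) hk
  exact mul_mem (a10 (comm_le_ncl _ _ hc)) (hf.N_O_le hn.2)

end

/-- Standing hypotheses: G a finite group, S a Sylow p-subgroup, Q a nontrivial large p-subgroup of G contained in S, M a subgroup containing S with the basic property (M ∈ 𝔐_G(S)); Y_M the largest p-reduced normal subgroup of M and M† = M·C_G(Y_M). Suppose Y_M is char-p-tall and asymmetric in G, H ∈ ℌ_G(O_p(M)), and L is minimal among the subgroups of H containing Y_M with Y_M ≰ O_p(L). Then H = ⟨L, O_p(M)⟩ = ⟨hY_Mh⁻¹, O_p(M)⟩ for every h ∈ L outside N_L(Y_M); L is Y_M-minimal and of characteristic p, with N_L(Y_M) the unique maximal subgroup of L containing Y_M; [V, O^p(L)] ≠ 1 for every noncentral chief factor V/W of H inside O_p(H) (that is, O^p(L) does not act trivially on V/W); and the normal closure of O_p(L) ∩ Y_M in L lies in O_p(H). -/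
theorem result {G : Type*} [Group G] [Finite G] {p : ℕ} [Fact p.Prime] (S : Sylow p G) (Q : Subgroup G) (hQp : IsPGroup p ↥Q) (hQ1 : Q ≠ ⊥) (hQS : Q ≤ (S : Subgroup G)) (hQ : Cfsg.IsLarge Q) (M : Subgroup G) (hSM : (S : Subgroup G) ≤ M) (hM : Cfsg.IsInFrakM p M) (htall : Cfsg.IsCharPTall p (Cfsg.largestPReducedOf p M)) (hasym : ¬ Cfsg.IsSymmetricIn (Cfsg.largestPReducedOf p M)) (H : Subgroup G) (hH : Cfsg.IsInFrakH p M H) (L : Subgroup G) (hLH : L ≤ H) (hYL : (Cfsg.largestPReducedOf p M) ≤ L) (hYO : ¬ (Cfsg.largestPReducedOf p M) ≤ (Cfsg.pCoreOf p L)) (hmin : ∀ L' : Subgroup G, L' ≤ L → (Cfsg.largestPReducedOf p M) ≤ L' → ¬ (Cfsg.largestPReducedOf p M) ≤ (Cfsg.pCoreOf p L') → L' = L) : (L ⊔ (Cfsg.pCoreOf p M) = H ∧ ∀ h ∈ L, h ∉ Subgroup.normalizer (((Cfsg.largestPReducedOf p M) : Subgroup G) : Set G) → (((Cfsg.largestPReducedOf p M) : Subgroup G).map (MulAut.conj (h : G)).toMonoidHom) ⊔ (Cfsg.pCoreOf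 p M) = H) ∧ (Cfsg.IsMinimalOver (((Cfsg.largestPReducedOf p M)).subgroupOf L) ∧ Subgroup.centralizer (Cfsg.pCore p ↥L : Set ↥L) ≤ Cfsg.pCore p ↥L ∧ L ⊓ Subgroup.normalizer (((Cfsg.largestPReducedOf p M) : Subgroup G) : Set G) < L ∧ ∀ X : Subgroup G, (Cfsg.largestPReducedOf p M) ≤ X → X < L → X ≤ L ⊓ Subgroup.normalizer (((Cfsg.largestPReducedOf p M) : Subgroup G) : Set G)) ∧ (∀ V W' : Subgroup G, V ≤ (Cfsg.pCoreOf p H) → H ≤ Subgroup.normalizer ((V : Subgroup G) : Set G) → H ≤ Subgroup.normalizer ((W' : Subgroup G) : Set G) → W' < V → (∀ Z' : Subgroup G, H ≤ Subgroup.normalizer ((Z' : Subgroup G) : Set G) → W' ≤ Z' → Z' ≤ V → Z' = W' ∨ Z' = V) → ¬ ⁅V, H⁆ ≤ W' → ¬ ⁅V, ((Cfsg.pResidual p ↥L).map (L).subtype)⁆ ≤ W') ∧ (Subgroup.normalClosure (((((Cfsg.pCoreOf p L) ⊓ (Cfsg.largestPReducedOf p M)).subgroupOf L : Subgroup ↥L)) : Set ↥L)).map L.subtype ≤ (Cfsg.pCoreOf p H) := by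
  open Subgroup Cfsg.Agent.H18 Cfsg.Agent.H22 Cfsg.Agent.H4 in
  have h := fh_of (fm_of_large hQp hQ1 hQ hSM hM) hasym hH
  have hf := h.fm
  have hNU := fun g hg hgen => N_U_le (g := g) h hLH hg hgen
  have hcomm := fun g => hf.comm_of_N hasym (g := g)
  set Y := Y[p,M] with hY
  set P := O[p,M] with hP
  set A := O[p,H] with hA
  have nA : H ≤ N[A] := le_N_pCoreOf H
  have hAH : A ≤ H := pCoreOf_le H
  have hAp : IsPGroup p A := pgrp_pCoreOf H
  have hYp : IsPGroup p Y := hf.Yp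
  have hUY : ⁅A, Y⁆ ≤ Y := comm_le_of_le_N' h.O_le_NY
  have hYC : Y ≤ C[Y] := hf.Y_le_O.trans hf.O_le_C
  have hq : ⁅⁅A, Y⁆, Y⁆ = ⊥ := le_C_iff_comm.1 (hUY.trans hYC)
  have hX : ∀ X, Y ≤ X → X < L → Y ≤ O[p,X] := fun X h1 h2 => by
    by_contra c; exact h2.ne (hmin X h2.le h1 c)
  obtain ⟨L₀, hlt, hle, huniq⟩ := zipper_in hYL (fun c => hYO (le_pCoreOf_sn c hYp)) fun X h1 h2 =>
    (H2.subnormalIn_of_isPGroup (pgrp_pCoreOf X) (hX X h1 h2)).trans
      (sn_of_N (pCoreOf_le X) (le_N_pCoreOf X))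
  have hm : MinOv L Y L₀ := ⟨hlt, hle, huniq, by
    by_contra c
    exact hYO ((hX _ (le_ncl L Y) (lt_of_le_of_ne (ncl_le_self hYL) c)).trans
      (pCoreOf_mono_N (ncl_le_self hYL) (le_N_ncl L Y)))⟩
  obtain ⟨g, hg, hg'⟩ := SetLike.exists_of_lt hlt
  have hgen := hm.sup_cj hg hg'
  obtain ⟨q1, q2, q3⟩ := quad_comm_sup (hLH.trans nA) hg hq hgen
  have hcjU : ∀ l ∈ L, cj l ⁅A, Y⁆ = ⁅A, cj l Y⁆ := fun l hl => by
    rw [cj_commutator, cj_eq_of_mem_N (nA (hLH hl))]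
  have star : ∀ R, Y ≤ R → R ≤ N[Y] → L ⊓ N[R] ≤ N[Y] := fun R h1 h2 l hl => by
    have b1 : Y ≤ N[cj l Y] := by
      rw [← cj_N]; exact h1.trans ((cj_eq_of_mem_N hl.2).ge.trans (cj_mono l h2))
    have b2 : Y ≤ C[cj l Y] := hcomm l b1 ((cj_le_of_mem_N hl.2 h1).trans h2)
    refine hNU g hg hgen ⟨hl.1, mem_N_of_cj_le ?_⟩
    refine le_trans ?_ q2.le
    refine le_inf ?_ ((cj_mono l hUY).trans (le_centralizer_iff.1 b2))
    rw [hcjU l hl.1]; exact commutator_mono le_rfl (cj_le_of_mem hl.1 hYL)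
  have hL0 : L₀ ≤ N[Y] := by
    have b1 : Y ≤ O[p,L₀] := hX L₀ hle hlt
    have b2 : O[p,L₀] ⊓ N[Y] = O[p,L₀] := by
      refine pgrp_eq_of_inf_N_le (pgrp_pCoreOf L₀) inf_le_left (le_inf inf_le_left ?_)
      exact (inf_le_inf_right _ ((pCoreOf_le L₀).trans hlt.le)).trans
        (star _ (le_inf b1 le_normalizer) inf_le_right)
    exact (le_inf hlt.le (le_N_pCoreOf L₀)).trans (star _ b1 (inf_eq_left.1 b2))
  have e0 : L ⊓ N[Y] = L₀ := le_antisymm (hm.inf_N_le le_rfl hle) (le_inf hlt.le hL0)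
  have hLP : L ⊔ P = H := le_antisymm (sup_le hLH h.le) (h.ge_of le_sup_right (sup_le hLH h.le)
    fun c => hYO ((le_inf hYL c).trans (inf_pCoreOf_le (le_sup_left.trans le_normalizer))))
  have hgP : ∀ x ∈ L, x ∉ L₀ → cj x Y ⊔ P = H := fun x hx hx' => by
    rw [← hLP, ← hm.sup_cj hx hx', sup_comm Y, sup_assoc, sup_eq_right.2 hf.Y_le_O]
  have hAL : ⁅A, L⁆ ≤ L := by
    rw [← q1, ← hcjU g hg]; exact sup_le (hUY.trans hYL) (cj_le_of_mem hg (hUY.trans hYL))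
  refine ⟨⟨hLP, fun x hx hx' => hgP x hx fun c => hx' (hL0 c)⟩,
    ⟨(minOv_iff hYL).1 ⟨_, hm⟩, chP_iff.1 (h.chP.of_le_N hLH (le_N_of_comm_le ?_)), e0 ▸ hlt,
      e0 ▸ huniq⟩, fun V W hV nV nW hWV hch hn hc => hn ?_, ?_⟩
  · rw [commutator_comm]; exact hAL
  · change ⁅V, pResidualOf p L⁆ ≤ W at hc
    have nD : H ≤ N[cmod V W] := le_N_cmod nV nW
    have b1 : pResidualOf p H ≤ cmod V W := by
      refine pResidualOf_le_of_le_sup (pgrp_pCoreOf M) (h.le.trans nD) ?_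
      rw [← hLP, ← hm.res_sup (p := p), sup_assoc, sup_eq_right.2 hf.Y_le_O]
      exact sup_le_sup_right (le_cmod.2 ⟨((pResidualOf_le L).trans hLH).trans nW, hc⟩) _
    obtain ⟨x, hx, hx', hx2⟩ := pgrp_exists_comm_mem (pgrp_pCoreOf M) (hAp.to_le hV) (h.le.trans nV)
      hWV.not_ge
    have hVW : V ≤ N[W] := (hV.trans hAH).trans nW
    have b2 : ⁅V ⊓ cmod P W, H⁆ ≤ W := by
      rw [← h.res_sup]
      refine comm_sup_le ((pResidualOf_le H).trans nW) (h.le.trans nW)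
        ((commutator_mono inf_le_left le_rfl).trans (le_cmod.1 b1).2) ?_
      rw [commutator_comm]; exact (le_cmod.1 inf_le_right).2
    have b3 : W ≤ V ⊓ cmod P W :=
      le_inf hWV.le (le_cmod.2 ⟨le_normalizer, comm_le_of_le_N' (h.le.trans nW)⟩)
    rcases hch _ (le_N_of_comm_le (b2.trans b3)) b3 inf_le_left with c | c
    · refine absurd (c.le ⟨hx, mem_cmod.2 ⟨hVW hx, fun s hs => ?_⟩⟩) hx'
      rw [← commutatorElement_inv]; exact inv_mem (hx2 s (mem_sup_left hs)).1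
    · rw [← c]; exact b2
  · rw [map_normalClosure_subgroupOf (inf_le_right.trans hYL)]
    refine ncl_le (hLH.trans nA) ?_
    set Y₁ := O[p,L] ⊓ Y with hY₁
    set Z := A ⊓ C[H] with hZ
    have nZ : ∀ X, X ≤ H → X ≤ N[Z] := fun X hX =>
      (hX.trans (le_centralizer_iff.1 inf_le_right)).trans (C_le_N Z)
    have hY1H : Y₁ ≤ H := inf_le_right.trans h.Y_le
    have hB : O[p,L] ≤ N[cj g Y] := by
      rw [← cj_N, ← cj_eq_of_mem_N (le_N_pCoreOf L hg)]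
      exact cj_mono g ((hm.pCoreOf_le hYp).trans hL0)
    have hUgA : ⁅A, cj g Y⁆ ≤ A := comm_le_of_le_N ((cj_le_of_mem hg hYL).trans (hLH.trans nA))
    have b1 : ⁅⁅A, cj g Y⁆, Y₁⁆ ≤ Z := by
      have c1 : ⁅⁅A, cj g Y⁆, Y₁⁆ ≤ ⁅A, Y⁆ ⊓ ⁅A, cj g Y⁆ :=
        le_inf (commutator_mono hUgA inf_le_right)
          (comm_le_of_le_N (le_N_commutator (hY1H.trans nA) (inf_le_left.trans hB)))
      refine c1.trans (le_inf (inf_le_right.trans hUgA) ?_)
      rw [← hLP, C_sup]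
      exact le_inf (q3.ge.trans inf_le_right)
        ((inf_le_left.trans hUY).trans (le_centralizer_iff.1 hf.O_le_C))
    have b2 : ⁅A, H⁆ ≤ A ⊓ cmod Y₁ Z := by
      have c1 : ⁅A, cj g Y⁆ ≤ A ⊓ cmod Y₁ Z :=
        le_inf hUgA (le_cmod.2 ⟨nZ _ (hUgA.trans hAH), by rw [commutator_comm]; exact b1⟩)
      have c2 : ⁅A, P⁆ ≤ A ⊓ cmod Y₁ Z := by
        have d1 : ⁅A, P⁆ ≤ A := comm_le_of_le_N (h.le.trans nA)
        refine le_inf d1 (le_cmod.2 ⟨nZ _ (d1.trans hAH), le_trans (le_of_eq ?_) bot_le⟩)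
        exact le_C_iff_comm'.1 (((comm_le_of_le_N' h.O_le_N).trans hf.O_le_C).trans (C_anti inf_le_right))
      rw [← hgP g hg hg']
      exact comm_sup_le (le_N_of_comm_le ((commutator_mono inf_le_left le_rfl).trans c1))
        (le_N_of_comm_le ((commutator_mono inf_le_left le_rfl).trans c2)) c1 c2
    have nAH : H ≤ N[⁅A, H⁆] := le_N_comm_right _ _
    have b3 : Y₁ ≤ H ⊓ cmod ⁅A, H⁆ Z := by
      refine le_inf hY1H (le_cmod.2 ⟨nZ _ hY1H, ?_⟩)
      rw [commutator_comm]; exact (le_cmod.1 (b2.trans inf_le_right)).2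
    refine b3.trans (le_pCoreOf inf_le_left (le_N_inf le_normalizer (le_N_cmod nAH (nZ _ le_rfl))) ?_)
    refine pgrp_of_res_le_C hAp h.chP inf_le_left ?_
    refine res_le_C_of_chain hAp (inf_le_left.trans nA) (U := Z) ?_
      (((pResidualOf_le _).trans inf_le_left).trans (le_centralizer_iff.1 inf_le_right))
    refine comm_res_le_of_le hAp (inf_le_left.trans nA) ?_
    exact (commutator_mono (commutator_mono le_rfl ((pResidualOf_le _).trans inf_le_left))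
      ((pResidualOf_le _).trans inf_le_right)).trans (le_cmod.1 le_rfl).2

end Cfsg.Agent.S2862
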