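import Cfsg.Statements.S2864
import Mathlib
import Cfsg.Agent.H4.FrakM

set_option autoImplicit false
open Cfsg

namespace Cfsg.Agent.S2864

/-- Standing hypotheses: G a finite group, S a Sylow p-subgroup, Q a nontrivial large p-subgroup of G contained in S, M a subgroup containing S with the basic property (M ∈ 𝔐_G(S)); Y_M the largest p-reduced normal subgroup of M and M† = M·C_G(Y_M). Let I be a nontrivial normal p-subgroup of M and Y ≤ O_p(M†); let L be a subgroup of G containing Y and A a normal p-subgroup of L with I ≤ A ≤ M. If [Y, A] ≤ [I, A], then Y ≤ O_p(L). -/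
theorem result {G : Type*} [Group G] [Finite G] {p : ℕ} [Fact p.Prime] (S : Sylow p G) (Q : Subgroup G) (hQp : IsPGroup p ↥Q) (hQ1 : Q ≠ ⊥) (hQS : Q ≤ (S : Subgroup G)) (hQ : Cfsg.IsLarge Q) (M : Subgroup G) (hSM : (S : Subgroup G) ≤ M) (hM : Cfsg.IsInFrakM p M) (I : Subgroup G) (hI1 : I ≠ ⊥) (hIp : IsPGroup p ↥I) (hIM : I ≤ M ∧ M ≤ Subgroup.normalizer ((I : Subgroup G) : Set G)) (Y : Subgroup G) (hY : Y ≤ (Cfsg.pCoreOf p (M ⊔ Subgroup.centralizer (((Cfsg.largestPReducedOf p M) : Subgroup G) : Set G)))) (L : Subgroup G) (hYL : Y ≤ L) (A : Subgroup G) (hAp : IsPGroup p ↥A) (hAL : A ≤ L ∧ L ≤ Subgroup.normalizer ((A : Subgroup G) : Set G)) (hIA : I ≤ A) (hAM : A ≤ M) (hc : ⁅Y, A⁆ ≤ ⁅I, A⁆) : Y ≤ (Cfsg.pCoreOf p L) := by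
  open Subgroup Cfsg.Agent.H18 Cfsg.Agent.H22 Cfsg.Agent.H4 in
  have h := fm_of_large hQp hQ1 hQ hSM hM
  obtain ⟨K, hK, hYK, e1, e2⟩ := exists_sn_closure (p := p) hYL
  have hKA : K ≤ N[A] := hK.le.trans hAL.2
  have hAI : A ≤ N[I] := hAM.trans hIM.2
  have hIA' : ⁅I, A⁆ ≤ I := comm_le_of_le_N hAI
  have hYA : ⁅A, Y⁆ ≤ ⁅I, A⁆ := by rwa [commutator_comm]
  have hYI : Y ≤ N[I] := le_N_of_comm_le_le (hYA.trans hIA') hIA
  set R := pResidualOf p K with hR
  set X := ⁅A, R⁆ with hX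
  have hRA : R ≤ N[A] := (pResidualOf_le K).trans hKA
  have hXA : X ≤ A := comm_le_of_le_N hRA
  have hKX : K ≤ N[X] := le_N_commutator hKA (le_N_pResidualOf K)
  have hAX : A ≤ N[X] := le_N_comm_left _ _
  have hKIX : K ≤ N[I ⊔ X] := by
    rw [← e2]
    exact sup_le (le_N_of_comm_le_le le_sup_right (sup_le hIA hXA)) (le_N_sup hYI (hYK.trans hKX))
  have hD : K ≤ N[⁅I ⊔ X, A⁆] := le_N_commutator hKIX hKA
  have h1 : X ≤ ⁅I ⊔ X, A⁆ := by
    refine (commutator_mono le_rfl ((pResidualOf_le K).trans e1.ge)).trans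
      (comm_ncl_le' hKA hD (hYK.trans hD) (hYA.trans (commutator_mono le_sup_left le_rfl)))
  have hN : A ≤ N[I ⊔ ⁅X, A⁆] := le_N_sup hAI (le_N_comm_right _ _)
  have h2 : X ≤ I ⊔ ⁅X, A⁆ :=
    h1.trans (sup_comm_le (hIA.trans hN) (hXA.trans hN) (hIA'.trans le_sup_left) le_sup_right)
  have h3 : X ≤ I := by
    by_contra hc
    have key : ∀ Z : Subgroup G, Z ≤ X → A ≤ N[Z] → X ≤ I ⊔ Z → X ≤ I := by
      intro Z
      induction Z using subgroup_lt_induction with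
      | h Z ih =>
      intro h4 h5 h6
      by_cases hZ : Z = ⊥
      · rwa [hZ, sup_bot_eq] at h6
      refine ih ⁅Z, A⁆ (pgrp_comm_lt hAp (h4.trans hXA) h5 hZ) ((comm_le_of_le_N h5).trans h4)
        (le_N_comm_right _ _) (h2.trans (sup_le le_sup_left ?_))
      have hN' : A ≤ N[I ⊔ ⁅Z, A⁆] := le_N_sup hAI (le_N_comm_right _ _)
      exact (commutator_mono h6 le_rfl).trans (sup_comm_le (hIA.trans hN') ((h4.trans hXA).trans hN')
        (hIA'.trans le_sup_left) le_sup_right)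
    exact hc (key X le_rfl hAX le_sup_right)
  rw [sup_eq_left.2 h3] at hKIX
  have h4 := hKIX.trans (h.N_le_dag hIp hI1 hIM.2)
  refine hYK.trans (le_pCoreOf_sn hK ((pgrp_pCoreOf (p := p) (M ⊔ C[largestPReducedOf p M])).to_le ?_))
  rw [← e1]
  exact ncl_le (h4.trans (le_N_pCoreOf _)) hY

end Cfsg.Agent.S2864
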