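import Cfsg.Statements.S2872
import Mathlib
import Cfsg.Agent.H4.Transfer2
import Cfsg.Agent.H22.ExtTr
import Cfsg.Agent.H3.Frattini
import Cfsg.Agent.H22.Core

set_option autoImplicit false
open Cfsg

namespace Cfsg.Agent.S2872

/-- Let S be a Sylow 2-subgroup of the finite group G. Then G has a proper normal subgroup of 2-power index (O²(G) ≠ G), or Ω₁(Z(S)) is contained in the Frattini subgroup of S, or N_G(S) acts nontrivially on Ω₁(Z(S)) by conjugation. -/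
theorem result {G : Type*} [Group G] [Finite G] (S : Sylow 2 G) : Cfsg.pResidual 2 G ≠ ⊤ ∨ Cfsg.omegaOne 2 ((S : Subgroup G) ⊓ Subgroup.centralizer ((S : Subgroup G) : Set G)) ≤ (frattini ↥(S : Subgroup G)).map (S : Subgroup G).subtype ∨ ∃ g ∈ Subgroup.normalizer ((S : Subgroup G) : Set G), ∃ z ∈ Cfsg.omegaOne 2 ((S : Subgroup G) ⊓ Subgroup.centralizer ((S : Subgroup G) : Set G)), g * z * g⁻¹ ≠ z := by
  open Subgroup Cfsg.Agent.H18 Cfsg.Agent.H22 Cfsg.Agent.H4 in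
  by_contra hcon
  push Not at hcon
  obtain ⟨h1, h2, h3⟩ := hcon
  refine h2 fun z hz => ?_
  have hz' := (mem_omegaOne_iff (center_le_C _)).1 hz
  refine ⟨⟨z, hz'.1.1⟩, H3.mem_frattini_iff.2 fun M hM => ?_, rfl⟩
  by_contra hzM
  obtain ⟨φ, hφ⟩ := exists_sign_hom (H3.index_of_isCoatom S.isPGroup' hM)
  have h4 := Cfsg.Agent.P22.transfer_extremal (odd_index_sylow S) φ (y := z) (by rw [← sq]; exact hz'.2) S.isPGroup'
    hz'.1.1 (mem_C.1 hz'.1.2) (φ ⟨z, hz'.1.1⟩) fun g hg m => by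
      have := h3 g⁻¹ (mem_N_of_cj_le (cj_le_iff'.2 (by rwa [inv_inv]))) z hz
      rw [inv_inv] at this
      congr 2
  have h5 : IsPGroup 2 ℤˣ := IsPGroup.of_card (n := 1) (by simp)
  exact hzM ((hφ _).1 (h4 ▸ pResidual_le_ker h5 φ.transfer (h1 ▸ mem_top z)))

end Cfsg.Agent.S2872
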