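import Cfsg.Statements.S2874
import Mathlib
-- import your own Cfsg.Agent.* helpers here

set_option autoImplicit false
open Cfsg

namespace Cfsg.Agent.S2874


open Matrix

theorem unit_of_odd {k : ℕ} (hk : 1 ≤ k) (x : ZMod (2 ^ k))
    (hx : ZMod.castHom (dvd_pow_self 2 (by omega : k ≠ 0)) (ZMod 2) x ≠ 0) : IsUnit x := by
  haveI : NeZero (2 ^ k) := ⟨by positivity⟩
  obtain ⟨n, rfl⟩ : ∃ n : ℕ, (n : ZMod (2 ^ k)) = x := ⟨x.val, ZMod.natCast_zmod_val x⟩
  rw [map_natCast, Ne, ZMod.natCast_eq_zero_iff] at hx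
  rw [ZMod.isUnit_iff_coprime]
  exact Nat.Coprime.pow_right _ (Nat.coprime_comm.mp ((Nat.Prime.coprime_iff_not_dvd Nat.prime_two).mpr hx))

theorem two_torsion {k : ℕ} (hk : 1 ≤ k) (x : ZMod (2 ^ k)) (hx : 2 * x = 0) :
    x = 0 ∨ x = 2 ^ (k - 1) := by
  haveI : NeZero (2 ^ k) := ⟨by positivity⟩
  obtain ⟨n, hn, rfl⟩ : ∃ n : ℕ, n < 2 ^ k ∧ (n : ZMod (2 ^ k)) = x :=
    ⟨x.val, ZMod.val_lt x, ZMod.natCast_zmod_val x⟩
  have h1 : ((2 * n : ℕ) : ZMod (2 ^ k)) = 0 := by push_cast; exact hx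
  rw [ZMod.natCast_eq_zero_iff] at h1
  obtain ⟨j, rfl⟩ : ∃ j, k = j + 1 := ⟨k - 1, by omega⟩
  rw [pow_succ'] at h1 hn
  obtain ⟨m, rfl⟩ := Nat.dvd_of_mul_dvd_mul_left (by norm_num) h1
  have hm : m < 2 := by
    by_contra h
    have : 2 ^ j * 2 ≤ 2 ^ j * m := Nat.mul_le_mul_left _ (by omega)
    omega
  interval_cases m
  · left; simp
  · right; simp

theorem order_three {k : ℕ} (hk : 1 ≤ k) (r : Matrix (Fin 2) (Fin 2) (ZMod (2 ^ k)))
    (h3 : r ^ 3 = 1) (h1 : r ≠ 1) :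
    r 0 0 + r 1 1 = -1 ∧ r 0 0 * r 1 1 - r 0 1 * r 1 0 = 1 ∧ IsUnit (r 0 1) := by
  set φ := ZMod.castHom (dvd_pow_self 2 (by omega : k ≠ 0)) (ZMod 2) with hφ
  have cube : ∀ d : ZMod (2 ^ k), d ^ 3 = 1 → d = 1 := by
    intro d hd
    have hu : IsUnit (d ^ 2 + d + 1) := by
      apply unit_of_odd hk
      rw [← hφ]
      simp only [map_add, map_pow, map_one]
      generalize φ d = y
      revert y; decide
    have : (d ^ 2 + d + 1) * (d - 1) = 0 := by linear_combination hd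
    exact sub_eq_zero.mp ((hu.mul_right_eq_zero).mp this)
  have hdet : r.det = 1 := cube _ (by rw [← Matrix.det_pow, h3, Matrix.det_one])
  rw [Matrix.det_fin_two] at hdet
  have e := fun i j => congrFun (congrFun h3 i) j
  have e00 := e 0 0
  have e01 := e 0 1
  have e10 := e 1 0
  have e11 := e 1 1
  simp only [pow_succ, pow_zero, one_mul, Matrix.mul_apply, Fin.sum_univ_two, Matrix.one_apply_eq,
    Matrix.one_apply_ne (show (0 : Fin 2) ≠ 1 by decide), Matrix.one_apply_ne (show (1 : Fin 2) ≠ 0 by decide)] at e00 e01 e10 e11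
  have hr : r = !![r 0 0, r 0 1; r 1 0, r 1 1] := Matrix.eta_fin_two r
  generalize r 0 0 = a at *
  generalize r 0 1 = b at *
  generalize r 1 0 = c at *
  generalize r 1 1 = d at *
  have f00 : ((a + d) ^ 2 - 1) * a = (a + d) + 1 := by linear_combination e00 + (2 * a + d) * hdet
  have f01 : ((a + d) ^ 2 - 1) * b = 0 := by linear_combination e01 + b * hdet
  have f10 : ((a + d) ^ 2 - 1) * c = 0 := by linear_combination e10 + c * hdet
  have f11 : ((a + d) ^ 2 - 1) * d = (a + d) + 1 := by linear_combination e11 + (2 * d + a) * hdet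
  by_cases ht : φ (a + d) = 0
  · exfalso
    have hu : IsUnit ((a + d) ^ 2 - 1) := by
      apply unit_of_odd hk
      rw [← hφ, map_sub, map_pow, ht, map_one]
      decide
    have hb : b = 0 := (hu.mul_right_eq_zero).mp f01
    have hc : c = 0 := (hu.mul_right_eq_zero).mp f10
    subst hb hc
    have ha : a = 1 := cube a (by linear_combination e00)
    have hd : d = 1 := cube d (by linear_combination e11)
    subst ha hd
    apply h1
    rw [hr, Matrix.one_fin_two]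
  · have hb : IsUnit b := by
      apply unit_of_odd hk
      rw [← hφ]
      have := congrArg φ hdet
      simp only [map_add, map_sub, map_mul, map_one] at this ht
      revert ht this
      generalize φ a = a'
      generalize φ b = b'
      generalize φ c = c'
      generalize φ d = d'
      revert a' b' c' d'; decide
    have h0 : (a + d) ^ 2 - 1 = 0 := (hb.mul_left_eq_zero).mp f01
    refine ⟨?_, hdet, hb⟩
    rw [h0] at f00
    linear_combination -f00

/-- the explicit set -/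
def stdSet (k : ℕ) : Finset (Matrix (Fin 2) (Fin 2) (ZMod (2 ^ k))) := by
  classical
  exact (Finset.univ : Finset (Fin 3 × Bool × Bool)).image fun t =>
    (!![0, -1; 1, -1] : Matrix (Fin 2) (Fin 2) (ZMod (2 ^ k))) ^ (t.1 : ℕ) *
      !![1 + (if t.2.1 then 2 ^ (k - 1) else 0), (if t.2.1 then 2 ^ (k - 1) else 0) + (if t.2.2 then 2 ^ (k - 1) else 0);
        (if t.2.2 then 2 ^ (k - 1) else 0), 1 - (if t.2.1 then 2 ^ (k - 1) else 0)]

theorem card_stdSet (k : ℕ) : (stdSet k).card ≤ 12 := by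
  classical
  unfold stdSet
  refine Finset.card_image_le.trans ?_
  simp

theorem v_form {k : ℕ} (hk : 1 ≤ k) (v : Matrix (Fin 2) (Fin 2) (ZMod (2 ^ k))) (h2 : v ^ 2 = 1)
    (ha : (v * !![0, -1; 1, -1]) ^ 3 = 1) (ha' : v * !![0, -1; 1, -1] ≠ 1)
    (hb : (v * !![0, -1; 1, -1] ^ 2) ^ 3 = 1) (hb' : v * !![0, -1; 1, -1] ^ 2 ≠ 1) :
    ∃ s t : Bool, v = !![1 + (if s then 2 ^ (k - 1) else 0), (if s then 2 ^ (k - 1) else 0) + (if t then 2 ^ (k - 1) else 0);
        (if t then 2 ^ (k - 1) else 0), 1 - (if s then 2 ^ (k - 1) else 0)] := by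
  obtain ⟨t1, d1, -⟩ := order_three hk _ ha ha'
  obtain ⟨t2, -, -⟩ := order_three hk _ hb hb'
  have e := fun i j => congrFun (congrFun h2 i) j
  have e00 := e 0 0
  have e01 := e 0 1
  have e10 := e 1 0
  have e11 := e 1 1
  simp [pow_succ, Matrix.mul_apply, Fin.sum_univ_two] at e00 e01 e10 e11 t1 t2 d1
  have hr : v = !![v 0 0, v 0 1; v 1 0, v 1 1] := Matrix.eta_fin_two v
  generalize v 0 0 = a at *
  generalize v 0 1 = b at *
  generalize v 1 0 = c at *
  generalize v 1 1 = d at *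
  have htr : a + d = 2 := by linear_combination -t1 - t2
  have hdet : a * d - b * c = 1 := by linear_combination d1
  have hx : 2 * (a - 1) = 0 := by linear_combination e00 + hdet - a * htr
  have hz : 2 * c = 0 := by linear_combination e10 - c * htr
  have hd : d = 1 - (a - 1) := by linear_combination htr
  have hb : b = (a - 1) + c := by linear_combination t1 + htr - hx
  rcases two_torsion hk _ hx with h | h <;> rcases two_torsion hk _ hz with h' | h'
  · exact ⟨false, false, by rw [hr, hd, hb, h, h', show a = 1 + 0 by linear_combination h]; simp⟩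
  · exact ⟨false, true, by rw [hr, hd, hb, h, h', show a = 1 + 0 by linear_combination h]; simp⟩
  · exact ⟨true, false, by rw [hr, hd, hb, h, h', show a = 1 + 2 ^ (k - 1) by linear_combination h]; simp⟩
  · exact ⟨true, true, by rw [hr, hd, hb, h, h', show a = 1 + 2 ^ (k - 1) by linear_combination h]; simp⟩

theorem a4_fact : ∃ r : Equiv.Perm (Fin 4), Equiv.Perm.sign r = 1 ∧ r ^ 3 = 1 ∧ r ≠ 1 ∧
    ∀ g : Equiv.Perm (Fin 4), Equiv.Perm.sign g = 1 → ∃ i : Fin 3,
      (r ^ (3 - (i : ℕ)) * g) ^ 2 = 1 ∧ (r ^ (3 - (i : ℕ)) * g * r) ^ 3 = 1 ∧ r ^ (3 - (i : ℕ)) * g * r ≠ 1 ∧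
      (r ^ (3 - (i : ℕ)) * g * r ^ 2) ^ 3 = 1 ∧ r ^ (3 - (i : ℕ)) * g * r ^ 2 ≠ 1 :=
  ⟨Equiv.swap 0 1 * Equiv.swap 1 2, by decide, by decide, by decide, by decide +kernel⟩

theorem conj_std {k : ℕ} (hk : 1 ≤ k) (H : Subgroup (GL (Fin 2) (ZMod (2 ^ k))))
    (h : Nonempty (↥H ≃* ↥(alternatingGroup (Fin 4)))) :
    ∃ g : GL (Fin 2) (ZMod (2 ^ k)), ∀ x, x ∈ H ↔ ((g⁻¹ * x * g : GL (Fin 2) (ZMod (2 ^ k))) : Matrix _ _ _) ∈ stdSet k := by
  classical
  obtain ⟨e⟩ := h
  obtain ⟨r, hr, hr3, hr1, hall⟩ := a4_fact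
  let f : alternatingGroup (Fin 4) →* GL (Fin 2) (ZMod (2 ^ k)) := H.subtype.comp e.symm.toMonoidHom
  have hf : Function.Injective f := H.subtype_injective.comp e.symm.injective
  let r' : alternatingGroup (Fin 4) := ⟨r, hr⟩
  have h3 : ((f r' : GL (Fin 2) (ZMod (2 ^ k))) : Matrix (Fin 2) (Fin 2) (ZMod (2 ^ k))) ^ 3 = 1 := by
    rw [← Units.val_pow_eq_pow_val, ← map_pow, show r' ^ 3 = 1 from Subtype.ext hr3, map_one, Units.val_one]
  have h1 : ((f r' : GL (Fin 2) (ZMod (2 ^ k))) : Matrix (Fin 2) (Fin 2) (ZMod (2 ^ k))) ≠ 1 := by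
    intro h
    apply hr1
    have : f r' = f 1 := by rw [map_one]; exact Units.ext h
    exact congrArg Subtype.val (hf this)
  obtain ⟨t1, d1, hb⟩ := order_three hk _ h3 h1
  set ρ := f r' with hρ
  let g : GL (Fin 2) (ZMod (2 ^ k)) := Matrix.GeneralLinearGroup.mk'' !![0, ρ 0 1; 1, ρ 1 1] (by
    rw [Matrix.det_fin_two]; simpa using hb)
  have hg : ((g⁻¹ * ρ * g : GL (Fin 2) (ZMod (2 ^ k))) : Matrix (Fin 2) (Fin 2) (ZMod (2 ^ k))) = !![0, -1; 1, -1] := by
    have : (ρ : Matrix (Fin 2) (Fin 2) (ZMod (2 ^ k))) * (g : Matrix (Fin 2) (Fin 2) (ZMod (2 ^ k))) = (g : Matrix (Fin 2) (Fin 2) (ZMod (2 ^ k))) * !![0, -1; 1, -1] := by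
      have hgv : (g : Matrix (Fin 2) (Fin 2) (ZMod (2 ^ k))) = !![0, ρ 0 1; 1, ρ 1 1] := rfl
      rw [hgv]
      ext i j
      fin_cases i <;> fin_cases j <;> simp [Matrix.mul_apply, Fin.sum_univ_two]
      · linear_combination ((ρ : Matrix (Fin 2) (Fin 2) (ZMod (2 ^ k))) 0 1) * t1
      · linear_combination ((ρ : Matrix (Fin 2) (Fin 2) (ZMod (2 ^ k))) 1 1) * t1 - d1
    rw [Units.val_mul, Units.val_mul, mul_assoc, this, ← mul_assoc, ← Units.val_mul, inv_mul_cancel, Units.val_one, one_mul]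
  let F : alternatingGroup (Fin 4) →* Matrix (Fin 2) (Fin 2) (ZMod (2 ^ k)) :=
    (Units.coeHom _).comp ((MulAut.conj g⁻¹).toMonoidHom.comp f)
  have hFapp : ∀ y, F y = ((g⁻¹ * f y * g : GL (Fin 2) (ZMod (2 ^ k))) : Matrix _ _ _) := by
    intro y; simp [F]
  have hF : Function.Injective F := by
    intro x y hxy
    rw [hFapp, hFapp] at hxy
    have := Units.ext hxy
    exact hf (by simpa using this)
  have hFr : F r' = !![0, -1; 1, -1] := by rw [hFapp]; exact hg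
  have hsub : ∀ y, F y ∈ stdSet k := by
    intro y
    obtain ⟨i, a1, a2, a3, a4, a5⟩ := hall y y.2
    obtain ⟨s, t, hv⟩ := v_form hk (F (r' ^ (3 - (i : ℕ)) * y))
      (by rw [← map_pow, show (r' ^ (3 - (i : ℕ)) * y) ^ 2 = 1 from Subtype.ext a1, map_one])
      (by rw [← hFr, ← map_mul, ← map_pow, show (r' ^ (3 - (i : ℕ)) * y * r') ^ 3 = 1 from Subtype.ext a2, map_one])
      (by rw [← hFr, ← map_mul, ← map_one F]; intro h; exact a3 (congrArg Subtype.val (hF h)))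
      (by rw [← hFr, ← map_pow, ← map_mul, ← map_pow, show (r' ^ (3 - (i : ℕ)) * y * r' ^ 2) ^ 3 = 1 from Subtype.ext a4, map_one])
      (by rw [← hFr, ← map_pow, ← map_mul, ← map_one F]; intro h; exact a5 (congrArg Subtype.val (hF h)))
    unfold stdSet
    refine Finset.mem_image.mpr ⟨(i, s, t), Finset.mem_univ _, ?_⟩
    simp only
    rw [← hv, ← hFr, ← map_pow, ← map_mul, ← mul_assoc, ← pow_add, show (i : ℕ) + (3 - i) = 3 by omega,
      show r' ^ 3 = 1 from Subtype.ext hr3, one_mul]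
  have heq : (Finset.univ.image F) = stdSet k := by
    apply Finset.eq_of_subset_of_card_le
    · intro x hx
      obtain ⟨y, -, rfl⟩ := Finset.mem_image.mp hx
      exact hsub y
    · rw [Finset.card_image_of_injective _ hF, Finset.card_univ]
      refine (card_stdSet k).trans (le_of_eq ?_)
      rw [← Nat.card_eq_fintype_card, alternatingGroup.card_of_card_eq_four (by simp)]
  refine ⟨g, fun x => ⟨fun hx => ?_, fun hx => ?_⟩⟩
  · have := hsub (e ⟨x, hx⟩)
    rw [hFapp] at this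
    simpa [f] using this
  · rw [← heq] at hx
    obtain ⟨y, -, hy⟩ := Finset.mem_image.mp hx
    rw [hFapp] at hy
    have h2 : f y = x := by simpa using Units.ext hy
    rw [← h2]
    exact (e.symm y).2


/-- For k ≥ 2, any two subgroups of GL₂(ℤ/2ᵏℤ) (the automorphism group of the homocyclic group ℤ/2ᵏ × ℤ/2ᵏ) that are isomorphic to the alternating group of degree 4 are conjugate. -/
theorem result (k : ℕ) (hk : 2 ≤ k) (H₁ H₂ : Subgroup (GL (Fin 2) (ZMod (2 ^ k)))) (h₁ : Nonempty (↥H₁ ≃* ↥(alternatingGroup (Fin 4)))) (h₂ : Nonempty (↥H₂ ≃* ↥(alternatingGroup (Fin 4)))) : ∃ g : GL (Fin 2) (ZMod (2 ^ k)), H₂ = H₁.map (MulAut.conj g).toMonoidHom := by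
  obtain ⟨g₁, hg₁⟩ := conj_std (by omega) H₁ h₁
  obtain ⟨g₂, hg₂⟩ := conj_std (by omega) H₂ h₂
  refine ⟨g₂ * g₁⁻¹, ?_⟩
  ext x
  rw [Subgroup.mem_map_equiv, hg₂, hg₁]
  have : g₁⁻¹ * (MulAut.conj (g₂ * g₁⁻¹)).symm x * g₁ = g₂⁻¹ * x * g₂ := by
    rw [MulAut.conj_symm_apply]; group
  rw [this]

end Cfsg.Agent.S2874
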