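import Cfsg.Statements.S2879
import Mathlib
import Cfsg.Agent.H4.Cyc2
import Cfsg.Agent.H5.HH
import Cfsg.Agent.H16.SmallAut
import Cfsg.Agent.H1.Chain

set_option autoImplicit false
open Cfsg

namespace Cfsg.Agent.S2879

/-- Let G be a finite solvable group with O(G) = 1 whose Sylow 2-subgroup T is dihedral of order at least 8 or semidihedral, with G ≠ T and Z(T) normal in G. Then G has a normal subgroup isomorphic to SL₂(3). -/
theorem result {G : Type*} [Group G] [Finite G] (hsol : IsSolvable G) (hO : Cfsg.oddCore G = ⊥) (T : Sylow 2 G) (hT : (∃ n : ℕ, 4 ≤ n ∧ Nonempty (↥(T : Subgroup G) ≃* DihedralGroup n)) ∨ Cfsg.IsQuasiDihedral ↥(T : Subgroup G)) (hne : (T : Subgroup G) ≠ ⊤) (hZ : ((T : Subgroup G) ⊓ Subgroup.centralizer ((T : Subgroup G) : Set G)).Normal) : ∃ U : Subgroup G, U.Normal ∧ Nonempty (↥U ≃* Matrix.SpecialLinearGroup (Fin 2) (ZMod 3)) := by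
  open Subgroup Cfsg.Agent.H22 Cfsg.Agent.H4 in
  obtain ⟨a, b, m, hm⟩ : ∃ a b m, H3.MC (T : Subgroup G) a b m := by
    rcases hT with ⟨n, hn, ⟨e⟩⟩ | h
    · obtain ⟨a, b, m, -, h⟩ := H3.exists_mcd_of_iso' (FT.pGrp_of_isPGroup Nat.prime_two T.isPGroup') (by omega) e
      exact ⟨a, b, m, h.toMC⟩
    · obtain ⟨a, b, m, h⟩ := H3.exists_mcs h
      exact ⟨a, b, m, h.toMC⟩
  have hC := H5b.centralizer_pCore_le (H1.isPSolvable_of_isSolvable Nat.prime_two hsol) hO
  set R := pCore 2 G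
  have hR : IsPGroup 2 R := pgrp_pCore
  obtain ⟨g, ho, hg⟩ : ∃ g : G, (orderOf g).Coprime 2 ∧ g ≠ 1 := by
    by_contra h
    push Not at h
    exact hne ((H18.sylIn_top T).eq_of_isPGroup (pgrp_of_forall_coprime fun x _ => h x))
  have key : ∀ x : G, (orderOf x).Coprime 2 → x ∈ C[R] → x = 1 := fun x h1 h2 =>
    eq_one_of_pgrp_of_coprime hR (hC h2) h1
  obtain ⟨u, h1, h2, -, ht⟩ := cyc2' T.isPGroup' (a := a) hm.relIndex.dvd (pCore_le_sylow T)
    (mem_N_of_normal g _) ho fun h => hg (key g ho h)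
  have hz : a ^ 2 ^ (m - 1) ∈ center G := by
    rw [hm.center] at hZ
    refine mem_center_iff.2 fun x => ?_
    rcases hm.mem_z_iff.1 (hZ.conj_mem _ (mem_zpowers _) x) with h | h
    · exact absurd (conj_eq_one_iff.1 h) hm.z_ne
    · exact mul_inv_eq_iff_eq_mul.1 h
  have hu : u ^ 2 ≠ 1 := fun e => hm.z_ne (ht.fix ho e (hC (center_le_centralizer _ hz))
    (by rw [mem_center_iff.1 hz g]; group))
  have h3 : g ^ 3 = 1 := key _ (ho.of_dvd_left (orderOf_pow_dvd 3)) ht.cube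
  obtain ⟨e⟩ := ht.sl23 h3 hu
  refine ⟨R ⊔ zpowers g, ?_, ⟨e⟩⟩
  have hq := ht.mcq hu
  obtain ⟨e2⟩ := hq.iso
  obtain ⟨e3⟩ := H16.nonempty_autQ8
  have c1 : Nat.card (MulAut R) = 24 := by
    rw [Nat.card_congr ((MulAut.congr e2).trans e3).toEquiv, Nat.card_eq_fintype_card, Fintype.card_perm]
    rfl
  have c2 : Nat.card C[R] = 2 := by rw [← hq.card_center, inf_eq_right.2 hC]
  have c3 : (MulAut.conjNormal : G →* MulAut R).ker = C[R] := by
    ext x
    rw [MonoidHom.mem_ker, mem_C]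
    refine ⟨fun h y hy => ?_, fun h => MulEquiv.ext fun y => Subtype.ext ?_⟩
    · have := congrArg Subtype.val (DFunLike.congr_fun h ⟨y, hy⟩)
      rw [MulAut.conjNormal_apply] at this
      exact (mul_inv_eq_iff_eq_mul.1 this).symm
    · rw [MulAut.conjNormal_apply, ← h y y.2]; simp
  have c4 : C[R].index ∣ 24 := by
    rw [← c3, index_ker, ← c1]; exact card_subgroup_dvd_card _
  have c5 := (R ⊔ zpowers g).card_mul_index
  rw [Nat.card_congr e.toEquiv, H16.card_sl23, ← C[R].card_mul_index, c2] at c5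
  have c6 := Nat.le_of_dvd (by norm_num) c4
  have c7 : (R ⊔ zpowers g).index ≠ 0 := index_ne_zero_of_finite
  by_cases c8 : (R ⊔ zpowers g).index = 1
  · rw [index_eq_one.1 c8]; infer_instance
  · exact normal_of_index_eq_two (by omega)

end Cfsg.Agent.S2879
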