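import Cfsg.Statements.S2881
import Mathlib
import Cfsg.Agent.H3.Extra2
import Cfsg.Agent.H3.Aut

set_option autoImplicit false
open Cfsg

namespace Cfsg.Agent.S2881

/-- Let E be an extraspecial 2-group of order 2^(2m+1) of plus type (containing an elementary abelian subgroup of order 2^(m+1)), and let ω be an automorphism of E of order 5 whose fixed points are exactly the centre of E. Then m is divisible by 4. -/
theorem result {E : Type*} [Group E] [Finite E] (m : ℕ) (hm : 1 ≤ m) (hE : Cfsg.IsExtraspecial 2 E) (hcard : Nat.card E = 2 ^ (2 * m + 1)) (hplus : ∃ A : Subgroup E, Cfsg.IsElementaryAbelian 2 A ∧ Nat.card A = 2 ^ (m + 1)) (ω : E ≃* E) (hω : orderOf ω = 5) (hfix : ∀ x : E, ω x = x ↔ x ∈ Subgroup.center E) : 4 ∣ m := by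
  open Subgroup Cfsg.Agent.FT Cfsg.Agent.H3 in
  open scoped commutatorElement in
  · obtain ⟨z, h1, -⟩ := exists_xs_top hE
    obtain ⟨A, h2, h3⟩ := hplus
    have hc := card_top'.trans hcard
    have h4 := h1.pos_of_abelem hc le_top h2 h3
    have h5 := h1.nsq_eq hc
    have h6 := h1.card_four
    rw [hcard, pow_succ] at h6
    have h7 : Nat.card {x : E // orderOf x = 4} = 2 ^ m * (2 ^ m - 1) := by
      rw [Nat.mul_sub_one, ← pow_add, ← two_mul]; omega
    have h8 : 5 ∣ Nat.card {x : E // orderOf x = 4} := by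
      classical
      haveI := Fintype.ofFinite {x : E // orderOf x = 4}
      haveI : Fact (Nat.Prime 5) := ⟨by norm_num⟩
      by_contra hn
      rw [Nat.card_eq_fintype_card] at hn
      obtain ⟨x, hx⟩ := Equiv.Perm.exists_fixed_point_of_prime (n := 1) hn
        (σ := Equiv.Perm.subtypePerm (MulAut.toPerm E ω) fun x => by rw [← orderOf_injective ω.toMonoidHom ω.injective x]; rfl) (by
          rw [Equiv.Perm.subtypePerm_pow]
          ext x
          simp only [Equiv.Perm.subtypePerm_apply, ← map_pow, pow_one, ← hω, pow_orderOf_eq_one, map_one, Equiv.Perm.one_apply])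
      have h9 : x.1 ∈ ⟪z⟫ := h1.center ▸ center_top' (G := E) ▸ (hfix x).1 (congrArg Subtype.val hx)
      exact absurd (x.2 ▸ orderOf_dvd_of_pow_eq_one (h1.pow_of_mem h9) : 4 ∣ 2) (by norm_num)
    have h9 := Nat.Coprime.dvd_of_dvd_mul_left (Nat.Coprime.pow_right m (by norm_num)) (h7 ▸ h8)
    have h10 : 2 ^ (4 * (m / 4)) % 5 = 1 := by rw [pow_mul, Nat.pow_mod]; simp
    rw [← Nat.div_add_mod m 4, pow_add] at h9
    have : m % 4 < 4 := Nat.mod_lt _ (by norm_num)
    interval_cases h : m % 4 <;> omega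

end Cfsg.Agent.S2881
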