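import Cfsg.Statements.S2882
import Cfsg.Agent.L1.Fix

set_option autoImplicit false
open Cfsg

namespace Cfsg.Agent.S2882

open Cfsg.Agent.H14 MulAction
open scoped Pointwise

/-- `P2` as a Sylow subgroup. -/
noncomputable def sylP2 : Sylow 2 M24 := Sylow.ofCard P2.K (by
  rw [P2.card_eq, card_M24, show 244823040 = 2 ^ 10 * 239085 by norm_num,
    Nat.factorization_mul (by norm_num) (by norm_num), Nat.Prime.factorization_pow Nat.prime_two,
    Finsupp.add_apply, Finsupp.single_eq_same, Nat.factorization_eq_zero_of_not_dvd (by norm_num)]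
  rfl)

theorem norm_P2 : Subgroup.normalizer (P2.K : Set M24) ≤ P2.K := fun n hn => by
  have h1 := G24.smul_eq_of_norm P2 mC compat_mC isCW_o0 (fuel := 760) (by decide +kernel)
    (n := n) trivial hn
  obtain ⟨L, hL⟩ : ∃ L, SOs.uniqChk P2 (cjL L) z0 16 = true :=
    ⟨[0xb9e086be3593a6952d94b10a618820, 0xb99b28523343aaa4b16f258a718820,
    0xba91094e346b9e63d8955b0a918820, 0xb926faa22da3a0b6255231cb618820,
    0xbc0ea332364b892451ebaccad18820, 0xbd6cb22627638cfa224a834b318820,
    0xba1474922b3398d85676a3cb218820, 0xbae957b6289ba44b1cd0524ac18820,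
    0xbb4c93ae2453ac893e8c9d4b018820, 0xbb1f3a4232ab916218ed4a8ab18820,
    0xbd17661a2a23933ac1a7448af18820, 0xba64d4562f83a87312d362caa18820,
    0xbbd8459e29b39559b606920b418820, 0xbcc8cb2a265b8f47c9096c0b518820,
    0xbc92655a2c3b9706cea47d0a818820], by decide +kernel⟩
  have h2 := SOs.smul_eq_of_norm P2 _ (compat_cjL L) ok_z0 hL h1 hn
  have h3 : n ∈ C2A.K := by rw [C2A_K, ← Cj.stabilizer_mk]; exact h2
  have h4 := C2A.smul_eq_of_norm P2 mT compat_mT V_T1 (fuel := 8) (by decide +kernel) h3 hn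
  exact ⟨⟨h3, h4⟩, C2AT.smul_eq_of_norm P2 mX compat_mX V_X0 (fuel := 4) (by decide +kernel)
    ⟨h3, h4⟩ hn⟩

/-- In the Mathieu group of degree 24 (realised as the automorphism group of the extended binary Golay code) every Sylow 2-subgroup is self-normalizing. -/
theorem result (S : Sylow 2 ↥Cfsg.M24) : Subgroup.normalizer ((S : Subgroup ↥Cfsg.M24) : Set ↥Cfsg.M24) = (S : Subgroup ↥Cfsg.M24) := by
  obtain ⟨g, rfl⟩ := exists_smul_eq M24 sylP2 S
  refine le_antisymm (fun x hx => ?_) Subgroup.le_normalizer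
  have h := Sylow.smul_eq_iff_mem_normalizer.mpr hx
  rw [← mul_smul, ← inv_smul_eq_iff, ← mul_smul] at h
  have : _ ∈ (sylP2 : Subgroup M24) := norm_P2 (Sylow.smul_eq_iff_mem_normalizer.mp h)
  rw [Sylow.coe_subgroup_smul, Subgroup.mem_pointwise_smul_iff_inv_smul_mem]
  simpa [mul_assoc] using this

end Cfsg.Agent.S2882
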