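import Cfsg.Statements.S4231
import Mathlib
import Cfsg.Agent.H10.Sym3

set_option autoImplicit false
open Cfsg

namespace Cfsg.Agent.S4231

open Equiv Equiv.Perm

theorem type3 {g : Perm (Fin 6)} (h : orderOf g = 3) : g.cycleType = {3} ∨ g.cycleType = {3, 3} := by
  obtain ⟨k, hk⟩ := cycleType_prime_order (σ := g) (by rw [h]; norm_num)
  rw [h] at hk
  have hs := g.sum_cycleType_le
  rw [hk, Multiset.sum_replicate, Fintype.card_fin, smul_eq_mul] at hs
  have : k = 0 ∨ k = 1 := by omega
  rcases this with rfl | rfl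
  · left; rw [hk]; rfl
  · right; rw [hk]; rfl

theorem sq_three (α : MulAut (alternatingGroup (Fin 6))) :
    ∃ c : alternatingGroup (Fin 6), c.1.IsThreeCycle ∧
      ((α c).1.IsThreeCycle ∨ ((α ^ 2) c).1.IsThreeCycle) := by
  classical
  by_contra hcon
  push Not at hcon
  set T : Finset (alternatingGroup (Fin 6)) := {g | g.val.cycleType = {3}} with hT
  set T' : Finset (alternatingGroup (Fin 6)) := {g | g.val.cycleType = {3, 3}} with hT'
  have c1 : T.card = 40 := by
    rw [hT, AlternatingGroup.card_of_cycleType]; decide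
  have c2 : T'.card = 40 := by
    rw [hT', AlternatingGroup.card_of_cycleType]; decide
  have ho : ∀ (β : MulAut (alternatingGroup (Fin 6))) (c : alternatingGroup (Fin 6)),
      c.1.IsThreeCycle → orderOf (β c).1 = 3 := by
    intro β c hc
    rw [Subgroup.orderOf_coe, MulEquiv.orderOf_eq, ← Subgroup.orderOf_coe, hc.orderOf]
  have hsub : T.image α ⊆ T' := by
    intro d hd
    obtain ⟨c, hc, rfl⟩ := Finset.mem_image.1 hd
    have hc3 : c.1.IsThreeCycle := by simpa [hT, IsThreeCycle] using hc
    simp only [hT', Finset.mem_filter, Finset.mem_univ, true_and]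
    exact (type3 (ho α c hc3)).resolve_left (hcon c hc3).1
  have heq : T.image α = T' := Finset.eq_of_subset_of_card_le hsub
    (by rw [Finset.card_image_of_injective _ α.injective, c1, c2])
  obtain ⟨c, hc⟩ : T.Nonempty := by rw [← Finset.card_pos, c1]; norm_num
  have hc3 : c.1.IsThreeCycle := by simpa [hT, IsThreeCycle] using hc
  have h2 : (α ^ 2) c ∈ T' := by
    simp only [hT', Finset.mem_filter, Finset.mem_univ, true_and]
    exact (type3 (ho _ c hc3)).resolve_left (hcon c hc3).2
  rw [← heq] at h2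
  obtain ⟨d, hd, hd2⟩ := Finset.mem_image.1 h2
  have hd3 : d.1.IsThreeCycle := by simpa [hT, IsThreeCycle] using hd
  rw [pow_two, MulAut.mul_apply] at hd2
  have := α.injective hd2
  exact (hcon c hc3).1 (this ▸ hd3)

theorem mem_range {n : ℕ} (hn : 5 ≤ n) (α : MulAut (alternatingGroup (Fin n))) (ho : Odd (orderOf α)) :
    α ∈ (MulAut.conjNormal : Perm (Fin n) →* MulAut (alternatingGroup (Fin n))).range := by
  have key : ∀ β : MulAut (alternatingGroup (Fin n)),
      (Fintype.card (Fin n) ≠ 6 ∨ ∃ c : alternatingGroup (Fin n), c.1.IsThreeCycle ∧ (β c).1.IsThreeCycle) →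
      β ∈ (MulAut.conjNormal : Perm (Fin n) →* MulAut (alternatingGroup (Fin n))).range := by
    intro β hβ
    obtain ⟨σ, hσ⟩ := H10.alt_aut_conj (by rw [Fintype.card_fin]; omega) β hβ
    refine ⟨σ, ?_⟩
    ext g : 2
    rw [hσ, MulAut.conjNormal_apply]
  by_cases h6 : n = 6
  · subst h6
    obtain ⟨c, hc, h | h⟩ := sq_three α
    · exact key α (Or.inr ⟨c, hc, h⟩)
    · have h2 := key _ (Or.inr ⟨c, hc, h⟩)
      obtain ⟨k, hk⟩ := ho
      have : α = (α ^ 2) ^ (k + 1) := by
        rw [← pow_mul, show 2 * (k + 1) = orderOf α + 1 by omega, pow_succ, pow_orderOf_eq_one, one_mul]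
      rw [this]; exact pow_mem h2 _
  · exact key α (Or.inl (by rwa [Fintype.card_fin]))

theorem main (n : ℕ) (hn : 5 ≤ n) (G : Subgroup (MulAut (alternatingGroup (Fin n))))
    (hG : (MulAut.conj : alternatingGroup (Fin n) →* MulAut (alternatingGroup (Fin n))).range ≤ G)
    (p q : ℕ) [hp : Fact p.Prime] [hq : Fact q.Prime] (hpq : p < q) (h : ∀ g : G, orderOf g ≠ p * q)
    (Q : Sylow q G) : IsMulCommutative (Q : Subgroup G) := by
  have hp2 := hp.out.two_le
  have hqodd : Odd q := hq.out.odd_of_ne_two (by omega)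
  have hinj : Function.Injective
      (MulAut.conj : alternatingGroup (Fin n) →* MulAut (alternatingGroup (Fin n))) := by
    rw [injective_iff_map_eq_one]
    intro a ha
    have : a ∈ Subgroup.center (alternatingGroup (Fin n)) := by
      rw [Subgroup.mem_center_iff]
      intro g
      have := congrArg (fun β : MulAut (alternatingGroup (Fin n)) => β g) ha
      simp only [MulAut.conj_apply, MulAut.one_apply] at this
      exact (mul_inv_eq_iff_eq_mul.1 this).symm
    rwa [alternatingGroup.center_eq_bot (by simp; omega), Subgroup.mem_bot] at this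
  have hno : ∀ m : Multiset ℕ, m.sum ≤ n → (∀ a ∈ m, 2 ≤ a) → Even (m.sum + m.card) →
      m.lcm ≠ p * q := by
    intro m h1 h2 h3 h4
    obtain ⟨g, hg⟩ := (exists_with_cycleType_iff (Fin n)).2 ⟨by rwa [Fintype.card_fin], h2⟩
    have hA : g ∈ alternatingGroup (Fin n) := by
      rw [mem_alternatingGroup, sign_of_cycleType, hg, h3.neg_one_pow]
    apply h ⟨MulAut.conj ⟨g, hA⟩, hG ⟨_, rfl⟩⟩
    rw [Subgroup.orderOf_mk, orderOf_injective _ hinj, Subgroup.orderOf_mk, ← lcm_cycleType, hg, h4]
  have hcop : p.Coprime q := (Nat.coprime_primes hp.out hq.out).2 hpq.ne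
  have hlt : n < 3 * q := by
    by_contra hle
    push Not at hle
    by_cases h2 : p = 2
    · subst h2
      refine hno {2, 2, q} (by simp; omega) (by simp; omega) ?_ ?_
      · obtain ⟨k, hk⟩ := hqodd
        exact ⟨k + 4, by simp; omega⟩
      · simp only [Multiset.insert_eq_cons, Multiset.lcm_cons, Multiset.lcm_singleton, normalize_eq,
          lcm_eq_nat_lcm]
        rw [← Nat.lcm_assoc, Nat.lcm_self, hcop.lcm_eq_mul]
    · obtain ⟨l, hl⟩ := hp.out.odd_of_ne_two h2
      refine hno {p, q} (by simp; omega) (by simp; omega) ?_ ?_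
      · obtain ⟨k, hk⟩ := hqodd
        exact ⟨k + l + 2, by simp; omega⟩
      · simp only [Multiset.insert_eq_cons, Multiset.lcm_cons, Multiset.lcm_singleton, normalize_eq,
          lcm_eq_nat_lcm]
        rw [hcop.lcm_eq_mul]
  set φ : Perm (Fin n) →* MulAut (alternatingGroup (Fin n)) := MulAut.conjNormal with hφ
  have hle : (Q : Subgroup G).map G.subtype ≤ φ.range := by
    rintro _ ⟨g, hg, rfl⟩
    apply mem_range hn
    obtain ⟨k, hk⟩ := (IsPGroup.iff_orderOf.1 Q.isPGroup') ⟨g, hg⟩
    rw [Subgroup.orderOf_mk] at hk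
    rw [Subgroup.coe_subtype, Subgroup.orderOf_coe, hk]
    exact hqodd.pow
  have hd : Nat.card (Q : Subgroup G) ∣ n.factorial := by
    rw [← Subgroup.card_map_of_injective G.subtype_injective]
    refine (Subgroup.card_dvd_of_le hle).trans ?_
    have := Subgroup.card_range_dvd φ
    rwa [Nat.card_perm, Nat.card_fin] at this
  obtain ⟨k, hk⟩ := IsPGroup.iff_card.1 Q.isPGroup'
  have hk2 : k ≤ 2 := by
    rw [hk] at hd
    have h3 : 3 ≤ q := by omega
    rw [hq.out.pow_dvd_factorial_iff (b := 2) (Nat.log_lt_of_lt_pow (by omega) (by nlinarith))] at hd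
    simp only [Nat.Ico_succ_singleton, Finset.sum_singleton, pow_one] at hd
    have : n / q < 3 := Nat.div_lt_of_lt_mul (by omega)
    omega
  interval_cases k
  · have : IsCyclic (Q : Subgroup G) := by
      haveI := (Nat.card_eq_one_iff_unique.1 (hk.trans (pow_zero q))).1
      exact isCyclic_of_subsingleton
    infer_instance
  · have : IsCyclic (Q : Subgroup G) := isCyclic_of_prime_card (by simpa using hk)
    infer_instance
  · exact IsPGroup.isMulCommutative_of_card_eq_prime_sq hk

/-- Let n ≥ 5 and let G be a group of automorphisms of the alternating group of degree n containing all inner automorphisms. If p ≠ q are primes and G has no element of order pq, then every Sylow p-subgroup of G is abelian or every Sylow q-subgroup of G is abelian. -/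
theorem result (n : ℕ) (hn : 5 ≤ n) (G : Subgroup (MulAut (alternatingGroup (Fin n))))
    (hG : (MulAut.conj : alternatingGroup (Fin n) →* MulAut (alternatingGroup (Fin n))).range ≤ G)
    (p q : ℕ) [Fact p.Prime] [Fact q.Prime] (hpq : p ≠ q) (h : ∀ g : G, orderOf g ≠ p * q) :
    (∀ P : Sylow p G, IsMulCommutative (P : Subgroup G)) ∨ (∀ Q : Sylow q G, IsMulCommutative (Q : Subgroup G)) := by
  rcases lt_or_gt_of_ne hpq with h1 | h1
  · exact Or.inr (main n hn G hG p q h1 h)
  · exact Or.inl (main n hn G hG q p h1 (by rwa [mul_comm]))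

end Cfsg.Agent.S4231
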