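import Cfsg.Statements.S2930
import Mathlib
import Cfsg.Agent.H27.Min3
import Cfsg.Agent.S4231
import Cfsg.Agent.H2.Components

set_option autoImplicit false
open Cfsg

namespace Cfsg.Agent.S2930

open Cfsg.Agent Cfsg.Agent.FT Subgroup

/-- Let X be a finite 3-minimal group (a Sylow 3-subgroup is not normal and lies in a unique maximal subgroup) whose generalized Fitting subgroup is isomorphic to an alternating group of degree n ≥ 5. Then X = F*(X), and n = 6, n = 9, or n = 3ᵃ + 1 for some a ≥ 2. -/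
theorem result {X : Type*} [Group X] [Finite X] (hX : Cfsg.IsPMinimal 3 X) (n : ℕ) (hn : 5 ≤ n) (hF : Nonempty (↥(Cfsg.generalizedFittingSubgroup X) ≃* ↥(alternatingGroup (Fin n)))) : Cfsg.generalizedFittingSubgroup X = ⊤ ∧ (n = 6 ∨ n = 9 ∨ ∃ a : ℕ, 2 ≤ a ∧ n = 3 ^ a + 1) := by
  haveI : Fact (Nat.Prime 3) := ⟨by norm_num⟩
  obtain ⟨e⟩ := hF
  have hp := H27.M3.pm_of hX
  have := H2.generalizedFitting_normal X
  have hc := H2.centralizer_generalizedFitting_le (G := X)
  set K := generalizedFittingSubgroup X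
  have hK : K = ⊤ := by
    obtain ⟨S⟩ : Nonempty (Sylow 3 X) := inferInstance
    have hS : (S : Subgroup X) ≤ K := fun x hx => by
      obtain ⟨k, hk⟩ := (IsPGroup.iff_orderOf.1 S.isPGroup') ⟨x, hx⟩
      rw [← Subgroup.orderOf_coe] at hk
      have ho : Odd (orderOf x) := hk ▸ Odd.pow (by decide)
      obtain ⟨σ, hσ⟩ := S4231.mem_range hn (MulAut.congr e (MulAut.conjNormal x))
        (ho.of_dvd_nat ((orderOf_map_dvd (MulAut.congr e).toMonoidHom _).trans (orderOf_map_dvd _ _)))
      have h2 : σ ^ 2 ∈ alternatingGroup (Fin n) := by simp [Equiv.Perm.mem_alternatingGroup]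
      have h3 : x ^ 2 ∈ K := by
        have h4 : (e.symm ⟨_, h2⟩ : X)⁻¹ * x ^ 2 ∈ centralizer (K : Set X) := fun y hy => by
          have h5 := congrArg (fun α : MulAut (alternatingGroup (Fin n)) => (e.symm ((α ^ 2) (e ⟨y, hy⟩)) : X)) hσ
          simp only [← map_pow] at h5
          have h6 : MulAut.conjNormal (σ ^ 2) (e ⟨y, hy⟩) = ⟨_, h2⟩ * e ⟨y, hy⟩ * ⟨_, h2⟩⁻¹ := rfl
          rw [h6] at h5
          simp only [map_mul, map_inv, MulEquiv.symm_apply_apply, MulAut.congr_apply, MulEquiv.trans_apply,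
            coe_mul, coe_inv, MulAut.conjNormal_apply] at h5
          generalize (e.symm ⟨_, h2⟩ : X) = u at h5
          calc y * (u⁻¹ * x ^ 2) = u⁻¹ * (u * y * u⁻¹) * x ^ 2 := by group
            _ = _ := by rw [h5]; group
        exact (mul_mem_cancel_left (inv_mem (e.symm ⟨_, h2⟩).2)).1 (hc h4)
      obtain ⟨m, hm⟩ := ho
      rw [show x = (x ^ 2) ^ (m + 1) by
        rw [← pow_mul, show 2 * (m + 1) = orderOf x + 1 by omega, pow_succ, pow_orderOf_eq_one, one_mul]]
      exact pow_mem h3 _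
    by_contra h
    exact hp S _ K S.not_dvd_index le_normalizer hS (fun h' => (hX S).1 (normalizer_eq_top_iff.1 h')) h
      (S.normalizer_sup_eq_top' hS)
  exact ⟨hK, H27.M3.main hn (hp.equiv ((topEquiv.symm.trans (MulEquiv.subgroupCongr hK.symm)).trans e))⟩

end Cfsg.Agent.S2930
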