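import Cfsg.Statements.S2934
import Mathlib
import Cfsg.Agent.H16.UniqInv
import Cfsg.Agent.H3.Extra
import Cfsg.Agent.H1.FitH

set_option autoImplicit false
open Cfsg

namespace Cfsg.Agent.S2934

open Cfsg.Agent.FT Subgroup SemidirectProduct
open scoped commutatorElement

set_option maxHeartbeats 400000 in
theorem core {G : Type*} [Group G] [Finite G] {W E : Subgroup G} (hW : PGrp 2 W) (hE : PiGrp {2}ᶜ E) (ab : Ab E)
    (nc : ¬ Cyc E) (hn : E ≤ N(W)) (hf : E ⊓ C(W) = ⊥)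
    (hu : ∀ e ∈ E, e ≠ 1 → ∀ s ∈ W ⊓ C[e], ∀ t ∈ W ⊓ C[e], orderOf s = 2 → orderOf t = 2 → s = t) :
    #E = 9 ∧ (∃ z, H3.XS 2 W z) ∧ ¬ Ab W ∧ (#W = 2 ^ 5 ∨ #W = 2 ^ 7 ∨ #W = 2 ^ 9) ∧ W ⊓ C(E) = Z(W) := by
  classical
  have hc := hW.cop hE
  have od : ∀ g ∈ E, (orderOf g).Coprime 2 := fun g hg =>
    ((p'grp_iff_coprime Nat.prime_two).1 hE).coprime_dvd_left (orderOf_dvd_card' hg)
  have nX : ∀ e ∈ E, E ≤ N(W ⊓ C[e]) := fun e he => normsI hn (norms_of_le (ab.le_cen1 he))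
  have q8 : ∀ e ∈ E, e ≠ 1 → ∀ X, X ≤ W ⊓ C[e] → E ≤ N(X) → ¬ E ≤ C(X) → ∃ a b, H3.MC X a b 2 := fun e he e1 X h1 h2 h3 => by
    obtain ⟨g, hg, n⟩ := SetLike.not_le_iff_exists.1 h3
    obtain ⟨f⟩ := H16.q8_of_not_centralizes ((pGrp_iff Nat.prime_two).1 (hW.mono (h1.trans inf_le_left)))
      (fun s hs t ht => hu e he e1 s (h1 hs) t (h1 ht)) (h2 hg) (od g hg) n
    obtain ⟨a, b, h⟩ := H3.exists_mcq_of_q8 f
    exact ⟨a, b, h.toMC⟩
  have nab : ∀ U, U ≤ W → E ≤ N(U) → Ab U → U ≤ C(E) := fun U h1 h2 h3 =>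
    coprime_abelian_gen_cent1 ab nc h2 (hc.mono_left h1) fun e he e1 => centsC (by_contra fun c => by
      obtain ⟨a, b, h⟩ := q8 e he e1 _ (inf_le_inf_right _ h1) (normsI h2 (norms_of_le (ab.le_cen1 he))) c
      exact h.not_ab (h3.mono inf_le_left))
  have fa : ∀ B, B ≤ E → W ≤ C(B) → Cyc B := fun B h1 h2 => by
    rw [eq_bot_of_le (le_inf h1 (centsC h2)) hf]
    exact cyc_bot
  have nW : ¬ W ≤ C(E) := fun c => nc (fa E le_rfl c)
  have aE : Abelem 3 E := abelem_iff.2 ⟨ab, fun g hg => mem_bot.1 (hf.le ⟨pow_mem hg 3, centsC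
    (coprime_abelian_gen_cent1 (L := C(⟪g ^ 3⟫)) ab nc hn hc fun e he e1 => centsC (zpowers_le.2
      (H16.pow_three_mem_centralizer ((pGrp_iff Nat.prime_two).1 (hW.mono inf_le_left)) (hu e he e1) (nX e he hg) (od g hg))))
      (mem_zpowers _)⟩)⟩
  have DX : ∀ e ∈ E, W ⊓ C(E) ≤ W ⊓ C[e] := fun e he => inf_le_inf_left _ (centsC (le_cen_iff_forall.1 (le_refl C(E)) e he |>
    fun h => centsC (h.trans (cen_zpowers e).ge)) |>.trans (cen_zpowers e).le)
  have dz : ∀ e ∈ E, e ≠ 1 → ¬ E ≤ C(W ⊓ C[e]) → #(W ⊓ C[e]) = 8 ∧ W ⊓ C(E) = Z(W ⊓ C[e]) ∧ #(W ⊓ C(E)) = 2 :=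
    fun e he e1 c => by
    obtain ⟨a, b, h⟩ := q8 e he e1 _ le_rfl (nX e he) c
    have l : Z(W ⊓ C[e]) ≤ W ⊓ C(E) := le_inf (inf_le_left.trans inf_le_left)
      (nab _ (inf_le_left.trans inf_le_left) (norms_center (nX e he)) (ab_center _))
    have m := card_mul_relIndex (DX e he)
    have r1 := one_lt_relIndex (A := W ⊓ C(E)) (B := W ⊓ C[e]) fun d => c (centsC (d.trans inf_le_right))
    have r2 : (W ⊓ C(E)).relIndex (W ⊓ C[e]) ≠ 2 := fun r => c (coprime_cents_of_comm_cents (nX e he)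
      (hc.mono_left inf_le_left) ((commC _ _).le.trans (commutator_le.2 fun g hg x hx => by
        have n := norms_subcent hn (le_nrm E) hg
        exact ((H3.mul_mem_iff_of_relIndex_two r (conj_mem (nX e he hg) hx) (inv_mem hx)).2
          ⟨fun h => inv_mem (by simpa [mul_assoc] using conj_mem' n h), fun h => conj_mem n (inv_mem_iff.1 h)⟩).2)))
    have c8 := h.card
    have := eq_of_card_le l (by
      rw [h.card_center]
      by_contra! d
      have := Nat.mul_le_mul d (Nat.lt_of_le_of_ne r1 r2.symm)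
      omega)
    exact ⟨c8, this.symm, this ▸ h.card_center⟩
  obtain ⟨e0, he0, e01, n0⟩ := coprime_abelian_exists_cent1 ab nc hn hc nW
  have c2 := (dz e0 he0 e01 fun c => n0 (centsC c)).2.2
  have DZ : W ⊓ C(E) = Z(W) := le_antisymm (le_inf inf_le_left (centsC (coprime_abelian_gen_cent1 ab nc hn hc fun e he e1 => by
    by_cases c : E ≤ C(W ⊓ C[e])
    · exact (le_inf inf_le_left (centsC c)).trans (cyc_of_prime (c2 ▸ Nat.prime_two)).ab.le_cen
    · rw [(dz e he e1 c).2.1]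
      exact le_cen_center le_rfl))) (le_inf inf_le_left (nab _ inf_le_left (norms_center hn) (ab_center W)))
  rw [DZ] at c2
  obtain ⟨z, hz⟩ := cyc_iff.1 (cyc_of_prime (c2 ▸ Nat.prime_two : (#Z(W)).Prime))
  have sq : ∀ g ∈ Z(W), g ^ 2 = 1 := fun g hg => c2 ▸ pow_card hg
  have PZ : Phi W ≤ Z(W) := by_contra fun c => by
    obtain ⟨u, hu, n, h⟩ := hW.nil.exists_comm_mem (Phi_nml W) c
    have cP : ∀ u ∈ ucn 2 W, Phi W ≤ C[u] := fun u hu => by
      have cz : ∀ x ∈ W, ⁅u, x⁆ ∈ Z(W) := fun x hx => ucn_two_comm W (commutator_mem_commutator hu hx)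
      have m : ∀ x ∈ W, ∀ y ∈ W, ⁅u, x * y⁆ = ⁅u, x⁆ * ⁅u, y⁆ := fun x hx y hy => by
        calc _ = ⁅u, x⁆ * (x * ⁅u, y⁆) * x⁻¹ := by simp only [commutatorElement_def]; group
          _ = _ := by rw [mem_cen.1 (cz y hy).2 x hx]; group
      have l : ⁅⟪u⟫, W⁆ ≤ C(W) := ((commSS (zpowers_le.2 hu) le_rfl).trans (ucn_two_comm W)).trans inf_le_right
      have t : ⁅⁅W, W⁆, ⟪u⟫⁆ = ⊥ := three_subgroup (comm_eq_bot.2 ((commC _ _).le.trans l)) (comm_eq_bot.2 l)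
      refine (hW.Phi_le_iff Nat.prime_two).2 ⟨(comm_eq_bot.1 t).trans (cen_zpowers u).le, fun x hx => ?_⟩
      have : ⁅u, x ^ 2⁆ = 1 := by rw [pow_two, m x hx x hx, ← pow_two, sq _ (cz x hx)]
      exact mem_cen1.2 (commutatorElement_eq_one_iff_mul_comm.1 this).symm
    have a : Ab (Phi W ⊓ ucn 2 W) := ab_iff_forall.2 fun x hx y hy => mem_cen1.1 (cP y hy.2 hx.1)
    have u2 : u ∈ ucn (1 + 1) W := mem_ucn_succ.2 ⟨Phi_le W hu, fun y hy => (ucn_one W).ge (h y hy).1⟩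
    exact n (DZ.le ⟨Phi_le W hu, nab _ (inf_le_left.trans (Phi_le W)) (normsI (norms_Phi hn) (norms_ucn 2 hn)) a ⟨hu, u2⟩⟩)
  have dZ := hW.der_le_Phi.trans PZ
  have xs : H3.XS 2 W z := ⟨⟨Nat.prime_two, by rw [← card_zpowers', ← hz, c2], (hz.ge (mem_zpowers z)).1,
    (hz.ge (mem_zpowers z)).2, fun x hx y hy => hz.le (dZ (commutator_mem_commutator hx hy))⟩, hz⟩
  have naW : ¬ Ab W := fun c => nW (nab W le_rfl hn c)
  have e9 : #E = 9 := Nat.dvd_antisymm (by_contra fun c => nW (coprime_abelem_gen_cent Nat.prime_three aE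
      (ne_bot_of_mem he0 e01) hn hc fun B hB r => by_contra fun d => by
    have ncB : ¬ Cyc B := fun h => c (by
      rw [← card_mul_relIndex hB, r]
      exact Nat.mul_dvd_mul_right ((aE.mono hB).card_dvd_of_cyc h) 3)
    refine ncB (fa B hB (coprime_abelian_gen_cent1 (ab.mono hB) ncB (hB.trans hn) (hc.mono_right hB) fun e he e1 => ?_))
    have l : W ⊓ C(B) ≤ W ⊓ C[e] := inf_le_inf_left _ (le_cen_iff_forall.1 le_rfl e he)
    obtain ⟨a, b, h⟩ := q8 e (hB he) e1 _ l (norms_subcent hn (ab.norms hB)) fun f => d (centsC f)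
    rw [← eq_of_card_le l (by
      rw [h.card, (dz e (hB he) e1 fun f => d (l.trans (centsC f))).1]; rfl)]
    exact inf_le_right)) (aE.sq_dvd_card Nat.prime_three nc)
  refine ⟨e9, ⟨z, xs⟩, naW, ?_, DZ⟩
  obtain ⟨r, r1, hr⟩ := xs.card' naW
  have r2 : r ≠ 1 := fun c => nc (by
    have := eq_of_card_le (inf_le_left : W ⊓ C[e0] ≤ W) (by rw [hr, c, (dz e0 he0 e01 fun c => n0 (centsC c)).1]; rfl)
    exact absurd (mem_bot.1 (hf.le ⟨he0, centsC (this.ge.trans (inf_le_right.trans (cen_zpowers e0).ge)) (mem_zpowers e0)⟩)) e01)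
  have bd : ∀ U, Z(W) ≤ U → U ≤ W → ∀ e ∈ E, e ≠ 1 → #(U ⊔ W ⊓ C[e]) ≤ 4 * #U := fun U h1 h2 e he e1 => by
    have a := card_sup_mul_card_inf (A := U) (B := W ⊓ C[e]) (inf_le_left.trans (nml_of_der_le (dZ.trans h1) h2).nrm)
    have b := card_le (le_inf h1 (DZ ▸ DX e he))
    have c : #(W ⊓ C[e]) ≤ 8 := by
      by_cases c : E ≤ C(W ⊓ C[e])
      · exact (card_le (le_inf inf_le_left (centsC c))).trans (by rw [DZ, c2]; norm_num)
      · exact (dz e he e1 c).1.le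
    nlinarith
  have : #W ≤ 2 ^ 9 := by
    obtain ⟨b, hb, nb⟩ := SetLike.not_le_iff_exists.1 fun c : E ≤ ⟪e0⟫ => nc ((cyc_zpowers e0).mono c)
    have b1 : b ≠ 1 := fun c => nb (c ▸ one_mem _)
    have eE : ⟪e0⟫ ⊔ ⟪b⟫ = E := eq_of_card_eq (sup_le (zpowers_le.2 he0) (zpowers_le.2 hb)) (by
      rw [card_sup_of_inf (cents_norm (ab.cents (zpowers_le.2 he0) (zpowers_le.2 hb))) (by
        rw [inf_comm]
        exact prime_inf_of_not_le (aE.card_zpowers Nat.prime_three hb b1 ▸ Nat.prime_three) fun c => nb (zpowers_le.1 c)),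
        aE.card_zpowers Nat.prime_three hb b1, aE.card_zpowers Nat.prime_three he0 e01, e9])
    have tr : ∀ a ∈ E, ∀ x ∈ ⟪a⟫, x = 1 ∨ x = a ∨ x = a⁻¹ := fun a ha x hx => by
      obtain ⟨n, rfl⟩ := mem_powers_iff_mem_zpowers.2 hx
      have a3 := aE.pow ha
      simp only [pow_eq_pow_mod n a3]
      obtain h | h | h : n % 3 = 0 ∨ n % 3 = 1 ∨ n % 3 = 2 := by omega
      · simp [h]
      · simp [h]
      · exact .inr (.inr (by rw [h, eq_inv_iff_mul_eq_one, ← pow_succ, a3]))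
    have cm := ab.comm he0 hb
    have l : W ≤ Z(W) ⊔ W ⊓ C[e0] ⊔ W ⊓ C[b] ⊔ W ⊓ C[e0 * b] ⊔ W ⊓ C[e0 * b⁻¹] :=
      coprime_abelian_gen_cent1 ab nc hn hc fun e he e1 => by
        obtain ⟨x, hx, y, hy, rfl⟩ := (mem_sup_norm (cents_norm (ab.cents (zpowers_le.2 he0) (zpowers_le.2 hb)))).1 (eE.ge he)
        have i1 : e0⁻¹ * b = (e0 * b⁻¹)⁻¹ := by rw [mul_inv_rev, inv_inv, (show Commute e0 b from cm).inv_left.eq]
        have i2 : e0⁻¹ * b⁻¹ = (e0 * b)⁻¹ := by rw [cm, mul_inv_rev]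
        have k : ∀ L, W ⊓ C[e0] ≤ L → W ⊓ C[b] ≤ L → W ⊓ C[e0 * b] ≤ L → W ⊓ C[e0 * b⁻¹] ≤ L → W ⊓ C[x * y] ≤ L :=
          fun L k1 k2 k3 k4 => by
          rcases tr _ he0 x hx with h | h | h <;> rcases tr _ hb y hy with h' | h' | h' <;>
            simp only [h, h', i1, i2, cen1_inv, one_mul, mul_one, ne_eq, not_true_eq_false, k1, k2, k3, k4] at e1 ⊢
        exact k _ (le_sup_of_le_left (le_sup_of_le_left (le_sup_of_le_left le_sup_right)))
          (le_sup_of_le_left (le_sup_of_le_left le_sup_right)) (le_sup_of_le_left le_sup_right) le_sup_right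
    have w1 : Z(W) ⊔ W ⊓ C[e0] ≤ W := sup_le inf_le_left inf_le_left
    have w2 := sup_le w1 (inf_le_left : W ⊓ C[b] ≤ W)
    have w3 := sup_le w2 (inf_le_left : W ⊓ C[e0 * b] ≤ W)
    have := bd _ le_rfl inf_le_left e0 he0 e01
    have := bd _ le_sup_left w1 b hb b1
    have := bd _ (le_sup_of_le_left le_sup_left) w2 _ (mul_mem he0 hb) fun c => nb (by
      rw [eq_inv_of_mul_eq_one_right c]; exact inv_mem (mem_zpowers e0))
    have := bd _ (le_sup_of_le_left (le_sup_of_le_left le_sup_left)) w3 _ (mul_mem he0 (inv_mem hb)) fun c => nb (by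
      rw [← mul_inv_eq_one.1 c]; exact mem_zpowers e0)
    have := card_le l
    omega
  rw [hr] at this ⊢
  have := (Nat.pow_le_pow_iff_right one_lt_two).1 this
  obtain rfl | rfl | rfl : r = 2 ∨ r = 3 ∨ r = 4 := by omega
  all_goals simp

/-- Let p be an odd prime, W a finite 2-group and E a non-cyclic abelian p-subgroup of Aut(W) such that, for every nontrivial e ∈ E, the fixed points of e in W contain at most one involution. Then E has order 9, W is extraspecial of order 2⁵, 2⁷ or 2⁹, and the common fixed points of E in W form exactly the centre Z(W). -/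
theorem result {W : Type*} [Group W] [Finite W] (hW : IsPGroup 2 W) {p : ℕ} [Fact p.Prime] (hp : p ≠ 2) (E : Subgroup (MulAut W)) (hE : IsPGroup p ↥E) (hab : IsMulCommutative ↥E) (hnc : ¬ IsCyclic ↥E) (hfix : ∀ e ∈ E, e ≠ 1 → ∀ x y : W, orderOf x = 2 → orderOf y = 2 → e x = x → e y = y → x = y) : Nat.card ↥E = 9 ∧ Cfsg.IsExtraspecial 2 W ∧ (Nat.card W = 2 ^ 5 ∨ Nat.card W = 2 ^ 7 ∨ Nat.card W = 2 ^ 9) ∧ {x : W | ∀ e ∈ E, e x = x} = (Subgroup.center W : Set W) := by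
  let φ := MonoidHom.id (MulAut W)
  have := H1.sd_finite φ
  have hι : Function.Injective (inl : W →* W ⋊[φ] MulAut W) := inl_injective
  have pp : p.Prime := Fact.out
  obtain ⟨h1, ⟨z, h2⟩, h3, h4, h5⟩ := core (G := W ⋊[φ] MulAut W) (W := map inl ⊤) (E := map inr E)
    ((H3.pGrp_top hW).map _) ((((pGrp_iff pp).2 hE).sub fun q hq c => hp (hq.symm.trans c)).map _) (Ab.map _ hab)
    (fun c => hnc (Cyc.of_equiv c (E.equivMapOfInjective _ inr_injective).symm)) (H1.sd_norms φ _)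
    (eq_bot_iff.2 fun _ ⟨⟨e, _, h⟩, c⟩ => by
      rw [← h, show e = 1 from MulEquiv.ext fun x => (H1.sd_comm φ).1 (h ▸ mem_cen.1 c _ ⟨x, trivial, rfl⟩).symm, map_one]
      exact one_mem _)
    (by
      rintro _ ⟨e, he, rfl⟩ e1 _ ⟨⟨s, -, rfl⟩, hs⟩ _ ⟨⟨t, -, rfl⟩, ht⟩ h1 h2
      rw [orderOf_injective _ hι] at h1 h2
      rw [hfix e he (fun c => e1 (by rw [c, map_one])) s t h1 h2 ((H1.sd_comm φ).1 (mem_cen1.1 hs).symm)
        ((H1.sd_comm φ).1 (mem_cen1.1 ht).symm)])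
  obtain ⟨z, -, rfl⟩ := h2.mem
  rw [H1.sd_cardL, card_top'] at h4
  refine ⟨(H1.sd_cardR φ E).symm.trans h1, (h2.of_map hι).isExtraspecial_top fun c => h3 (c.map _), h4, ?_⟩
  rw [H1.sd_cen φ E ⟨⟨⟨{x : W | ∀ e ∈ E, e x = x}, fun ha hb e he => by rw [map_mul, ha e he, hb e he]⟩, fun e _ => map_one e⟩,
    fun ha e he => by rw [map_inv, ha e he]⟩ fun _ => Iff.rfl, ← map_subcent_inj hι, H3.center_top'] at h5
  exact congrArg SetLike.coe (map_injective hι h5)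

end Cfsg.Agent.S2934
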