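import Cfsg.Statements.S2963
import Mathlib
import Cfsg.Agent.S2245

set_option autoImplicit false
open Cfsg

namespace Cfsg.Agent.S2963



/-- Let n be odd. If the symmetric group of degree n is a minimal parabolic group for the prime 2, that is, a Sylow 2-subgroup is not normal and lies in exactly one maximal subgroup, then n = 2^m + 1 for some natural number m. -/
theorem result (n : ℕ) (hn : Odd n) (h : Cfsg.IsPMinimal 2 (Equiv.Perm (Fin n))) : ∃ m : ℕ, n = 2 ^ m + 1 := by
  obtain ⟨S⟩ : Nonempty (Sylow 2 (Equiv.Perm (Fin n))) := inferInstance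
  by_cases h5 : 5 ≤ n
  · obtain ⟨k, -, hk⟩ := ((S2245.result n h5 (by rintro rfl; exact absurd hn (by decide))).2 S).1 (h S).2
    exact ⟨k, hk⟩
  · obtain ⟨k, rfl⟩ := hn
    obtain rfl | rfl : k = 0 ∨ k = 1 := by omega
    · refine absurd ?_ (h S).1
      haveI : Subsingleton (Equiv.Perm (Fin (2 * 0 + 1))) := inferInstanceAs (Subsingleton (Equiv.Perm (Fin 1)))
      exact ⟨fun a ha g => by rwa [Subsingleton.elim (g * a * g⁻¹) a]⟩
    · exact ⟨1, rfl⟩

end Cfsg.Agent.S2963
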