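import Cfsg.Statements.S2968
import Mathlib
import Cfsg.Agent.H4.Iso

set_option autoImplicit false
open Cfsg

namespace Cfsg.Agent.S2968

/-- Let G be a finite group, p a prime, P a Sylow p-subgroup of G and x ∈ P an element of p-power order which is isolated in G (the only conjugate of x commuting with x is x itself). Then x lies in the centre of P, and the subgroup generated by x is both strongly closed and weakly closed in P with respect to G. -/
theorem result {G : Type*} [Group G] [Finite G] {p : ℕ} [Fact p.Prime] (P : Sylow p G) (x : G) (hxP : x ∈ (P : Subgroup G)) (hx : ∃ k : ℕ, orderOf x = p ^ k) (hiso : Cfsg.IsIsolated x) : x ∈ (P : Subgroup G) ⊓ Subgroup.centralizer ((P : Subgroup G) : Set G) ∧ Cfsg.IsStronglyClosed (Subgroup.zpowers x) (P : Subgroup G) ∧ Cfsg.IsWeaklyClosed (Subgroup.zpowers x) (P : Subgroup G) := by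
  open Subgroup Cfsg.Agent.H18 Cfsg.Agent.H22 Cfsg.Agent.H4 in
  refine ⟨⟨hxP, mem_C.2 fun y hy => mem_centralizer_singleton_iff.1 (iso_le_C hiso P.isPGroup' hxP hy)⟩,
    ⟨zpowers_le.2 hxP, fun y hy g hg => ?_⟩, zpowers_le.2 hxP, fun g hg => ?_⟩
  · rwa [iso_pow_eq hiso P.isPGroup' hxP hy hg]
  · rw [cj_def, cj_zpowers] at hg ⊢
    rw [iso_eq hiso P.isPGroup' hxP (hg (mem_zpowers _))]

end Cfsg.Agent.S2968
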