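import Cfsg.Statements.S2971
import Mathlib
import Cfsg.Agent.H4.Iso

set_option autoImplicit false
open Cfsg

namespace Cfsg.Agent.S2971

/-- Let G be a finite group and p an odd prime such that G has p-rank at most 1 (no elementary abelian subgroup of order p²). If x ∈ G is an isolated element of order p, then x is central modulo the largest normal subgroup of G of order prime to p. -/
theorem result {G : Type*} [Group G] [Finite G] {p : ℕ} [Fact p.Prime] (hp : p ≠ 2) (hrk : Cfsg.PRankLE p 1 G) (x : G) (hx : orderOf x = p) (hiso : Cfsg.IsIsolated x) : Cfsg.InZStar p x := by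
  open Subgroup Cfsg.Agent.H18 Cfsg.Agent.H22 Cfsg.Agent.H4 in
  have h1 : IsPGroup p (zpowers x) := isPGroup_zpowers_of_orderOf (k := 1) (by rw [hx, pow_one])
  obtain ⟨P, hP⟩ := h1.exists_le_sylow
  have hc : IsCyclic (P : Subgroup G) :=
    (H3.isCyclic_iff_pRankLE_one P.isPGroup' hp).2 (H3.pRankLE_subgroup hrk _)
  have hne : x ≠ 1 := by
    rintro rfl
    exact (Fact.out : p.Prime).one_lt.ne (by simpa using hx)
  have h2 := iso_hasNPC hiso hne P (hP (mem_zpowers x)) hc
  have h3 := commutator_le_pResidual_of_abelian_sylow P inferInstance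
  intro g
  exact H2.le_pPrimeCore (hasNPC_iff_pResidual.1 h2)
    (h3 (commutator_mem_commutator (mem_top g) (mem_top x)))

end Cfsg.Agent.S2971
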