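import Cfsg.Statements.S2972
import Mathlib
import Cfsg.Agent.H4.Iso

set_option autoImplicit false
open Cfsg

namespace Cfsg.Agent.S2972

/-- Let G be a finite group, p a prime and x ∈ G an isolated element of order p (the only conjugate of x commuting with x is x) which is not central modulo the largest normal subgroup of order prime to p, while x is central modulo the largest normal subgroup of order prime to p in every proper subgroup containing x, and the image of x is so in every quotient of G by a nontrivial normal subgroup (a minimal counterexample to the Z*_p statement). Then the derived subgroup G' is a non-abelian simple group and G = G'⟨x⟩. -/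
theorem result {G : Type*} [Group G] [Finite G] {p : ℕ} [Fact p.Prime] (x : G) (hx : orderOf x = p) (hiso : Cfsg.IsIsolated x) (hnz : ¬ Cfsg.InZStar p x) (hmin : ∀ (H : Subgroup G) (hxH : x ∈ H), H ≠ ⊤ → Cfsg.InZStar p (⟨x, hxH⟩ : ↥H)) (hquot : ∀ (N : Subgroup G) [N.Normal], N ≠ ⊥ → Cfsg.InZStar p (QuotientGroup.mk x : G ⧸ N)) : IsSimpleGroup ↥(commutator G) ∧ ¬ IsMulCommutative ↥(commutator G) ∧ commutator G ⊔ Subgroup.zpowers x = ⊤ := by
  open Subgroup Cfsg.Agent.H18 Cfsg.Agent.H22 Cfsg.Agent.H4 in
  have h : ZMin p x :=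
    ⟨isPGroup_zpowers_of_orderOf (k := 1) (by rw [hx, pow_one]), hiso, hnz, hmin, hquot⟩
  have hD : _root_.commutator G ≠ ⊥ := fun e =>
    h.not_center (by rw [(commutator_eq_bot_iff_center_eq_top G).1 e]; exact mem_top x)
  have hle : ∀ (K : Subgroup G) [K.Normal], K ≠ ⊥ → _root_.commutator G ≤ K := by
    intro K _ hK
    haveI := H3.isCyclic_quotient_of_sup_zpowers K (h.sup_eq hK)
    exact Normal.quotient_commutative_iff_commutator_le.1 inferInstance
  have hs := h.sup_eq hD
  obtain ⟨S, hS, hxS⟩ := exists_sylIn_ge h.pg le_top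
  have hSx : S ≤ centralizer {x} := iso_le_C hiso hS.isP (hxS (mem_zpowers x))
  have key : ∀ M : Subgroup G, M ≤ _root_.commutator G → _root_.commutator G ≤ N[M] → M ≠ ⊥ →
      _root_.commutator G ≤ M := by
    intro M h1 h2 h3
    have hsn : M.IsSubnormal := by
      have := (sn_of_N h1 h2).trans (sn_of_N le_top (le_N_of_normal ⊤ _))
      exact H2.subnormalIn_top.1 this
    have h4 : S ⊓ M ≠ ⊥ := by
      refine syl_ne_bot (syl_inf_sn hS (sn_top hsn)) ?_
      by_contra hd
      exact h3 (h.eq_bot hsn (coprime_card_iff_not_dvd.2 hd))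
    have h5 : (ncl (_root_.commutator G) (S ⊓ M)).Normal := by
      refine normal_of_top_le_N (hs.ge.trans (sup_le (le_N_ncl _ _) (le_N_ncl' (le_N_of_normal _ _) ?_)))
      refine le_trans ?_ (C_le_N _)
      rw [le_centralizer_iff, C_zpowers]
      exact inf_le_left.trans hSx
    exact (hle _ fun e => h4 (le_bot_iff.1 ((le_ncl _ _).trans e.le))).trans (ncl_le h2 inf_le_right)
  refine ⟨?_, fun hab => ?_, hs⟩
  · haveI := (nontrivial_iff_ne_bot _).2 hD
    refine ⟨fun M hM => ?_⟩
    by_cases h1 : M = ⊥
    · exact Or.inl h1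
    · right
      have := key (M.map (Subgroup.subtype _)) (map_subtype_le M) (le_N_map_subtype M)
        (by rwa [Ne, map_eq_bot_iff_of_injective _ (subtype_injective _)])
      rw [← map_subtype_subgroupOf M, subgroupOf_eq_top]
      exact this
  · have h4 : S ⊓ _root_.commutator G ≠ ⊥ := by
      refine syl_ne_bot hS.inf_normal ?_
      by_contra hd
      exact hD (h.eq_bot (Normal.isSubnormal inferInstance) (coprime_card_iff_not_dvd.2 hd))
    refine h4 (le_bot_iff.1 (le_trans ?_ h.center_eq.le))
    rw [← C_top, ← hs, C_sup, C_zpowers]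
    exact le_inf (inf_le_right.trans (le_centralizer_self_of_comm hab)) (inf_le_left.trans hSx)

end Cfsg.Agent.S2972
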