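import Cfsg.Statements.S2975
import Mathlib
import Cfsg.Agent.H4.Iso

set_option autoImplicit false
open Cfsg

namespace Cfsg.Agent.S2975

/-- Let G be a finite group, p a prime and x ∈ G an isolated element of order p (the only conjugate of x commuting with x is x) which is not central modulo the largest normal subgroup of order prime to p, while x is central modulo the largest normal subgroup of order prime to p in every proper subgroup containing x, and the image of x is so in every quotient of G by a nontrivial normal subgroup (a minimal counterexample to the Z*_p statement). Then for every prime q, every q-subgroup of G that is normalized by x and maximal among the q-subgroups normalized by x is either trivial or a Sylow q-subgroup of G; and C_G(x) permutes the x-invariant Sylow q-subgroups of G transitively by conjugation. -/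
theorem result {G : Type*} [Group G] [Finite G] {p : ℕ} [Fact p.Prime] (x : G) (hx : orderOf x = p) (hiso : Cfsg.IsIsolated x) (hnz : ¬ Cfsg.InZStar p x) (hmin : ∀ (H : Subgroup G) (hxH : x ∈ H), H ≠ ⊤ → Cfsg.InZStar p (⟨x, hxH⟩ : ↥H)) (hquot : ∀ (N : Subgroup G) [N.Normal], N ≠ ⊥ → Cfsg.InZStar p (QuotientGroup.mk x : G ⧸ N)) (q : ℕ) [Fact q.Prime] : (∀ Q : Subgroup G, IsPGroup q ↥Q → x ∈ Subgroup.normalizer (Q : Set G) → (∀ R : Subgroup G, IsPGroup q ↥R → x ∈ Subgroup.normalizer (R : Set G) → Q ≤ R → R = Q) → Q = ⊥ ∨ ∃ S : Sylow q G, (S : Subgroup G) = Q) ∧ (∀ S₁ S₂ : Sylow q G, x ∈ Subgroup.normalizer ((S₁ : Subgroup G) : Set G) → x ∈ Subgroup.normalizer ((S₂ : Subgroup G) : Set G) → ∃ c ∈ Subgroup.centralizer ({x} : Set G), (S₁ : Subgroup G).map (MulAut.conj c).toMonoidHom = (S₂ : Subgroup G)) := by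
  open Subgroup Cfsg.Agent.H18 Cfsg.Agent.H22 Cfsg.Agent.H4 in
  have h : ZMin p x :=
    ⟨isPGroup_zpowers_of_orderOf (k := 1) (by rw [hx, pow_one]), hiso, hnz, hmin, hquot⟩
  refine ⟨fun Q hQ hN hmax => ?_, fun S₁ S₂ h1 h2 => ?_⟩
  · by_cases hne : Q = ⊥
    · exact Or.inl hne
    right
    by_cases hq : q = p
    · subst hq
      obtain ⟨S, hS⟩ := (pgrp_sup h.pg hQ (zpowers_le.2 hN)).exists_le_sylow
      exact ⟨S, hmax S S.isPGroup' (le_normalizer (hS (mem_sup_left (mem_zpowers x))))
        (le_sup_right.trans hS)⟩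
    have hH : N[Q] ≠ ⊤ := fun e =>
      hne (h.eq_bot (normal_of_top_le_N e.ge).isSubnormal (H2.coprime_of_isPGroup_of_ne hq hQ))
    obtain ⟨U, hU, hQU⟩ := exists_sylIn_ge hQ (le_normalizer (H := Q))
    set O := (pPrimeCore p N[Q]).map (N[Q]).subtype with hO
    have hON : N[Q] ≤ N[O] := H2.le_normalizer_pPrimeCore _
    have hc : (Nat.card ↥(U ⊔ O)).Coprime p := by
      refine Nat.Coprime.coprime_dvd_left ⟨_, (card_sup_mul_of_le_N (hU.le.trans hON)).symm⟩ ?_
      exact Nat.Coprime.mul_left (H2.coprime_of_isPGroup_of_ne hq hU.isP)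
        (H2.pPrimeCore_map_subtype_mem _)
    have hle : U ⊔ O ≤ N[Q] := sup_le hU.le (map_subtype_le _)
    have hxN : zpowers x ≤ N[U ⊔ O] := by
      refine zpowers_le.2 (mem_N_of_comm_mem fun r hr => mem_sup_right ?_)
      have := O.inv_mem (inZStar_sub hN (hmin _ hN hH) (hle hr))
      simpa [commutatorElement_def, mul_assoc] using this
    obtain ⟨R, hR, h1, h2⟩ := exists_inv_syl_ge h.pg hxN hc (hQU.trans le_sup_left) hQ
      (zpowers_le.2 hN)
    have e := hmax R hR.isP (h2 (mem_zpowers x)) h1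
    subst e
    have h3 : SylIn q R N[R] :=
      hU.of_card_le le_normalizer hQ (hR.card_le le_sup_left hU.isP)
    exact (sylIn_of_inf_N le_top (by rwa [top_inf_eq])).exists_sylow_top
  · obtain ⟨g, -, e⟩ := syl_exists_cj_eq (sylIn_top S₁) (sylIn_top S₂)
    have h3 : g * x * g⁻¹ ∈ N[(S₂ : Subgroup G)] := by
      rw [← e, ← cj_N]; exact conj_mem_cj h1
    obtain ⟨k, hk, h4⟩ := iso_fus hiso h.pg h2 h3
    exact ⟨_, h4, by rw [cj_def, cj_mul, e, cj_eq_of_mem_N hk]⟩

end Cfsg.Agent.S2975
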