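import Cfsg.Statements.S2976
import Mathlib
import Cfsg.Agent.H29.Sz3
import Cfsg.Agent.H13.SzMult
import Cfsg.Agent.H2.Components
import Cfsg.Agent.H5.HS1

set_option autoImplicit false
open Cfsg

namespace Cfsg.Agent.S2976

open Subgroup Cfsg.Agent.H29 Cfsg.Agent.H13 Cfsg.Agent.H2
open scoped Pointwise commutatorElement

theorem mem_norm {G : Type*} [Group G] [Finite G] {K : Subgroup G} (hK : IsComponent K) {y : G} (hy : y ^ 3 = 1)
    (hsol : Group.IsSolvable (centralizer ({y} : Set G))) : y ∈ normalizer (K : Set G) := by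
  rcases component_eq_or_commutator_eq_bot hK (isComponent_smul hK y) with h | h
  · exact conjAct_pointwise_smul_iff.1 h.symm
  let c := MulAut.conj y
  have h3 (a : G) : c (c (c a)) = a := by
    rw [← MulAut.mul_apply, ← MulAut.mul_apply, ← map_mul, ← map_mul, ← pow_three', hy, map_one, MulAut.one_apply]
  have h0 (a b : K) : Commute (a : G) (c b) := commutatorElement_eq_one_iff_commute.1 (mem_bot.1
    (h.le (commutator_mem_commutator a.2 (smul_mem_pointwise_smul _ _ _ b.2))))
  have h1 (a b : K) : Commute (c a) (c (c b)) := (h0 a b).map c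
  have h2 (a b : K) : Commute (c (c a)) b := h3 b ▸ (h1 a b).map c
  let f : K →* centralizer ({y} : Set G) := MonoidHom.mk' (fun a => ⟨a * c a * c (c a), by
    rw [mem_centralizer_singleton_iff, eq_comm, ← mul_inv_eq_iff_eq_mul, ← MulAut.conj_apply, map_mul, map_mul, h3,
      ← ((h0 a a).mul_right (h2 a a).symm).eq, mul_assoc]⟩) fun a b => Subtype.ext (by
    simp only [coe_mul, map_mul, mul_assoc]
    rw [(h0 b a).left_comm, (h2 a b).left_comm, (h1 b a).left_comm])
  haveI : Group.IsSolvable (center K) := Group.isSolvable_of_comm fun a b =>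
    Subtype.ext (mem_center_iff.1 b.2 a)
  refine absurd (Group.isSolvable_of_ker_le_range (center K).subtype f fun a ha => ?_) (isQuasisimple_not_isSolvable hK.2)
  rw [range_subtype, mem_center_iff]
  intro b
  have h4 : (a : G) * c a * c (c a) = 1 := congrArg Subtype.val ha
  rw [mul_assoc, mul_eq_one_iff_eq_inv] at h4
  exact Subtype.ext (show Commute (b : G) a from h4 ▸ ((h0 b a).mul_right (h2 a b).symm).inv_right)

theorem main {G : Type*} [Group G] [Finite G] (K : Subgroup G) (hK : Cfsg.IsComponent K) (h3 : ¬ 3 ∣ Nat.card ↥K) (y : G) (hy : orderOf y = 3) (hsol : Group.IsSolvable ↥(Subgroup.centralizer ({y} : Set G))) (T : Lie.IsoSuzuki (K ⧸ center K)) : (∃ (F : Type) (_ : Field F) (_ : Fintype F), Fintype.card F = 8 ∧ Nonempty (↥K ⧸ Subgroup.center ↥K ≃* ↥(Cfsg.Lie.Sz F 4))) ∧ y ∈ Subgroup.normalizer (K : Set G) ∧ (Cfsg.pCore 2 G = ⊥ → IsSimpleGroup ↥K) := by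
  obtain ⟨F, _, _, m, hm, hF, ⟨e⟩⟩ := T
  let S := (szDataB hm (Nat.card_eq_fintype_card.trans hF)).ofEquiv e
  have h0 := hy ▸ pow_orderOf_eq_one y
  have h1 := mem_norm hK h0 hsol
  have hk : (QuotientGroup.mk' (center K)).ker ≤ center K := (QuotientGroup.ker_mk' _).le
  refine ⟨?_, h1, fun h => isSimpleGroup_of_isQuasisimple hK.2 ?_⟩
  · let β := K.normalizerMonoidHom ⟨y, h1⟩
    let α : MulAut (K ⧸ center K) := QuotientGroup.congr _ _ β (characteristic_iff_map_eq.1 inferInstance β)
    have h2 : orderOf α ∣ 3 := orderOf_dvd_of_pow_eq_one (MulEquiv.ext fun x => by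
      obtain ⟨x, rfl⟩ := QuotientGroup.mk_surjective x
      have : β ^ 3 = 1 := by rw [← map_pow]; exact (congrArg _ (Subtype.ext h0)).trans (map_one _)
      exact congrArg QuotientGroup.mk (DFunLike.congr_fun this x))
    rw [order_eq_of_sol S ((Nat.prime_three.coprime_iff_not_dvd.2 S.not_three_dvd_card).coprime_dvd_left h2)
      fun P hP => ?_] at h2
    · obtain rfl : m = 1 := by have := Nat.le_of_dvd three_pos h2; change 2 * m + 1 ≤ 3 at this; omega
      exact ⟨F, _, _, hF, ⟨e⟩⟩
    let Q := P.comap (QuotientGroup.mk' (center K))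
    have h4 : ⁅Q, Q⁆ ≤ (centralizer {y}).subgroupOf K := commutator_le.2 fun a ha b hb => by
      have := (map_commutatorElement β a b).trans (commutatorElement_eq_of_ker_le hk (hP _ ha) (hP _ hb))
      exact mem_centralizer_singleton_iff.2 (mul_inv_eq_iff_eq_mul.1 (congrArg Subtype.val this)).symm
    haveI : Group.IsSolvable (commutator Q) := Group.isSolvable_of_isSolvable_injective
      (f := (K.subtype.comp (Q.subtype.comp (commutator Q).subtype)).codRestrict (centralizer {y}) fun a =>
        h4 (map_subtype_commutator Q ▸ mem_map_of_mem _ a.2)) fun a b e =>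
        Subtype.ext (Subtype.ext (Subtype.ext (congrArg (fun x : centralizer {y} => (x : G)) e)))
    haveI : Group.IsSolvable Q := Group.isSolvable_of_ker_le_range (commutator Q).subtype Abelianization.of (by simp)
    exact Group.isSolvable_of_surjective (MonoidHom.subgroupComap_surjective_of_surjective _ P
      (QuotientGroup.mk'_surjective _))
  rw [← QuotientGroup.ker_mk' (center K)]
  refine ker_eq_bot_of_forall_prime ⟨QuotientGroup.mk'_surjective _, hk, hK.2.1.1.ge.trans' le_top⟩ fun p hp => ?_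
  haveI := Fact.mk hp
  by_cases h2 : p = 2
  · subst h2
    refine ⟨⊤, by simp, fun a ha _ e => mem_bot.1 ((pCore_eq_bot_of_isSubnormal hK.1 h).le
      (le_pCore (N := zpowers a) (hN := ⟨fun n hn g => by
        rwa [mem_center_iff.1 (zpowers_le.2 (hk ha) hn), mul_inv_cancel_right]⟩) (fun x => ⟨1, orderOf_dvd_iff_pow_eq_one.1
        ((orderOf_dvd_natCard x).trans (Nat.card_zpowers a ▸ orderOf_dvd_of_pow_eq_one e))⟩) (mem_zpowers a)))⟩
  · obtain ⟨P⟩ : Nonempty (Sylow p (K ⧸ center K)) := inferInstance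
    refine ⟨P, P.not_dvd_index, fun a _ h _ => ?_⟩
    rwa [commutator_comap_eq_bot_of_isCyclic hk (S.isCyclic_of_isPGroup h2 P.isPGroup'), mem_bot] at h

/-- Let G be a finite group, K a component of G whose order is not divisible by 3, and y ∈ G an element of order 3 whose centralizer C_G(y) is solvable. Then K ⧸ Z(K) is isomorphic to the Suzuki group over the field with 8 elements and y normalizes K. If moreover O₂(G) = 1, then K is simple. -/
theorem result {G : Type*} [Group G] [Finite G] (K : Subgroup G) (hK : Cfsg.IsComponent K) (h3 : ¬ 3 ∣ Nat.card ↥K) (y : G) (hy : orderOf y = 3) (hsol : Group.IsSolvable ↥(Subgroup.centralizer ({y} : Set G))) : (∃ (F : Type) (_ : Field F) (_ : Fintype F), Fintype.card F = 8 ∧ Nonempty (↥K ⧸ Subgroup.center ↥K ≃* ↥(Cfsg.Lie.Sz F 4))) ∧ y ∈ Subgroup.normalizer (K : Set G) ∧ (Cfsg.pCore 2 G = ⊥ → IsSimpleGroup ↥K) := by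
  haveI := hK.2.2
  exact main K hK h3 y hy hsol (H5c.three'_sz (fun c => H2.isQuasisimple_not_isSolvable hK.2 (by
    haveI : Group.IsSolvable (Subgroup.center K) := Group.isSolvable_of_comm fun a b =>
      Subtype.ext (Subgroup.mem_center_iff.1 b.2 a)
    exact (Group.isSolvable_iff_subgroup_quotient _).2 ⟨this, Group.isSolvable_of_comm c.is_comm.comm⟩))
    fun e => h3 (e.trans (Subgroup.card_quotient_dvd_card _)))

end Cfsg.Agent.S2976
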