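import Cfsg.Statements.S3038
import Cfsg.Agent.H24.Rk2
import Cfsg.Agent.S3049
import Cfsg.Agent.S2968
import Cfsg.Agent.S2969
-- import your own Cfsg.Agent.* helpers here

set_option autoImplicit false
open Cfsg

namespace Cfsg.Agent.S3038

open Subgroup Cfsg.Agent.FT Cfsg.Agent.H3 Cfsg.Agent.H18 Cfsg.Agent.Rk2
open scoped commutatorElement

theorem main {G : Type*} [Group G] [Finite G] {p : ℕ} [hp : Fact p.Prime] {P : Subgroup G} {x : G} (h : Ctx p P x) :
    (IsExtraspecial p P ∧ #P = p ^ 3 ∧ ∀ y ∈ P, y ^ p = 1) ∨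
      (p = 3 ∧ ∃ k : ℕ, 2 ≤ k ∧ #P = 3 ^ (2 * k + 1) ∧ ∃ _ : Group.IsNilpotent P, Group.nilpotencyClass P = 2 * k) := by
  obtain ⟨n, hn⟩ := h.pi.card
  have hr : PRankLE p 2 P := (prank_le_iff h.prime).1 (prank_le_iff_forall.2 fun m A hA =>
    (Nat.pow_le_pow_iff_right h.prime.one_lt).1 (hA.card ▸ h.rk A hA.le hA.abelem))
  have clo : ∀ a b c : P, closure ({a, b, c} : Set P) = ⊤ → closure ({(a : G)⁻¹, (b : G), (c : G)} : Set G) = P := by
    intro a b c e
    have := congrArg (Subgroup.map P.subtype) e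
    rw [MonoidHom.map_closure, map_subtype_top, Set.image_insert_eq, Set.image_insert_eq, Set.image_singleton] at this
    rw [clo3, zpowers_inv, ← clo3]
    exact this
  rcases blackburn h.ne hn hr with m | ⟨h3, a, b, c, e, ea, eb, ec, ac, bc, ab⟩ |
    ⟨h4, s, a, b, c, -, e, ea, eb, ec, bc, ab, ac⟩ | ⟨rfl, h2, hne⟩
  · exact absurd m h.not_metacyc
  · have bc' : (b : G) * c = c * b := congrArg Subtype.val bc
    have ab' : (a : G)⁻¹ * b * a = b * c ^ p ^ (n - 3) := congrArg Subtype.val ab
    obtain ⟨rfl, q⟩ := h.type2 hn h3 (clo a b c e) (by rw [inv_pow, inv_eq_one]; exact congrArg Subtype.val ea)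
      (congrArg Subtype.val eb) (congrArg Subtype.val ec)
      (show Commute (a : G) c from congrArg Subtype.val ac).inv_left bc'
      (by rw [commutatorElement_def, inv_inv, ab', ((show Commute (b : G) c from bc').pow_right _).eq, mul_inv_cancel_right])
    exact Or.inl ⟨isExtraspecial_of_cube hn h.not_ab, hn, q⟩
  · have bc' : (b : G) * c = c * b := congrArg Subtype.val bc
    have ab' : (a : G)⁻¹ * b * a = b * c ^ (s * p ^ (n - 3)) := congrArg Subtype.val ab
    have ac' : (a : G)⁻¹ * c * a = b * c := congrArg Subtype.val ac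
    exact (h.type3 hn h4 (clo a b c e) (by rw [inv_pow, inv_eq_one]; exact congrArg Subtype.val ea)
      (congrArg Subtype.val eb) (congrArg Subtype.val ec) bc'
      (by rw [commutatorElement_def, inv_inv, ab', ((show Commute (b : G) c from bc').pow_right _).eq, mul_inv_cancel_right])
      (by rw [commutatorElement_def, inv_inv, ac', mul_inv_cancel_right])).elim
  · have hT : MaxCl 3 n (⊤ : Subgroup P) := ⟨h.prime, h2, card_top'.trans hn, hne⟩
    have hm : MaxCl 3 n P := maxCl_coe_iff.1 hT
    rcases h2.eq_or_lt with rfl | h3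
    · exact absurd (ab_of_card_sq h.prime hn) h.not_ab
    rcases (show 3 ≤ n from h3).eq_or_lt with rfl | h4
    · refine Or.inl ⟨isExtraspecial_of_cube hn h.not_ab, hn, fun y hy => by_contra fun e => h.not_metacyc ?_⟩
      have hy' := zpowers_le.2 hy
      obtain ⟨k, hk, e2⟩ := (Nat.dvd_prime_pow h.prime).1 (hn ▸ card_dvd_of_le hy')
      have e3 := FT.card_mul_relIndex hy'
      have hi : (⟪y⟫).relIndex P = 3 := by
        rw [e2, hn] at e3
        interval_cases k
        · exact absurd (by rw [card_zpowers', pow_zero, orderOf_eq_one_iff] at e2; rw [e2, one_pow]) e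
        · exact absurd (by rw [card_zpowers', pow_one] at e2; rw [← e2, pow_orderOf_eq_one]) e
        · omega
        · exact absurd ((ab_zpowers y).mono (eq_of_card_le hy' (by rw [e2, hn])).ge) h.not_ab
      have hN := nml_of_der_le (h.der_le hy' hi) hy'
      exact metacyc_iff.2 ⟨_, hN, cyc_zpowers y, cyc_of_prime (by rw [card_quo hN.nrm, hi]; exact h.prime)⟩
    · have ho := h.odd_of_max hm h4
      refine Or.inr ⟨rfl, n / 2, by omega, by rw [hn]; congr 1; omega, (IsPGroup.of_card hn).isNilpotent, ?_⟩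
      rw [(maxCl_top_iff hn h2).1 hT]; omega

theorem iso_conj {G : Type*} [Group G] {x : G} (h : IsIsolated x) (g : G) : IsIsolated (g * x * g⁻¹) := fun k hk => by
  have := h (g⁻¹ * k * g) (by
    have q := hk.map (MulAut.conj g⁻¹).toMonoidHom
    simpa [mul_assoc] using q)
  calc k * (g * x * g⁻¹) * k⁻¹ = g * (g⁻¹ * k * g * x * (g⁻¹ * k * g)⁻¹) * g⁻¹ := by group
    _ = _ := by rw [this]


/-- Let G be a finite group and p an odd prime with O_{p'}(G) = 1. Suppose that G has p-rank at most 2 and that some element x of order p is isolated in G and not central. Then F*(G) is a non-abelian simple group, and for every Sylow p-subgroup P of F*(G), either no conjugate of x lies in P and P is cyclic, or some conjugate of x lies in P and either P is extraspecial of order p³ and exponent p, or p = 3 and P has order 3^{2k+1} for some k ≥ 2 and is of maximal class (nilpotency class 2k). Since O_{p'}(G) = 1, such an x is not central modulo O_{p'}(G): the hypotheses describe a counterexample to the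 Z*_p statement in p-rank at most 2, and the conclusion records the structure it would have. -/
theorem result {G : Type*} [Group G] [Finite G] {p : ℕ} [Fact p.Prime] (hp : p ≠ 2) (hcore : Cfsg.pPrimeCore p G = ⊥)
    (hrank : Cfsg.PRankLE p 2 G) (x : G) (hx : orderOf x = p) (hiso : Cfsg.IsIsolated x) (hnc : x ∉ Subgroup.center G) :
    IsSimpleGroup ↥(Cfsg.generalizedFittingSubgroup G) ∧ ¬ IsMulCommutative ↥(Cfsg.generalizedFittingSubgroup G) ∧
    ∀ P : Sylow p ↥(Cfsg.generalizedFittingSubgroup G),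
      ((∀ g : G, g * x * g⁻¹ ∉ ((P : Subgroup ↥(Cfsg.generalizedFittingSubgroup G)).map (Cfsg.generalizedFittingSubgroup G).subtype)) ∧
          IsCyclic ↥(P : Subgroup ↥(Cfsg.generalizedFittingSubgroup G))) ∨
      ((∃ g : G, g * x * g⁻¹ ∈ ((P : Subgroup ↥(Cfsg.generalizedFittingSubgroup G)).map (Cfsg.generalizedFittingSubgroup G).subtype)) ∧
        ((Cfsg.IsExtraspecial p ↥(P : Subgroup ↥(Cfsg.generalizedFittingSubgroup G)) ∧
            Nat.card (P : Subgroup ↥(Cfsg.generalizedFittingSubgroup G)) = p ^ 3 ∧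
            ∀ y ∈ (P : Subgroup ↥(Cfsg.generalizedFittingSubgroup G)), y ^ p = 1) ∨
         (p = 3 ∧ ∃ k : ℕ, 2 ≤ k ∧ Nat.card (P : Subgroup ↥(Cfsg.generalizedFittingSubgroup G)) = 3 ^ (2 * k + 1) ∧
            ∃ _ : Group.IsNilpotent ↥(P : Subgroup ↥(Cfsg.generalizedFittingSubgroup G)),
              Group.nilpotencyClass ↥(P : Subgroup ↥(Cfsg.generalizedFittingSubgroup G)) = 2 * k))) := by
  obtain ⟨hs, hna⟩ := Cfsg.Agent.S3049.result hp hcore hrank x hx hiso hnc
  refine ⟨hs, hna, ?_⟩
  have hp' : p.Prime := Fact.out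
  generalize Cfsg.generalizedFittingSubgroup G = K at hs hna ⊢
  intro P
  have hPQ : IsPGroup p ((P : Subgroup K).map K.subtype) := P.isPGroup'.map _
  have ho : ∀ g : G, orderOf (g * x * g⁻¹) = p := fun g => by
    rw [← hx]; exact (MulAut.conj g).orderOf_eq x
  by_cases hc : ∃ g : G, g * x * g⁻¹ ∈ (P : Subgroup K).map K.subtype
  · refine Or.inr ⟨hc, ?_⟩
    obtain ⟨g, y, hy, e⟩ := hc
    have e' : (y : G) = g * x * g⁻¹ := e
    have hG : _root_.commutator K = ⊤ := (hs.eq_bot_or_eq_top_of_normal _ inferInstance).resolve_left fun q =>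
      hna ((commutator_eq_bot_iff K).1 q)
    refine main (x := y) ⟨hp', hp, syl_top hp' P, fun A _ hA => ?_, hy, ?_, fun t ht => ?_,
      fun q => star_of (syl_top hp' P) (yosh hp P hG q)⟩
    · have := hA.map K.subtype
      rw [← H1.card_map_subtype A]
      exact hrank _ this.1 this.2
    · rw [← Subgroup.orderOf_coe, e', ho]
    · have := (Cfsg.Agent.S2969.result (p := p) _ ⟨1, by rw [ho g, pow_one]⟩ (iso_conj hiso g)).1 _ hPQ ⟨y, hy, e⟩
        (le_normalizer_map K.subtype ⟨t, ht, rfl⟩)
      rw [← e'] at this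
      exact mem_cen1.2 (Subtype.ext (mem_cen1.1 this))
  · push Not at hc
    refine Or.inl ⟨hc, ?_⟩
    obtain ⟨S, hS⟩ := hPQ.exists_le_sylow
    obtain ⟨T, hT⟩ := (IsPGroup.of_card (p := p) (n := 1) (G := Subgroup.zpowers x) (by
      rw [Nat.card_zpowers, hx, pow_one])).exists_le_sylow
    obtain ⟨g, rfl⟩ := MulAction.exists_smul_eq G T S
    have hx' : g * x * g⁻¹ ∈ ((g • T : Sylow p G) : Subgroup G) := ⟨x, hT (mem_zpowers x), rfl⟩
    have hz := (Cfsg.Agent.S2968.result (g • T) _ hx' ⟨1, by rw [ho g, pow_one]⟩ (iso_conj hiso g)).1.2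
    have pP : PGrp p (P : Subgroup K) := (syl_top hp' P).pi
    refine (odd_pgroup_rank1_cyclic hp' pP ?_).2 (prank_le_iff_forall.2 fun m A hA => ?_)
    · obtain ⟨k, hk⟩ := pP.card
      rw [hk]; exact (hp'.odd_of_ne_two hp).pow
    · have hB := hA.abelem.map K.subtype
      have hle : A.map K.subtype ≤ (P : Subgroup K).map K.subtype := Subgroup.map_mono hA.le
      have c1 : g * x * g⁻¹ ∈ C(A.map K.subtype) := centralizer_le (hle.trans hS) hz
      have e1 : (g * x * g⁻¹) ^ p = 1 := by rw [← ho g, pow_orderOf_eq_one]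
      have hE := hB.sup_zpowers c1 e1
      have := hrank _ hE.1 hE.2
      rw [card_sup_zpowers_of_elemAb e1 c1 (fun q => hc g (hle q)), H1.card_map_subtype, hA.card, ← pow_succ',
        Nat.pow_le_pow_iff_right hp'.one_lt] at this
      omega

end Cfsg.Agent.S3038
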