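import Cfsg.Statements.S3040
import Mathlib
import Cfsg.Agent.GW.S3a

set_option autoImplicit false
open Cfsg

namespace Cfsg.Agent.S3040



/-- Let G be a finite group of even order coprime to 3, and let Σ be a group of automorphisms of G isomorphic to the symmetric group of degree 3 that is fixed-point-free (only the identity of G is fixed by every element of Σ). Then G is solvable, O_{2′,2}(G) (the preimage in G of O₂(G/O(G))) has odd index in G, and G = O_{2′,2}(G) C_G(σ) for every element σ of Σ of order 3; that is, O₂(G/O(G)) is a Sylow 2-subgroup of G/O(G) and G/O(G) = O₂(G/O(G)) C_{G/O(G)}(σ). -/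
theorem result {G : Type*} [Group G] [Finite G] (heven : 2 ∣ Nat.card G) (h3 : ¬ 3 ∣ Nat.card G)
    (Sig : Subgroup (MulAut G)) (hS3 : Nonempty (↥Sig ≃* Equiv.Perm (Fin 3))) (hfpf : ∀ g : G, (∀ σ ∈ Sig, σ g = g) → g = 1) :
    Group.IsSolvable G ∧ ¬ 2 ∣ (Cfsg.pPrimePCore 2 G).index ∧ ∀ σ ∈ Sig, orderOf σ = 3 →
      Cfsg.pPrimePCore 2 G ⊔ Subgroup.closure {g : G | σ g = g} = ⊤ := by
  obtain ⟨e⟩ := hS3
  have h1 : ∀ σ ∈ Sig, orderOf σ = 3 → _ := fun σ hσ h =>
    GW.S3a.main σ h h3 (GW.S3a.odd_fix Sig e hfpf hσ h)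
  obtain ⟨⟨σ, hσ⟩, hs⟩ := exists_prime_orderOf_dvd_card' (G := Sig) 3 (by
    rw [Nat.card_congr e.toEquiv]; simp [Nat.card_eq_fintype_card, Fintype.card_perm]; decide)
  rw [← Subgroup.orderOf_coe] at hs
  have : (Cfsg.pPrimePCore 2 G).Normal := by unfold Cfsg.pPrimePCore; infer_instance
  refine ⟨(h1 σ hσ hs).1, fun c => ?_, fun ρ hρ h => eq_top_iff.2 fun g _ => ?_⟩
  · have h2 : Cfsg.pPrimePCore 2 G ⊔ σ.toMonoidHom.eqLocus (MonoidHom.id G) = ⊤ :=
      eq_top_iff.2 fun g _ => by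
        obtain ⟨a, ha, b, hb, rfl⟩ := (h1 σ hσ hs).2 g
        exact Subgroup.mul_mem_sup ha hb
    rw [← Subgroup.relIndex_top_right, ← h2, Subgroup.relIndex_sup_left] at c
    exact (Nat.not_even_iff_odd.2 (GW.S3a.odd_fix Sig e hfpf hσ hs))
      (even_iff_two_dvd.2 (c.trans (Subgroup.relIndex_dvd_card _ _)))
  · obtain ⟨a, ha, b, hb, rfl⟩ := (h1 ρ hρ h).2 g
    exact Subgroup.mul_mem_sup ha (Subgroup.subset_closure hb)

end Cfsg.Agent.S3040
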