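import Cfsg.Statements.S3066
import Mathlib
import Cfsg.Agent.GW.Sch

set_option autoImplicit false
open Cfsg

namespace Cfsg.Agent.S3066



/-- Let G be a finite non-abelian simple group with a nontrivial Sylow 2-subgroup S (that is, G has even order). Then Out(G) = Aut(G)/Inn(G) is solvable provided one of the following holds: (a) S is generated by two elements; (b) S is generated by three elements and N_G(S)/C_G(S) is not a 2-group (some element of N_G(S) of odd order does not centralize S); (c) the involutions of S commute pairwise and are all conjugate in G. -/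
theorem result {G : Type*} [Group G] [Finite G] [IsSimpleGroup G]
    (hG : ¬ IsMulCommutative G) (S : Sylow 2 G) (hS1 : (S : Subgroup G) ≠ ⊥)
    (h : (∃ a b : ↥S, Subgroup.closure ({a, b} : Set ↥S) = ⊤) ∨
      ((∃ a b c : ↥S, Subgroup.closure ({a, b, c} : Set ↥S) = ⊤) ∧
        ∃ g ∈ Subgroup.normalizer ((S : Subgroup G) : Set G), Odd (orderOf g) ∧ g ∉ Subgroup.centralizer ((S : Subgroup G) : Set G)) ∨
      ((∀ s ∈ S, ∀ t ∈ S, orderOf s = 2 → orderOf t = 2 → s * t = t * s) ∧
        (∀ s ∈ S, ∀ t ∈ S, orderOf s = 2 → orderOf t = 2 → ∃ g : G, g * s * g⁻¹ = t))) :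
    Group.IsSolvable (Cfsg.Out G) := by
  have hS := FT.syl_top Nat.prime_two S
  have key : ∀ s : Set S, Subgroup.closure s = ⊤ → (S : Subgroup G) = Subgroup.closure (Subtype.val '' s) :=
    fun s e => by
      have := congrArg (Subgroup.map (S : Subgroup G).subtype) e
      rwa [MonoidHom.map_closure, ← MonoidHom.range_eq_map, Subgroup.range_subtype, eq_comm] at this
  rcases h with ⟨a, b, h⟩ | ⟨⟨a, b, c, h⟩, g, h1, h2, h3⟩ | ⟨h, -⟩
  · refine GW.out_two (a := a) (b := b) hG hS ((key _ h).trans ?_)
    rw [Set.image_pair, Set.insert_eq, Subgroup.closure_union, ← Subgroup.zpowers_eq_closure,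
      ← Subgroup.zpowers_eq_closure]
  · refine GW.out_three hG hS (GW.phi_three (a := MulAut.conj (a : G)) (b := MulAut.conj (b : G))
      (c := MulAut.conj (c : G)) (hS.pi.map _) ?_) h1 h2 h3
    rw [key _ h, Set.image_insert_eq, Set.image_pair, Set.insert_eq, Set.insert_eq, Subgroup.closure_union,
      Subgroup.closure_union, ← Subgroup.zpowers_eq_closure, ← Subgroup.zpowers_eq_closure,
      ← Subgroup.zpowers_eq_closure, Subgroup.map_sup, Subgroup.map_sup, MonoidHom.map_zpowers,
      MonoidHom.map_zpowers, MonoidHom.map_zpowers, sup_assoc]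
  · exact GW.out_comm_inv hG hS h

end Cfsg.Agent.S3066
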