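import Cfsg.Statements.S3171
import Mathlib
import Cfsg.Agent.H18.U5t
import Cfsg.Agent.H3.Basic

set_option autoImplicit false
open Cfsg

namespace Cfsg.Agent.S3171

open H18.U5 H18.U5.M Subgroup

def ee : Fin 4 → M := ![⟨1, 0, 0, 0, 0, 0, 0, 0, 0⟩, ⟨0, 0, 0, 0, 0, 1, 0, 0, 0⟩, dd 1 0 0, dd 0 1 0]

def gs : List M := [⟨1, 0, 0, 0, 0, 0, 1, 0, 0⟩, ⟨0, 1, 0, 0, 0, 0, 0, 1, 0⟩, ⟨0, 0, 0, 0, 1, 0, 1, 0, 0⟩,
  ⟨0, 0, 0, 0, 0, 1, 0, 1, 0⟩, dd 1 1 0]

theorem z8 (N : Subgroup M) (h : N.index = 2) : {c : M | ∀ n ∈ N, n * c = c * n}.ncard ≤ 8 := by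
  classical
  have H : ∀ a b c d : Bool, (Finset.univ.filter fun y : M => (∀ g ∈ gs, g * g * y = y * (g * g)) ∧
      (∀ i, ![a, b, c, d] i = true → ee i * y = y * ee i) ∧
      ∀ i j, ![a, b, c, d] i = false → ![a, b, c, d] j = false → ee i * ee j * y = y * (ee i * ee j)).card ≤ 8 := by
    decide +kernel
  refine le_trans ?_ (H (decide (ee 0 ∈ N)) (decide (ee 1 ∈ N)) (decide (ee 2 ∈ N)) (decide (ee 3 ∈ N)))
  have e : ∀ i, ![decide (ee 0 ∈ N), decide (ee 1 ∈ N), decide (ee 2 ∈ N), decide (ee 3 ∈ N)] i =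
      decide (ee i ∈ N) := fun i => by fin_cases i <;> rfl
  rw [← Set.ncard_coe_finset]
  refine Set.ncard_le_ncard (fun y hy => ?_) (Finset.finite_toSet _)
  simp only [e, Finset.coe_filter, Finset.mem_univ, true_and, Set.mem_setOf_eq, decide_eq_true_eq,
    decide_eq_false_iff_not]
  exact ⟨fun g _ => hy _ (mul_self_mem_of_index_two h g), fun i hi => hy _ hi,
    fun i j hi hj => hy _ ((mul_mem_iff_of_index_two h).2 (iff_of_false hi hj))⟩

theorem uniq (B : Subgroup M) (hc : IsMulCommutative B) (h : Nat.card B = 64) : B = AM := by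
  refine eq_of_le_of_card_ge (fun s hs => by_contra fun hA => ?_) (by rw [h, card_AM])
  have cm : ∀ a ∈ B, ∀ b ∈ B, a * b = b * a := fun a ha b hb =>
    congrArg Subtype.val (hc.is_comm.comm ⟨a, ha⟩ ⟨b, hb⟩)
  have h4 := card_mul_index (AM.subgroupOf B)
  have h5 : (AM.subgroupOf B).index = Nat.card (B.map rep) := relIndex_ker B rep
  have h6 : ∀ t ∈ B, Nat.card (AM.subgroupOf B) ≤ (Finset.univ.filter fun a => a ∈ AM ∧
      rep s * a * (rep s)⁻¹ = a ∧ rep t * a * (rep t)⁻¹ = a).card := fun t ht => by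
    rw [← Fintype.card_coe, ← Nat.card_eq_fintype_card]
    refine Nat.card_le_card_of_injective (fun a => ⟨a.1.1, ?_⟩)
      fun a b e => Subtype.ext (Subtype.ext (Subtype.mk.inj e))
    have ha : a.1.1 ∈ AM := a.2
    simp only [Finset.mem_filter, Finset.mem_univ, true_and, ← conj_rep _ ha]
    exact ⟨ha, mul_inv_eq_iff_eq_mul.2 (cm _ hs _ a.1.2), mul_inv_eq_iff_eq_mul.2 (cm _ ht _ a.1.2)⟩
  have H : ∀ x y z x' y' z', dd x y z ∉ AM → (Finset.univ.filter fun a => a ∈ AM ∧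
      dd x y z * a * (dd x y z)⁻¹ = a ∧ dd x' y' z' * a * (dd x' y' z')⁻¹ = a).card ≤
        if dd x' y' z' = 1 ∨ dd x' y' z' = dd x y z then 16 else 8 := by decide +kernel
  rw [h5, h] at h4
  by_cases h1 : ∀ t ∈ B, rep t = 1 ∨ rep t = rep s
  · have a1 := (h6 s hs).trans (H s.x s.y s.z s.x s.y s.z hA)
    rw [if_pos (.inr rfl)] at a1
    have a2 : Nat.card (B.map rep) ≤ 2 := by
      refine (Nat.card_le_card_of_injective (fun a => (⟨a.1, ?_⟩ : ({1, rep s} : Set M)))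
        fun a b e => Subtype.ext (Subtype.mk.inj e)).trans ?_
      · obtain ⟨t, ht, e⟩ := a.2
        exact e ▸ h1 t ht
      · rw [Nat.card_coe_set_eq]
        exact (Set.ncard_insert_le _ _).trans (by simp)
    have := Nat.mul_le_mul a1 a2
    omega
  · push Not at h1
    obtain ⟨t, ht, h1⟩ := h1
    have a1 := (h6 t ht).trans (H s.x s.y s.z t.x t.y t.z hA)
    rw [if_neg (c := dd t.x t.y t.z = 1 ∨ dd t.x t.y t.z = dd s.x s.y s.z) (not_or.2 h1)] at a1
    have h2 : Nat.card rep.range = 8 := by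
      have := card_mul_index AM
      rw [card_AM, card_M, AM, index_ker] at this
      omega
    have a2 : Nat.card (B.map rep) < Nat.card rep.range := lt_of_not_ge fun h3 => by
      have e := eq_of_le_of_card_ge (map_le_range rep B) h3
      obtain ⟨u, hu, e1⟩ : dd 1 0 0 ∈ B.map rep := e ▸ ⟨dd 1 0 0, rfl⟩
      obtain ⟨v, hv, e2⟩ : dd 0 1 0 ∈ B.map rep := e ▸ ⟨dd 0 1 0, rfl⟩
      have := congrArg rep (cm u hu v hv)
      rw [map_mul, map_mul, e1, e2] at this
      exact absurd this (by decide)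
    have := Nat.mul_le_mul a1 (Nat.le_of_lt_succ (h2 ▸ a2 : _ < 7 + 1))
    omega


/-- Let P be a Sylow 2-subgroup of the Mathieu group of degree 24 and S the quotient of P by its centre. Then the centre of every maximal subgroup of S has order at most 8; S has an elementary abelian subgroup of order 64; and S has only one abelian subgroup of order 64. -/
theorem result (P : Sylow 2 ↥Cfsg.M24) :
    (∀ M : Subgroup (↥(P : Subgroup ↥Cfsg.M24) ⧸ Subgroup.center ↥(P : Subgroup ↥Cfsg.M24)), IsCoatom M →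
        Nat.card ↥(Subgroup.center ↥M) ≤ 8) ∧
      (∃ A : Subgroup (↥(P : Subgroup ↥Cfsg.M24) ⧸ Subgroup.center ↥(P : Subgroup ↥Cfsg.M24)),
        Cfsg.IsElementaryAbelian 2 A ∧ Nat.card ↥A = 64) ∧
      ∀ A B : Subgroup (↥(P : Subgroup ↥Cfsg.M24) ⧸ Subgroup.center ↥(P : Subgroup ↥Cfsg.M24)),
        IsMulCommutative ↥A → Nat.card ↥A = 64 → IsMulCommutative ↥B → Nat.card ↥B = 64 → A = B := by
  obtain ⟨e⟩ := T.iso' P
  have key : ∀ A : Subgroup (P ⧸ center P), IsMulCommutative A → Nat.card A = 64 → A.map e.toMonoidHom = AM :=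
    fun A h1 h2 => uniq _ (map_isMulCommutative _ _) ((card_map_of_injective e.injective).trans h2)
  refine ⟨fun N hN => ?_, ⟨AM.map e.symm.toMonoidHom, ⟨⟨⟨?_⟩⟩, ?_⟩,
    (card_map_of_injective e.symm.injective).trans card_AM⟩,
    fun A B h1 h2 h3 h4 => map_injective e.injective ((key A h1 h2).trans (key B h3 h4).symm)⟩
  · have h2 : N.index = 2 := H3.index_of_isCoatom (P.isPGroup'.to_quotient _) hN
    refine le_trans ?_ (z8 (N.map e.toMonoidHom) ((index_map_equiv N e).trans h2))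
    rw [← Nat.card_coe_set_eq]
    refine Nat.card_le_card_of_injective (fun c => ⟨e c.1.1, ?_⟩)
      fun a b h => Subtype.ext (Subtype.ext (e.injective (Subtype.mk.inj h)))
    rintro _ ⟨n, hn, rfl⟩
    simpa using congrArg (fun y => e y.1) (mem_center_iff.1 c.2 ⟨n, hn⟩)
  · rintro ⟨_, a, ha, rfl⟩ ⟨_, b, hb, rfl⟩
    exact Subtype.ext ((map_mul _ a b).symm.trans ((congrArg _ (AM_comm ha hb)).trans (map_mul _ b a)))
  · rintro _ ⟨a, ha, rfl⟩
    rw [← map_pow, pow_two, AM_sq a ha, map_one]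

end Cfsg.Agent.S3171
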