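import Cfsg.Statements.S3186
import Cfsg.Agent.GO.Ai5
-- import your own Cfsg.Agent.* helpers here

set_option autoImplicit false
open Cfsg

namespace Cfsg.Agent.S3186

open Subgroup Cfsg.Agent.FT Cfsg.Agent.GW Cfsg.Agent.GO Cfsg.Agent.GO.Ai

/-- Let G be a non-abelian finite simple group in which the intersection of any two distinct Sylow 2-subgroups is abelian. Then a Sylow 2-subgroup of G is either dihedral (of order at least 4) or of nilpotency class at most two (its derived subgroup is central). -/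
theorem result {G : Type*} [Group G] [Finite G] [IsSimpleGroup G]
    (hG : ¬ IsMulCommutative G)
    (hA : ∀ S T : Sylow 2 G, S ≠ T → IsMulCommutative ↥((S : Subgroup G) ⊓ (T : Subgroup G))) (S : Sylow 2 G) :
    (∃ m : ℕ, 2 ≤ m ∧ Nonempty (↥(S : Subgroup G) ≃* DihedralGroup m)) ∨
      commutator ↥(S : Subgroup G) ≤ Subgroup.center ↥(S : Subgroup G) := by
  have hS := syl_top Nat.prime_two S
  have k : ⁅(S : Subgroup G), (S : Subgroup G)⁆ ≤ C((S : Subgroup G)) →
      _root_.commutator ↥(S : Subgroup G) ≤ Subgroup.center ↥(S : Subgroup G) := fun h =>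
    commutator_le.2 fun x _ y _ => mem_center_iff.2 fun g =>
      Subtype.ext (mem_cen.1 (h (commutator_mem_commutator x.2 y.2)) g g.2)
  by_cases c : Ab (S : Subgroup G)
  · exact .inr (k (by rw [ab_iff_der.1 c]; exact bot_le))
  refine (AI.main ⟨hS, fun D h1 h2 g h3 => ?_, c⟩ hG).imp_right k
  obtain ⟨T, e⟩ := (syl_top_iff Nat.prime_two).1 (hS.cj_mem (mem_top g⁻¹))
  by_cases i : S = T
  · exact inv_mem_iff.1 (cj_eq_self.1 (e.symm.trans (congrArg _ i.symm)))
  · exact (h2 (Ab.mono (hA S T i) (le_inf h1 (e ▸ cj_le_iff.1 h3)))).elim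

end Cfsg.Agent.S3186
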