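import Cfsg.Statements.S3201
import Cfsg.Agent.GO.Sm1

set_option autoImplicit false
open Cfsg

namespace Cfsg.Agent.S3201

/-- Let S be a finite 2-group whose centre Z(S) has n ≥ 2 distinct maximal subgroups C₁, …, Cₙ with trivial intersection such that each quotient S/Cᵢ is a non-abelian group with exactly one involution (a generalized quaternion group). Then S is the internal direct product of an elementary abelian subgroup and a non-abelian subgroup with exactly one involution. -/
theorem result {S : Type*} [Group S] [Finite S]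
    (hS : IsPGroup 2 S) (n : ℕ) (hn : 2 ≤ n) (C : Fin n → Subgroup ↥(Subgroup.center S))
    (hCmax : ∀ i, IsCoatom (C i)) (hCinj : Function.Injective C) (hCint : ⨅ i, C i = ⊥)
    (hCq : ∀ i, ∃ (_ : ((C i).map (Subgroup.center S).subtype).Normal),
      ¬ IsMulCommutative (S ⧸ (C i).map (Subgroup.center S).subtype) ∧
      ∃! x : S ⧸ (C i).map (Subgroup.center S).subtype, orderOf x = 2) :
    ∃ E Q : Subgroup S, Cfsg.IsInternalDirectProduct E Q ⊤ ∧ Cfsg.IsElementaryAbelian 2 E ∧
      ¬ IsMulCommutative ↥Q ∧ ∃! x : ↥Q, orderOf x = 2 := by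
  refine GO.s3201 hS (fun i => (C i).map (Subgroup.center S).subtype) ⟨0, by omega⟩
    (fun i => Subgroup.map_subtype_le _) (fun i a ha b hb h1 h2 => ?_) (fun i e => (hCmax i).1 ?_) (fun a h => ?_) hCq
  · haveI := Fact.mk Nat.prime_two
    have := H3.index_of_isCoatom (hS.to_subgroup _) (hCmax i)
    exact ⟨⟨a, ha⟩ * ⟨b, hb⟩, (Subgroup.mul_mem_iff_of_index_two this).2
      (iff_of_false (fun e => h1 ⟨_, e, rfl⟩) fun e => h2 ⟨_, e, rfl⟩), rfl⟩
  · exact eq_top_iff.2 fun x _ => by
      obtain ⟨y, hy, e⟩ := e x.2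
      exact Subtype.ext e ▸ hy
  · obtain ⟨y, -, rfl⟩ := h ⟨0, by omega⟩
    have : y ∈ ⨅ i, C i := Subgroup.mem_iInf.2 fun i => by
      obtain ⟨x, hx, e⟩ := h i
      exact Subtype.ext e ▸ hx
    rw [hCint, Subgroup.mem_bot] at this
    rw [this, map_one]

end Cfsg.Agent.S3201
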