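import Cfsg.Statements.S3209
import Mathlib
import Cfsg.Agent.H19.S2t

set_option autoImplicit false
open Cfsg

namespace Cfsg.Agent.S3209

open Cfsg.Agent.H19

open Cfsg.Agent.L0 in
theorem aux {G : Type*} [Group G] {F : Type*} [Field F] [Fintype F] (hF : Odd (Fintype.card F))
    {L : Subgroup G} (e : L ≃* S2 F) {j : G} (hj : orderOf j = 2) (m : j ∈ L) :
    (∀ a ∈ L, a * a = 1 → a = 1 ∨ a = j) ∧ ∃ a ∈ L, a * a = j ∧
      ∀ b ∈ L, b * b = j → ∃ g ∈ L, g * a * g⁻¹ = b := by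
  have h2 := two_ne_zero_of_odd hF
  have k : ∀ a : L, a.1 * a = 1 → a.1 = 1 ∨ e a = -1 := fun a h =>
    (eq_or_eq_neg_of_sq_s2 h2 (g := e a) (by
      rw [pow_two, ← map_mul, e.map_eq_one_iff]; exact Subtype.ext h)).imp_left
      fun r => congrArg Subtype.val (e.map_eq_one_iff.1 r)
  have ej : e ⟨j, m⟩ = -1 := (k ⟨j, m⟩ (by rw [← pow_two, ← hj, pow_orderOf_eq_one])).resolve_left
    fun r => by simp [show j = 1 from r] at hj
  have tr : ∀ {a : S2 F}, a * a = -1 → (a : M2 F).trace = 0 ∧ orderOf a = 4 := fun {a} ha => by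
    have h4 : a ^ 2 ^ (1 + 1) = 1 := by rw [pow_add, pow_mul, pow_one, pow_two a, ha]; simp
    have h1 : a ^ 2 ≠ 1 := by rw [pow_two, ha]; exact neg_one_ne_one_s2 h2
    exact ⟨(trace_eq_zero_iff_pow h2).2 ⟨h4, h1⟩, orderOf_eq_prime_pow h1 h4⟩
  let w : S2 F := mkS 0 (-1) 1 0 (by simp)
  have w2 : w * w = -1 := by
    ext a b; fin_cases a <;> fin_cases b <;> simp [w, Matrix.mul_apply]
  obtain ⟨-, c2, c3, -⟩ := torus_info hF (d := w) (by
    rw [(tr w2).2]; obtain ⟨r, hr⟩ := hF; omega)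
  refine ⟨fun a ha h => (k ⟨a, ha⟩ h).imp_right fun r =>
    congrArg Subtype.val (e.injective (r.trans ej.symm)), e.symm w, (e.symm w).2, ?_, fun b hb h => ?_⟩
  · exact congrArg Subtype.val (e.injective (a₁ := e.symm w * e.symm w) (a₂ := ⟨j, m⟩) (by simp [w2, ej]))
  · have : e ⟨b, hb⟩ * e ⟨b, hb⟩ = -1 := by rw [← map_mul, ← ej]; exact congrArg e (Subtype.ext h)
    obtain ⟨g, hg⟩ := isConj_iff.1 (isConj_of_trace_s2 c3 c2 ((tr this).1.trans (tr w2).1.symm))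
    exact ⟨e.symm g, (e.symm g).2, congrArg Subtype.val (e.injective
      (a₁ := e.symm g * e.symm w * (e.symm g)⁻¹) (a₂ := ⟨b, hb⟩) (by simp [hg]))⟩

/-- Let L₁ ≅ SL₂(q₁) and L₂ ≅ SL₂(q₂), q₁ and q₂ odd, be elementwise-commuting subgroups of a finite group meeting in ⟨j⟩ for an involution j. Then L₁L₂ has exactly two conjugacy classes of involutions: the central involution j, and one further class (there is an involution x ≠ j in L₁L₂, and every involution of L₁L₂ other than j is conjugate to x by an element of L₁L₂). -/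
theorem result {G : Type*} [Group G] [Finite G]
    {F₁ : Type*} [Field F₁] [Fintype F₁] {F₂ : Type*} [Field F₂] [Fintype F₂]
    (hF₁ : Odd (Fintype.card F₁)) (hF₂ : Odd (Fintype.card F₂)) (L₁ L₂ : Subgroup G)
    (e₁ : ↥L₁ ≃* Matrix.SpecialLinearGroup (Fin 2) F₁) (e₂ : ↥L₂ ≃* Matrix.SpecialLinearGroup (Fin 2) F₂)
    (hc : ∀ x ∈ L₁, ∀ y ∈ L₂, x * y = y * x) (j : G) (hj : orderOf j = 2) (hm : L₁ ⊓ L₂ = Subgroup.zpowers j) :
    ∃ x ∈ L₁ ⊔ L₂, orderOf x = 2 ∧ x ≠ j ∧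
      ∀ y ∈ L₁ ⊔ L₂, orderOf y = 2 → y = j ∨ ∃ g ∈ L₁ ⊔ L₂, g * x * g⁻¹ = y := by
  have m : j ∈ L₁ ⊓ L₂ := hm ▸ Subgroup.mem_zpowers j
  have j2 : j * j = 1 := by rw [← pow_two, ← hj, pow_orderOf_eq_one]
  have j1 : j ≠ 1 := fun r => by simp [r] at hj
  obtain ⟨u1, a, ha, a2, c1⟩ := aux hF₁ e₁ hj m.1
  obtain ⟨u2, b, hb, b2, c2⟩ := aux hF₂ e₂ hj m.2
  have z : ∀ x ∈ L₁, x ∈ L₂ → x * x = 1 := fun x h1 h2 => by
    obtain ⟨n, rfl⟩ := hm.le ⟨h1, h2⟩
    rw [← Commute.mul_zpow (Commute.refl j), j2, one_zpow]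
  have sq : ∀ x ∈ L₁, ∀ y ∈ L₂, (x * y) ^ 2 = x * x * (y * y) := fun x hx y hy => by
    rw [Commute.mul_pow (hc x hx y hy), pow_two, pow_two]
  have n : a * b ∉ L₂ := fun k => j1 (a2 ▸ z a ha (by simpa using mul_mem k (inv_mem hb)))
  refine ⟨a * b, Subgroup.mul_mem_sup ha hb, orderOf_eq_prime (by rw [sq a ha b hb, a2, b2, j2])
    fun r => n (r ▸ one_mem _), fun r => n (r ▸ m.2), fun y0 hy0 oy => ?_⟩
  obtain ⟨x, hx, y, hy, rfl⟩ : ∃ x ∈ L₁, ∃ z ∈ L₂, x * z = y0 := by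
    have : L₁ ≤ Subgroup.normalizer (L₂ : Set G) := fun x hx => Subgroup.mem_normalizer_fintype
      fun y hy => by rwa [hc x hx y hy, mul_inv_cancel_right]
    have h := Subgroup.coe_mul_of_left_le_normalizer_right _ _ this
    exact h.le hy0
  have e : x * x * (y * y) = 1 := by rw [← sq x hx y hy, ← oy, pow_orderOf_eq_one]
  have m2 : x * x ∈ L₂ := by rw [eq_inv_of_mul_eq_one_left e]; exact inv_mem (mul_mem hy hy)
  rcases u1 _ (mul_mem hx hx) (z _ (mul_mem hx hx) m2) with k | k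
  · rw [k, one_mul] at e
    rcases u1 x hx k with rfl | rfl <;> rcases u2 y hy e with rfl | rfl
    · simp at oy
    · simp
    · simp
    · simp [j2] at oy
  · rw [k] at e
    obtain ⟨g, hg, rfl⟩ := c1 x hx k
    obtain ⟨h, hh, rfl⟩ := c2 y hy (mul_left_cancel (e.trans j2.symm))
    refine .inr ⟨g * h, Subgroup.mul_mem_sup hg hh, ?_⟩
    have k1 := hc a ha h hh
    have k2 := hc g⁻¹ (inv_mem hg) _ hy
    calc _ = g * (h * a) * (b * h⁻¹ * g⁻¹) := by group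
    _ = g * a * (h * b * h⁻¹ * g⁻¹) := by rw [← k1]; group
    _ = _ := by rw [← k2]; group

end Cfsg.Agent.S3209
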