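import Cfsg.Statements.S3210
import Cfsg.Agent.H19.S2t
import Cfsg.Agent.H29.ES
import Cfsg.Agent.H10.SL2b
-- import your own Cfsg.Agent.* helpers here

set_option autoImplicit false
open Cfsg

namespace Cfsg.Agent.S3210

open Matrix Subgroup
open scoped MatrixGroups commutatorElement

theorem comm_iff {F : Type*} [Field F] (a b : SL(2, F)) : a * b = b * a ↔
    a 0 1 * b 1 0 = a 1 0 * b 0 1 ∧ a 0 1 * (b 0 0 - b 1 1) = (a 0 0 - a 1 1) * b 0 1 ∧
      a 1 0 * (b 0 0 - b 1 1) = (a 0 0 - a 1 1) * b 1 0 := by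
  rw [Matrix.SpecialLinearGroup.ext_iff]
  simp only [Fin.forall_fin_two, Matrix.SpecialLinearGroup.coe_mul, mul_apply, Fin.sum_univ_two]
  exact ⟨fun ⟨⟨h1, h2⟩, h3, _⟩ => ⟨by linear_combination h1, by linear_combination -h2,
    by linear_combination h3⟩, fun ⟨h1, h2, h3⟩ => ⟨⟨by linear_combination h1,
    by linear_combination -h2⟩, by linear_combination h3, by linear_combination -h1⟩⟩

theorem scal {F : Type*} [Field F] {a : SL(2, F)} (h1 : a 0 1 = 0) (h2 : a 1 0 = 0)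
    (h3 : a 0 0 - a 1 1 = 0) : a = 1 ∨ a = -1 := by
  have := a.2
  rw [det_fin_two, h1, ← sub_eq_zero.1 h3, zero_mul, sub_zero, mul_self_eq_one_iff] at this
  refine this.imp (fun e => ?_) fun e => ?_ <;> ext i j <;> fin_cases i <;> fin_cases j <;>
    simp [h1, h2, ← sub_eq_zero.1 h3, e]

structure P {G : Type*} [Group G] (L : Subgroup G) (j : G) : Prop where
  z2 : ∀ l ∈ L, (∀ s ∈ L, ⁅l, s⁆ ∈ zpowers j) → l ∈ zpowers j
  ca : ∀ a ∈ L, ∀ b ∈ L, ∀ c ∈ L, a ∉ zpowers j → a * b = b * a → a * c = c * a → b * c = c * b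
  na : ∃ a ∈ L, ∃ b ∈ L, a * b ≠ b * a

theorem pack {G : Type*} [Group G] {F : Type*} [Field F] [Fintype F] (hF : Odd (Fintype.card F))
    {L : Subgroup G} (e : L ≃* SL(2, F)) {j : G} (hj : orderOf j = 2) (m : j ∈ L) : P L j := by
  have h2 := L0.two_ne_zero_of_odd hF
  have hjj : j * j = 1 := by rw [← sq, ← hj, pow_orderOf_eq_one]
  have ej : e ⟨j, m⟩ = -1 := (L0.eq_or_eq_neg_of_sq_s2 h2 (g := e ⟨j, m⟩) (by
    rw [sq, ← map_mul, e.map_eq_one_iff]; exact Subtype.ext hjj)).resolve_left fun r => by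
      rw [show j = 1 from congrArg Subtype.val (e.map_eq_one_iff.1 r), orderOf_one] at hj; omega
  have hz : ∀ l : L, l.1 ∈ zpowers j ↔ e l = 1 ∨ e l = -1 := fun l => by
    rw [H29.mem_zp2 hjj, ← ej, e.map_eq_one_iff, e.injective.eq_iff, Subtype.ext_iff, Subtype.ext_iff]
    rfl
  have hc : ∀ a b : L, a.1 * b.1 = b.1 * a.1 ↔ e a * e b = e b * e a := fun a b => by
    rw [← map_mul, ← map_mul, e.injective.eq_iff, Subtype.ext_iff]; rfl
  let u : SL(2, F) := ⟨!![1, 1; 0, 1], by simp⟩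
  let v : SL(2, F) := ⟨!![1, 0; 1, 1], by simp⟩
  refine ⟨fun l hl h => ?_, fun a ha b hb c hc' h h1 h3 => ?_, _, (e.symm u).2, _, (e.symm v).2,
    fun h => by
      have := (hc _ _).1 h
      rw [e.apply_symm_apply, e.apply_symm_apply, comm_iff] at this
      simp [u, v] at this⟩
  · have k : ∀ s : SL(2, F), s.1.trace = 2 → e ⟨l, hl⟩ * s = s * e ⟨l, hl⟩ := fun s hs => by
      rcases (hz ⁅(⟨l, hl⟩ : L), e.symm s⁆).1 (h _ (e.symm s).2) with r | r <;>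
        rw [map_commutatorElement, e.apply_symm_apply] at r
      · exact commutatorElement_eq_one_iff_mul_comm.1 r
      · have r1 := congrArg (fun x : SL(2, F) => x.1.trace) (eq_mul_of_mul_inv_eq r)
        simp only [Matrix.SpecialLinearGroup.coe_mul, neg_mul, one_mul, Matrix.SpecialLinearGroup.coe_neg,
          trace_neg] at r1
        rw [trace_mul_cycle, ← Matrix.SpecialLinearGroup.coe_mul, inv_mul_cancel] at r1
        simp [hs] at r1
        exact absurd (mul_eq_zero.1 (show (2 : F) * 2 = 0 by linear_combination r1)) (by simp [h2])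
    have a := (comm_iff _ _).1 (k u (by simp [u]; norm_num))
    have b := (comm_iff _ _).1 (k v (by simp [v]; norm_num))
    simp [u, v] at a b
    exact (hz ⟨l, hl⟩).2 (scal b.1 a.1.symm b.2.symm)
  · obtain ⟨a1, a2, a3⟩ := (comm_iff _ _).1 ((hc ⟨a, ha⟩ ⟨b, hb⟩).1 h1)
    obtain ⟨b1, b2, b3⟩ := (comm_iff _ _).1 ((hc ⟨a, ha⟩ ⟨c, hc'⟩).1 h3)
    rw [hc ⟨b, hb⟩ ⟨c, hc'⟩, comm_iff]
    by_contra hn
    refine h ((hz ⟨a, ha⟩).2 (scal ?_ ?_ ?_)) <;> by_contra h0 <;> grind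

variable {G : Type*} [Group G] {A B N M : Subgroup G} {j : G}

theorem dec (h : ∀ x ∈ A, ∀ y ∈ B, x * y = y * x) {t : G} (ht : t ∈ A ⊔ B) :
    ∃ a ∈ A, ∃ b ∈ B, t = a * b := by
  obtain ⟨b, hb, a, ha, rfl⟩ := (H1.mem_sup_iff_of_le_normalizer (show A ≤ normalizer (B : Set G) from
    fun x hx => centralizer_le_normalizer _ fun y hy => (h x hx y hy).symm)).1 (sup_comm A B ▸ ht)
  exact ⟨a, ha, b, hb, (h a ha b hb).symm⟩

theorem c1 (x : G) {y s : G} (h : y * s = s * y) : ⁅x * y, s⁆ = ⁅x, s⁆ := by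
  simp only [commutatorElement_def, mul_assoc x, h]; group

theorem c2 {x t : G} (s : G) (h : x * t = t * x) : ⁅x, s * t⁆ = ⁅x, s⁆ := by
  rw [← commutatorElement_inv, c1 s h.symm, commutatorElement_inv]

theorem key (h : ∀ x ∈ A, ∀ y ∈ B, x * y = y * x) (h' : ∀ x ∈ N, ∀ y ∈ M, x * y = y * x)
    (e : A ⊔ B = N ⊔ M) (hZ : N ⊓ M = zpowers j) (hj : j ∈ A) (pA : P A j) (pB : P B j) :
    A ≤ N ∨ A ≤ M := by
  have k : ∀ a ∈ A, ∃ n ∈ A ⊓ N, ∃ m ∈ A ⊓ M, a = n * m := fun a ha => by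
    obtain ⟨n, hn, m, hm, rfl⟩ := dec h' (e.le (mem_sup_left ha))
    obtain ⟨a, ha', b, hb, e'⟩ := dec h (e.ge (mem_sup_left hn))
    have : n ∈ A := e' ▸ mul_mem ha' (zpowers_le.2 hj (pB.z2 b hb fun s hs => by
      obtain ⟨n1, hn1, m1, hm1, rfl⟩ := dec h' (e.le (mem_sup_right hs))
      rw [← c1 b (h a ha' _ hs), ← h a ha' b hb, ← e', ← hZ]
      refine ⟨by rw [c2 n1 (h' n hn m1 hm1)]; exact commutator_le_self N (commutator_mem_commutator hn hn1), ?_⟩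
      rw [show n = m⁻¹ * (n * m) by rw [h' n hn m hm]; simp, c1 _ (h _ ha _ hs), h' n1 hn1 m1 hm1,
        c2 m1 (h' n1 hn1 _ (inv_mem hm)).symm]
      exact commutator_le_self M (commutator_mem_commutator (inv_mem hm) hm1)))
    exact ⟨n, ⟨this, hn⟩, m, ⟨(mul_mem_cancel_left this).1 ha, hm⟩, rfl⟩
  by_cases h1 : A ⊓ N ≤ zpowers j
  · refine .inr fun a ha => ?_
    obtain ⟨n, hn, m, hm, rfl⟩ := k a ha
    exact mul_mem (hZ.ge (h1 hn)).2 hm.2
  by_cases h2 : A ⊓ M ≤ zpowers j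
  · refine .inl fun a ha => ?_
    obtain ⟨n, hn, m, hm, rfl⟩ := k a ha
    exact mul_mem hn.2 (hZ.ge (h2 hm)).1
  obtain ⟨x, hx, x1⟩ := SetLike.not_le_iff_exists.1 h1
  obtain ⟨y, hy, y1⟩ := SetLike.not_le_iff_exists.1 h2
  obtain ⟨a, ha, b, hb, hab⟩ := pA.na
  obtain ⟨n, hn, m, hm, rfl⟩ := k a ha
  obtain ⟨n', hn', m', hm', rfl⟩ := k b hb
  exact absurd (Commute.mul_left (Commute.mul_right
    (pA.ca y hy.1 n hn.1 n' hn'.1 y1 (h' _ hn.2 _ hy.2).symm (h' _ hn'.2 _ hy.2).symm)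
    (h' _ hn.2 _ hm'.2)) (Commute.mul_right (h' _ hn'.2 _ hm.2).symm
    (pA.ca x hx.1 m hm.1 m' hm'.1 x1 (h' _ hx.2 _ hm.2) (h' _ hx.2 _ hm'.2)))) hab


/-- Let G be a finite group with subgroups L₁ ≅ SL₂(q₁) and L₂ ≅ SL₂(q₂), q₁ and q₂ odd prime powers, which commute elementwise and meet in ⟨j⟩ for an involution j, and suppose L₁L₂ has index 2 in C_G(j). Then every element n of C_G(j) outside L₁L₂ either normalizes both L₁ and L₂, or conjugates L₁ onto L₂; in the second case q₁ = q₂ and there is an element n′ of C_G(j) outside L₁L₂ conjugating L₁ onto L₂ with n′² ∈ ⟨j⟩. -/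
theorem result {G : Type*} [Group G] [Finite G]
    {F₁ : Type*} [Field F₁] [Fintype F₁] {F₂ : Type*} [Field F₂] [Fintype F₂]
    (hF₁ : Odd (Fintype.card F₁)) (hF₂ : Odd (Fintype.card F₂)) (L₁ L₂ : Subgroup G)
    (e₁ : ↥L₁ ≃* Matrix.SpecialLinearGroup (Fin 2) F₁) (e₂ : ↥L₂ ≃* Matrix.SpecialLinearGroup (Fin 2) F₂)
    (hc : ∀ x ∈ L₁, ∀ y ∈ L₂, x * y = y * x) (j : G) (hj : orderOf j = 2) (hm : L₁ ⊓ L₂ = Subgroup.zpowers j)
    (hle : L₁ ⊔ L₂ ≤ Subgroup.centralizer ({j} : Set G)) (hi : (L₁ ⊔ L₂).relIndex (Subgroup.centralizer ({j} : Set G)) = 2) (n : G) (hn : n ∈ Subgroup.centralizer ({j} : Set G)) (hn' : n ∉ L₁ ⊔ L₂) :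
    (L₁.map (MulAut.conj n).toMonoidHom = L₁ ∧ L₂.map (MulAut.conj n).toMonoidHom = L₂) ∨
      (L₁.map (MulAut.conj n).toMonoidHom = L₂ ∧ Fintype.card F₁ = Fintype.card F₂ ∧
        ∃ n' ∈ Subgroup.centralizer ({j} : Set G), n' ∉ L₁ ⊔ L₂ ∧ L₁.map (MulAut.conj n').toMonoidHom = L₂ ∧ n' ^ 2 ∈ Subgroup.zpowers j) := by
  have j1 := (hm.ge (mem_zpowers j)).1
  have j2 := (hm.ge (mem_zpowers j)).2
  have p1 := pack hF₁ e₁ hj j1
  have p2 := pack hF₂ e₂ hj j2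
  have hc' := fun x hx y hy => (hc y hy x hx).symm
  have hi2 : ∀ a ∈ centralizer ({j} : Set G), ∀ b ∈ centralizer ({j} : Set G),
      (a * b ∈ L₁ ⊔ L₂ ↔ (a ∈ L₁ ⊔ L₂ ↔ b ∈ L₁ ⊔ L₂)) := fun a ha b hb =>
    mul_mem_iff_of_index_two (a := ⟨a, ha⟩) (b := ⟨b, hb⟩) hi
  have inj := (MulAut.conj n).injective
  have card : ∀ X : Subgroup G, Nat.card (X.map (MulAut.conj n).toMonoidHom) = Nat.card X :=
    fun X => card_map_of_injective inj
  have h' : ∀ x ∈ L₁.map (MulAut.conj n).toMonoidHom, ∀ y ∈ L₂.map (MulAut.conj n).toMonoidHom,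
      x * y = y * x := by
    rintro _ ⟨x, hx, rfl⟩ _ ⟨y, hy, rfl⟩
    rw [← map_mul, hc x hx y hy, map_mul]
  have e : L₁ ⊔ L₂ = L₁.map (MulAut.conj n).toMonoidHom ⊔ L₂.map (MulAut.conj n).toMonoidHom := by
    rw [← Subgroup.map_sup]
    refine (eq_of_le_of_card_ge ?_ (card _).ge).symm
    rintro _ ⟨x, hx, rfl⟩
    change n * x * n⁻¹ ∈ _
    rw [hi2 _ (mul_mem hn (hle hx)) _ (inv_mem hn), hi2 _ hn _ (hle hx), inv_mem_iff]
    exact ⟨fun h => absurd (h.2 hx) hn', fun h => absurd h hn'⟩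
  have hZ : L₁.map (MulAut.conj n).toMonoidHom ⊓ L₂.map (MulAut.conj n).toMonoidHom = zpowers j := by
    rw [← map_inf_eq _ _ _ inj, hm, MonoidHom.map_zpowers]
    exact congrArg _ (mul_inv_eq_of_eq_mul (mem_centralizer_singleton_iff.1 hn))
  have no : ∀ X Y : Subgroup G, (∀ x ∈ X.map (MulAut.conj n).toMonoidHom,
      ∀ y ∈ Y.map (MulAut.conj n).toMonoidHom, x * y = y * x) → X ≤ L₁ ⊔ L₂ → P X j →
      L₁ ≤ Y.map (MulAut.conj n).toMonoidHom → ¬ L₂ ≤ Y.map (MulAut.conj n).toMonoidHom := by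
    intro X Y h hX p a b
    obtain ⟨x, hx, y, hy, hxy⟩ := p.na
    have := h _ ⟨x, hx, rfl⟩ _ (sup_le a b ((e.trans (Subgroup.map_sup L₁ L₂ _).symm).ge ⟨y, hX hy, rfl⟩))
    exact hxy (inj (by rw [map_mul, map_mul]; exact this))
  rcases key hc h' e hZ j1 p1 p2 with a | a <;>
    rcases key hc' h' (sup_comm L₁ L₂ ▸ e) hZ j2 p2 p1 with b | b
  · exact absurd b (no L₂ L₁ (fun x hx y hy => (h' y hy x hx).symm) le_sup_right p2 a)
  · exact .inl ⟨(eq_of_le_of_card_ge a (card _).le).symm, (eq_of_le_of_card_ge b (card _).le).symm⟩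
  swap
  · exact absurd b (no L₁ L₂ h' le_sup_left p1 a)
  have a' := card_le_of_le a
  have b' := card_le_of_le b
  have e1 := (eq_of_le_of_card_ge b (by rw [card] at a' ⊢; exact a')).symm
  have e2 := (eq_of_le_of_card_ge a (by rw [card] at b' ⊢; exact b')).symm
  refine .inr ⟨e1, ?_, ?_⟩
  · have h1 := card L₁
    rw [e1, Nat.card_congr e₁.toEquiv, Nat.card_congr e₂.toEquiv, H10.card_SL2, H10.card_SL2,
      Nat.card_eq_fintype_card, Nat.card_eq_fintype_card] at h1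
    have k : ∀ a b : ℕ, a < b → 1 < a → a * (a - 1) * (a + 1) < b * (b - 1) * (b + 1) :=
      fun a b h _ => Nat.mul_lt_mul'' (Nat.mul_lt_mul'' h (by omega)) (by omega)
    by_contra h
    rcases lt_or_gt_of_ne h with h | h
    · exact (k _ _ h Fintype.one_lt_card).ne' h1
    · exact (k _ _ h Fintype.one_lt_card).ne h1
  obtain ⟨a, ha, b, hb, hab⟩ := dec hc ((hi2 n hn n hn).2 Iff.rfl)
  have ha' := inv_mem (le_sup_left.trans hle ha)
  have k1 : n * a⁻¹ * n⁻¹ ∈ L₂ := e1.le ⟨_, inv_mem ha, rfl⟩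
  have k2 : n * b * n⁻¹ ∈ L₁ := e2.le ⟨_, hb, rfl⟩
  refine ⟨a⁻¹ * n, mul_mem ha' hn, by
    rw [hi2 _ ha' _ hn, inv_mem_iff]; simp [hn', mem_sup_left ha], ?_, ?_⟩
  · refine eq_of_le_of_card_ge ?_ (by rw [card_map_of_injective (MulAut.conj _).injective, ← e1, card])
    rintro _ ⟨x, hx, rfl⟩
    have h1 : n * x * n⁻¹ ∈ L₂ := e1.le ⟨x, hx, rfl⟩
    convert h1 using 1
    calc _ = a⁻¹ * (n * x * n⁻¹ * a) := by simp [mul_assoc]
      _ = _ := by rw [← hc a ha _ h1]; simp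
  · rw [← hm]
    have k3 : (a⁻¹ * n) ^ 2 = a⁻¹ * (n * a⁻¹ * n⁻¹) * (n * n) := by rw [sq]; group
    constructor
    · have : (a⁻¹ * n) ^ 2 = a⁻¹ * (n * (a⁻¹ * (n * n)) * n⁻¹) := by rw [sq]; group
      rw [this, hab, inv_mul_cancel_left]
      exact L₁.mul_mem (L₁.inv_mem ha) k2
    · rw [k3, hc _ (inv_mem ha) _ k1, hab, mul_assoc, inv_mul_cancel_left]
      exact L₂.mul_mem k1 hb


end Cfsg.Agent.S3210
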