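import Cfsg.Statements.S3222
import Mathlib
import Cfsg.Agent.H20.L2a
import Cfsg.Agent.GW.Cons1
import Cfsg.Agent.H10.Sym3
import Cfsg.Agent.H10.PSL2Max3

set_option autoImplicit false
open Cfsg

namespace Cfsg.Agent.S3222

open Cfsg.Agent.FT Cfsg.Agent.GW Cfsg.Agent.H20 Cfsg.Agent.H10 Subgroup Equiv
open scoped MatrixGroups commutatorElement

section

/-- the group `Z₂ × S₄` -/
abbrev K := Multiplicative (ZMod 2) × Perm (Fin 4)
def kt : K := (Multiplicative.ofAdd 1, 1)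
def ka : K := (1, c[0, 1, 2, 3])
def kb : K := (1, swap 0 2)
def kx : K := (1, c[0, 1, 2])
def kz : K := ka * ka

theorem k1 : ∀ c : K, (∀ y, y * c = c * y) → c = 1 ∨ c = kt := by decide +kernel
theorem k2 : (Finset.univ.filter fun y : K => y * kz = kz * y).card = 16 := by decide +kernel
theorem k3 : ∀ y : K, y * kz = kz * y → ∀ w : K, w * kz = kz * w →
    y * w * y⁻¹ * w⁻¹ = 1 ∨ y * w * y⁻¹ * w⁻¹ = kz := by decide +kernel
set_option synthInstance.maxSize 2000 in
theorem k4 : ∀ y : K, y * kz = kz * y → (y * y = 1 ∨ y * y = kz) ∧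
    (y * y = 1 ∨ y = ka ∨ y = ka⁻¹ ∨ y = kt * ka ∨ y = (kt * ka)⁻¹) ∧
    (y * kx = kx * y → y = 1 ∨ y = kt) := by decide +kernel
set_option synthInstance.maxSize 2000 in
theorem k5 : ∀ y : K, y.1 = 1 → y * y = 1 → y = 1 ∨ (∃ g, g * kz * g⁻¹ = y) ∨ ∃ g, g * kb * g⁻¹ = y := by
  decide +kernel
set_option synthInstance.maxSize 2000 in
theorem k6 : kz * kz = 1 ∧ kz ≠ 1 ∧ kt * kz ≠ kt ∧ kt * kz ≠ kz ∧ kt * kz ≠ 1 ∧ kx ^ 3 = 1 ∧ kx ≠ 1 ∧
    kt * ka * (kt * ka) = kz ∧ kt * (kt * ka) = ka ∧ kt * (kt * ka)⁻¹ = ka⁻¹ ∧ kt * ka⁻¹ = (kt * ka)⁻¹ ∧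
    (kx * kz * kx⁻¹ * kz⁻¹) ^ 2 = 1 ∧ kx * kz * kx⁻¹ * kz⁻¹ ≠ 1 ∧
    ∃ g : K, g ^ 3 = 1 ∧ kz = kx * g * kx⁻¹ * g⁻¹ := by decide +kernel

variable {G : Type*} [Group G] [Finite G] {A P : Type*} [Group A] [Finite A] [Group P] [Finite P]

theorem of_ind {ι : A →* G} (hι : Function.Injective ι) [ι.range.Normal] (hC : C(ι.range) = ⊥)
    (φ : P →* MulAut A) (h : ∀ g θ, Ind ι g θ → θ ∈ φ.range) :
    Nat.card G ≤ Nat.card P ∧ (Nat.card G = Nat.card P → Nonempty (G ≃* P)) := by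
  choose f hf using fun g : G => exists_ind hι (g := g) (by rw [normalizer_eq_top]; trivial)
  let f' : G →* φ.range := MonoidHom.mk' (fun g => ⟨f g, h g _ (hf g)⟩) fun a b =>
    Subtype.ext ((hf _).uniq hι ((hf a).mul (hf b)))
  have h1 : Function.Injective f' := (injective_iff_map_eq_one _).2 fun g hg =>
    mem_bot.1 (hC.le (Ind.cen ((show f g = 1 from congrArg Subtype.val hg) ▸ hf g)))
  have h2 := Nat.card_le_card_of_injective _ h1
  have h3 := Nat.card_le_card_of_surjective _ φ.rangeRestrict_surjective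
  exact ⟨h2.trans h3, fun e => ⟨(MulEquiv.ofBijective f' (h1.bijective_of_nat_card_le (by omega))).trans
    (MulEquiv.ofBijective _ (φ.rangeRestrict_surjective.bijective_of_nat_card_le (by omega))).symm⟩⟩

theorem alt_mem {n : ℕ} (hn : 4 ≤ n) (θ : MulAut (alternatingGroup (Fin n)))
    (h : n ≠ 6 ∨ ∃ c : alternatingGroup (Fin n), c.1.IsThreeCycle ∧ (θ c).1.IsThreeCycle) :
    θ ∈ (MulAut.conjNormal : Perm (Fin n) →* MulAut (alternatingGroup (Fin n))).range := by
  obtain ⟨σ, hσ⟩ := alt_aut_conj (by simpa) θ (by rwa [Fintype.card_fin])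
  exact ⟨σ, MulEquiv.ext fun g => Subtype.ext (hσ g).symm⟩

theorem a6_three (α : MulAut (alternatingGroup (Fin 6))) {x : alternatingGroup (Fin 6)} (hx : orderOf x = 3)
    (h : α x = x) : ∃ c : alternatingGroup (Fin 6), c.1.IsThreeCycle ∧ (α c).1.IsThreeCycle := by
  classical
  have type3 {g : Perm (Fin 6)} (h : orderOf g = 3) : g.cycleType = {3} ∨ g.cycleType = {3, 3} := by
    obtain ⟨k, hk, hs⟩ := cycleType_of_orderOf_three h
    rw [Fintype.card_fin] at hs
    obtain rfl | rfl : k = 0 ∨ k = 1 := by omega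
    exacts [.inl hk, .inr hk]
  by_contra! hcon
  have h1 : ¬ x.1.IsThreeCycle := fun c => hcon x c (h.symm ▸ c)
  set T : Finset (alternatingGroup (Fin 6)) := {g | g.val.cycleType = {3}} with hT
  set T' : Finset (alternatingGroup (Fin 6)) := {g | g.val.cycleType = {3, 3}} with hT'
  have c1 : T.card = 40 := by rw [hT, AlternatingGroup.card_of_cycleType]; decide
  have c2 : T'.card = 40 := by rw [hT', AlternatingGroup.card_of_cycleType]; decide
  have heq : T.image α = T' := Finset.eq_of_subset_of_card_le (fun d hd => by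
    obtain ⟨c, hc, rfl⟩ := Finset.mem_image.1 hd
    have hc3 : c.1.IsThreeCycle := (Finset.mem_filter.1 hc).2
    exact Finset.mem_filter.2 ⟨Finset.mem_univ _, (type3 (by
      rw [orderOf_coe, MulEquiv.orderOf_eq, ← orderOf_coe, hc3.orderOf])).resolve_left (hcon c hc3)⟩)
    (by rw [Finset.card_image_of_injective _ α.injective, c1, c2])
  obtain ⟨d, hd, e⟩ := Finset.mem_image.1 (heq.ge (Finset.mem_filter.2 ⟨Finset.mem_univ x,
    (type3 ((orderOf_coe x).trans hx)).resolve_left h1⟩))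
  exact h1 (α.injective (e.trans h.symm) ▸ (Finset.mem_filter.1 hd).2)

theorem exists_emb {M : Subgroup G} (e : M ≃* A) : ∃ ι : A →* G, Function.Injective ι ∧ ι.range = M :=
  ⟨M.subtype.comp e.symm.toMonoidHom, M.subtype_injective.comp e.symm.injective, by
    rw [MonoidHom.range_comp, MonoidHom.range_eq_top.2 e.symm.surjective, ← MonoidHom.range_eq_map,
      range_subtype]⟩

end

/-- Let G be a finite group of even order such that (1) some involution t lying in the centre of a Sylow 2-subgroup of G has C_G(t) ≅ Z₂ × S₄, and (2) every Sylow 2-subgroup S of G satisfies C_G(S′) = S, where S′ is the derived subgroup of S. Then G = C_G(t) if G is solvable, and G ≅ S₆ otherwise. -/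
theorem result {G : Type*} [Group G] [Finite G] (hev : Even (Nat.card G))
    (t : G) (ht : orderOf t = 2) (T : Sylow 2 G) (htT : t ∈ (T : Subgroup G)) (htc : ∀ s ∈ (T : Subgroup G), s * t = t * s)
    (e : ↥(Subgroup.centralizer ({t} : Set G)) ≃* (Multiplicative (ZMod 2) × Equiv.Perm (Fin 4)))
    (h2 : ∀ S : Sylow 2 G, Subgroup.centralizer ((⁅(S : Subgroup G), (S : Subgroup G)⁆ : Subgroup G) : Set G) = (S : Subgroup G)) :
    (Group.IsSolvable G → Subgroup.centralizer ({t} : Set G) = ⊤) ∧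
      (¬ Group.IsSolvable G → Nonempty (G ≃* Equiv.Perm (Fin 6))) := by
  obtain ⟨ψ, hψ, hH⟩ := exists_emb e
  have c48 : #C[t] = 48 := by rw [Nat.card_congr e.toEquiv]; simp [Nat.factorial, Fintype.card_perm]
  obtain ⟨z1, z2, z3, z4, z5, x1, x2, a1, a2, a3, a4, x3, x4, y, y1, y2⟩ := k6
  have hH' {g : G} (h : g ∈ C[t]) : ∃ k, ψ k = g := hH.ge h
  have ct (k : K) : ψ k * t = t * ψ k := mem_cen1.1 (hH.le ⟨k, rfl⟩)
  obtain rfl : ψ kt = t := by
    obtain ⟨k, rfl⟩ := hH' (self_mem_cen1 t)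
    obtain rfl | rfl := k1 k fun y => hψ (by rw [map_mul, map_mul, ct])
    · simp at ht
    · rfl
  have ht : Invo (ψ kt) := ht
  have hz : Invo (ψ kz) := (orderOf_injective ψ hψ _).trans (invo_of z1 z2)
  have c16 : #(C[kz].map ψ) = 2 ^ 4 := by
    rw [card_map_inj hψ, show 2 ^ 4 = 16 from rfl, ← k2, ← Fintype.card_subtype, ← Nat.card_eq_fintype_card]
    exact Nat.card_congr (Equiv.subtypeEquivRight fun x => mem_cen1)
  have hT := syl_top Nat.prime_two T
  have hS : Syl 2 (C[kz].map ψ) ⊤ := by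
    obtain ⟨R, h1, h3⟩ := (pGrp_of_card Nat.prime_two c16).exists_syl le_top
    obtain ⟨n, hn⟩ := hT.pi.card
    have h4 := card_dvd (show (T : Subgroup G) ≤ C[ψ kt] from fun s hs => mem_cen1.2 (htc s hs))
    rw [c48, hn] at h4
    have h5 : n ≤ 4 := by_contra fun c => absurd ((Nat.pow_dvd_pow 2 (by omega : 5 ≤ n)).trans h4) (by decide)
    exact eq_of_le_of_card_ge h3 (by rw [c16, h1.card_eq hT, hn]; exact Nat.pow_le_pow_right two_pos h5) ▸ h1
  have hC : C[ψ kz] = C[kz].map ψ := by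
    refine le_antisymm ?_ (map_le_iff_le_comap.2 fun g hg => mem_cen1.2 (by
      rw [← map_mul, mem_cen1.1 hg, map_mul]))
    obtain ⟨R, hR⟩ := (syl_top_iff Nat.prime_two).1 hS
    rw [← hR, ← h2 R, hR, ← map_commutator, ← cen_zpowers]
    refine cen_anti (map_le_iff_le_comap.2 (commutator_le.2 fun a ha b hb => ?_))
    obtain c | c := k3 a (mem_cen1.1 ha) b (mem_cen1.1 hb)
    · exact commutatorElement_def a b ▸ c ▸ one_mem _
    · exact commutatorElement_def a b ▸ c ▸ mem_zpowers _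
  rw [← hC] at hS c16
  have hS' {g : G} (h : g ∈ C[ψ kz]) : ∃ k, k * kz = kz * k ∧ ψ k = g :=
    let ⟨k, h1, h2⟩ := hC.le h; ⟨k, mem_cen1.1 h1, h2⟩
  have hS2 {k : K} (h : k * kz = kz * k) : ψ k ∈ C[ψ kz] := hC.ge ⟨k, mem_cen1.2 h, rfl⟩
  have hSt : C[ψ kz] ≤ C[ψ kt] := hC ▸ (map_le_range _ _).trans hH.le
  have ka1 : ψ ka ∈ C[ψ kz] := hS2 (mul_assoc _ _ _).symm
  have hN : N(C[ψ kz]) ≤ C[ψ kz] := fun g hg => by
    obtain ⟨k, h1, h3⟩ := hS' (conj_mem hg ka1)
    have h4 : ψ (k * k) = g * ψ kz * g⁻¹ := by rw [map_mul, h3, kz, map_mul]; group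
    obtain c | c := (k4 k h1).1
    · exact absurd (by rw [← h4, c, map_one]) (hz.conj g).ne
    · exact mem_cen1.2 (mul_inv_eq_iff_eq_mul.1 (by rw [← h4, c]))
  have fus {u v : G} (hu : C[ψ kz] ≤ C[u]) (hv : C[ψ kz] ≤ C[v]) (h : IsConj u v) : u = v := by
    obtain ⟨g, rfl⟩ := isConj_iff.1 h
    obtain ⟨k, hk, e⟩ := (hS.subl hv le_top).syl_Jsub (hS.pi.cj g) (cj_cen1 g u ▸ cj_mono g hu)
    have h1 : k * g ∈ C[u] := hu (hN (mem_nrm_of_cj_le (by rwa [← cj_cj])))
    rw [← mul_inv_eq_iff_eq_mul.2 (mem_cen1.1 hk), show k * (g * u * g⁻¹) * k⁻¹ = k * g * u * (k * g)⁻¹ by group,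
      mem_cen1.1 h1, mul_inv_cancel_right]
  have htz : C[ψ kz] ≤ C[ψ kt * ψ kz] := fun g hg => mem_cen1.2 (by
    rw [← mul_assoc, mem_cen1.1 (hSt hg), mul_assoc, mem_cen1.1 hg, mul_assoc])
  have htz2 : ψ kt * ψ kz * (ψ kt * ψ kz) = 1 := by
    rw [mul_assoc, ← mul_assoc (ψ kz), ct, mul_assoc, hz.sq, mul_one, ht.sq]
  obtain ⟨M, hi, htM⟩ : ∃ M : Subgroup G, M.index = 2 ∧ ψ kt ∉ M := by
    by_contra! c
    have hD : ((MonoidHom.fst _ _).ker ⊓ C[kz]).map ψ ≤ C[ψ kz] := hC ▸ map_mono inf_le_right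
    have key {u : G} (h1 : u ≠ 1) (h3 : u * u = 1) (h4 : C[ψ kz] ≤ C[u]) (h5 : u ≠ ψ kz)
        (h6 : ∀ M : Subgroup G, M.index = 2 → u ∈ M) : IsConj u (ψ kb) := by
      obtain ⟨g, k, hk, e⟩ : ∃ g, g * u * g⁻¹ ∈ ((MonoidHom.fst _ _).ker ⊓ C[kz]).map ψ := by
        by_contra! c
        obtain ⟨M, -, h7, h8⟩ := thompson hS hD (by
          rw [hC, relIndex_map_map_of_injective _ _ hψ, inf_relIndex_right, relIndex_ker,
            show C[kz].map (MonoidHom.fst _ _) = ⊤ from eq_top_iff.2 fun x _ =>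
              ⟨(x, 1), mem_cen1.2 (Prod.ext (mul_comm _ _) ((one_mul _).trans (mul_one _).symm)), rfl⟩]
          simp) (mem_top u) h3 fun g _ => c g
        exact h8 (h6 M (by rwa [relIndex_top_right] at h7))
      have h7 : IsConj u (ψ k) := isConj_iff.2 ⟨g, e.symm⟩
      obtain rfl | ⟨w, rfl⟩ | ⟨w, rfl⟩ := k5 k hk.1 (hψ (by
        rw [map_mul, e, map_one, conj_mul, h3, mul_one, mul_inv_cancel]))
      · exact absurd (by simpa using h7) h1
      · exact absurd (fus h4 le_rfl (h7.trans (isConj_iff.2 ⟨ψ w, by simp⟩).symm)) h5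
      · exact h7.trans (isConj_iff.2 ⟨ψ w, by simp⟩).symm
    refine z3 (hψ ((map_mul _ _ _).trans (fus htz hSt ((key ?_ htz2 htz ?_ fun M h => mul_mem (c M h) ?_).trans
      (key ht.ne ht.sq hSt (fun e => ?_) c).symm))))
    · exact fun e => z5 (hψ (by rw [map_mul, e, map_one]))
    · exact fun e => z4 (hψ (by rw [map_mul, e]))
    · exact (map_mul ψ _ _).symm ▸ mul_self_mem_of_index_two h _
    · rw [e, c16] at c48; omega
  haveI := normal_of_index_eq_two hi
  have hcM := M.card_mul_index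
  rw [hi] at hcM
  have zM : ψ kz ∈ M := (map_mul ψ _ _).symm ▸ mul_self_mem_of_index_two hi _
  have odd {N : Subgroup G} (h : ∀ g ∈ M, g * g ∈ N) {k : K} (hk : k ^ 3 = 1) : ψ k ∈ N := by
    have := h _ (mul_self_mem_of_index_two hi (ψ k))
    rwa [← map_mul, ← map_mul, show k * k * (k * k) = k ^ 3 * k by simp only [pow_succ, pow_zero, one_mul, mul_assoc],
      hk, one_mul] at this
  have oM : ∀ g ∈ M, g * g ∈ M := fun g hg => mul_mem hg hg
  have tM {g : G} : ψ kt * g ∈ M ↔ g ∉ M := by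
    rw [mul_mem_iff_of_index_two hi, iff_false_intro htM, false_iff]
  obtain ⟨a, aM, h3, h4⟩ : ∃ a ∈ M, a * a = ψ kz ∧ ∀ g ∈ C[ψ kz] ⊓ M, g * g = 1 ∨ g = a ∨ g = a⁻¹ := by
    by_cases c : ψ ka ∈ M
    · refine ⟨_, c, (map_mul _ _ _).symm, fun g hg => ?_⟩
      obtain ⟨k, h1, rfl⟩ := hS' hg.1
      obtain h | rfl | rfl | rfl | rfl := (k4 k h1).2.1
      · exact .inl (by rw [← map_mul, h, map_one])
      · exact .inr (.inl rfl)
      · exact .inr (.inr (map_inv _ _))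
      · exact absurd c (tM.1 (by simpa only [map_mul] using (mem_inf.1 hg).2))
      · exact absurd c (tM.1 (by simpa only [map_inv, inv_mem_iff, map_mul] using (mem_inf.1 hg).2))
    · refine ⟨ψ (kt * ka), (map_mul ψ _ _).symm ▸ tM.2 c, by rw [← map_mul, a1], fun g hg => ?_⟩
      obtain ⟨k, h1, rfl⟩ := hS' hg.1
      obtain h | rfl | rfl | rfl | rfl := (k4 k h1).2.1
      · exact .inl (by rw [← map_mul, h, map_one])
      · exact absurd hg.2 c
      · exact absurd (inv_mem_iff.1 (map_inv ψ _ ▸ hg.2)) c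
      · exact .inr (.inl rfl)
      · exact .inr (.inr (map_inv _ _))
  have h5 : #⟪a⟫ = 4 := (card_zpowers' a).trans (orderOf_eq_prime_pow (p := 2) (n := 1)
    (by rw [pow_one, sq, h3]; exact hz.ne) (by rw [show 2 ^ (1 + 1) = 2 * 2 from rfl, pow_mul, sq, sq, h3, hz.sq]))
  have h6 : ⟪a⟫ ≤ C[ψ kz] ⊓ M := zpowers_le.2 ⟨mem_cen1.2 (by rw [← h3, mul_assoc]), aM⟩
  have h7 := (syl_inf_index_two hS le_top (by rwa [relIndex_top_right])).2
  have hd : Dh (C[ψ kz] ⊓ M) ⟪a⟫ (ψ kz) := ⟨hS.pi.inf_left _, cyc_zpowers a, h6,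
    H3.relIndex_of_card_mul h6 (by omega), hz, h3 ▸ mul_mem (mem_zpowers a) (mem_zpowers a), fun s hs c =>
      invo_of ((h4 s hs).resolve_right (by
        rintro (rfl | rfl)
        exacts [c (mem_zpowers _), c (inv_mem (mem_zpowers _))])) fun e => c (e ▸ one_mem _)⟩
  have h8 := hd.so inf_le_right
  rw [so_inf, subgroupOf_self, inf_top_eq, so_cen1 (⟨_, zM⟩ : M)] at h8
  have h9 : #(⟪a⟫.subgroupOf M) = 4 := by rw [card_so (h6.trans inf_le_right), h5]
  have xM {N : Subgroup G} (h : ∀ g ∈ M, g * g ∈ N) (c : ¬ #N ∣ 48) : C(N) = ⊥ := by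
    refine eq_bot_iff.2 fun g hg => ?_
    have e1 := mem_cen.1 hg _ (odd h x1)
    have e2 := mem_cen.1 hg _ (odd h y1)
    obtain ⟨k, h1, rfl⟩ := hS' (g := g) (mem_cen1.2 (by
      rw [y2, ← commutatorElement_def, map_commutatorElement]
      exact (Commute.mul_right (Commute.mul_right (Commute.mul_right e1.symm e2.symm)
        (Commute.inv_right e1.symm)) (Commute.inv_right e2.symm)).eq))
    obtain rfl | rfl := (k4 k h1).2.2 (hψ (by rw [map_mul, map_mul, e1]))
    · exact map_one ψ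
    · exact absurd (c48 ▸ card_dvd (le_cen1.2 hg)) c
  obtain c | ⟨⟨f⟩⟩ | ⟨⟨f⟩⟩ | c := h8.d8_all h9
  · have c1 := (npc_iff Nat.prime_two).2 ((npc_top_iff Nat.prime_two).1 c)
    have c2 := c1.hall.mem_of_nml (pcore_nrm _ _) (odd oM x1)
      ((piElt_of_orderOf_prime Nat.prime_three (orderOf_eq_prime (by rw [← map_pow, x1, map_one])
        fun e => x2 (hψ (e.trans (map_one ψ).symm)))).2 (by decide))
    refine (x4 (hψ ((eq_one_of_sq (odd_orderOf (odd_core M) ?_) ?_).trans (map_one ψ).symm))).elim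
    · rw [map_mul, map_mul, map_mul, map_inv, map_inv, mul_assoc, mul_assoc, ← mul_assoc (ψ kz)]
      exact mul_mem c2 (conj_mem (pcore_nrm _ _ zM) (inv_mem c2))
    · rw [← map_mul, ← sq, x3, map_one]
  · have c : C[ψ kt] = ⊤ := eq_top_of_card_eq _ (by
      rw [c48, ← hcM, Nat.card_congr f.toEquiv]; simp [Nat.factorial, Fintype.card_perm])
    refine ⟨fun _ => c, fun h => (h ?_).elim⟩
    haveI := isSolvable_S4
    exact isSolvable_of_equiv ((topEquiv.symm.trans (MulEquiv.subgroupCongr c.symm)).trans e) inferInstance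
  · obtain ⟨ι, hι, rfl⟩ := exists_emb f
    have c1 : (ι.comp (alternatingGroup (Fin 5)).subtype).range = ⁅ι.range, ι.range⁆ := by
      rw [MonoidHom.range_comp, range_subtype, ← alternatingGroup.commutator_perm_eq (by simp),
        _root_.commutator_def, map_commutator, ← MonoidHom.range_eq_map]
    have c2 := hι.comp (alternatingGroup (Fin 5)).subtype_injective
    haveI : (ι.comp (alternatingGroup (Fin 5)).subtype).range.Normal := c1 ▸ inferInstance
    have := (of_ind (ι := ι.comp (alternatingGroup (Fin 5)).subtype) c2 (xM (by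
      rintro _ ⟨g, rfl⟩
      exact ⟨⟨g * g, by simp [Perm.mem_alternatingGroup]⟩, map_mul ι g g⟩) (by
      rw [← Nat.card_congr (MonoidHom.ofInjective c2).toEquiv, nat_card_alternatingGroup]
      simp [Nat.factorial])) _ fun g θ _ => alt_mem (by simp) θ (.inl (by simp))).1
    rw [← hcM, Nat.card_congr f.toEquiv] at this
    simp [Nat.factorial, Fintype.card_perm] at this
  have xM' := xM oM
  obtain ⟨⟨f⟩⟩ | ⟨F, _, _, hF, ⟨f⟩⟩ := h8.d8 h9 c
  · have c1 : #M = 360 := by rw [Nat.card_congr f.toEquiv, nat_card_alternatingGroup]; simp [Nat.factorial, Fintype.card_perm]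
    suffices k : Nonempty (G ≃* Perm (Fin 6)) from ⟨fun h => (Perm.not_isSolvable (Fin 6) (by simp; norm_cast)
      (isSolvable_of_equiv k.some.symm h)).elim, fun _ => k⟩
    have xM2 := odd oM x1
    obtain ⟨ι, hι, rfl⟩ := exists_emb f
    refine (of_ind hι (xM' (by rw [c1]; decide)) MulAut.conjNormal fun g θ h => ?_).2
      (by rw [← hcM, c1]; simp [Nat.factorial, Fintype.card_perm])
    have k {g θ} (h : Ind ι g θ) (hg : g ∈ ι.range) :
        θ ∈ (MulAut.conjNormal : Perm (Fin 6) →* MulAut (alternatingGroup (Fin 6))).range := by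
      obtain ⟨w, rfl⟩ := hg
      exact ⟨w, Ind.uniq hι (Ind.self w) h⟩
    by_cases c : g ∈ ι.range
    · exact k h c
    obtain ⟨θ', h'⟩ := exists_ind hι (g := ψ kt) (by rw [normalizer_eq_top]; trivial)
    obtain ⟨x, hx⟩ := xM2
    exact (Subgroup.mul_mem_cancel_left _ (alt_mem (by simp) θ' (.inr (a6_three θ' (x := x) (by
      rw [← orderOf_injective ι hι, hx, orderOf_injective ψ hψ]; exact orderOf_eq_prime x1 x2)
      ((h'.mem_cen1 hι).1 (hx ▸ mem_cen1.2 (ct kx))))))).1 (k (h'.mul h) (tM.2 c))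
  · rw [← Nat.card_eq_fintype_card] at hF
    have c0 := card_PSL2 (F := F)
    have c1 : #M = 168 := by rw [Nat.card_congr f.toEquiv]; rw [hF] at c0; norm_num at c0; omega
    obtain ⟨ι, hι, rfl⟩ := exists_emb f
    obtain ⟨ε⟩ := (of_ind hι (xM' (by rw [c1]; decide)) pglAut fun g θ h => by
      obtain ⟨g, σ, rfl⟩ := aut_PSL2 θ
      haveI : Fact (Nat.Prime 7) := ⟨by norm_num⟩
      haveI := (Nat.card_eq_one_iff_unique.1 (ringAut_cyclic_card (F := F) (p := 7) (f := 1)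
        (Nat.card_eq_fintype_card.symm.trans hF)).2).1
      rw [Subsingleton.elim σ 1, map_one, mul_one, range_pglAut]
      exact ⟨g, rfl⟩).2 (by rw [← hcM, c1, card_PGL2, hF])
    obtain ⟨p, hp, _⟩ := exists_charP F
    haveI := Fact.mk hp
    obtain ⟨w, h10, h11⟩ := pgl_invo p (by rw [hF]; decide) (a := ε (ψ kt)) ((ε.orderOf_eq _).trans ht)
    have h12 := (h10.alt.resolve_left fun k => k.2 (by rw [← map_mul, ht.sq, map_one])).2.1
    have h13 : #C[ε (ψ kt)] = 48 := c48 ▸ Nat.card_congr (ε.symm.toEquiv.subtypeEquiv fun w => by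
      obtain ⟨w, rfl⟩ := ε.surjective w
      simp [mem_cen1, ← map_mul])
    rw [card_zpowers'] at h12
    omega

end Cfsg.Agent.S3222
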