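import Cfsg.Statements.S3243
import Mathlib
import Cfsg.Agent.H1.Six9
import Cfsg.Agent.H28.MZ2

set_option autoImplicit false
open Cfsg

namespace Cfsg.Agent.S3243

open Subgroup Cfsg.Agent.FT

/-- Let G be a finite non-abelian simple group with a single conjugacy class of involutions containing an element t of order 6 with C_G(t) = ⟨t⟩. Then G is isomorphic to L₂(11), L₂(13), L₃(3), the Mathieu group M₁₁, or the Janko group J₁. -/
theorem result {G : Type*} [Group G] [Finite G] [IsSimpleGroup G]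
    (hG : ¬ IsMulCommutative G) (h1 : ∀ x y : G, orderOf x = 2 → orderOf y = 2 → IsConj x y)
    (t : G) (ht : orderOf t = 6) (hC : Subgroup.centralizer ({t} : Set G) = Subgroup.zpowers t) :
    (∃ (F : Type) (_ : Field F) (_ : Fintype F), (Fintype.card F = 11 ∨ Fintype.card F = 13) ∧
        Nonempty (G ≃* Matrix.ProjectiveSpecialLinearGroup (Fin 2) F)) ∨
      (∃ (F : Type) (_ : Field F) (_ : Fintype F), Fintype.card F = 3 ∧ Nonempty (G ≃* Matrix.ProjectiveSpecialLinearGroup (Fin 3) F)) ∨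
      Cfsg.Spor.IsoM11 G ∨ Cfsg.Spor.IsoJ1 G := by
  have p : ∀ n, t ^ n = 1 ↔ 6 ∣ n := fun n => by rw [← ht, orderOf_dvd_iff_pow_eq_one]
  have o2 : orderOf (t ^ 3) = 2 := by rw [orderOf_pow' _ (by norm_num), ht]; rfl
  have o3 : orderOf (t ^ 2) = 3 := by rw [orderOf_pow' _ (by norm_num), ht]; rfl
  refine H1.Six.main6 (t := t ^ 3) (y := t ^ 2) ⟨mt (p 3).1 (by norm_num), by rw [← pow_add, p], o3,
    mem_cen1.2 (Commute.pow_pow_self t 2 3), fun a h3 h2 => ?_, fun a b aa a1 bb b1 =>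
      isConj_iff.1 (h1 a b (H1.Six.o2 aa a1) (H1.Six.o2 bb b1)), ?_⟩
  · have : a ∈ zpowers t := hC ▸ H1.Six.csym ((mul_mem_cancel_right (H1.Six.csym h2)).1 (pow_succ' t 2 ▸ H1.Six.csym h3))
    refine (H3.mem_zpowers_sq_or this).imp_right ?_
    rintro ⟨b, hb, rfl⟩
    rw [mul_assoc, ← pow_succ', show 3 + 1 = 2 * 2 from rfl, pow_mul]
    exact mul_mem hb (pow_mem (mem_zpowers _) 2)
  · obtain ⟨g, e1, e2⟩ := H28.MZ.hx_simple o2 (by
      by_contra! z
      exact hG ⟨⟨z⟩⟩)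
    exact ⟨g, mem_cen1.2 e1, e2⟩

end Cfsg.Agent.S3243
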