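import Cfsg.Statements.S3258
import Mathlib
import Cfsg.Agent.H27.Homog2

set_option autoImplicit false
open Cfsg

namespace Cfsg.Agent.S3258

open Subgroup FT H27

/-- Let π be a set of primes containing 2 and G a finite group all of whose π-subgroups (subgroups whose order is divisible only by primes in π) have a normal Sylow 2-subgroup. Then the π'-elements of G (elements whose order is divisible by no prime in π) form a subgroup if and only if N_G(H)/C_G(H) is a π-group for every nontrivial π-subgroup H of G. -/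
theorem result {G : Type*} [Group G] [Finite G] (π : Set ℕ) (h2 : 2 ∈ π)
    (hcl : ∀ H : Subgroup G, (∀ p : ℕ, p.Prime → p ∣ Nat.card ↥H → p ∈ π) → ∀ P : Sylow 2 ↥H, (P : Subgroup ↥H).Normal) :
    (∃ K : Subgroup G, ∀ x : G, x ∈ K ↔ ∀ p : ℕ, p.Prime → p ∣ orderOf x → p ∉ π) ↔
      (∀ H : Subgroup G, H ≠ ⊥ → (∀ p : ℕ, p.Prime → p ∣ Nat.card ↥H → p ∈ π) →
        ∀ p : ℕ, p.Prime → p ∣ (Subgroup.centralizer (H : Set G)).relIndex (Subgroup.normalizer (H : Set G)) → p ∈ π) := by
  refine ⟨fun h H _ hH => ?_, fun h => pcl_top_iff.1 (pcl_twoCl h2 G (fun H hH => ?_) (hmg_of h))⟩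
  · obtain ⟨K, h1, h3⟩ := pcl_top_iff.2 h
    have := (h1.inf_of_nml h3.nrm (le_top : N(H) ≤ ⊤)).relIndex_of_le
      (cents_of_norms_of_inf (normsI (le_top.trans h3.nrm) (norms_of_le (le_nrm H))) inf_le_right
        ((h1.pi.inf_left _).inf_eq_bot' hH))
    rwa [compl_compl] at this
  · obtain ⟨P⟩ : Nonempty (Sylow 2 H) := inferInstance
    haveI := hcl H hH P
    exact ⟨_, syl_map_subtype Nat.prime_two P, nml_map_subtype _⟩

end Cfsg.Agent.S3258
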