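import Cfsg.Statements.S3280
import Mathlib
import Cfsg.Agent.H20.C4
import Cfsg.Agent.H20.L2c
import Cfsg.Agent.S3331

set_option autoImplicit false
open Cfsg

namespace Cfsg.Agent.S3280

open Cfsg.Agent.FT Cfsg.Agent.GW Cfsg.Agent.H20 Subgroup

/-- A non-cyclic finite simple group containing an element whose centralizer has order at most 4 is isomorphic to the alternating group of degree 5, 6 or 7, or to PSL(2, 7). -/
theorem result {G : Type*} [Group G] [Finite G] [IsSimpleGroup G] (hG : ¬ IsCyclic G)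
    (w : G) (hw : Nat.card ↥(Subgroup.centralizer ({w} : Set G)) ≤ 4) :
    Nonempty (G ≃* ↥(alternatingGroup (Fin 5))) ∨ Nonempty (G ≃* ↥(alternatingGroup (Fin 6))) ∨
      Nonempty (G ≃* ↥(alternatingGroup (Fin 7))) ∨
      (∃ (F : Type) (_ : Field F) (_ : Fintype F), Fintype.card F = 7 ∧ Nonempty (G ≃* Matrix.ProjectiveSpecialLinearGroup (Fin 2) F)) := by
  have hs := not_sol_of_not_comm (G := G) fun h => by
    letI : CommGroup G := { ‹Group G› with mul_comm := h.is_comm.comm }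
    exact hG IsSimpleGroup.isCyclic
  change #C[w] ≤ 4 at hw
  have h0 := card_pos C[w]
  have w1 {p n : ℕ} (hp : p.Prime) (e : #C[w] = p ^ n) : w ≠ 1 := fun c =>
    hs ((pGrp_of_card hp e).sol.mono fun x _ => mem_cen1.2 (by simp [c]))
  by_cases h3 : #C[w] = 3
  · have key (N : Subgroup G) [hN : N.Normal] (h : Nontrivial (G ⧸ N)) : N = ⊥ :=
      hN.eq_bot_or_eq_top.resolve_right fun c => by
        subst c
        exact not_subsingleton _ (QuotientGroup.subsingleton_quotient_top (G := G))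
    obtain ⟨N, hN, -, -, h | ⟨⟨f⟩⟩⟩ | ⟨N, hN, -, -, ⟨f⟩⟩ | ⟨⟨f⟩⟩ := S3331.result C[w] h3
      (cen1_eq_of_prime (h3 ▸ Nat.prime_three) (self_mem_cen1 w) (w1 (n := 1) Nat.prime_three h3)).symm
    · obtain rfl := key N (Finite.one_lt_card_iff_nontrivial.1 (by omega))
      rw [Nat.card_congr QuotientGroup.quotientBot.toEquiv] at h
      exact (hG (isCyclic_of_prime_card (p := 3) h)).elim
    · obtain rfl := key N f.toEquiv.nontrivial
      haveI := (QuotientGroup.quotientBot.symm.trans f).symm.isSimpleGroup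
      have := alternatingGroup.index_eq_two (α := Fin 3)
      obtain c | c := (inferInstance : (alternatingGroup (Fin 3)).Normal).eq_bot_or_eq_top <;>
        simp [c, Nat.factorial, Fintype.card_perm] at this
    · obtain rfl := key N f.toEquiv.nontrivial
      exact .inl ⟨QuotientGroup.quotientBot.symm.trans f⟩
    · haveI : Fact (Nat.Prime 7) := ⟨by norm_num⟩
      exact .inr (.inr (.inr ⟨ZMod 7, inferInstance, inferInstance, ZMod.card 7, ⟨f⟩⟩))
  obtain ⟨n, hn⟩ : ∃ n, #C[w] = 2 ^ n := by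
    interval_cases #C[w]
    exacts [⟨0, rfl⟩, ⟨1, rfl⟩, absurd rfl h3, ⟨2, rfl⟩]
  obtain ⟨F, _, _, h1, h2, ⟨e⟩⟩ | h := gw_iso' hs (dg_of_cen4 hs
    ((pGrp_of_card Nat.prime_two hn).piElt (self_mem_cen1 w)) fun c => by have := Nat.le_of_dvd h0 c; omega)
  swap
  · exact .inr (.inr (.inl h))
  obtain ⟨p, hp⟩ := CharP.exists F
  haveI : Fact p.Prime := ⟨CharP.char_is_prime F p⟩
  rw [← Nat.card_eq_fintype_card] at h1 h2
  obtain ⟨k, hk⟩ := h1
  obtain ⟨-, -, c⟩ | ⟨-, T, hT, c⟩ := cen_psl p e (w1 Nat.prime_two hn)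
  · omega
  have h4 := (card_le hT.le).trans hw
  rw [Nat.gcd_eq_left (by omega)] at c
  obtain c | c | c : Nat.card F = 5 ∨ Nat.card F = 7 ∨ Nat.card F = 9 := by omega
  · obtain ⟨e'⟩ := H10.PSL2_five_equiv c
    exact .inl ⟨e.trans e'⟩
  · exact .inr (.inr (.inr ⟨F, _, _, Nat.card_eq_fintype_card.symm.trans c, ⟨e⟩⟩))
  · obtain ⟨e'⟩ := H10.PSL2_nine_equiv c
    exact .inr (.inl ⟨e.trans e'⟩)

end Cfsg.Agent.S3280
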