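import Cfsg.Statements.S3286
import Mathlib
import Cfsg.Agent.H28.MZ4

set_option autoImplicit false
open Cfsg

namespace Cfsg.Agent.S3286

open Subgroup Cfsg.Agent.H28.MZ Cfsg.Agent.H28.HJ Cfsg.Agent.H14 Cfsg.Agent.FT

def RB {G : Type*} [Group G] (z e f p q r t : G) : Prop :=
  RK z e f p q r ∧ t * t = 1 ∧ t * z = z * t ∧ t * r * t = r⁻¹ ∧ t * e = e * t ∧ t * f * t = e * f * z

theorem RB_map {G B : Type*} [Group G] [Group B] {z e f p q r t : G} (φ : G →* B) (h : Function.Injective φ) :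
    RB (φ z) (φ e) (φ f) (φ p) (φ q) (φ r) (φ t) ↔ RB z e f p q r t := by
  simp only [RB, RK_map φ h, ← map_mul, ← map_inv, map_eq_one_iff φ h, h.eq_iff]

theorem rbM : RB (EM 2) (EM 0) (EM 1) (EM 3) (EM 4) (EM 5) (EM 7) ∧ EM 8 * EM 0 * (EM 8)⁻¹ = EM 2 :=
  envM.sound (.and (.and (.and (.not (.eq (.v 2) .o)) (.and (.eq (.m (.v 2) (.v 2)) .o) (.and (.eq (.m (.v 0) (.v 0)) .o) (.and (.eq (.m (.v 1) (.v 1)) .o) (.and (.eq (.p (.v 5) 3) .o) (.and (.eq (.p (.m (.v 0) (.v 5)) 3) .o) (.and (.eq (.p (.m (.v 1) (.v 5)) 3) .o) (.and (.eq (.m (.v 0) (.v 1)) (.m (.v 1) (.v 0))) (.and (.eq (.m (.m (.v 5) (.v 0)) (.i (.v 5))) (.v 3)) (.and (.eq (.m (.m (.v 5) (.v 1)) (.i (.v 5))) (.v 4)) (.and (.eq (.m (.m (.v 0) (.v 4)) (.m (.v 0) (.v 4))) (.v 2)) (.and (.eq (.m (.v 5) (.v 2)) (.m (.v 2) (.v 5))) (.and (.eq (.m (.v 0) (.v 2)) (.m (.v 2) (.v 0))) (.eq (.m (.v 1) (.v 2)) (.m (.v 2) (.v 1))))))))))))))))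 (.and (.eq (.m (.v 7) (.v 7)) .o) (.and (.eq (.m (.v 7) (.v 2)) (.m (.v 2) (.v 7))) (.and (.eq (.m (.m (.v 7) (.v 5)) (.v 7)) (.i (.v 5))) (.and (.eq (.m (.v 7) (.v 0)) (.m (.v 0) (.v 7))) (.eq (.m (.m (.v 7) (.v 1)) (.v 7)) (.m (.m (.v 0) (.v 1)) (.v 2)))))))) (.eq (.m (.m (.v 8) (.v 0)) (.i (.v 8))) (.v 2))) (by decide +kernel)

theorem ex12 : ∃ z e f p q r t : Spor.M12, RB z e f p q r t ∧ IsConj e z ∧ #C[z] = 192 := by
  let x : Fin 11 → SDs.K := fun l => ⟨EM l, memM l l.2⟩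
  refine ⟨_, _, _, _, _, _, _, (RB_map equivM12.toMonoidHom equivM12.injective).2
    ((RB_map (z := x 2) (e := x 0) (f := x 1) (p := x 3) (q := x 4) (r := x 5) (t := x 7) SDs.K.subtype
      (subtype_injective _)).1 rbM.1),
    equivM12.toMonoidHom.map_isConj (icj (c := x 8) (Subtype.ext rbM.2)), ?_⟩
  exact (Nat.card_congr ((centralizerCongr equivM12 (x 2)).symm.trans (centralizerSub _ _)).toEquiv).trans cenM

/-- Let G be a non-abelian finite simple group containing an involution whose centralizer is isomorphic to the centralizer, in the Mathieu group M₁₂, of an involution lying in the centre of a Sylow 2-subgroup of M₁₂. Then G is isomorphic to M₁₂. -/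
theorem result {G : Type*} [Group G] [Finite G] [IsSimpleGroup G] (hG : ¬ IsMulCommutative G)
    (u : ↥Cfsg.Spor.M12) (hu : Cfsg.IsTwoCentralInvolution u)
    (t : G) (ht : orderOf t = 2) (e : ↥(Subgroup.centralizer ({t} : Set G)) ≃* ↥(Subgroup.centralizer ({u} : Set ↥Cfsg.Spor.M12))) :
    Cfsg.Spor.IsoM12 G := by
  obtain ⟨z, e', f, p, q, r, s, ⟨h, h1, h2, h3, h4, h5⟩, h6, c⟩ := ex12
  have : Finite Spor.M12 := Nat.finite_of_card_ne_zero (by rw [card_M12]; decide)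
  have M := (mkB h h1 h2 h3 h4 h5 c.le).1
  have k := M.cm
  obtain ⟨g, rfl⟩ := isConj_iff.1 (k.two h6 hu)
  obtain ⟨ψ⟩ : Nonempty (C[g * u * g⁻¹] ≃* C[t]) := ⟨(e.trans (centralizerCongr (MulAut.conj g) u)).symm⟩
  have hφ : Function.Injective ((C[t]).subtype.comp ψ.toMonoidHom) := (subtype_injective _).comp ψ.injective
  have tt := H20.mul_self_of_orderOf_two ht
  have e1 : ψ ⟨_, memC.2 rfl⟩ = ⟨t, memC.2 rfl⟩ := by
    have cm : ∀ y, ψ.symm ⟨t, memC.2 rfl⟩ * y = y * ψ.symm ⟨t, memC.2 rfl⟩ := fun y => ψ.injective (by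
      simp only [map_mul, MulEquiv.apply_symm_apply]
      exact Subtype.ext (memC.1 (ψ y).2).symm)
    rcases M.b9 _ (ψ.symm ⟨t, memC.2 rfl⟩).2 (congrArg Subtype.val (cm ⟨_, memC.2 k.ez⟩))
      (congrArg Subtype.val (cm ⟨_, memC.2 k.fz⟩)) (congrArg Subtype.val (cm ⟨_, memC.2 k.rz⟩)) with e2 | e2
    · exact absurd (congrArg Subtype.val ((MulEquiv.map_eq_one_iff _).1 (Subtype.ext e2)))
        (H20.ne_one_of_orderOf_two ht)
    · exact (ψ.symm_apply_eq.1 (Subtype.ext e2)).symm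
  have c' : #C[t] = 192 := (Nat.card_congr ψ.toEquiv).symm.trans c
  obtain ⟨a, a1, a2, a3, a4, a5⟩ := (RB_map _ hφ).2 ((RB_map (z := ⟨_, memC.2 rfl⟩) (e := ⟨_, memC.2 k.ez⟩)
    (f := ⟨_, memC.2 k.fz⟩) (p := ⟨_, memC.2 k.pz⟩) (q := ⟨_, memC.2 k.qz⟩) (r := ⟨_, memC.2 k.rz⟩)
    (t := ⟨_, memC.2 k.tz⟩) (C[g * u * g⁻¹]).subtype (subtype_injective _)).1 ⟨h, h1, h2, h3, h4, h5⟩)
  rw [show ((C[t]).subtype.comp ψ.toMonoidHom) ⟨_, memC.2 rfl⟩ = t from congrArg Subtype.val e1] at a a2 a5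
  have M' := (mkB a a1 a2 a3 a4 a5 c'.le).1
  refine (M'.main (M'.ez (hx_simple ht (by
    by_contra! hn
    exact hG ⟨⟨hn⟩⟩)))).resolve_left ?_
  rintro ⟨N, hN, -, -, c8, -⟩
  have := card_le_card_group C[t]
  rcases IsSimpleGroup.eq_bot_or_eq_top_of_normal N hN with rfl | rfl
  · simp at c8
  · rw [card_top] at c8
    omega

end Cfsg.Agent.S3286
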