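import Cfsg.Statements.S3296
import Cfsg.Agent.H17.FgK
import Cfsg.Agent.H15.FgE
import Cfsg.Agent.H19.FgZ
import Cfsg.Agent.H3.FgS
import Cfsg.Agent.GO.Fg3

set_option autoImplicit false
open Cfsg

namespace Cfsg.Agent.S3296

/-- Let G be a finite non-abelian simple group whose Sylow 2-subgroups have order 64, with a Sylow 2-subgroup P containing an element f of order 8 whose centralizer in P is the cyclic group it generates and which is conjugate in P to each of its odd powers. If G has at least two conjugacy classes of involutions, then G is isomorphic to the Mathieu group M₁₂. -/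
theorem result {G : Type*} [Group G] [Finite G] [IsSimpleGroup G]
    (hna : ¬ IsMulCommutative G) (P : Sylow 2 G) (hP : Nat.card (P : Subgroup G) = 64)
    (f : G) (hfP : f ∈ (P : Subgroup G)) (hf : orderOf f = 8)
    (hself : ∀ x ∈ (P : Subgroup G), x * f = f * x → x ∈ Subgroup.zpowers f)
    (hodd : ∀ k ∈ ({3, 5, 7} : Set ℕ), ∃ x ∈ (P : Subgroup G), x * f * x⁻¹ = f ^ k)
    (htwo : ∃ s t : G, orderOf s = 2 ∧ orderOf t = 2 ∧ ¬ IsConj s t) :
    Nonempty (G ≃* Cfsg.Spor.M12) := by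
  obtain ⟨a, k, l, y, g, x, ha, hk, hl, hy, hg, hx, h⟩ := GO.Fg.fS _ hP f hfP hf hself hodd
  obtain ⟨n, v, hn, hv⟩ : ∃ n v, (n = 0 ∨ n = 10 ∨ n ∈ [2, 5, 7, 8, 13, 15, 16, 18, 21, 23, 24, 26, 29, 31]) ∧
      GO.Fg.Rp n (P : Subgroup G) v := by
    obtain ⟨h1, h2⟩ := GO.Fg.rP hP hfP hy hg hx h ha hk hl
    exact ⟨_, _, by simpa [or_assoc] using h1, h2⟩
  rcases or_assoc.2 hn with hn | hn
  · exact GO.Fg.fK P hP hn hv htwo
  · exact (GO.Fg.rE15 hn hv (GO.Fg.rZ hna P (GO.Fg.rE15z hn hv).1 (GO.Fg.rE15z hn hv).2)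
      fun _ _ e => GO.Fg.rX P (GO.Fg.rE15z hn hv).2 e).elim

end Cfsg.Agent.S3296
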