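import Cfsg.Statements.S3306
import Mathlib
import Cfsg.Agent.H23.CI2
-- import your own Cfsg.Agent.* helpers here

set_option autoImplicit false
open Cfsg

namespace Cfsg.Agent.S3306

/-- Let G be a finite nonsolvable group in which any two distinct Sylow 2-subgroups intersect in a cyclic group, and let N be a solvable normal subgroup of G. Then the image of N in G/O(G) is a cyclic 2-group contained in the centre of G/O(G) (O(G) the largest normal subgroup of odd order). In other words the solvable radical of G is V·O(G) with V a cyclic 2-group central modulo O(G). -/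
theorem result {G : Type*} [Group G] [Finite G] (hns : ¬ Group.IsSolvable G)
    (hC : ∀ S T : Sylow 2 G, S ≠ T → IsCyclic ↥((S : Subgroup G) ⊓ (T : Subgroup G)))
    (N : Subgroup G) [N.Normal] (hN : Group.IsSolvable ↥N) :
    IsCyclic ↥(N.map (QuotientGroup.mk' (Cfsg.oddCore G))) ∧ IsPGroup 2 ↥(N.map (QuotientGroup.mk' (Cfsg.oddCore G))) ∧
      N.map (QuotientGroup.mk' (Cfsg.oddCore G)) ≤ Subgroup.center (G ⧸ Cfsg.oddCore G) := by
  have s1 := QuotientGroup.mk'_surjective (Cfsg.oddCore G)
  have h := (H23.ci_top.2 hC).surj _ s1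
  have hn : ¬ FT.Sol (⊤ : Subgroup (G ⧸ Cfsg.oddCore G)) := fun e => by
    have := FT.sol_top.1 e
    have : Group.IsSolvable (Cfsg.oddCore G) := GW.Cor.od_top (G := G) ▸ GW.sol_odd (GW.odd_core ⊤)
    exact hns (Group.isSolvable_of_ker_le_range (Cfsg.oddCore G).subtype (QuotientGroup.mk' (Cfsg.oddCore G)) (by simp))
  have h1 := h.le_pcore hn GW.Cor.od_quo (FT.nml_top_iff.2 (Subgroup.Normal.map ‹_› _ s1)) (FT.Sol.map _ hN)
  exact ⟨(h.cyc hn).mono h1, ((FT.pcore_pi _ _).mono h1).isPGroup, fun x hx => Subgroup.mem_center_iff.2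
    fun g => (FT.mem_cen.1 (h.central hn GW.Cor.od_quo (Subgroup.mem_top g)) x (h1 hx)).symm⟩

end Cfsg.Agent.S3306
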