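import Cfsg.Statements.S3313
import Mathlib
import Cfsg.Agent.H28.HJ5

set_option autoImplicit false
open Cfsg

namespace Cfsg.Agent.S3313

/-- The order of a simple group with the involution pattern of the Hall–Janko group. Let G be a non-abelian finite simple group with exactly two conjugacy classes of involutions, represented by z and t, such that: F*(C_G(z)) is an extraspecial 2-group; Q = O₂(C_G(z)) has order 32 and C_G(z) is the semidirect product of Q by a subgroup isomorphic to A₅; every involution of Q is conjugate to z and every other involution of C_G(z) is conjugate to t; C_G(t) is an internal direct product V × B with V a four-group containing t and B ≅ A₅; every involution of B is conjugate to z and every other involution of C_G(t) is conjugate to t. Then |G| = 604800. -/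
theorem result {G : Type*} [Group G] [Finite G]
    [IsSimpleGroup G] (hna : ¬ IsMulCommutative G) (z t : G) (hz : orderOf z = 2) (ht : orderOf t = 2)
    (hzt : ¬ IsConj z t) (hcl : ∀ x : G, orderOf x = 2 → IsConj x z ∨ IsConj x t)
    (hex : Cfsg.IsExtraspecial 2 ↥(Cfsg.generalizedFittingSubgroup ↥(Subgroup.centralizer ({z} : Set G))))
    (hQ : Nat.card ↥(Cfsg.pCore 2 ↥(Subgroup.centralizer ({z} : Set G))) = 32)
    (K : Subgroup G) (hK : Nonempty (↥K ≃* alternatingGroup (Fin 5)))
    (hKC : K ⊔ (Cfsg.pCore 2 ↥(Subgroup.centralizer ({z} : Set G))).map (Subgroup.centralizer ({z} : Set G)).subtype = Subgroup.centralizer ({z} : Set G))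
    (hKQ : K ⊓ (Cfsg.pCore 2 ↥(Subgroup.centralizer ({z} : Set G))).map (Subgroup.centralizer ({z} : Set G)).subtype = ⊥)
    (hQz : ∀ x ∈ (Cfsg.pCore 2 ↥(Subgroup.centralizer ({z} : Set G))).map (Subgroup.centralizer ({z} : Set G)).subtype, orderOf x = 2 → IsConj x z)
    (hCz : ∀ x ∈ Subgroup.centralizer ({z} : Set G), orderOf x = 2 →
      x ∉ (Cfsg.pCore 2 ↥(Subgroup.centralizer ({z} : Set G))).map (Subgroup.centralizer ({z} : Set G)).subtype → IsConj x t)
    (V B : Subgroup G) (hVB : Cfsg.IsInternalDirectProduct V B (Subgroup.centralizer ({t} : Set G)))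
    (hV : Nat.card ↥V = 4) (hV2 : ∀ v ∈ V, v ^ 2 = 1) (htV : t ∈ V) (hB : Nonempty (↥B ≃* alternatingGroup (Fin 5)))
    (hBz : ∀ x ∈ B, orderOf x = 2 → IsConj x z)
    (hCt : ∀ x ∈ Subgroup.centralizer ({t} : Set G), orderOf x = 2 → x ∉ B → IsConj x t) :
    Nat.card G = 604800 := by
  have e : generalizedFittingSubgroup (Subgroup.centralizer ({z} : Set G)) = pCore 2 _ :=
    haveI := H2.generalizedFitting_normal (Subgroup.centralizer ({z} : Set G))
    le_antisymm (H2.le_pCore hex.1.1) ((H2.pCore_le_fittingSubgroup 2).trans H2.fittingSubgroup_le_generalizedFitting)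
  have hc := H2.centralizer_generalizedFitting_le (G := Subgroup.centralizer ({z} : Set G))
  rw [e] at hex hc
  have hn : (pCore 2 (Subgroup.centralizer ({z} : Set G))).Normal := inferInstance
  generalize pCore 2 (Subgroup.centralizer ({z} : Set G)) = E at *
  obtain ⟨f⟩ := hK
  have KC : K ≤ Subgroup.centralizer {z} := hKC ▸ le_sup_left
  have h1 : K.subgroupOf (Subgroup.centralizer {z}) ⊔ E = ⊤ :=
    Subgroup.map_injective (Subgroup.subtype_injective _) (by
      rw [Subgroup.map_sup, Subgroup.map_subgroupOf_eq_of_le KC, hKC, ← MonoidHom.range_eq_map, Subgroup.range_subtype])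
  have h2 : E ⊓ K.subgroupOf (Subgroup.centralizer {z}) = ⊥ := eq_bot_iff.2 fun x hx =>
    Subtype.ext (hKQ.le ⟨hx.2, x, hx.1, rfl⟩)
  have H := H28.HJ.hyp_of hz hex hQ (by
    rw [← Subgroup.index_eq_card, ← Subgroup.relIndex_top_right, ← h1, Subgroup.relIndex_sup_right,
      ← Subgroup.inf_relIndex_right, h2, Subgroup.relIndex_bot_left,
      Nat.card_congr (Subgroup.subgroupOfEquivOfLe KC).toEquiv, H28.HJ.card60 f]) hc
  obtain ⟨f⟩ := H.j2 H.hx ⟨z, t, hz, ht, hzt⟩
  exact (Nat.card_congr f.toEquiv).trans H28.J2P.card_K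

end Cfsg.Agent.S3313
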