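import Cfsg.Statements.S3330
import Mathlib
import Cfsg.Agent.L1.Se0
import Cfsg.Agent.H21.SeZ
import Cfsg.Agent.H28.SepA
import Cfsg.Agent.H9.SeN
import Cfsg.Agent.H26.SeT1
import Cfsg.Agent.H15.SeT2
import Cfsg.Agent.L1.SeA0
import Cfsg.Agent.H10.SeA1
import Cfsg.Agent.H9.SeA2
import Cfsg.Agent.H4.SepA3
import Cfsg.Agent.H27.SeA4
import Cfsg.Agent.H11.SeA5
import Cfsg.Agent.H22.SeB0
import Cfsg.Agent.H25.SepL
import Cfsg.Agent.H8.SepB2a
import Cfsg.Agent.H23.SeB2b
import Cfsg.Agent.H12.SepB3a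
import Cfsg.Agent.H29.SeB3b
import Cfsg.Agent.H22.SeB3c
import Cfsg.Agent.H19.SeB3d
import Cfsg.Agent.H5.SeB1

set_option autoImplicit false
open Cfsg

namespace Cfsg.Agent.S3330

/-- A 3-local characterization of the symmetric group of degree 8, with one exceptional configuration. Let G be a finite group whose Sylow 3-subgroup D is elementary abelian of order 9, generated by y and z, and suppose: (i) C_G(D) has order 18, N_G(D)/D is isomorphic to the direct product of a dihedral group of order 8 and a group of order 2, and N_G(D)/C_G(D) is dihedral of order 8; (ii) D is normal in C_G(y), C_G(y) has order 36 with every square lying in D, D is normal in N_G(⟨y⟩), and N_G(⟨y⟩) has order 72 with every square lying in D; (iii) C_G(z) is isomorphic to the direct product of a cyclic group of order 3 and Sym(5), and N_G(⟨z⟩) is isomorphic to Sym(3) × Sym(5). Then either G is isomorphic to the symmetric group of degree 8, or the generalized Fitting subgroup of G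 is a minimal normal subgroup isomorphic to Alt(5) × Alt(5) of index 4 with every square of G lying in it. -/
theorem result {G : Type*} [Group G] [Finite G]
    (P : Sylow 3 G) (D : Subgroup G) (hDP : D = P) (y z : G) (hgen : Subgroup.closure {y, z} = D)
    (hcomm : IsMulCommutative D) (hcard : Nat.card D = 9) (hexp : ∀ a ∈ D, a ^ 3 = 1)
    (hC : Nat.card (Subgroup.centralizer (D : Set G)) = 18)
    (eN : Subgroup.normalizer (D : Set G) ⧸ D.subgroupOf (Subgroup.normalizer (D : Set G)) ≃* DihedralGroup 4 × Multiplicative (ZMod 2))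
    [hcn : ((Subgroup.centralizer (D : Set G)).subgroupOf (Subgroup.normalizer (D : Set G))).Normal]
    (eNC : Subgroup.normalizer (D : Set G) ⧸ (Subgroup.centralizer (D : Set G)).subgroupOf (Subgroup.normalizer (D : Set G)) ≃* DihedralGroup 4)
    (hyn : (D.subgroupOf (Subgroup.centralizer ({y} : Set G))).Normal)
    (hycard : Nat.card (Subgroup.centralizer ({y} : Set G)) = 36)
    (hysq : ∀ g ∈ Subgroup.centralizer ({y} : Set G), g ^ 2 ∈ D)
    (Ny : Subgroup G) (hNy : Ny = Subgroup.normalizer (Subgroup.zpowers y : Set G))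
    (hyNn : (D.subgroupOf Ny).Normal) (hyNcard : Nat.card Ny = 72) (hyNsq : ∀ g ∈ Ny, g ^ 2 ∈ D)
    (eC : Subgroup.centralizer ({z} : Set G) ≃* Multiplicative (ZMod 3) × Equiv.Perm (Fin 5))
    (eL : Subgroup.normalizer (Subgroup.zpowers z : Set G) ≃* Equiv.Perm (Fin 3) × Equiv.Perm (Fin 5)) :
    Nonempty (G ≃* Equiv.Perm (Fin 8)) ∨
      ∃ N : Subgroup G, N.Normal ∧ Cfsg.generalizedFittingSubgroup G = N ∧
        Nonempty (N ≃* alternatingGroup (Fin 5) × alternatingGroup (Fin 5)) ∧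
        (∀ K : Subgroup G, K.Normal → K ≤ N → K = ⊥ ∨ K = N) ∧
        N.index = 4 ∧ ∀ g : G, g ^ 2 ∈ N := by
  open Cfsg.Agent.L1Se in
  obtain ⟨ε, σ, h | h⟩ := pA P D hDP y z hgen hcomm hcard hexp hC eN eNC hycard eC eL
  · open Cfsg.Agent.L1Se in
    obtain hn | ⟨π, hs, hk⟩ := pT1 t33 h (.inl rfl)
    · exact (L1Se.pA0 h hn).elim
    obtain ⟨φ, h6⟩ := L1Se.pT2 h (.inl rfl) π hs hk
    obtain ⟨f, hf⟩ := L1Se.pA1 h h6
    have h2 := L1Se.pA2 hf
    have h3 := L1Se.pA3 L1Se.zs hf h2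
    exact .inl ⟨(MulEquiv.ofBijective f ⟨hf.inj, L1Se.pA5 hf h2 h3 (L1Se.pA4 L1Se.zs hf h2 h3)⟩).symm⟩
  · have hy := L1Se.pN h (.inr rfl)
    obtain hn | ⟨π, hs, hk⟩ := L1Se.pT1 L1Se.t33 h (.inr rfl)
    · obtain hU | hk := L1Se.pB1 L1Se.t31 h
      · obtain ⟨a, k, hf⟩ := L1Se.pB2a h hn hU
        exact (L1Se.pB2b L1Se.t31 L1Se.pL h hf).elim
      · have he := L1Se.pB3a L1Se.t05 h hk
        obtain ⟨M, hM⟩ := L1Se.pB3b h hy hn hk he
        exact .inr (L1Se.pB3d h hk hM (L1Se.pB3c L1Se.t31 h hk he hM))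
    · obtain ⟨φ, h6⟩ := L1Se.pT2 h (.inr rfl) π hs hk
      exact (L1Se.pB0 h hy h6).elim

end Cfsg.Agent.S3330
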