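import Cfsg.Statements.S3365
import Cfsg.Agent.GO.Fx5
import Cfsg.Agent.S1174
import Cfsg.Agent.S3224

set_option autoImplicit false
open Cfsg

namespace Cfsg.Agent.S3365

open Subgroup MulAction Cfsg.Agent.FT Cfsg.Agent.GW Cfsg.Agent.GO Cfsg.Agent.GO.Fg Cfsg.Agent.GO.Fx

/-- Finite simple groups acting with fixity 4. Let G be a finite non-abelian simple group acting faithfully and transitively on a finite set so that every non-identity element fixes at most 4 points and some non-identity element fixes exactly 4 (fixity 4). Let P be a Sylow 3-subgroup, S a Sylow 2-subgroup, f the largest number of fixed points of an involution of G, and a a point. Then one of the following holds: (1) f ≥ 1 and G has a strongly embedded subgroup; (2) 1 ≤ f ≤ 3 and S is dihedral or semidihedral; (3) f = 4 and G has sectional 2-rank at most 4; (4) the point stabilizer G_a has odd order divisible by 3 and either G has a strongly 3-embedded subgroup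 (a proper subgroup H of order divisible by 3 such that H ∩ gHg⁻¹ has order prime to 3 for every element g outside H), or |P| = 3 and a Sylow 2-subgroup of N_G(P) has order at most 4, or P is elementary abelian of order 9, or P is extraspecial of order 27 and exponent 3, or P is isomorphic to a Sylow 3-subgroup of Sym(9) (the wreath product C₃ ≀ C₃); (5) G_a has order prime to 6. -/
theorem result {G Ω : Type*} [Group G] [Finite G] [IsSimpleGroup G] (hna : ¬ IsMulCommutative G)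
    [MulAction G Ω] [FaithfulSMul G Ω] [Finite Ω] (htrans : MulAction.IsPretransitive G Ω)
    (hfix : ∀ g : G, g ≠ 1 → Nat.card (MulAction.fixedBy Ω g) ≤ 4)
    (hfix4 : ∃ g : G, g ≠ 1 ∧ Nat.card (MulAction.fixedBy Ω g) = 4)
    (P : Sylow 3 G) (S : Sylow 2 G) (f : ℕ)
    (hf : ∀ g : G, orderOf g = 2 → Nat.card (MulAction.fixedBy Ω g) ≤ f)
    (hf' : ∃ g : G, orderOf g = 2 ∧ Nat.card (MulAction.fixedBy Ω g) = f) (a : Ω) :
    (1 ≤ f ∧ ∃ H : Subgroup G, Cfsg.IsStronglyEmbedded H) ∨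
    (1 ≤ f ∧ f ≤ 3 ∧ ((∃ n : ℕ, Nonempty ((S : Subgroup G) ≃* DihedralGroup n)) ∨ Cfsg.IsQuasiDihedral (S : Subgroup G))) ∨
    (f = 4 ∧ Cfsg.SectionalPRankLE 2 4 G) ∨
    (Odd (Nat.card (MulAction.stabilizer G a)) ∧ 3 ∣ Nat.card (MulAction.stabilizer G a) ∧
      ((∃ H : Subgroup G, H ≠ ⊤ ∧ 3 ∣ Nat.card H ∧ ∀ g : G, g ∉ H → ¬ 3 ∣ Nat.card ↥(H ⊓ H.map (MulAut.conj g).toMonoidHom)) ∨
       (Nat.card P = 3 ∧ ∀ T : Sylow 2 (Subgroup.normalizer ((P : Subgroup G) : Set G)), Nat.card T ≤ 4) ∨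
       (Nat.card P = 9 ∧ ∀ x ∈ (P : Subgroup G), x ^ 3 = 1) ∨
       (Nat.card P = 27 ∧ Cfsg.IsExtraspecial 3 (P : Subgroup G) ∧ ∀ x ∈ (P : Subgroup G), x ^ 3 = 1) ∨
       (∃ T : Sylow 3 (Equiv.Perm (Fin 9)), Nonempty ((P : Subgroup G) ≃* (T : Subgroup (Equiv.Perm (Fin 9))))))) ∨
    (Nat.card (MulAction.stabilizer G a)).Coprime 6 := by
  classical
  have hG : _root_.commutator G = ⊤ := (IsSimpleGroup.eq_bot_or_eq_top_of_normal _ inferInstance).resolve_left fun k =>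
    hna ⟨⟨fun x y => commutatorElement_eq_one_iff_mul_comm.1 (mem_bot.1 (k ▸ commutator_mem_commutator (mem_top x) (mem_top y)))⟩⟩
  have ne : ∀ t : G, t ≠ 1 → 1 ≤ Nat.card (fixedBy Ω t) → ∀ {p n : ℕ} {M : Subgroup G},
      Te p n (fixingSubgroup G (fixedBy Ω t)) M → ∀ g, cj g M ≠ ⊤ := by
    intro t t1 h1 p n M h g k
    rw [cj_eq_top] at k
    obtain ⟨⟨ω, hω⟩⟩ := (Nat.card_pos_iff.1 h1).1
    have e := (IsSimpleGroup.eq_bot_or_eq_top_of_normal _ (nml_top_iff.1 ⟨le_top, k ▸ h.nm⟩)).resolve_left fun e =>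
      t1 (mem_bot.1 (e ▸ (mem_fixingSubgroup_iff G).2 fun y hy => hy))
    refine t1 (FaithfulSMul.eq_of_smul_eq_smul (α := Ω) fun b => ?_)
    obtain ⟨x, rfl⟩ := htrans.exists_smul_eq ω b
    rw [one_smul, ← mul_smul, (mem_fixingSubgroup_iff G).1 (e ▸ mem_top (t * x)) ω hω,
      (mem_fixingSubgroup_iff G).1 (e ▸ mem_top x) ω hω]
  have dv : ∀ t : G, orderOf t ∣ #(fixingSubgroup G (fixedBy Ω t)) := fun t =>
    orderOf_dvd_card' ((mem_fixingSubgroup_iff G).2 fun y hy => hy)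
  have pos : ∀ {p : ℕ}, p.Prime → p ∣ #(stabilizer G a) → ∃ x : G, orderOf x = p ∧ 1 ≤ Nat.card (fixedBy Ω x) := fun hp h => by
    obtain ⟨x, hx, e⟩ := exists_elt_of_prime_dvd hp h
    exact ⟨x, e, Nat.card_pos_iff.2 ⟨⟨⟨a, hx⟩⟩, inferInstance⟩⟩
  by_cases h2 : 2 ∣ #(stabilizer G a)
  · obtain ⟨t, t2, rfl⟩ := hf'
    obtain ⟨x, x2, hx⟩ := pos Nat.prime_two h2
    have h1 := hx.trans (hf x x2)
    have t1 := o1 Nat.prime_two t2
    have h4 := t4 hf (hfix t t1)
    have hS := syl_top Nat.prime_two S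
    obtain ⟨g, k1, k2⟩ := h4.adapt hS (t2 ▸ dv t)
    by_cases sc : IsStronglyClosed ((S : Subgroup G) ⊓ cj g (fixingSubgroup G (fixedBy Ω t))) S
    · refine .inl ⟨h1, S1174.result S _ k2 sc fun k => ne t t1 h1 h4.toTe g (eq_top_iff.2 (k ▸ iSup_le fun y => ?_))⟩
      exact (h4.cj g).cen y.2.1.2 (o1 Nat.prime_two y.2.2) (hS.pi.piElt y.2.1.1)
    rcases (hfix t t1).eq_or_lt with e | e
    · exact .inr (.inr (.inl ⟨e, of_top (sr_syl hS ((h4.cj g).even4 hS.pi k1 k2 sc))⟩))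
    have h3 := te Nat.prime_two hf (m := 3) (n := 2 ^ 1) (pdiv Nat.prime_two (by decide)) (by omega)
    obtain ⟨x, hx, y, hy, x2, y2, xy, c4⟩ := even3 (h3.cj g) hS.pi k2 sc
    refine .inr (.inl ⟨h1, by omega, ?_⟩)
    rcases S3224.result S.isPGroup' ⟨x, hx⟩ (by rwa [← orderOf_coe]) (by
      rw [← so_cen1, card_so', inf_comm, c4]) with e | e | e
    · exact .inl e
    · exact .inr e
    have k : ∀ w ∈ (S : Subgroup G), w ^ 2 = 1 := by
      rcases cyc_or_abelem_of_card_sq Nat.prime_two (A := (S : Subgroup G)) (e.trans (by norm_num)) with c | c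
      · exfalso
        have cx := centsS (zpowers_le.2 hx) c.ab.le_cen hy
        have a4 : Abelem 2 (⟪x⟫ ⊔ ⟪y⟫) := (abelem_zpowers (by rw [sq, o2 x2])).sup_zpowers cx (by rw [sq, o2 y2])
        have := Nat.le_of_dvd two_pos (a4.card_dvd_of_cyc (c.mono (sup_le (zpowers_le.2 hx) (zpowers_le.2 hy))))
        have h5 := two_card (le_sup_left : ⟪x⟫ ≤ ⟪x⟫ ⊔ ⟪y⟫) fun k =>
          ((H3.mem_zpowers_two (by rw [sq, o2 x2])).1 (k (mem_sup_right (mem_zpowers y)))).elim (o1 Nat.prime_two y2) xy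
        rw [card_zpowers', x2] at h5; omega
      · exact fun w hw => c.pow hw
    haveI : Nontrivial (S : Subgroup G) := Finite.one_lt_card_iff_nontrivial.1 (by omega)
    haveI : IsKleinFour (S : Subgroup G) := ⟨e, (Monoid.exponent_eq_prime_iff Nat.prime_two).2 fun w w1 =>
      orderOf_eq_prime (Subtype.ext (k w w.2)) w1⟩
    exact .inl ⟨2, IsKleinFour.nonempty_mulEquiv⟩
  by_cases h3 : 3 ∣ #(stabilizer G a)
  · have ho : Odd #(stabilizer G a) := Nat.odd_iff.2 (by omega)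
    refine .inr (.inr (.inr (.inl ⟨ho, h3, .inl ?_⟩)))
    obtain ⟨x, x3, hx⟩ := pos Nat.prime_three h3
    obtain ⟨t, t3', ht⟩ := Set.exists_max_image {g : G | orderOf g = 3} (fun g => Nat.card (fixedBy Ω g)) (Set.toFinite _) ⟨x, x3⟩
    change orderOf t = 3 at t3'
    have t1 := o1 Nat.prime_three t3'
    have h4 := t3 ht (hfix t t1) fun ω => by
      obtain ⟨g, rfl⟩ := htrans.exists_smul_eq a ω
      rwa [stabilizer_smul_eq_stabilizer_map_conj, ← cj_def, card_cj]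
    have hP := syl_top Nat.prime_three P
    obtain ⟨g, k1, k2⟩ := h4.adapt hP (t3' ▸ dv t)
    refine ⟨_, ne t t1 (hx.trans (ht x x3)) h4.toTe g, ?_, fun y hy => (h4.cj g).emb k1 ((h4.cj g).odd hP hG k1 k2) hy⟩
    rw [card_cj]; exact (show 3 ∣ _ from t3' ▸ dv t).trans (card_dvd h4.le)
  · refine .inr (.inr (.inr (.inr ?_)))
    exact Nat.Coprime.mul_right (m := 2) (n := 3) ((Nat.prime_two.coprime_iff_not_dvd.2 h2).symm)
      ((Nat.prime_three.coprime_iff_not_dvd.2 h3).symm)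

end Cfsg.Agent.S3365
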