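import Cfsg.Statements.S3406
import Mathlib
import Cfsg.Agent.H1.FewOrd
import Cfsg.Agent.S3188
import Cfsg.Agent.S0254

set_option autoImplicit false
open Cfsg

namespace Cfsg.Agent.S3406

/-- A non-abelian finite simple group on whose elements the full automorphism group has at most five orbits is isomorphic to the alternating group of degree 5 or 6, to PSL(2, 7) or to PSL(2, 8). -/
theorem result {G : Type*} [Group G] [Finite G] [IsSimpleGroup G] (hG : ¬ IsMulCommutative G)
    (h5 : Nat.card (MulAction.orbitRel.Quotient (MulAut G) G) ≤ 5) :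
    Nonempty (G ≃* ↥(alternatingGroup (Fin 5))) ∨ Nonempty (G ≃* ↥(alternatingGroup (Fin 6))) ∨
      (∃ (F : Type) (_ : Field F) (_ : Fintype F), (Fintype.card F = 7 ∨ Fintype.card F = 8) ∧
        Nonempty (G ≃* Matrix.ProjectiveSpecialLinearGroup (Fin 2) F)) := by
  have h2 : HX.HasO G 2 := HX.hasO_of_prime Nat.prime_two (by
    by_contra h
    exact H1.not_sol_of_simple hG (FT.odd_order_solvable (Nat.odd_iff.2 (by omega))))
  rcases (H1.five_of_orbits h2 h5).cases hG (fun S hS hC => S3188.result S hS hC) with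
    e | e | e | e | e
  · exact Or.inl (H1.pslq_four e)
  · exact Or.inl (H1.pslq_five e)
  · obtain ⟨F, _, _, h, e⟩ := e
    exact Or.inr (Or.inr ⟨F, _, _, Or.inl h, e⟩)
  · obtain ⟨F, _, _, h, e⟩ := e
    exact Or.inr (Or.inr ⟨F, _, _, Or.inr h, e⟩)
  · obtain ⟨F, _, _, h, ⟨e⟩⟩ := e
    obtain ⟨f⟩ := S0254.result h
    exact Or.inr (Or.inl ⟨e.trans f⟩)

end Cfsg.Agent.S3406
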