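import Cfsg.Statements.S3488
import Mathlib
import Cfsg.Agent.H29.Spec2

set_option autoImplicit false
open Cfsg

namespace Cfsg.Agent.S3488

open Cfsg.Agent.H29 Cfsg.Agent.L0 in
/-- the affine group inside `SL₃`. -/
def emb (F : Type*) [Field F] : Aff (S2 F) (Fin 2 → F) →* Matrix.SpecialLinearGroup (Fin 3) F :=
  MonoidHom.mk' (fun a => ⟨!![(a.k : M2 F) 0 0, (a.k : M2 F) 0 1, a.v 0; (a.k : M2 F) 1 0, (a.k : M2 F) 1 1, a.v 1; 0, 0, 1],
    by simpa [Matrix.det_fin_three] using s2_det a.k⟩) fun a b => Subtype.ext (by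
      show _ = (!![_, _, _; _, _, _; _, _, _] * !![_, _, _; _, _, _; _, _, _] : Matrix (Fin 3) (Fin 3) F)
      ext i j
      fin_cases i <;> fin_cases j <;> simp [Matrix.mul_apply, Fin.sum_univ_succ, s2_smul_apply] <;> ring)

/-- Let F be the field with four elements. The affine group F² ⋊ SL(2,F), realised as the subgroup of SL(3,F) of matrices with last row (0, 0, 1), has exactly the same set of element orders as the alternating group of degree 6 (namely {1, 2, 3, 4, 5}); so the alternating group of degree 6 is not determined by its element orders. -/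
theorem result {F : Type*} [Field F] [Fintype F] (hF : Fintype.card F = 4) :
    Set.range (orderOf : Subgroup.closure {M : Matrix.SpecialLinearGroup (Fin 3) F |
        (M : Matrix (Fin 3) (Fin 3) F) 2 0 = 0 ∧ (M : Matrix (Fin 3) (Fin 3) F) 2 1 = 0 ∧ (M : Matrix (Fin 3) (Fin 3) F) 2 2 = 1} → ℕ) =
      Set.range (orderOf : alternatingGroup (Fin 6) → ℕ) := by
  have hi : Function.Injective (emb F) := (injective_iff_map_eq_one _).2 fun a h => by
    have e := fun i j => congrFun (congrFun (congrArg Subtype.val h) i) j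
    exact H29.Aff.ext (funext fun i => by fin_cases i; exacts [e 0 2, e 1 2])
      (Subtype.ext (L0.m2_ext (e 0 0) (e 0 1) (e 1 0) (e 1 1)))
  have hr : {M : Matrix.SpecialLinearGroup (Fin 3) F | (M : Matrix (Fin 3) (Fin 3) F) 2 0 = 0 ∧
      (M : Matrix (Fin 3) (Fin 3) F) 2 1 = 0 ∧ (M : Matrix (Fin 3) (Fin 3) F) 2 2 = 1} = (emb F).range := by
    refine Set.ext fun M => ⟨fun ⟨h1, h2, h3⟩ => ⟨⟨![M.1 0 2, M.1 1 2], L0.mkS (M.1 0 0) (M.1 0 1) (M.1 1 0) (M.1 1 1)
      (by have := M.2; rw [Matrix.det_fin_three, h1, h2, h3] at this; linear_combination this)⟩, Subtype.ext ?_⟩, ?_⟩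
    · ext i j
      fin_cases i <;> fin_cases j <;> first | rfl | exact h1.symm | exact h2.symm | exact h3.symm
    · rintro ⟨a, rfl⟩
      exact ⟨rfl, rfl, rfl⟩
  rw [hr, Subgroup.closure_eq]
  exact (H29.spec_congr (MonoidHom.ofInjective hi)).symm.trans ((H29.spec_asl2_four hF).trans H29.spec_A6.symm)

end Cfsg.Agent.S3488
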