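import Cfsg.Statements.S3494
import Mathlib
import Cfsg.Agent.H16.Centr

set_option autoImplicit false
open Cfsg

namespace Cfsg.Agent.S3494

open MulAction Subgroup Cfsg.Agent.H16

section
variable {G : Type*} [Group G] {Ω : Type*} [MulAction G Ω]

/-- the kernel of `G_x` on the suborbit of type `(α, ω)` -/
def K (G : Type*) [Group G] [MulAction G Ω] (α ω x : Ω) : Subgroup G :=
  stabilizer G x ⊓ fixingSubgroup G {y | ∃ g : G, g • α = x ∧ g • ω = y}

theorem mem_K {α ω x : Ω} {k : G} :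
    k ∈ K G α ω x ↔ k • x = x ∧ ∀ g : G, g • α = x → k • g • ω = g • ω := by
  simp only [K, mem_inf, mem_stabilizer_iff, mem_fixingSubgroup_iff, Set.mem_setOf_eq]
  exact ⟨fun h => ⟨h.1, fun g hg => h.2 _ ⟨g, hg, rfl⟩⟩,
    fun h => ⟨h.1, by rintro _ ⟨g, hg, rfl⟩; exact h.2 g hg⟩⟩

theorem K_conj {α ω x : Ω} {k : G} (hk : k ∈ K G α ω x) (g : G) :
    g * k * g⁻¹ ∈ K G α ω (g • x) := by
  rw [mem_K] at hk ⊢
  refine ⟨by simp [mul_smul, hk.1], fun h hh => ?_⟩
  have := hk.2 (g⁻¹ * h) (by rw [mul_smul, hh, inv_smul_smul])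
  rw [mul_smul, mul_smul, ← mul_smul g⁻¹, this, mul_smul, smul_inv_smul]

/-- fixed points of the kernel -/
def F (G : Type*) [Group G] [MulAction G Ω] (α ω x : Ω) : Set Ω :=
  {y | ∀ k ∈ K G α ω x, k • y = y}

theorem F_smul {α ω x y : Ω} (h : y ∈ F G α ω x) (g : G) : g • y ∈ F G α ω (g • x) := by
  intro k hk
  have := h _ (by simpa using K_conj hk g⁻¹)
  rwa [mul_smul, mul_smul, inv_smul_eq_iff] at this

theorem self_mem_F {α ω x : Ω} : x ∈ F G α ω x := fun _ hk => (mem_K.1 hk).1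

theorem trans_of_nrm {x y : Ω} (hp : IsPreprimitive (stabilizer G x) (orbit (stabilizer G x) y))
    {N : Subgroup G} (hN : ∀ g : G, g • x = x → ∀ k ∈ N, g * k * g⁻¹ ∈ N) {k : G} (hk : k ∈ N)
    (hx : k • x = x) (hy : k • y ≠ y) {g : G} (hg : g • x = x) : ∃ n ∈ N, n • y = g • y := by
  have nrm : (N.subgroupOf (stabilizer G x)).Normal :=
    ⟨fun n hn g => mem_subgroupOf.2 (hN g g.2 _ (mem_subgroupOf.1 hn))⟩
  have tr : IsPretransitive (N.subgroupOf (stabilizer G x)) (orbit (stabilizer G x) y) := by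
    refine IsQuasiPreprimitive.isPretransitive_of_normal fun e => hy ?_
    have : (⟨y, mem_orbit_self y⟩ : orbit (stabilizer G x) y) ∈
      fixedPoints (N.subgroupOf (stabilizer G x)) (orbit (stabilizer G x) y) := e ▸ Set.mem_univ _
    exact congrArg Subtype.val (this ⟨⟨k, hx⟩, hk⟩)
  obtain ⟨n, hn⟩ := tr.exists_smul_eq ⟨y, mem_orbit_self y⟩ ⟨g • y, ⟨⟨g, hg⟩, rfl⟩⟩
  exact ⟨n.1.1, n.2, congrArg Subtype.val hn⟩

end

/-- Manning's Theorem on extremely primitive groups. Let a finite group G act faithfully and primitively on a finite set Ω with non-trivial point stabilizers, and suppose every point stabilizer G_α acts primitively on each of its orbits. Then G_α acts faithfully on each of its orbits other than {α}: an element of G_α fixing every point of one such orbit is the identity. -/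
theorem result {G : Type*} [Group G] [Finite G] {Ω : Type*} [Fintype Ω] [MulAction G Ω] [FaithfulSMul G Ω] (hprim : MulAction.IsPreprimitive G Ω) (hH : ∀ α : Ω, MulAction.stabilizer G α ≠ ⊥) (hep : ∀ (α : Ω) (ω : Ω), MulAction.IsPreprimitive (MulAction.stabilizer G α) (MulAction.orbit (MulAction.stabilizer G α) ω))
    (α ω : Ω) (hω : ω ≠ α) (h : MulAction.stabilizer G α) (hfix : ∀ x ∈ MulAction.orbit (MulAction.stabilizer G α) ω, h • x = x) : h = 1 := by
  by_contra h1
  have : Nontrivial Ω := ⟨ω, α, hω⟩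
  have hco : ∀ x : Ω, IsCoatom (stabilizer G x) :=
    fun x => IsPreprimitive.isCoatom_stabilizer_of_isPreprimitive G x
  have top : ∀ x y : Ω, x ≠ y → stabilizer G x ⊔ stabilizer G y = ⊤ := fun x y hxy =>
    (hco x).2 _ (lt_of_le_of_ne le_sup_left fun e =>
      hH y (stabilizer_eq_bot_of_le hxy.symm (e ▸ le_sup_right)))
  have inv : ∀ (S : Set Ω) (x y z : Ω), x ≠ y → z ∈ S → (∀ g : G, g • x = x → ∀ s ∈ S, g • s ∈ S) →
      (∀ g : G, g • y = y → ∀ s ∈ S, g • s ∈ S) → x ∈ S := fun S x y z hxy hz hx hy => by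
    obtain ⟨g, rfl⟩ := exists_smul_eq G z x
    have hg : g ∈ closure ((stabilizer G (g • z) : Set G) ∪ stabilizer G y) := by
      rw [Subgroup.closure_union, closure_eq, closure_eq, top _ _ hxy]; trivial
    have : ∀ k ∈ closure ((stabilizer G (g • z) : Set G) ∪ stabilizer G y), ∀ s ∈ S, k • s ∈ S := by
      intro k hk
      induction hk using closure_induction'' with
      | one => simp
      | mem k hk => exact hk.elim (hx k) (hy k)
      | inv_mem k hk => exact hk.elim (fun e => hx _ (inv_mem e)) fun e => hy _ (inv_mem e)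
      | mul k l _ _ hk hl => exact fun s hs => mul_smul k l s ▸ hk _ (hl s hs)
    exact this g hg z hz
  have hK : (h : G) ∈ K G α ω α := mem_K.2 ⟨h.2, fun g hg => hfix _ ⟨⟨g, hg⟩, rfl⟩⟩
  obtain ⟨y0, hy0⟩ := exists_smul_ne (α := Ω) (g := (h : G)) (fun e => h1 (Subtype.ext e))
  obtain ⟨⟨x, γ⟩, hγ, hmax⟩ := Set.Finite.exists_maximalFor
    (fun p : Ω × Ω => (orbit (stabilizer G p.1) p.2).ncard) {p | p.2 ∉ F G α ω p.1}
    (Set.toFinite _) ⟨(α, y0), fun e => hy0 (e _ hK)⟩
  simp only [Set.mem_setOf_eq] at hγ hmax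
  have hxγ : x ≠ γ := fun e => hγ (e ▸ self_mem_F)
  have s2 : ∀ β ∈ F G α ω x, β ≠ x → ∀ g : G, g • x = x → g • γ ∈ F G α ω β := by
    intro β hβ hβx g hg
    by_contra hn
    have hγ' : g • γ ∉ F G α ω x := fun e => hγ (by
      have := F_smul e g⁻¹
      rwa [inv_smul_smul, inv_smul_eq_iff.2 hg.symm] at this)
    have eo : orbit (stabilizer G x) (g • γ) = orbit (stabilizer G x) γ :=
      orbit_smul (⟨g, hg⟩ : stabilizer G x) γ
    have sub : orbit (stabilizer G x) (g • γ) ⊆ orbit (stabilizer G β) (g • γ) := by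
      rintro _ ⟨l, rfl⟩
      simp only [F, Set.mem_setOf_eq, not_forall] at hγ'
      obtain ⟨k, hk, hk'⟩ := hγ'
      obtain ⟨n, hn, e⟩ := trans_of_nrm (hep x (g • γ)) (N := K G α ω x)
        (fun g hg k hk => hg ▸ K_conj hk g) hk (mem_K.1 hk).1 hk' l.2
      exact ⟨⟨n, hβ n hn⟩, e⟩
    have le := Set.ncard_le_ncard sub
    have := hmax (j := (β, g • γ)) hn (eo ▸ le)
    have e := Set.eq_of_subset_of_ncard_le sub (eo ▸ this)
    have hx : x ∈ orbit (stabilizer G x) (g • γ) := by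
      refine inv _ x β _ hβx.symm (mem_orbit_self _) (fun l hl s hs => ?_) fun l hl s hs => ?_
      · exact mem_orbit_of_mem_orbit (⟨l, hl⟩ : stabilizer G x) hs
      · rw [e] at hs ⊢; exact mem_orbit_of_mem_orbit (⟨l, hl⟩ : stabilizer G β) hs
    rw [eo] at hx
    obtain ⟨l, hl⟩ := hx
    exact hxγ (by have := l.2; exact (smul_left_cancel (l : G) (hl.trans this.symm)).symm)
  have s3 : ∀ β ∈ F G α ω x, x ∈ F G α ω β := by
    intro β hβ k hk
    by_cases hβx : β = x
    · exact hβx ▸ (mem_K.1 hk).1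
    set M := fixingSubgroup G (orbit (stabilizer G x) γ) with hM
    have kM : k ∈ M := (mem_fixingSubgroup_iff G).2 (by
      rintro _ ⟨g, rfl⟩; exact s2 β hβ hβx g g.2 k hk)
    by_cases hle : M ≤ stabilizer G x
    · exact hle kM
    have tp := (hco x).2 _ (lt_of_le_of_ne le_sup_left fun e => hle (e ▸ le_sup_right))
    have nM : M.Normal := by
      rw [← normalizer_eq_top_iff, eq_top_iff, ← tp]
      refine sup_le (fun g hg => mem_normalizer_fintype fun m hm => ?_) le_normalizer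
      refine (mem_fixingSubgroup_iff G).2 fun s hs => ?_
      have := (mem_fixingSubgroup_iff G).1 hm _ (mem_orbit_of_mem_orbit (⟨g, hg⟩⁻¹ : stabilizer G x) hs)
      rw [mul_smul, mul_smul]
      exact smul_eq_iff_eq_inv_smul _ |>.2 this
    have : M = ⊥ := normal_le_stabilizer_eq_bot (α := Ω) (a := γ) M
      fun m hm => (mem_fixingSubgroup_iff G).1 hm _ (mem_orbit_self _)
    rw [this, mem_bot] at kM
    rw [kM, one_smul]
  have sym : ∀ u v : Ω, v ∈ F G α ω u → u ∈ F G α ω v := fun u v huv => by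
    obtain ⟨g, rfl⟩ := exists_smul_eq G x u
    have := F_smul (s3 _ (by simpa using F_smul huv g⁻¹)) g
    rwa [smul_inv_smul] at this
  have sub : F G α ω x \ {x} ⊆ F G α ω γ \ {γ} := fun β hβ =>
    ⟨sym _ _ (by simpa using s2 β hβ.1 hβ.2 1 (one_smul _ _)), fun e => hγ (e ▸ hβ.1)⟩
  have cj : ∀ (g : G) (u : Ω), ∀ s ∈ F G α ω u \ {u}, g • s ∈ F G α ω (g • u) \ {g • u} :=
    fun g u s hs => ⟨F_smul hs.1 g, fun e => hs.2 (smul_left_cancel g e)⟩
  have e : F G α ω x \ {x} = F G α ω γ \ {γ} := by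
    refine Set.eq_of_subset_of_ncard_le sub ?_
    obtain ⟨g, hg⟩ := exists_smul_eq G γ x
    exact Set.ncard_le_ncard_of_injOn (g • ·) (fun s hs => hg ▸ cj g γ s hs)
      fun s _ t _ => smul_left_cancel g
  obtain ⟨g, hg⟩ := exists_smul_eq G α x
  refine (inv (F G α ω x \ {x}) x γ (g • ω) hxγ ⟨fun k hk => (mem_K.1 hk).2 g hg,
    fun e => hω (smul_left_cancel g (e.trans hg.symm))⟩ (fun l hl s hs => ?_)
    fun l hl s hs => ?_).2 rfl
  · have := cj l x s hs; rwa [hl] at this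
  · rw [e] at hs ⊢; have := cj l γ s hs; rwa [hl] at this

end Cfsg.Agent.S3494
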