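import Cfsg.Statements.S3495
import Mathlib
import Cfsg.Agent.H16.RegNormal
import Cfsg.Agent.S3494

set_option autoImplicit false
open Cfsg

namespace Cfsg.Agent.S3495

open MulAction Subgroup Cfsg.Agent.H16

/-- Let a finite group G act faithfully and primitively on a finite set Ω with non-trivial point stabilizers, each acting primitively on every one of its orbits (an extremely primitive group), and suppose G has an elementary abelian normal p-subgroup N acting regularly on Ω (affine type). Then every non-trivial subgroup M of a point stabilizer G_α that is normal in G_α has the same orbits on Ω as G_α, and normalizes no subgroup of N other than 1 and N. -/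
theorem result {G : Type*} [Group G] [Finite G] {Ω : Type*} [Fintype Ω] [MulAction G Ω] [FaithfulSMul G Ω] (hprim : MulAction.IsPreprimitive G Ω) (hH : ∀ α : Ω, MulAction.stabilizer G α ≠ ⊥) (hep : ∀ (α : Ω) (ω : Ω), MulAction.IsPreprimitive (MulAction.stabilizer G α) (MulAction.orbit (MulAction.stabilizer G α) ω))
    (N : Subgroup G) [N.Normal] (hNc : IsMulCommutative N) (p : ℕ) (hp : p.Prime) (hNp : ∀ n ∈ N, n ^ p = 1)
    (hNtr : MulAction.IsPretransitive N Ω) (hNreg : ∀ ω : Ω, MulAction.stabilizer N ω = ⊥) (α : Ω) (M : Subgroup G) (hM : M ≠ ⊥) (hMle : M ≤ MulAction.stabilizer G α)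
    (hMn : MulAction.stabilizer G α ≤ Subgroup.normalizer (M : Set G)) :
    (∀ ω : Ω, MulAction.orbit M ω = MulAction.orbit (MulAction.stabilizer G α) ω) ∧
    (∀ L : Subgroup G, L ≤ N → M ≤ Subgroup.normalizer (L : Set G) → L = ⊥ ∨ L = N) := by
  have cj : ∀ g : G, g • α = α → ∀ k ∈ M, g * k * g⁻¹ ∈ M :=
    fun g hg k hk => (mem_normalizer_iff.1 (hMn hg) k).1 hk
  have tr : ∀ (ω : Ω) (g : G), g • α = α → ∃ m ∈ M, m • ω = g • ω := by
    intro ω g hg
    by_cases hω : ω = α
    · exact ⟨1, one_mem _, by rw [hω, hg, one_smul]⟩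
    obtain ⟨⟨m, hm⟩, h1⟩ := ne_bot_iff_exists_ne_one.1 hM
    have : ∃ k ∈ M, k • ω ≠ ω := by
      by_contra! hn
      refine h1 (Subtype.ext (Subtype.ext_iff.1
        (S3494.result hprim hH hep α ω hω ⟨m, hMle hm⟩ ?_) :))
      rintro _ ⟨l, rfl⟩
      have := hn _ (cj _ (l⁻¹).2 m hm)
      simp only [InvMemClass.coe_inv, inv_inv, mul_smul, inv_smul_eq_iff] at this
      exact this
    obtain ⟨k, hk, hk'⟩ := this
    exact S3494.trans_of_nrm (hep α ω) cj hk (hMle hk) hk' hg
  refine ⟨fun ω => Set.Subset.antisymm ?_ ?_, fun L hL hML => ?_⟩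
  · rintro _ ⟨m, rfl⟩; exact ⟨⟨m, hMle m.2⟩, rfl⟩
  · rintro _ ⟨g, rfl⟩
    obtain ⟨m, hm, e⟩ := tr ω g g.2
    exact ⟨⟨m, hm⟩, e⟩
  have nL : L.Normal := by
    rw [← normalizer_eq_top_iff, eq_top_iff, ← sup_stabilizer_eq_top N α]
    refine sup_le (fun n hn => mem_normalizer_fintype fun l hl => ?_)
      fun g hg => mem_normalizer_fintype fun l hl => ?_
    · have : n * l = l * n := congrArg Subtype.val (hNc.is_comm.comm ⟨n, hn⟩ ⟨l, hL hl⟩)
      rwa [this, mul_inv_cancel_right]
    · obtain ⟨m, hm, e⟩ := tr (l • α) g hg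
      have h1 := (mem_normalizer_iff.1 (hML hm) l).1 hl
      rwa [(reg_conj_iff (hNreg α) hg (hL hl) (hL h1)).1
        (by rw [← e, conj_smul_of_fix (hMle hm)])]
  by_cases h0 : L = ⊥
  · exact .inl h0
  have := normal_trans (α := Ω) L h0
  refine .inr (le_antisymm hL fun n hn => ?_)
  obtain ⟨l, hl, e⟩ := reg_exists L α (n • α)
  rwa [← reg_inj (hNreg α) (hL hl) hn e]

end Cfsg.Agent.S3495
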