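import Cfsg.Statements.S3497
import Mathlib
import Cfsg.Agent.S3494
import Cfsg.Agent.H3.Two

set_option autoImplicit false
open Cfsg

namespace Cfsg.Agent.S3497

open MulAction Subgroup Cfsg.Agent.H16 Cfsg.Agent.FT

theorem ex_gl' {H V : Type*} [Group H] [AddCommGroup V] [Finite V] (θ : H →* MulAut (Multiplicative V))
    {p e : ℕ} [hp : Fact p.Prime] [Module (ZMod p) V] (hc : Nat.card V = p ^ e) :
    ∃ φ : H →* GL (Fin e) (ZMod p), ∀ g, φ g = 1 ↔ ∀ x, θ g x = x := by
  have hr : Module.finrank (ZMod p) V = e := by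
    have := Module.natCard_eq_pow_finrank (K := ZMod p) (V := V)
    rw [Nat.card_zmod, hc] at this
    exact (Nat.pow_right_injective hp.out.two_le this).symm
  let ρ : H →* (V ≃ₗ[ZMod p] V) :=
    { toFun := fun g => (AddEquiv.toMultiplicative.symm (θ g)).toLinearEquiv
        (ZMod.map_smul (AddEquiv.toMultiplicative.symm (θ g)))
      map_one' := by ext x; exact congrArg (fun f : MulAut _ => (f (.ofAdd x)).toAdd) θ.map_one
      map_mul' := fun a b => by rw [map_mul]; rfl }
  let ι := ((Matrix.GeneralLinearGroup.toLin' (Module.finBasisOfFinrankEq _ _ hr)).trans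
      (LinearMap.GeneralLinearGroup.generalLinearEquiv _ _)).symm
  refine ⟨ι.toMonoidHom.comp ρ, fun g => ?_⟩
  rw [MonoidHom.comp_apply, MulEquiv.coe_toMonoidHom, map_eq_one_iff ι ι.injective, LinearEquiv.ext_iff]
  rfl

theorem ex_gl {H : Type*} [Group H] [Finite H] (F : Subgroup H) [F.Normal] [hF : IsMulCommutative F]
    {p e : ℕ} (hp : p.Prime) (h : ∀ x ∈ F, x ^ p = 1) (hc : Nat.card F = p ^ e) :
    ∃ φ : H →* GL (Fin e) (ZMod p), φ.ker = centralizer (F : Set H) := by
  letI : CommGroup F := { (inferInstance : Group F) with mul_comm := hF.is_comm.comm }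
  have := Fact.mk hp
  letI : Module (ZMod p) (Additive F) := AddCommGroup.zmodModule
    (fun x => congrArg Additive.ofMul (Subtype.ext (h _ x.toMul.2) : x.toMul ^ p = 1))
  obtain ⟨φ, hφ⟩ := ex_gl' (V := Additive F) (MulAut.conjNormal (H := F)) hc
  refine ⟨φ, ?_⟩
  ext g
  rw [MonoidHom.mem_ker, mem_centralizer_iff, hφ]
  constructor
  · intro k x hx
    have : g * x * g⁻¹ = x := congrArg Subtype.val (k ⟨x, hx⟩)
    exact (mul_inv_eq_iff_eq_mul.1 this).symm
  · intro k x
    exact Subtype.ext (mul_inv_eq_iff_eq_mul.2 (k _ x.2).symm)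

/-- a nilpotent normal subgroup of a primitive group -/
theorem nil_nml {H Δ : Type*} [Group H] [Finite H] [MulAction H Δ] [FaithfulSMul H Δ]
    [IsPreprimitive H Δ] [Nonempty Δ] (F : Subgroup H) [hn : F.Normal] (h : Nil F) (h1 : F ≠ ⊥) :
    (∃ p, p.Prime ∧ Abelem p F) ∧ C(F) = F ∧ #F = Nat.card Δ := by
  obtain ⟨N, hN, hm⟩ := exists_minNml (M := ⊤) h1 (nml_top_iff.2 hn).nrm
  obtain ⟨p, hp, e⟩ := hm.abelem (h.sol.mono hN)
  have : N.Normal := nml_top_iff.1 ⟨le_top, hm.nrm⟩
  have := normal_trans (α := Δ) N hm.ne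
  have c : C(N) ≤ N := fun x hx => mem_of_centralizes_comm_trans (α := Δ) N e.ab hx
  obtain rfl : N = F := le_antisymm hN
    ((le_centralizer_iff.1 (hm.cents_nil le_top h (nml_top_iff.2 hn))).trans c)
  obtain ⟨a⟩ : Nonempty Δ := inferInstance
  exact ⟨⟨p, hp, e⟩, le_antisymm c e.ab.le_cen,
    card_eq_of_regular a (stabilizer_eq_bot_of_comm N e.ab a)⟩

theorem dvd_of_orbits {H Ω : Type*} [Group H] [MulAction H Ω] [Fintype Ω] {α : Ω} {m : ℕ}
    (h0 : ∀ g : H, g • α = α) (h : ∀ ω, ω ≠ α → Nat.card (orbit H ω) = m) :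
    m ∣ Fintype.card Ω - 1 := by
  classical
  rw [← Finset.card_univ, ← Finset.card_erase_of_mem (Finset.mem_univ α),
    Finset.card_eq_sum_card_image (orbit H)]
  refine Finset.dvd_sum fun O hO => ?_
  obtain ⟨x, hx, rfl⟩ := Finset.mem_image.1 hO
  rw [← h x (Finset.mem_erase.1 hx).1, Nat.card_coe_set_eq, ← Set.ncard_coe_finset]
  refine dvd_of_eq (congrArg _ (Set.ext fun y => ?_))
  simp only [Finset.coe_filter, Finset.mem_erase, Finset.mem_univ, and_true, Set.mem_setOf_eq,
    orbit_eq_iff, iff_and_self]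
  rintro ⟨g, rfl⟩ e
  exact (Finset.mem_erase.1 hx).1 (smul_left_cancel g (e.trans (h0 g).symm))

/-- Restrictions on the point stabilizer of an extremely primitive group. Let a finite group G act faithfully and primitively on a finite set Ω with point stabilizers H = G_α whose order is neither 1 nor a prime, each acting primitively on every one of its orbits. Then H has trivial center, the Fitting subgroup F(H) is an elementary abelian p-group for some prime p, and if F(H) ≠ 1 has order p ^ e then p ^ e divides the number of points minus one and H / F(H) embeds in GL_e(p) (there is a homomorphism from H to GL_e(p) with kernel exactly F(H)). -/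
theorem result {G : Type*} [Group G] [Finite G] {Ω : Type*} [Fintype Ω] [MulAction G Ω] [FaithfulSMul G Ω] (hprim : MulAction.IsPreprimitive G Ω) (hep : ∀ (α : Ω) (ω : Ω), MulAction.IsPreprimitive (MulAction.stabilizer G α) (MulAction.orbit (MulAction.stabilizer G α) ω)) (α : Ω)
    (hH1 : MulAction.stabilizer G α ≠ ⊥) (hHp : ¬ (Nat.card (MulAction.stabilizer G α)).Prime) :
    Subgroup.center (MulAction.stabilizer G α) = ⊥ ∧
    IsMulCommutative (Cfsg.fittingSubgroup (MulAction.stabilizer G α)) ∧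
    ∃ p e : ℕ, p.Prime ∧ Nat.card (Cfsg.fittingSubgroup (MulAction.stabilizer G α)) = p ^ e ∧
      (∀ x ∈ Cfsg.fittingSubgroup (MulAction.stabilizer G α), x ^ p = 1) ∧
      (Cfsg.fittingSubgroup (MulAction.stabilizer G α) ≠ ⊥ →
        p ^ e ∣ Fintype.card Ω - 1 ∧
        ∃ φ : MulAction.stabilizer G α →* GL (Fin e) (ZMod p), φ.ker = Cfsg.fittingSubgroup (MulAction.stabilizer G α)) := by
  have hH : ∀ β : Ω, stabilizer G β ≠ ⊥ := fun β h => hH1 (stabilizer_eq_bot_of_one h α)
  have ft : ∀ ω, ω ≠ α → FaithfulSMul (stabilizer G α) (orbit (stabilizer G α) ω) := fun ω hω =>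
    faithfulSMul_iff.2 fun g hg => S3494.result hprim hH hep α ω hω g
      fun x hx => congrArg Subtype.val (hg ⟨x, hx⟩)
  obtain ⟨⟨g, hg⟩, g1⟩ := ne_bot_iff_exists_ne_one.1 hH1
  obtain ⟨ω, hω⟩ := exists_smul_ne (α := Ω) (g := g) fun h => g1 (Subtype.ext h)
  have hω : ω ≠ α := fun h => hω (h ▸ hg)
  have key := fun ω hω (F : Subgroup (stabilizer G α)) [F.Normal] => by
    have := ft ω hω
    have := hep α ω
    have : Nonempty (orbit (stabilizer G α) ω) := ⟨⟨ω, mem_orbit_self ω⟩⟩
    exact nil_nml (Δ := orbit (stabilizer G α) ω) F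
  have := H2.fittingSubgroup_normal (stabilizer G α)
  refine ⟨by_contra fun h => ?_, ?_⟩
  · obtain ⟨-, h2, h3⟩ := key ω hω (center _) (Ab.nil inferInstance) h
    rw [centralizer_center] at h2
    have := ft ω hω
    have := hep α ω
    have := normal_trans (α := orbit (stabilizer G α) ω) ⊤ (h2 ▸ h)
    have r := stabilizer_eq_bot_of_comm (α := orbit (stabilizer G α) ω) ⊤ (by rw [h2]; infer_instance)
      ⟨ω, mem_orbit_self ω⟩
    have : Nontrivial (orbit (stabilizer G α) ω) := by
      rw [← Finite.one_lt_card_iff_nontrivial, ← h3]; exact one_lt_card h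
    refine hHp (prime_card_of_coatom_bot ?_)
    have c := IsPreprimitive.isCoatom_stabilizer_of_isPreprimitive (stabilizer G α)
      (⟨ω, mem_orbit_self ω⟩ : orbit (stabilizer G α) ω)
    rw [stabilizer_subgroup_eq, subgroupOf_eq_bot, disjoint_top] at r
    exact r ▸ c
  by_cases h : fittingSubgroup (stabilizer G α) = ⊥
  · rw [h]
    exact ⟨inferInstance, 2, 0, Nat.prime_two, by simp, by simp, fun h => absurd rfl h⟩
  have k := fun ω hω => key ω hω _ H2.fittingSubgroup_isNilpotent h
  obtain ⟨⟨p, hp, e⟩, h2, -⟩ := k ω hω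
  obtain ⟨n, hn⟩ := e.card hp
  have := e.ab
  refine ⟨e.ab, p, n, hp, hn, fun x => e.pow, fun _ => ⟨dvd_of_orbits (H := stabilizer G α)
    (fun g => g.2) fun ω hω => (k ω hω).2.2.symm.trans hn, ?_⟩⟩
  obtain ⟨φ, hφ⟩ := ex_gl _ hp (fun x => e.pow) hn
  exact ⟨φ, hφ.trans h2⟩

end Cfsg.Agent.S3497
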