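import Cfsg.Statements.S3496
import Mathlib
import Cfsg.Agent.S3495
import Cfsg.Agent.S3497
import Cfsg.Agent.H16.AffCoord
import Cfsg.Agent.H13.GalF

set_option autoImplicit false
open Cfsg

namespace Cfsg.Agent.S3496

open MulAction Subgroup Cfsg.Agent.H16 Cfsg.Agent.FT

theorem cyc_gal {G α : Type*} [Group G] [MulAction G α] [FaithfulSMul G α] {K : Type*} [Field K]
    [Finite K] (κ : K ≃ α) (D : Subgroup G)
    (h : ∀ g ∈ D, ∃ σ : K ≃+* K, ∀ x, g • κ x = κ (σ x)) : IsCyclic D := by
  choose σ hσ using h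
  have := H13.ringAut_cyc (K := K)
  refine isCyclic_of_injective (MonoidHom.mk' (fun g : D => σ g g.2) fun g k => ?_) ?_
  · ext x
    apply κ.injective
    rw [← hσ, RingAut.mul_apply, ← hσ, ← hσ, coe_mul, mul_smul]
  · rw [injective_iff_map_eq_one]
    intro g hg
    refine Subtype.ext (eq_one_of_smul_eq (α := α) fun y => ?_)
    obtain ⟨x, rfl⟩ := κ.surjective y
    rw [hσ g g.2, show σ g g.2 = 1 from hg]
    rfl

/-- The soluble extremely primitive groups. Let a finite solvable group G act faithfully and primitively on a finite set Ω with p ^ d points (p prime), with non-trivial point stabilizers each acting primitively on every one of its orbits. Then there is a prime q such that every orbit of a point stabilizer G_α other than {α} has exactly q points, q divides p ^ d − 1 but no p ^ i − 1 with 0 < i < d, and G_α has a normal subgroup T of order q with G_α generated by T and one further element and the order of G_α dividing q·d (so G_α is cyclic of order q, or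 an extension of T by a cyclic group of order dividing d). -/
theorem result {G : Type*} [Group G] [Finite G] {Ω : Type*} [Fintype Ω] [MulAction G Ω] [FaithfulSMul G Ω] [Group.IsSolvable G] (p d : ℕ) (hp : p.Prime) (hcard : Fintype.card Ω = p ^ d)
    (hprim : MulAction.IsPreprimitive G Ω) (hH : ∀ α : Ω, MulAction.stabilizer G α ≠ ⊥) (hep : ∀ (α : Ω) (ω : Ω), MulAction.IsPreprimitive (MulAction.stabilizer G α) (MulAction.orbit (MulAction.stabilizer G α) ω)) (α : Ω) :
    ∃ q : ℕ, q.Prime ∧ (∀ ω : Ω, ω ≠ α → Nat.card (MulAction.orbit (MulAction.stabilizer G α) ω) = q) ∧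
      q ∣ p ^ d - 1 ∧ (∀ i : ℕ, 0 < i → i < d → ¬ q ∣ p ^ i - 1) ∧
      ∃ T : Subgroup G, T ≤ MulAction.stabilizer G α ∧ MulAction.stabilizer G α ≤ Subgroup.normalizer (T : Set G) ∧ Nat.card T = q ∧
        (∃ h : G, MulAction.stabilizer G α = T ⊔ Subgroup.zpowers h) ∧ Nat.card (MulAction.stabilizer G α) ∣ q * d := by
  have := Fact.mk hp
  obtain ⟨⟨g, hg⟩, g1⟩ := ne_bot_iff_exists_ne_one.1 (hH α)
  have g1 : g ≠ 1 := fun h => g1 (Subtype.ext h)
  obtain ⟨β, hβ⟩ := exists_smul_ne (α := Ω) g1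
  have hβ : α ≠ β := fun h => hβ (h ▸ hg)
  have sG : Sol (⊤ : Subgroup G) := sol_top.2 inferInstance
  obtain ⟨N, -, hN⟩ := exists_minNml (K := ⊤) (M := (⊤ : Subgroup G))
    (fun h => g1 (mem_bot.1 (h ▸ mem_top g))) (le_nrm _)
  obtain ⟨r, hr, eN⟩ := hN.abelem (sG.mono le_top)
  have : N.Normal := nml_top_iff.1 ⟨le_top, hN.nrm⟩
  have tN := normal_trans (α := Ω) N hN.ne
  have rN := stabilizer_eq_bot_of_comm (α := Ω) N eN.ab
  obtain ⟨T, hT, mT⟩ := exists_minNml (M := stabilizer G α) (hH α) (le_nrm _)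
  obtain ⟨q, hq, eT⟩ := mT.abelem (sG.mono le_top)
  obtain ⟨h1, h2⟩ := S3495.result hprim hH hep N eN.ab r hr (fun n => eN.pow) tN rN α T mT.ne hT mT.nrm
  obtain ⟨K, _, _, κ, χ, k0, k1, kN, kN', kT, kH⟩ := exists_affine_coord N (rN α) eN.ab T hT eT.ab h2 hβ
  have cK : Fintype.card K = p ^ d := (Fintype.card_congr κ).trans hcard
  have : CharP K p := charP_of_card_eq_prime_pow cK
  have sr : ∀ ω, ω ≠ α → stabilizer T ω = ⊥ := fun ω hω => eq_bot_iff.2 fun t ht => by
    obtain ⟨x, rfl⟩ := κ.surjective ω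
    have e : (t : G) • κ x = κ x := ht
    rw [kT, κ.injective.eq_iff, mul_left_eq_self₀] at e
    refine Subtype.ext (eq_one_of_smul_eq (α := Ω) fun y => ?_)
    obtain ⟨y, rfl⟩ := κ.surjective y
    rw [kT, e.resolve_right (by rintro rfl; exact hω k0), one_mul]
  have hχ : Function.Injective χ := (injective_iff_map_eq_one χ).2 fun t ht =>
    mem_bot.1 (sr β hβ.symm ▸ show (t : G) • β = β by rw [← k1, kT, ht]; simp)
  have cT : #T = q := eT.card_of_cyc hq (isCyclic_of_injective χ hχ) mT.ne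
  have co : ∀ ω, ω ≠ α → Nat.card (orbit (stabilizer G α) ω) = q := fun ω hω => by
    have := card_eq_orbit_mul_stabilizer (G := T) ω
    rw [sr ω hω, card_bot, mul_one, h1, cT] at this
    exact this.symm
  set D := stabilizer G β ⊓ stabilizer G α
  have hD : ∀ g ∈ D, ∃ σ : K ≃+* K, ∀ x, g • κ x = κ (σ x) := fun g hg => by
    obtain ⟨l, σ, h⟩ := kH g hg.2 (mT.nrm hg.2)
    have := h 1
    rw [k1, show g • β = β from hg.1, ← k1, κ.injective.eq_iff, map_one, mul_one] at this
    exact ⟨σ, fun x => by rw [h, ← this, one_mul]⟩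
  obtain ⟨h, hh⟩ := cyc_iff.1 (cyc_gal κ D hD)
  refine ⟨q, hq, co, hcard ▸ S3497.dvd_of_orbits (H := stabilizer G α) (fun g => g.2) co,
    fun i i0 id hi => ?_, T, hT, mT.nrm, cT, ⟨h, ?_⟩, ?_⟩
  · have pi : 1 < p ^ i := Nat.one_lt_pow i0.ne' hp.one_lt
    let W : Subgroup G :=
      { carrier := {u | u ∈ N ∧ ∃ t, t ^ p ^ i = t ∧ ∀ x, u • κ x = κ (x + t)}
        one_mem' := ⟨one_mem _, 0, zero_pow (by omega), by simp⟩
        mul_mem' := by
          rintro u v ⟨hu, s, hs, e⟩ ⟨hv, t, ht, f⟩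
          exact ⟨mul_mem hu hv, t + s, by rw [add_pow_char_pow, hs, ht], fun x => by
            rw [mul_smul, f, e, add_assoc]⟩
        inv_mem' := by
          rintro u ⟨hu, s, hs, e⟩
          exact ⟨inv_mem hu, 0 - s, by rw [sub_pow_char_pow, hs, zero_pow (by omega)], fun x => by
            rw [inv_smul_eq_iff, e]; simp⟩ }
    rcases h2 W (fun u hu => hu.1) (fun t ht => mem_normalizer_fintype (by
      rintro u ⟨hu, s, hs, e⟩
      refine ⟨‹N.Normal›.conj_mem u hu t, χ ⟨t, ht⟩ * s, ?_, fun x => ?_⟩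
      · obtain ⟨m, hm⟩ := hi
        have : χ ⟨t, ht⟩ ^ q = 1 := by rw [← map_pow, ← cT, pow_card_eq_one', map_one]
        rw [mul_pow, hs, show p ^ i = q * m + 1 by omega, pow_succ, pow_mul, ← Units.val_pow_eq_pow_val,
          this]
        simp
      · rw [mul_smul, mul_smul, show t⁻¹ • κ x = _ from kT ⟨t, ht⟩⁻¹ x, e, show t • κ _ = _ from kT ⟨t, ht⟩ _]
        simp [mul_add])) with e | e
    · obtain ⟨u, hu, f⟩ := kN' 1
      have : u = 1 := mem_bot.1 (e ▸ show u ∈ W from ⟨hu, 1, one_pow _, f⟩)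
      have := f 0
      rw [‹u = 1›, one_smul, κ.injective.eq_iff] at this
      simp at this
    · have : Fintype.card K - 1 ∣ p ^ i - 1 := (FiniteField.forall_pow_eq_one_iff K _).1 fun x => by
        obtain ⟨u, hu, f⟩ := kN' x
        obtain ⟨-, t, ht, f'⟩ : u ∈ W := e ▸ hu
        have := (f 0).symm.trans (f' 0)
        rw [κ.injective.eq_iff, zero_add, zero_add] at this
        rw [← this, show p ^ i = p ^ i - 1 + 1 by omega, pow_succ, mul_left_eq_self₀] at ht
        exact Units.ext (by simpa using ht)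
      have := Nat.le_of_dvd (by omega) this
      have := Nat.pow_lt_pow_right hp.one_lt id
      omega
  · rw [← hh]
    refine le_antisymm (fun g hg => ?_) (sup_le hT inf_le_right)
    obtain ⟨t, ht⟩ : g • β ∈ orbit T β := h1 β ▸ ⟨⟨g, hg⟩, rfl⟩
    rw [← mul_inv_cancel_left (t : G) g]
    refine mul_mem_sup t.2 ⟨?_, mul_mem (hT (inv_mem t.2)) hg⟩
    change _ • β = β
    rw [mul_smul, inv_smul_eq_iff]; exact ht.symm
  · rw [card_eq_orbit_mul_stabilizer β, card_stabilizer_subgroup, ← Nat.card_coe_set_eq, co β hβ.symm,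
      ← card_ringEquiv hp (Nat.card_eq_fintype_card.trans cK)]
    exact Nat.mul_dvd_mul_left q (card_dvd_card_ringEquiv κ D hD)

end Cfsg.Agent.S3496
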