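import Cfsg.Statements.S3532
import Mathlib
import Cfsg.Agent.H29.Spec3

set_option autoImplicit false
open Cfsg

namespace Cfsg.Agent.S3532

/-- Let q ≥ 4 be a prime power and L = PSL(2,q). There is a finite solvable group with the same set of element orders as L × L (so L × L is not determined by its spectrum). -/
theorem result {F : Type*} [Field F] [Fintype F] (hF : 4 ≤ Fintype.card F) :
    ∃ (H : Type) (_ : Group H) (_ : Finite H), Group.IsSolvable H ∧
      Set.range (orderOf : H → ℕ) = Set.range (orderOf : Matrix.ProjectiveSpecialLinearGroup (Fin 2) F × Matrix.ProjectiveSpecialLinearGroup (Fin 2) F → ℕ) := by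
  obtain ⟨p, hp⟩ := CharP.exists F
  have := Fact.mk (CharP.char_is_prime F p)
  have hs := H29.spec_psl2 (F := F) p
  have hg : 0 < Nat.gcd 2 (Fintype.card F - 1) := Nat.gcd_pos_of_pos_left _ two_pos
  have hg2 : Nat.gcd 2 (Fintype.card F - 1) ≤ 2 := Nat.gcd_le_left _ two_pos
  generalize ha : (Fintype.card F - 1) / Nat.gcd 2 (Fintype.card F - 1) = a at hs
  generalize hb : (Fintype.card F + 1) / Nat.gcd 2 (Fintype.card F - 1) = b at hs
  have a0 : a ≠ 0 := ha ▸ (Nat.div_pos (by omega) hg).ne'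
  have b0 : b ≠ 0 := hb ▸ (Nat.div_pos (by omega) hg).ne'
  obtain ⟨A, _, _, _, hA⟩ := H29.exists_spec_two a0 b0
  obtain ⟨B, _, _, _, hB⟩ := H29.exists_spec_two (CharP.char_is_prime F p).ne_zero a0
  refine ⟨A × B, inferInstance, inferInstance, inferInstance, Set.ext fun n => ?_⟩
  rw [H29.mem_spec_prod, H29.mem_spec_prod, hA, hB, hs]
  refine ⟨fun ⟨x, hx, y, hy, e⟩ => ⟨x, .inr hx, y, hy.imp_right .inl, e⟩, ?_⟩
  rintro ⟨x, hx | hx | hx, y, hy | hy | hy, rfl⟩
  · exact ⟨1, .inl (one_dvd _), _, .inl (Nat.lcm_dvd hx hy), (Nat.lcm_one_left _).symm⟩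
  · exact ⟨y, .inl hy, x, .inl hx, Nat.lcm_comm _ _⟩
  · exact ⟨y, .inr hy, x, .inl hx, Nat.lcm_comm _ _⟩
  · exact ⟨x, .inl hx, y, .inl hy, rfl⟩
  · exact ⟨x, .inl hx, y, .inr hy, rfl⟩
  · exact ⟨y, .inr hy, x, .inr hx, Nat.lcm_comm _ _⟩
  · exact ⟨x, .inr hx, y, .inl hy, rfl⟩
  · exact ⟨x, .inr hx, y, .inr hy, rfl⟩
  · exact ⟨_, .inr (Nat.lcm_dvd hx hy), 1, .inl (one_dvd _), (Nat.lcm_one_right _).symm⟩

end Cfsg.Agent.S3532
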