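import Cfsg.Statements.S3554
import Mathlib
import Cfsg.Agent.H16.Prim

set_option autoImplicit false
open Cfsg

namespace Cfsg.Agent.S3554

/-- Let G act faithfully and transitively on a finite set and suppose G has a non-trivial cyclic normal subgroup. Then some element of G of prime order fixes no point. -/
theorem result {G Ω : Type*} [Group G] [Finite G] [MulAction G Ω] [FaithfulSMul G Ω] [Finite Ω]
    (htrans : MulAction.IsPretransitive G Ω) (C : Subgroup G) (hC : C.Normal) (hC1 : C ≠ ⊥) (hcyc : IsCyclic ↥C) :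
    ∃ g : G, (orderOf g).Prime ∧ ∀ ω : Ω, g • ω ≠ ω := by
  obtain ⟨p, hp, hd⟩ := Nat.exists_prime_and_dvd ((Subgroup.one_lt_card_iff_ne_bot C).2 hC1).ne'
  have := Fact.mk hp
  obtain ⟨g, hg⟩ := exists_prime_orderOf_dvd_card' (G := C) p hd
  have hg' : orderOf (g : G) = p := by rw [Subgroup.orderOf_coe, hg]
  refine ⟨g, hg' ▸ hp, fun ω h => ?_⟩
  have hn : (Subgroup.zpowers (g : G)).Normal := by
    obtain ⟨c, hc⟩ := IsCyclic.exists_generator (α := C)
    constructor
    rintro _ ⟨k, rfl⟩ x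
    obtain ⟨m, hm⟩ := hc g
    obtain ⟨n, hn⟩ := hc ⟨x * c * x⁻¹, hC.conj_mem c c.2 x⟩
    have hm' : (c : G) ^ m = g := congrArg Subtype.val hm
    have hn' : (c : G) ^ n = x * c * x⁻¹ := congrArg Subtype.val hn
    refine ⟨n * k, ?_⟩
    simp only
    rw [← hm', ← zpow_mul, ← zpow_mul, ← conj_zpow, ← hn', ← zpow_mul]
    congr 1; ring
  have := H16.normal_le_stabilizer_eq_bot (α := Ω) (Subgroup.zpowers (g : G)) (a := ω)
    (by rw [Subgroup.zpowers_le]; exact h)
  rw [Subgroup.zpowers_eq_bot] at this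
  rw [this, orderOf_one] at hg'
  exact hp.one_lt.ne hg'

end Cfsg.Agent.S3554
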