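import Cfsg.Statements.S3555
import Mathlib
import Cfsg.Agent.H16.Derang

set_option autoImplicit false
open Cfsg

namespace Cfsg.Agent.S3555

/-- Let G act faithfully and transitively on a finite set and suppose every element of G fixing no point is an involution. Then either G is an elementary abelian 2-group, or G is a Frobenius group whose Frobenius kernel is an elementary abelian 2-group: G has a Frobenius complement H, and the elements lying in no conjugate of H, together with the identity, pairwise commute and square to the identity. -/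
theorem result {G Ω : Type*} [Group G] [Finite G] [MulAction G Ω] [FaithfulSMul G Ω] [Finite Ω]
    (htrans : MulAction.IsPretransitive G Ω) (hinv : ∀ g : G, (∀ ω : Ω, g • ω ≠ ω) → orderOf g = 2) :
    (IsMulCommutative G ∧ ∀ g : G, g ^ 2 = 1) ∨
    (∃ H : Subgroup G, Cfsg.IsFrobeniusComplement H ∧
      (∀ x ∈ Cfsg.frobeniusKernel H, x ^ 2 = 1) ∧
      ∀ x ∈ Cfsg.frobeniusKernel H, ∀ y ∈ Cfsg.frobeniusKernel H, x * y = y * x) := by
  classical
  have := Fintype.ofFinite G
  have := Fintype.ofFinite Ω
  rcases subsingleton_or_nontrivial Ω with hs | hnt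
  · have : ∀ g : G, g = 1 := fun g => H16.eq_one_of_smul_eq (α := Ω) fun a => Subsingleton.elim _ _
    exact Or.inl ⟨⟨⟨fun a b => by rw [this a, this b]⟩⟩, fun g => this _⟩
  obtain ⟨h1, h2⟩ := H16.card_der_ineq (G := G) (α := Ω)
  -- the number of fixed points of squares
  have h3 : ∑ g : G, H16.nfix Ω (g ^ 2) ≤ ∑ g : G, H16.nfix Ω g ^ 2 := by
    have e1 : ∀ g : G, H16.nfix Ω (g ^ 2) =
        ∑ z : Ω × Ω, if g • z.1 = z.2 ∧ g • z.2 = z.1 then 1 else 0 := by
      intro g
      rw [H16.nfix_eq_card_filter, Finset.card_filter, Fintype.sum_prod_type]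
      refine Finset.sum_congr rfl fun x _ => ?_
      rw [Finset.sum_eq_single (g • x)]
      · simp [pow_two, mul_smul]
      · intro y _ hy; simp [hy.symm]
      · simp
    have e2 : ∀ g : G, H16.nfix Ω g ^ 2 =
        ∑ z : Ω × Ω, if g • z.1 = z.1 ∧ g • z.2 = z.2 then 1 else 0 := by
      intro g
      rw [pow_two, ← H16.nfix_prod, H16.nfix_eq_card_filter, Finset.card_filter]
      refine Finset.sum_congr rfl fun x _ => ?_
      simp only [Prod.ext_iff, Prod.smul_fst, Prod.smul_snd]
    simp only [e1, e2]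
    rw [Finset.sum_comm, Finset.sum_comm (s := Finset.univ) (t := (Finset.univ : Finset (Ω × Ω)))]
    refine Finset.sum_le_sum fun z _ => ?_
    rw [← Finset.card_filter, ← Finset.card_filter]
    by_cases h : ∃ k : G, k • z.1 = z.2 ∧ k • z.2 = z.1
    · obtain ⟨k, k1, k2⟩ := h
      apply Finset.card_le_card_of_injOn (fun g => k⁻¹ * g)
      · intro g hg
        simp only [Finset.coe_filter, Finset.mem_univ, true_and, Set.mem_ofPred_eq] at hg ⊢
        rw [mul_smul, mul_smul, hg.1, hg.2, inv_smul_eq_iff, inv_smul_eq_iff]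
        exact ⟨k1.symm, k2.symm⟩
      · intro g _ g' _ e; exact mul_left_cancel e
    · rw [Finset.filter_false_of_mem fun g _ hg => h ⟨g, hg⟩]; simp
  have h4 : Nat.card Ω * Nat.card {g : G // ∀ ω : Ω, g • ω ≠ ω} + Nat.card G ≤
      ∑ g : G, H16.nfix Ω (g ^ 2) := by
    rw [← H16.sum_nfix_of_trans (G := G) (α := Ω), Nat.card_eq_fintype_card (α := Subtype _),
      Fintype.card_subtype, Finset.card_filter, Finset.mul_sum, ← Finset.sum_add_distrib]
    refine Finset.sum_le_sum fun g _ => ?_
    split_ifs with h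
    · rw [H16.nfix_eq_zero.2 h, ← hinv g h, pow_orderOf_eq_one, H16.nfix_one]; simp
    · rw [mul_zero, zero_add]
      exact Set.ncard_le_ncard (fun x hx => by
        change g ^ 2 • x = x
        rw [pow_two, mul_smul, show g • x = x from hx, show g • x = x from hx]) (Set.toFinite _)
  have h5 := h2 (by
    have := h4.trans h3
    zify at this
    omega)
  obtain ⟨K, -, hK, -, -⟩ := H16.exists_frob_kernel h5
  have hK2 : ∀ g ∈ K, g ^ 2 = 1 := fun g hg => by
    rcases (hK g).1 hg with rfl | h
    · simp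
    · rw [← hinv g h, pow_orderOf_eq_one]
  have hKc : ∀ x ∈ K, ∀ y ∈ K, x * y = y * x := fun x hx y hy => by
    have e : ∀ g ∈ K, g⁻¹ = g := fun g hg => inv_eq_of_mul_eq_one_left (by rw [← pow_two, hK2 g hg])
    rw [← e _ (K.mul_mem hx hy), mul_inv_rev, e x hx, e y hy]
  obtain ⟨a⟩ : Nonempty Ω := inferInstance
  by_cases ha : MulAction.stabilizer G a = ⊥
  · have : ∀ g, g ∈ K := fun g => (hK g).2 (by
      by_contra h
      push Not at h
      obtain ⟨x, hx⟩ := h.2
      have : g ∈ MulAction.stabilizer G x := hx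
      rw [H16.stabilizer_eq_bot_of_one ha] at this
      exact h.1 this)
    exact Or.inl ⟨⟨⟨fun x y => hKc x (this x) y (this y)⟩⟩, fun g => hK2 g (this g)⟩
  · refine Or.inr ⟨_, H16.isFrobeniusComplement_stabilizer h5 ha, ?_, ?_⟩
    · intro x hx
      exact hK2 x ((hK x).2 ((H16.mem_frobeniusKernel_stabilizer a x).1 hx))
    · intro x hx y hy
      exact hKc x ((hK x).2 ((H16.mem_frobeniusKernel_stabilizer a x).1 hx)) y
        ((hK y).2 ((H16.mem_frobeniusKernel_stabilizer a y).1 hy))

end Cfsg.Agent.S3555
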