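import Cfsg.Statements.S3557
import Mathlib
import Cfsg.Agent.H16.Neu4
import Cfsg.Agent.H3.Basic

set_option autoImplicit false
open Cfsg

namespace Cfsg.Agent.S3557

open MulAction Subgroup H16

theorem key {R Ω : Type*} [Group R] [Finite R] [MulAction R Ω] {p : ℕ} [Fact p.Prime]
    (hR : IsPGroup p R) (x : Ω) (M : Subgroup R) [M.Normal]
    (h : ¬ M ≤ fixingSubgroup R (orbit R x)) :
    ∃ w ∈ M, ∀ y ∈ orbit R x, w • y ≠ y ∧ w ^ p • y = y := by
  obtain ⟨w, hw, h1, h2, h3⟩ := H3.exists_central_mod hR M _ h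
  refine ⟨w, hw, fun y hy => ⟨fun e => h1 ?_, (mem_fixingSubgroup_iff R).1 h2 y hy⟩⟩
  rw [mem_fixingSubgroup_iff, ← orbit_eq_iff.2 hy]
  rintro _ ⟨g, rfl⟩
  have := (mem_fixingSubgroup_iff R).1 (h3 g) (g • y) (mem_orbit_of_mem_orbit g hy)
  rwa [commutatorElement_def, mul_smul, mul_smul, mul_smul, inv_smul_smul,
    inv_smul_eq_iff.2 e.symm] at this

theorem pw {G Ω : Type*} [Group G] [MulAction G Ω] {P : Subgroup G} {g : G} {u : P} {x : Ω}
    (h : ∀ y ∈ orbit P x, g • y = u • y) (n : ℕ) : ∀ y ∈ orbit P x, g ^ n • y = u ^ n • y := by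
  induction n with
  | zero => simp
  | succ n ih =>
    intro y hy
    rw [pow_succ', pow_succ', mul_smul, mul_smul, ih y hy, h _ (mem_orbit_of_mem_orbit _ hy)]

/-- Let G act faithfully and transitively on a finite set with 2p² points, p a prime, and suppose G is 2-closed: every permutation of the set which, on each ordered pair of points, agrees with some element of G, is itself induced by an element of G. Then some element of G of prime order fixes no point. -/
theorem result {G Ω : Type*} [Group G] [Finite G] [MulAction G Ω] [FaithfulSMul G Ω] [Finite Ω]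
    (htrans : MulAction.IsPretransitive G Ω) (p : ℕ) (hp : p.Prime) (hcard : Nat.card Ω = 2 * p ^ 2)
    (hcl : ∀ σ : Equiv.Perm Ω, (∀ a b : Ω, ∃ g : G, σ a = g • a ∧ σ b = g • b) → ∃ g : G, ∀ a : Ω, σ a = g • a) :
    ∃ g : G, (orderOf g).Prime ∧ ∀ ω : Ω, g • ω ≠ ω := by
  classical
  have := Fact.mk hp
  obtain ⟨P⟩ : Nonempty (Sylow p G) := inferInstance
  have hR := P.isPGroup'
  have p2 : 1 < p ^ 2 := Nat.one_lt_pow two_ne_zero hp.one_lt
  have dv : ∀ x : Ω, p ^ 2 ∣ (orbit P x).ncard := fun x => by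
    have := ncard_orbit_dvd_mul (le_top : (P : Subgroup G) ≤ ⊤) x
    rw [relIndex_top_right, show orbit (⊤ : Subgroup G) x = Set.univ from Set.eq_univ_of_forall
      fun y => let ⟨g, h⟩ := exists_smul_eq G x y; ⟨⟨g, trivial⟩, h⟩, Set.ncard_univ, hcard] at this
    exact (Nat.Coprime.pow_left 2 ((Nat.Prime.coprime_iff_not_dvd hp).2
      P.not_dvd_index)).dvd_of_dvd_mul_right ((dvd_mul_left _ _).trans this)
  have le : ∀ x : Ω, p ^ 2 ≤ (orbit P x).ncard := fun x =>
    Nat.le_of_dvd ((Set.ncard_pos (Set.toFinite _)).2 ⟨x, mem_orbit_self x⟩) (dv x)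
  obtain ⟨a⟩ : Nonempty Ω := (Nat.card_pos_iff.1 (by omega)).1
  obtain ⟨z, -, z1, z2, z3⟩ := H3.exists_central_mod hR ⊤ ⊥ fun h => by
    have := Set.ncard_le_ncard (s := orbit P a) (t := {a}) (by
      rintro _ ⟨g, rfl⟩; simp [mem_bot.1 (h (mem_top g))])
    have := le a
    rw [Set.ncard_singleton] at *
    omega
  rw [mem_bot] at z1 z2
  have zc : ∀ g, Commute z g := fun g => commutatorElement_eq_one_iff_commute.1 (mem_bot.1 (z3 g))
  have oz : orderOf z = p := orderOf_eq_prime z2 z1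
  by_cases hz : ∀ ω : Ω, z • ω ≠ ω
  · exact ⟨z, by rwa [orderOf_coe, oz], hz⟩
  push Not at hz
  obtain ⟨y, hy⟩ := hz
  have fx : ∀ {b c : Ω}, z • b = b → c ∈ orbit P b → z • c = c := by
    rintro b _ hb ⟨g, rfl⟩
    rw [← mul_smul, (zc g).eq, mul_smul, hb]
  obtain ⟨x, hx⟩ := exists_smul_ne (α := Ω) z1
  have mv : ∀ c ∈ orbit P x, z • c ≠ c := fun c hc e => hx (fx e (mem_orbit_symm.1 hc))
  have dj : Disjoint (orbit P x) (orbit P y) := Set.disjoint_left.2 fun c h1 h2 => mv c h1 (fx hy h2)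
  have cu := Set.ncard_union_eq dj
  have := Set.ncard_le_card (orbit P x ∪ orbit P y)
  have := le x
  have := le y
  have un : ∀ c, c ∉ orbit P x → c ∈ orbit P y := fun c hc =>
    (((Set.eq_univ_iff_ncard (orbit P x ∪ orbit P y)).2 (by omega)).symm ▸ Set.mem_univ c :
      c ∈ orbit P x ∪ orbit P y).resolve_left hc
  have : (zpowers z).Normal := ⟨by rintro _ ⟨n, rfl⟩ g; simp [← ((zc g).zpow_left n).eq]⟩
  let S := stabilizer P x ⊔ zpowers z
  have i1 : (stabilizer P x).index = p ^ 2 := by rw [index_stabilizer]; omega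
  have i2 : (stabilizer P y).index = p ^ 2 := by rw [index_stabilizer]; omega
  have iS : S.index = p := by
    have d1 : S.index ∣ p ^ 2 := i1 ▸ index_dvd_of_le le_sup_left
    have c1 := H4.card_mul_relIndex (le_sup_right : zpowers z ≤ S)
    rw [relIndex_sup_right, Nat.card_zpowers, oz] at c1
    have c2 := S.card_mul_index.trans (stabilizer P x).card_mul_index.symm
    obtain ⟨t, ht⟩ := relIndex_dvd_card (zpowers z) (stabilizer P x)
    have r0 : (zpowers z).relIndex (stabilizer P x) ≠ 0 := FiniteIndex.index_ne_zero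
    rw [← c1, i1, ht, mul_comm p, mul_assoc, mul_assoc, Nat.mul_right_inj r0, pow_two, mul_left_comm,
      Nat.mul_right_inj hp.ne_zero] at c2
    obtain ⟨j, hj, e⟩ := (Nat.dvd_prime_pow hp).1 d1
    interval_cases j
    · exact absurd (Nat.eq_one_of_mul_eq_one_left (c2.symm.trans e)) hp.ne_one
    · simpa using e
    · have := relIndex_mul_index (le_sup_left : stabilizer P x ≤ S)
      rw [e, i1, Nat.mul_eq_right (by omega), relIndex_eq_one] at this
      exact absurd (this (mem_sup_right (mem_zpowers z))) hx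
  have nS : S.Normal := normal_of_index_eq_minFac_card (by
    obtain ⟨k, hk⟩ := hR.exists_card_eq
    rw [iS, hk, hp.pow_minFac fun e => z1 ?_]
    rw [e] at hk
    have := (Nat.card_eq_one_iff_unique.1 hk).1
    exact Subsingleton.elim _ _)
  obtain ⟨w, hw, w1⟩ := key hR y S fun h => by
    have := index_dvd_of_le (show S ≤ stabilizer P y from fun g hg =>
      (mem_fixingSubgroup_iff _).1 (h hg) y (mem_orbit_self y))
    rw [i2, iS] at this
    have := Nat.le_of_dvd hp.pos this
    nlinarith [hp.one_lt]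
  have mix : ∀ b ∈ orbit P x, ∀ c ∈ orbit P y, ∃ g : P, z • b = g • b ∧ w • c = g • c := by
    rintro _ ⟨h, rfl⟩ c hc
    obtain ⟨s, hs, _, ⟨n, rfl⟩, e⟩ := mem_sup_of_normal_right.1 (nS.conj_mem w hw h⁻¹)
    have e : w * h = z ^ n * h * s := by
      rw [mul_assoc, ((zc _).zpow_left n).eq, mul_assoc, show s * z ^ n = _ from e]; group
    refine ⟨z ^ (1 - n) * w, ?_, ?_⟩
    · rw [← mul_smul, ← mul_smul, mul_assoc, e, ← mul_assoc, ← mul_assoc, ← zpow_add, sub_add_cancel,
        zpow_one, mul_smul _ s, hs]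
    · exact ((mul_smul _ _ _).trans (zpow_mem (show z ∈ stabilizer P _ from
        fx hy (mem_orbit_of_mem_orbit w hc)) _)).symm
  let f : Ω → Ω := fun c => if c ∈ orbit P x then z • c else w • c
  have hf : ∀ b c, ∃ g : G, f b = g • b ∧ f c = g • c := fun b c => by
    by_cases hb : b ∈ orbit P x <;> by_cases hc : c ∈ orbit P x <;> simp only [f, hb, hc, if_true, if_false]
    · exact ⟨z, rfl, rfl⟩
    · obtain ⟨g, h⟩ := mix b hb c (un c hc); exact ⟨g, h⟩
    · obtain ⟨g, h⟩ := mix c hc b (un b hb); exact ⟨g, h.symm⟩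
    · exact ⟨w, rfl, rfl⟩
  obtain ⟨g, hg⟩ := hcl (Equiv.ofBijective f (Finite.injective_iff_bijective.1 fun b c e => by
    obtain ⟨g, h1, h2⟩ := hf b c
    exact smul_left_cancel g (h1.symm.trans (e.trans h2)))) hf
  have g1 : ∀ c ∈ orbit P x, g • c = z • c := fun c hc => (hg c).symm.trans (if_pos hc)
  have g2 : ∀ c ∈ orbit P y, g • c = w • c := fun c hc =>
    (hg c).symm.trans (if_neg fun h => Set.disjoint_left.1 dj h hc)
  refine ⟨g, ?_, fun c => ?_⟩
  · rwa [orderOf_eq_prime (p := p) (eq_one_of_smul_eq (α := Ω) fun c => ?_) fun e =>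
      hx ((g1 x (mem_orbit_self x)).symm.trans (by rw [e, one_smul]))]
    by_cases hc : c ∈ orbit P x
    · rw [pw g1 p c hc, z2, one_smul]
    · rw [pw g2 p c (un c hc), (w1 c (un c hc)).2]
  · by_cases hc : c ∈ orbit P x
    · rw [g1 c hc]; exact mv c hc
    · rw [g2 c (un c hc)]; exact (w1 c (un c hc)).1

end Cfsg.Agent.S3557
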