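import Cfsg.Statements.S3590
import Mathlib
import Cfsg.Agent.H29.Cl9
import Cfsg.Agent.H29.Spec2

set_option autoImplicit false
open Cfsg

namespace Cfsg.Agent.S3590

/-- Let F be a finite field of characteristic 2. Then PSp(8,F) is not determined by its set of element orders, not even up to finitely many groups: for every bound there is a finite group of larger order with exactly the same set of element orders as PSp(8,F). -/
theorem result {F : Type*} [Field F] [Fintype F]
    [CharP F 2] (M : ℕ) :
    ∃ (H : Type) (_ : Group H) (_ : Fintype H), M < Fintype.card H ∧ Set.range (orderOf : H → ℕ) = Set.range (orderOf : Cfsg.PSp 4 F → ℕ) := by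
  obtain ⟨b, hb⟩ := not_forall.mp (Finite.injective_iff_surjective.not.mp
    fun H : Function.Injective fun t : F => -(t ^ 2 + t) => by simpa using @H 0 (-1) (by simp))
  have hab : ∀ z₁ z₂ : F, z₁ ^ 2 + 1 * z₁ * z₂ + b * z₂ ^ 2 = 0 → z₁ = 0 ∧ z₂ = 0 := fun z₁ z₂ h => by
    by_cases h2 : z₂ = 0
    · simpa [h2] using h
    · exact absurd ⟨z₁ / z₂, by field_simp; linear_combination -h⟩ hb
  haveI : Finite (H29.AffO F (quadFormMinus 3 F 1 b)) := Finite.of_equiv _ SemidirectProduct.equivProd.symm
  refine H29.Unb.of_eq (H29.unb_of_ker (G := H29.AffO F (quadFormMinus 3 F 1 b)) SemidirectProduct.rightHom Nat.prime_two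
    (fun x e => ?_) (x0 := .inl (.ofAdd 1)) (fun e => one_ne_zero (congrFun (congrArg (·.left) e) (.inr 0))) rfl)
      ((H29.spec_psp 2 four_ne_zero).trans (H29.spec_aff_two hab).symm) M
  rw [← SemidirectProduct.inl_left_mul_inr_right x, show x.right = 1 from e, map_one, mul_one, ← map_pow,
    show x.left ^ 2 = 1 from funext fun i => (two_nsmul _).trans (CharTwo.add_self_eq_zero _), map_one]

end Cfsg.Agent.S3590
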