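import Cfsg.Statements.S3626
import Mathlib
import Cfsg.Agent.S1159
import Cfsg.Agent.S2475
-- import your own Cfsg.Agent.* helpers here

set_option autoImplicit false
set_option linter.unusedSectionVars false
set_option linter.unusedVariables false
open Cfsg

namespace Cfsg.Agent.S3626
open Matrix

section sd
variable {A L : Type*} [CommGroup A] [Group L] {φ : L →* MulAut A}

theorem pow_fix (x : A ⋊[φ] L) {k : ℕ} (hk : x.right ^ k = 1) :
    x ^ k = SemidirectProduct.inl (x ^ k).left ∧ φ x.right (x ^ k).left = (x ^ k).left := by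
  have h1 : (x ^ k).right = 1 := by
    have := map_pow (SemidirectProduct.rightHom (φ := φ)) x k
    simpa [hk] using this
  refine ⟨by ext <;> simp [h1], ?_⟩
  have h2 : x * x ^ k = x ^ k * x := (Commute.self_pow x k).eq
  have h3 := congrArg SemidirectProduct.left h2
  simp only [SemidirectProduct.mul_left, h1, map_one, MulAut.one_apply] at h3
  rw [mul_comm] at h3
  exact mul_right_cancel h3

end sd

variable {K : Type} [Field K] [Fintype K] [CharP K 3]

abbrev M2 (K : Type) := Matrix (Fin 2) (Fin 2) K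
abbrev SL2 (K : Type) [Field K] := Matrix.SpecialLinearGroup (Fin 2) K
abbrev PSL2 (K : Type) [Field K] := ProjectiveSpecialLinearGroup (Fin 2) K

instance : Fact (Nat.Prime 3) := ⟨by norm_num⟩

def mt (g : SL2 K) : M2 K := g.val

theorem mt_mul (g h : SL2 K) : mt (g * h) = mt g * mt h := rfl
theorem mt_one : mt (1 : SL2 K) = 1 := rfl
theorem mt_det (g : SL2 K) : (mt g).det = 1 := g.2

noncomputable def fr (g : SL2 K) : M2 K := ((mt g).map (frobenius K 3))ᵀ

theorem fr_mul (g h : SL2 K) : fr (g * h) = fr h * fr g := by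
  simp [fr, mt_mul, Matrix.map_mul]

theorem fr_one : fr (1 : SL2 K) = 1 := by
  simp [fr, mt_one]

/-- the action of `SL₂` on `n`-tuples of `2 × 2` matrices -/
noncomputable def act (n : ℕ) : SL2 K →* MulAut (Multiplicative (Fin n → M2 K)) where
  toFun g :=
    { toFun := fun w => Multiplicative.ofAdd fun i => mt g * w.toAdd i * fr g
      invFun := fun w => Multiplicative.ofAdd fun i => mt g⁻¹ * w.toAdd i * fr g⁻¹
      left_inv := fun w => by
        ext i : 2
        simp only [toAdd_ofAdd]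
        rw [← mul_assoc, ← mul_assoc, mul_assoc _ (fr g), ← fr_mul, inv_mul_cancel, fr_one, mul_one,
          ← mt_mul, inv_mul_cancel]
        simp [mt_one]
      right_inv := fun w => by
        ext i : 2
        simp only [toAdd_ofAdd]
        rw [← mul_assoc, ← mul_assoc, mul_assoc _ (fr g⁻¹), ← fr_mul, mul_inv_cancel, fr_one, mul_one,
          ← mt_mul, mul_inv_cancel]
        simp [mt_one]
      map_mul' := fun v w => by
        ext i : 2
        simp [mul_add, add_mul] }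
  map_one' := by
    ext w i : 3
    simp [fr_one, mt_one]
  map_mul' g h := by
    ext w i : 3
    simp [fr_mul, mt_mul, mul_assoc]

theorem act_apply {n : ℕ} (g : SL2 K) (w : Multiplicative (Fin n → M2 K)) (i : Fin n) :
    (act n g w).toAdd i = mt g * w.toAdd i * fr g := rfl

theorem act_center (n : ℕ) : ∀ g ∈ Subgroup.center (SL2 K), act n g = 1 := by
  intro g hg
  obtain ⟨r, hr, e⟩ := Matrix.SpecialLinearGroup.mem_center_iff.1 hg
  ext w i : 3
  rw [act_apply, fr, mt, ← e]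
  simp only [Fintype.card_fin] at hr
  have h4 : r * r ^ 3 = 1 := by rw [← pow_succ', show 3 + 1 = 2 * 2 by rfl, pow_mul, hr, one_pow]
  ext a b
  fin_cases a <;> fin_cases b <;>
    simp [Matrix.mul_apply, Fin.sum_univ_two, frobenius_def, Matrix.vecMul, dotProduct]
  exacts [by linear_combination w.toAdd i 0 0 * h4, by linear_combination w.toAdd i 0 1 * h4,
    by linear_combination w.toAdd i 1 0 * h4, by linear_combination w.toAdd i 1 1 * h4]

/-- sign action -/
def sgn (A : Type*) [CommGroup A] : ℤˣ →* MulAut A where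
  toFun e :=
    { toFun := fun w => w ^ (e : ℤ)
      invFun := fun w => w ^ (e : ℤ)
      left_inv := fun w => by simp [← _root_.zpow_mul]
      right_inv := fun w => by simp [← _root_.zpow_mul]
      map_mul' := fun v w => mul_zpow v w _ }
  map_one' := by ext; simp
  map_mul' e f := by ext; simp [← _root_.zpow_mul, mul_comm]

noncomputable def phi (K : Type) [Field K] [Fintype K] [CharP K 3] (n : ℕ) :
    ℤˣ × PSL2 K →* MulAut (Multiplicative (Fin n → M2 K)) :=
  MonoidHom.noncommCoprod (sgn _) (QuotientGroup.lift _ (act n) (act_center n)) fun e g => by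
    ext w : 1
    simp [sgn]

theorem phi_apply {n : ℕ} (e : ℤˣ) (g : SL2 K) (w : Multiplicative (Fin n → M2 K)) (i : Fin n) :
    (phi K n (e, (g : PSL2 K)) w).toAdd i = (e : ℤ) • (mt g * w.toAdd i * fr g) := by
  have : (QuotientGroup.lift _ (act n) (act_center n)) (g : PSL2 K) = act n g := rfl
  simp [phi, sgn, this, act_apply]

theorem ch (g : M2 K) (h : g.det = 1) : g * g = g.trace • g - 1 := by
  rw [det_fin_two] at h
  ext a b
  fin_cases a <;> fin_cases b <;> simp [Matrix.mul_apply, Fin.sum_univ_two, trace_fin_two] <;>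
    first | ring1 | linear_combination (-1 : K) * h

theorem fix_trace (hsq : ∀ t : K, t * t ≠ -1) (e : ℤˣ) (g : SL2 K) (w : M2 K)
    (h : (e : ℤ) • (mt g * w * fr g) = w) (hw : w ≠ 0) : (mt g).trace = 0 ∨ (mt g).trace ^ 2 = 1 := by
  have h3 : (3 : K) = 0 := by simpa using CharP.cast_eq_zero K 3
  have h2 : mt (g * g) * w * fr (g * g) = w := by
    have : mt (g * g) * w * fr (g * g) = mt g * (mt g * w * fr g) * fr g := by
      simp [fr_mul, mt_mul, mul_assoc]
    rw [this]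
    have h' : mt g * w * fr g = (e : ℤ) • w := by
      rcases Int.units_eq_one_or e with rfl | rfl
      · simpa using h
      · simp only [Units.val_neg, Units.val_one, neg_smul, one_smul] at h ⊢
        exact neg_eq_iff_eq_neg.1 h
    rw [h', mul_smul_comm, smul_mul_assoc, h]
  set a := g * g with ha
  have c1 := ch _ (mt_det a)
  have c2 := ch (fr a) (by
    rw [fr, det_transpose, ← RingHom.mapMatrix_apply, ← RingHom.map_det, mt_det, map_one])
  have t2 : (fr a).trace = (mt a).trace ^ 3 := by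
    simp [fr, trace_fin_two, frobenius_def, add_pow_char]
  rw [t2] at c2
  set s := (mt a).trace with hs
  -- a w b = w
  have k1 : mt a * mt a * w * (fr a * fr a) = w := by
    have : mt a * mt a * w * (fr a * fr a) = mt a * (mt a * w * fr a) * fr a := by simp [mul_assoc]
    rw [this, h2, h2]
  have k2 : mt a * mt a * w * (fr a * fr a) = s ^ 3 • (mt a * w) - mt a * mt a * w := by
    rw [c2, mul_sub, mul_one, mul_smul_comm, mul_assoc (mt a) (mt a) w, mul_assoc (mt a) (mt a * w), h2]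
  rw [k1, c1, sub_mul, smul_mul_assoc, one_mul] at k2
  have k3 : (s ^ 3 - s) • (mt a * w) = 0 := by
    rw [sub_smul, sub_eq_zero]
    have := sub_eq_iff_eq_add.1 k2.symm
    rw [this]; abel
  have k4 : mt a * w ≠ 0 := fun e => hw (by rw [← h2, e, zero_mul])
  have k5 : s ^ 3 - s = 0 := (smul_eq_zero.1 k3).resolve_right k4
  have k6 : s = (mt g).trace ^ 2 + 1 := by
    have := congrArg Matrix.trace (ch _ (mt_det g))
    rw [hs, ha, mt_mul, this]
    simp [trace_sub, trace_smul]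
    linear_combination (-1 : K) * h3
  set t := (mt g).trace
  have k7 : (t * t + 1) * (t * t * (t ^ 2 - 1)) = 0 := by
    rw [k6] at k5
    linear_combination k5 - (t ^ 4 + t ^ 2) * h3
  rcases mul_eq_zero.1 k7 with k | k
  · exact absurd (by linear_combination k) (hsq t)
  rcases mul_eq_zero.1 k with k | k
  · exact Or.inl (mul_self_eq_zero.1 k)
  · exact Or.inr (by linear_combination k)

theorem psl_one (g : SL2 K) (r : K) (hr : r ^ 2 = 1) (h : mt g = r • 1) : (g : PSL2 K) = 1 :=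
  (QuotientGroup.eq_one_iff g).2 (Matrix.SpecialLinearGroup.mem_center_iff.2 ⟨r, by simpa using hr, by
    show _ = mt g
    rw [h]; ext a b; fin_cases a <;> fin_cases b <;> simp⟩)

abbrev X (K : Type) [Field K] [Fintype K] [CharP K 3] (n : ℕ) :=
  Multiplicative (Fin n → M2 K) ⋊[phi K n] (ℤˣ × PSL2 K)

theorem cube {n : ℕ} (w : Multiplicative (Fin n → M2 K)) : w ^ 3 = 1 := by
  have h3 : (3 : K) = 0 := by simpa using CharP.cast_eq_zero K 3
  ext i a b : 4
  simp [h3]

theorem upper (hsq : ∀ t : K, t * t ≠ -1) {n : ℕ} (x : X K n) :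
    x ^ 6 = 1 ∨ x ^ 9 = 1 ∨ ∀ k, x.right ^ k = 1 → x ^ k = 1 := by
  have h3 : (3 : K) = 0 := by simpa using CharP.cast_eq_zero K 3
  have hc : ∀ k, x.right ^ k = 1 → x ^ (k * 3) = 1 := fun k hk => by
    rw [pow_mul, (pow_fix x hk).1, ← map_pow, cube, map_one]
  obtain ⟨v, e, gb⟩ := x
  obtain ⟨g, rfl⟩ := QuotientGroup.mk_surjective gb
  have he : e ^ 2 = 1 := by rcases Int.units_eq_one_or e with rfl | rfl <;> simp
  by_cases h0 : (mt g).trace = 0
  · left
    refine hc 2 (Prod.ext he ?_)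
    have := ch _ (mt_det g)
    exact psl_one (g ^ 2) (-1) (by simp) (by rw [sq, mt_mul, this, h0]; simp)
  by_cases h1 : (mt g).trace ^ 2 = 1
  · have g3 : (g : PSL2 K) ^ 3 = 1 := by
      refine psl_one (g ^ 3) (-(mt g).trace) (by simpa using h1) ?_
      have := ch _ (mt_det g)
      rw [pow_succ, sq, mt_mul, mt_mul, this, sub_mul,
        smul_mul_assoc, this, smul_sub, smul_smul, ← sq, h1]
      simp
    rcases Int.units_eq_one_or e with rfl | rfl
    · exact Or.inr (Or.inl (hc 3 (Prod.ext (by simp) g3)))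
    · left
      set x : X K n := ⟨v, -1, (g : PSL2 K)⟩
      have h6 : x.right ^ 6 = 1 := Prod.ext (by simp [x]; rfl) (by
        show (g : PSL2 K) ^ (3 * 2) = 1
        rw [pow_mul, g3, one_pow])
      obtain ⟨f1, f2⟩ := pow_fix x h6
      have f3 : phi K n (x.right ^ 3) (x ^ 6).left = (x ^ 6).left := by
        rw [pow_succ, sq, map_mul, map_mul]; simp [f2]
      have f4 : x.right ^ 3 = (-1, ((1 : SL2 K) : PSL2 K)) := Prod.ext (by simp [x]; rfl) g3
      rw [f4] at f3
      rw [f1]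
      suffices (x ^ 6).left = 1 by rw [this, map_one]
      ext i a b : 4
      have := congrFun (congrFun (congrFun (congrArg Multiplicative.toAdd f3) i) a) b
      rw [phi_apply] at this
      simp [fr_one, mt_one] at this ⊢
      linear_combination this + (x ^ 6).left.toAdd i a b * h3
  · refine Or.inr (Or.inr fun k hk => ?_)
    obtain ⟨f1, f2⟩ := pow_fix _ hk
    rw [f1]
    suffices ((⟨v, e, (g : PSL2 K)⟩ : X K n) ^ k).left = 1 by rw [this, map_one]
    ext i : 2
    by_contra hne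
    have := congrFun (congrArg Multiplicative.toAdd f2) i
    rw [phi_apply] at this
    rcases fix_trace hsq e g _ this hne with h | h
    exacts [h0 h, h1 h]

theorem nine (n : ℕ) : ∃ x : X K (n + 1), orderOf x = 9 := by
  have h3 : (3 : K) = 0 := by simpa using CharP.cast_eq_zero K 3
  let u : SL2 K := ⟨!![1, 1; 0, 1], by simp [det_fin_two]⟩
  let v : Multiplicative (Fin (n + 1) → M2 K) := Multiplicative.ofAdd fun _ => !![0, 0; 0, 1]
  let x : X K (n + 1) := ⟨v, 1, (u : PSL2 K)⟩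
  have u3 : (u : PSL2 K) ^ 3 = 1 := psl_one (u ^ 3) 1 (by simp) (by
    rw [pow_succ, sq, mt_mul, mt_mul]
    ext a b
    fin_cases a <;> fin_cases b <;> simp [u, mt, Matrix.mul_apply, Fin.sum_univ_two]
    linear_combination h3)
  have hk : x.right ^ 3 = 1 := Prod.ext (by simp [x]) u3
  refine ⟨x, orderOf_eq_prime_pow (p := 3) (n := 1) (fun h => ?_) ?_⟩
  · have := congrArg (fun y : X K (n + 1) => y.left.toAdd 0 0 0) h
    have e : x ^ 3 ^ 1 = x * (x * x) := by rw [pow_one, pow_succ', sq]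
    rw [e] at this
    simp only [SemidirectProduct.mul_left, x, toAdd_mul, Pi.add_apply, phi_apply, v, toAdd_ofAdd] at this
    have fu : fr u = !![1, 0; 1, 1] := by
      ext a b
      fin_cases a <;> fin_cases b <;> simp [u, fr, mt]
    rw [fu] at this
    simp [u, mt, Matrix.mul_apply, Fin.sum_univ_two] at this
    exact one_ne_zero (α := K) (by linear_combination 2 * h3 - this)
  · rw [show 3 ^ (1 + 1) = 3 * 3 by rfl, pow_mul, (pow_fix x hk).1, ← map_pow, cube, map_one]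

def SA (q : ℕ) : Set ℕ := {d | d ∣ 6 ∨ d ∣ 9 ∨ d ∣ q - 1 ∨ d ∣ (q + 1) / 2}

theorem dvd_ord {G : Type*} [Group G] [Finite G] {x : G} {d : ℕ} (h : d ∣ orderOf x) :
    ∃ y : G, orderOf y = d :=
  ⟨x ^ (orderOf x / d), orderOf_pow_orderOf_div (orderOf_pos x).ne' h⟩

instance (n : ℕ) : Finite (X K n) :=
  Finite.of_equiv _ SemidirectProduct.equivProd.symm

theorem specX {m : ℕ} (hm : 1 ≤ m) (hK : Fintype.card K = 3 ^ (2 * m + 1)) (n d : ℕ) :
    (∃ x : X K (n + 1), orderOf x = d) ↔ d ∈ SA (3 ^ (2 * m + 1)) := by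
  have hq : 3 ^ (2 * m + 1) % 8 = 3 := by
    rw [pow_succ, pow_mul, Nat.mul_mod, Nat.pow_mod]; simp
  have h27 : 27 ≤ 3 ^ (2 * m + 1) := by
    calc 27 = 3 ^ 3 := rfl
      _ ≤ _ := Nat.pow_le_pow_right (by norm_num) (by omega)
  have hsq : ∀ t : K, t * t ≠ -1 := fun t ht =>
    FiniteField.isSquare_neg_one_iff.1 ⟨t, ht.symm⟩ (by rw [hK]; omega)
  have sp := Cfsg.Agent.S2475.result (F := K) 3 (by omega)
  set q := 3 ^ (2 * m + 1)
  rw [hK, show Nat.gcd 2 (q - 1) = 2 from Nat.gcd_eq_left (by omega)] at sp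
  have sp' := fun d => Set.ext_iff.1 sp d
  simp only [Set.mem_range, Set.mem_ofPred_eq] at sp'
  have he : ∀ (e : ℤˣ) (k : ℕ), e ^ (2 * k) = 1 := fun e k => by
    rw [pow_mul]; rcases Int.units_eq_one_or e with rfl | rfl <;> simp
  constructor
  · rintro ⟨x, rfl⟩
    simp only [SA, Set.mem_ofPred_eq, orderOf_dvd_iff_pow_eq_one]
    rcases upper hsq x with h | h | h
    · exact Or.inl h
    · exact Or.inr (Or.inl h)
    rcases (sp' _).1 ⟨x.right.2, rfl⟩ with k | k | k
    · exact Or.inl (h 6 (Prod.ext (he _ 3) (orderOf_dvd_iff_pow_eq_one.1 (k.trans (by norm_num)))))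
    · refine Or.inr (Or.inr (Or.inl (h _ (Prod.ext ?_ (orderOf_dvd_iff_pow_eq_one.1 (k.trans ?_))))))
      · rw [show q - 1 = 2 * ((q - 1) / 2) by omega]; exact he _ _
      · exact ⟨2, by omega⟩
    · refine Or.inr (Or.inr (Or.inr (h _ (Prod.ext ?_ (orderOf_dvd_iff_pow_eq_one.1 k)))))
      rw [show (q + 1) / 2 = 2 * ((q + 1) / 4) by omega]; exact he _ _
  · have hi : ∀ (e : ℤˣ) (g : PSL2 K), orderOf (SemidirectProduct.inr (e, g) : X K (n + 1)) =
        (orderOf e).lcm (orderOf g) := fun e g => by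
      rw [orderOf_injective _ SemidirectProduct.inr_injective, Prod.orderOf]
    have h2 : orderOf (-1 : ℤˣ) = 2 := orderOf_eq_prime (by simp) (by decide)
    rintro (h | h | h | h)
    · obtain ⟨g, hg⟩ := (sp' 3).2 (Or.inl dvd_rfl)
      exact dvd_ord (x := SemidirectProduct.inr (-1, g)) (by rw [hi, h2, hg]; exact h)
    · obtain ⟨x, hx⟩ := nine (K := K) n
      exact dvd_ord (x := x) (hx ▸ h)
    · obtain ⟨g, hg⟩ := (sp' _).2 (Or.inr (Or.inl dvd_rfl))
      refine dvd_ord (x := SemidirectProduct.inr (-1, g)) ?_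
      rw [hi, h2, hg, Nat.Coprime.lcm_eq_mul (by
        rw [Nat.coprime_two_left, Nat.odd_iff]; omega), show 2 * ((q - 1) / 2) = q - 1 by omega]
      exact h
    · obtain ⟨g, hg⟩ := (sp' _).2 (Or.inr (Or.inr dvd_rfl))
      exact dvd_ord (x := SemidirectProduct.inr (1, g)) (by rw [hi, hg]; simpa using h)

theorem comb {A B : Set ℕ} {c d : ℕ} (hB : ∀ x, x ∈ B ↔ x ∈ A ∨ x ∣ c ∨ x ∣ d) (h1 : 1 ∈ A)
    {x y z : ℕ} (hx : x ∈ B) (hy : y ∈ B) (hz : z ∈ B) :
    ∃ x' ∈ B, ∃ y' ∈ B, ∃ z' ∈ A, x'.lcm (y'.lcm z') = x.lcm (y.lcm z) := by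
  by_cases a1 : z ∈ A
  · exact ⟨x, hx, y, hy, z, a1, rfl⟩
  by_cases a2 : y ∈ A
  · exact ⟨x, hx, z, hz, y, a2, by rw [Nat.lcm_comm z]⟩
  by_cases a3 : x ∈ A
  · exact ⟨z, hz, y, hy, x, a3, by rw [← Nat.lcm_assoc, Nat.lcm_comm, Nat.lcm_comm z]⟩
  have k1 : y.lcm z ∈ B → ∃ x' ∈ B, ∃ y' ∈ B, ∃ z' ∈ A, x'.lcm (y'.lcm z') = x.lcm (y.lcm z) :=
    fun h => ⟨x, hx, _, h, 1, h1, by simp⟩
  have k2 : x.lcm y ∈ B → ∃ x' ∈ B, ∃ y' ∈ B, ∃ z' ∈ A, x'.lcm (y'.lcm z') = x.lcm (y.lcm z) :=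
    fun h => ⟨_, h, z, hz, 1, h1, by simp [Nat.lcm_assoc]⟩
  have k3 : x.lcm z ∈ B → ∃ x' ∈ B, ∃ y' ∈ B, ∃ z' ∈ A, x'.lcm (y'.lcm z') = x.lcm (y.lcm z) :=
    fun h => ⟨_, h, y, hy, 1, h1, by simp [Nat.lcm_assoc, Nat.lcm_comm z]⟩
  have c1 : ∀ {u v}, u ∣ c → v ∣ c → u.lcm v ∈ B := fun h h' =>
    (hB _).2 (Or.inr (Or.inl (Nat.lcm_dvd h h')))
  have c2 : ∀ {u v}, u ∣ d → v ∣ d → u.lcm v ∈ B := fun h h' =>
    (hB _).2 (Or.inr (Or.inr (Nat.lcm_dvd h h')))
  rcases ((hB _).1 hx).resolve_left a3 with p | p <;> rcases ((hB _).1 hy).resolve_left a2 with r | r <;>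
    rcases ((hB _).1 hz).resolve_left a1 with s | s
  exacts [k1 (c1 r s), k2 (c1 p r), k3 (c1 p s), k1 (c2 r s), k1 (c1 r s), k3 (c2 p s), k2 (c2 p r),
    k1 (c2 r s)]

/-- Let R be the small Ree group over the field with q = 3^(2m+1) ≥ 27 elements. Then there are finite groups of arbitrarily large order with exactly the same set of element orders as R × R × R. -/
theorem result {K : Type*} [Field K] [Fintype K] {m : ℕ} (hm : 1 ≤ m) (hK : Fintype.card K = 3 ^ (2 * m + 1)) (N : ℕ) :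
    ∃ (H : Type) (_ : Group H) (_ : Fintype H), N < Fintype.card H ∧
      Set.range (orderOf : H → ℕ) = Set.range (orderOf : ↥(Cfsg.Lie.twistedG2 K (3 ^ m)) × ↥(Cfsg.Lie.twistedG2 K (3 ^ m)) × ↥(Cfsg.Lie.twistedG2 K (3 ^ m)) → ℕ) := by
  classical
  let F := GaloisField 3 (2 * m + 1)
  letI : Fintype F := Fintype.ofFinite F
  have hF : Fintype.card F = 3 ^ (2 * m + 1) := by
    rw [← Nat.card_eq_fintype_card]; exact GaloisField.card 3 _ (by omega)
  have s1 := Cfsg.Agent.S1159.result hm hK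
  have s2 := Cfsg.Agent.S1159.result hm hF
  have s3 := specX hm hF N
  set q := 3 ^ (2 * m + 1)
  let B : Set ℕ := {d | d ∣ 6 ∨ d ∣ 9 ∨ d ∣ q - 1 ∨ d ∣ (q + 1) / 2 ∨ d ∣ q - 3 ^ (m + 1) + 1 ∨
    d ∣ q + 3 ^ (m + 1) + 1}
  have hB : ∀ x, x ∈ B ↔ x ∈ SA q ∨ x ∣ q - 3 ^ (m + 1) + 1 ∨ x ∣ q + 3 ^ (m + 1) + 1 := fun x => by
    simp only [B, SA, Set.mem_ofPred_eq, or_assoc]
  refine ⟨↥(Cfsg.Lie.twistedG2 F (3 ^ m)) × ↥(Cfsg.Lie.twistedG2 F (3 ^ m)) × X F (N + 1), inferInstance,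
    Fintype.ofFinite _, ?_, ?_⟩
  · rw [← @Nat.card_eq_fintype_card, Nat.card_prod, Nat.card_prod]
    have : N < Nat.card (X F (N + 1)) := by
      rw [Nat.card_congr SemidirectProduct.equivProd, Nat.card_prod]
      refine lt_of_lt_of_le ?_ (Nat.le_mul_of_pos_right _ Nat.card_pos)
      rw [Nat.card_congr Multiplicative.toAdd, Nat.card_fun, Nat.card_eq_fintype_card (α := Fin _),
        Fintype.card_fin]
      exact (Nat.lt_succ_self N).trans (Nat.lt_pow_self Finite.one_lt_card)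
    exact this.trans_le ((Nat.le_mul_of_pos_left _ Nat.card_pos).trans (Nat.le_mul_of_pos_left _ Nat.card_pos))
  · ext d
    constructor
    · rintro ⟨⟨x, y, z⟩, rfl⟩
      obtain ⟨x', hx⟩ := (s1 _).2 ((s2 _).1 ⟨x, rfl⟩)
      obtain ⟨y', hy⟩ := (s1 _).2 ((s2 _).1 ⟨y, rfl⟩)
      obtain ⟨z', hz⟩ := (s1 _).2 ((hB _).2 (Or.inl ((s3 _).1 ⟨z, rfl⟩)))
      exact ⟨(x', y', z'), by simp only [Prod.orderOf, hx, hy, hz]⟩
    · rintro ⟨⟨x, y, z⟩, rfl⟩
      obtain ⟨a, ha, b, hb, c, hc, e⟩ := comb hB (Or.inl (one_dvd _)) ((s1 _).1 ⟨x, rfl⟩)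
        ((s1 _).1 ⟨y, rfl⟩) ((s1 _).1 ⟨z, rfl⟩)
      obtain ⟨x', hx⟩ := (s2 _).2 ha
      obtain ⟨y', hy⟩ := (s2 _).2 hb
      obtain ⟨z', hz⟩ := (s3 _).2 hc
      exact ⟨(x', y', z'), by simp only [Prod.orderOf, hx, hy, hz, e]⟩

end Cfsg.Agent.S3626
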