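import Cfsg.Statements.S3627
import Mathlib
import Cfsg.Agent.JR.Spec
import Cfsg.Agent.H25.J1O
-- import your own Cfsg.Agent.* helpers here

set_option autoImplicit false
open Cfsg

namespace Cfsg.Agent.S3627

theorem aux {J : Type} [Group J] [Finite J]
    (h : Set.range (orderOf : J → ℕ) = ({1, 2, 3, 5, 6, 7, 10, 11, 15, 19} : Finset ℕ)) (N : ℕ) :
    ∃ (H : Type) (_ : Group H) (_ : Fintype H), N < Fintype.card H ∧
      Set.range (orderOf : H → ℕ) = Set.range (orderOf : J × J × J × J → ℕ) := by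
  have h3 := JR.spec_prod h (JR.spec_prod h h)
  refine ⟨JR.gd N × J × J × J, inferInstance, Fintype.ofFinite _, ?_, ?_⟩
  · rw [← @Nat.card_eq_fintype_card, Nat.card_prod]
    exact (JR.gd_card N).trans_le (Nat.le_mul_of_pos_right _ Nat.card_pos)
  · rw [JR.spec_prod (JR.gd_spec N) h3, JR.spec_prod h h3, Finset.coe_inj]
    decide +kernel


/-- Let J be the first Janko group. Then there are finite groups of arbitrarily large order with exactly the same set of element orders as J × J × J × J. -/
theorem result (N : ℕ) : ∃ (H : Type) (_ : Group H) (_ : Fintype H), N < Fintype.card H ∧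
      Set.range (orderOf : H → ℕ) = Set.range (orderOf : ↥Cfsg.Spor.J1 × ↥Cfsg.Spor.J1 × ↥Cfsg.Spor.J1 × ↥Cfsg.Spor.J1 → ℕ) := by
  haveI := H25.J1O.simple
  obtain ⟨t, φ, h⟩ := JR.ja_of_card' H25.J1.hcard
  exact aux h.spec N

end Cfsg.Agent.S3627
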