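import Cfsg.Statements.S3662
import Mathlib
import Cfsg.Agent.H29.G24
import Cfsg.Agent.S1059

set_option autoImplicit false
open Cfsg

namespace Cfsg.Agent.S3662

open Cfsg.Agent.H29 Cfsg.Agent.H12 Cfsg.Lie Matrix

/-- The prime graph of a finite group has the prime divisors of its order as vertices, two distinct primes p, q being joined when the group has an element of order pq; two groups have the same prime graph when they have the same prime divisors and the same joined pairs. Let F be the field with 4 elements and L the Chevalley group of type G₂ over F. There are finite groups of arbitrarily large order with the same prime graph as L. -/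
theorem result {F : Type*} [Field F] [Fintype F] (hF : Fintype.card F = 4) (N : ℕ) :
    ∃ (H : Type) (_ : Group H) (_ : Finite H), N < Nat.card H ∧
      ((∀ p : ℕ, p.Prime → (p ∣ Nat.card ↥(Cfsg.Lie.chevG2.group F) ↔ p ∣ Nat.card H)) ∧
      (∀ p q : ℕ, p.Prime → q.Prime → p ≠ q → ((∃ g : ↥(Cfsg.Lie.chevG2.group F), orderOf g = p * q) ↔ (∃ g : H, orderOf g = p * q)))) := by
  haveI := charP_of_card_eq_prime_pow (R := F) (p := 2) (f := 2) hF
  obtain ⟨ρ, hρ⟩ := G6.exists_rep (K := F)
  haveI : Finite (chevG2.group F) := Nat.finite_of_card_ne_zero (by rw [S1059.result hF]; norm_num)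
  letI : DistribMulAction (chevG2.group F) (Fin 6 → F) := DistribMulAction.compHom _ ρ
  obtain ⟨c, c0, c1⟩ : ∃ a : F, a ≠ 0 ∧ a ≠ 1 := by
    classical
    obtain ⟨a, -, ha⟩ := Finset.exists_mem_notMem_of_card_lt_card (s := {0, 1}) (t := (Finset.univ : Finset F))
      (Finset.card_le_two.trans_lt (by simp [hF]))
    exact ⟨a, by simpa using ha⟩
  have h2 : (2 : F) = 0 := CharTwo.two_eq_zero
  have c3 : c ^ 2 = c + 1 := by
    have := FiniteField.pow_card_sub_one_eq_one c c0
    rw [hF] at this
    exact mul_left_cancel₀ (sub_ne_zero.2 c1) (by linear_combination this + (1 - c ^ 2) * h2)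
  have hs := grp_isSimpleGroup (D := chevG2) (der_G2 ⟨c, c0, c1⟩)
  have hi : ρ.ker = ⊥ := (hs.eq_bot_or_eq_top_of_normal _ inferInstance).resolve_right fun e => by
    have := congrArg (fun g : GL (Fin 6) F => (g : Matrix (Fin 6) (Fin 6) F) 5 0)
      ((hρ ⟨9, by decide⟩ 1).symm.trans (e.ge (Subgroup.mem_top _)))
    change G6.xm 9 1 5 0 = _ at this
    simp [G6.xm, G6.nm, show G6.ex 9 5 0 = [1] by decide] at this
  have hd : ∀ r : ℕ, r.Prime → r ∈ spec (chevG2.group F) → r = 2 ∨ r = 3 ∨ r = 5 ∨ r = 7 ∨ r = 13 := fun r hr h => by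
    rw [← prime_dvd_card_iff hr, S1059.result hF, show 4 ^ 6 * (4 ^ 2 - 1) * (4 ^ 6 - 1) =
      2 ^ 12 * (3 ^ 3 * (5 ^ 2 * (7 * 13))) by norm_num] at h
    simp only [hr.dvd_mul, hr.prime.dvd_pow_iff_dvd, Nat.prime_dvd_prime_iff_eq hr, ne_eq, OfNat.ofNat_ne_zero,
      not_false_eq_true, Nat.prime_two, Nat.prime_three, Nat.prime_five, show Nat.Prime 7 by norm_num,
      show Nat.Prime 13 by norm_num] at h
    exact h
  have h6 := G6.two_mul_mem (K := F) (c := 1) Nat.prime_three (by norm_num) (Subtype.ext (by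
    ext i j; fin_cases i <;> fin_cases j <;> simp [pow_succ, mul_apply] <;> grind))
  have h10 := G6.two_mul_mem (K := F) (c := c) Nat.prime_five (by norm_num) (Subtype.ext (by
    ext i j; fin_cases i <;> fin_cases j <;> simp [pow_succ, mul_apply] <;> grind))
  refine graph_sub (K := chevG2.group F) (⊤ : AddSubgroup (Fin 6 → F)) (fun _ _ _ => trivial) Nat.prime_two
    (fun v _ => funext fun i => by simp [h2]) (v := 1) trivial one_ne_zero
    (fun r _ => ⟨.inl, fun h => h.elim id fun e => e ▸ mem_spec_of_dvd h6 (by norm_num)⟩) (fun _ _ _ _ _ _ _ => Iff.rfl)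
    (fun r hr r2 => ⟨.inl, fun h => h.elim id fun ⟨k, v, _, h0, e⟩ => ?_⟩) N
  have key : r = 7 ∨ r = 13 → False := fun h => hr.ne_one (by
    have := G6.fpf hF (G6.rep_sym hρ k) h (by
      rw [← Units.val_pow_eq_pow_val, ← map_pow, ← e, pow_orderOf_eq_one, map_one, Units.val_one]) h0 (Aff.smul_nrm k v)
    rw [← e, orderOf_eq_one_iff, ← Subgroup.mem_bot, ← hi]
    exact Units.ext this)
  rcases hd r hr ⟨k, e⟩ with h | rfl | rfl | h
  exacts [absurd h r2, h6, h10, (key h).elim]

end Cfsg.Agent.S3662
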