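import Cfsg.Statements.S3663
import Mathlib
import Cfsg.Agent.H29.U34
import Cfsg.Agent.S0280

set_option autoImplicit false
open Cfsg

namespace Cfsg.Agent.S3663

open Cfsg.Agent.H29

theorem spec_eq {F : Type*} [Field F] [Fintype F] (hF : Fintype.card F = 4 ^ 2) :
    spec (PSU 3 F 4) = {m | m ∣ 10 ∨ m ∣ 15 ∨ m ∣ 13 ∨ m ∣ 4} := by
  haveI := charP_of_card_eq_prime_pow (R := F) (p := 2) (f := 4) hF
  rw [spec_psu3 (p := 2) hF]
  ext m
  norm_num
  exact fun h => .inl (h.trans (by norm_num))

/-- The prime graph of a finite group has the prime divisors of its order as vertices, two distinct primes p, q being joined when the group has an element of order pq; two groups have the same prime graph when they have the same prime divisors and the same joined pairs. Let F be the field with 16 elements and L = PSU(3,4) realised over F. There are finite groups of arbitrarily large order with the same prime graph as L. -/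
theorem result {F : Type*} [Field F] [Fintype F] (hF : Fintype.card F = 16) (N : ℕ) :
    ∃ (H : Type) (_ : Group H) (_ : Finite H), N < Nat.card H ∧
      ((∀ p : ℕ, p.Prime → (p ∣ Nat.card (Cfsg.PSU 3 F 4) ↔ p ∣ Nat.card H)) ∧
      (∀ p q : ℕ, p.Prime → q.Prime → p ≠ q → ((∃ g : (Cfsg.PSU 3 F 4), orderOf g = p * q) ↔ (∃ g : H, orderOf g = p * q)))) := by
  have e : spec (SU 3 G16 4) = spec (PSU 3 F 4) := by
    have := S0280.result G16.card_eq 3 (by norm_num)
    have h1 : Nat.card (PSU 3 G16 4) = 62400 := by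
      generalize Nat.card (PSU 3 G16 4) = n at this
      simp [Finset.prod_range_succ] at this
      omega
    rw [spec_eq (F := F) hF, ← spec_eq G16.card_eq]
    exact spec_congr (MulEquiv.ofBijective (QuotientGroup.mk' _)
      ((QuotientGroup.mk'_surjective _).bijective_of_nat_card_le (by rw [G16.card_su, h1])))
  obtain ⟨f, hf, h0⟩ := G16.exists_cusp
  refine graph_sub _ (cusp_inv _) Nat.prime_five (fun v _ => Fn.nsmul_zmod 5 v) hf h0
    (fun r _ => ⟨fun h => .inl (e.ge h), fun h => h.elim (e.le ·) fun h => ?_⟩) (fun _ _ _ _ _ _ _ => by rw [e])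
    (fun r hr r5 => ⟨fun h => .inl (e.ge h), fun h => h.elim (e.le ·) fun ⟨k, v, hv, h0, h⟩ => ?_⟩) N
  · rw [spec_eq hF, h]; norm_num
  have h1 : r ∈ spec (PSU 3 F 4) := e.le ⟨k, h⟩
  have h2 : r ≠ 13 := fun h2 => h0 (hv k (h.trans h2))
  rw [spec_eq hF] at h1 ⊢
  have h3 : r ≤ 15 := by rcases h1 with h | h | h | h <;> exact (Nat.le_of_dvd (by norm_num) h).trans (by norm_num)
  revert hr h1 h2 r5
  simp only [Set.mem_setOf_eq]
  interval_cases r <;> norm_num

end Cfsg.Agent.S3663
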