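import Cfsg.Statements.S3664
import Mathlib
import Cfsg.Agent.H29.G24
import Cfsg.Agent.H29.Cl7
import Cfsg.Agent.H13.SzAut
import Cfsg.Agent.H13.SzPart
import Cfsg.Agent.H13.SzModels

set_option autoImplicit false
open Cfsg

namespace Cfsg.Agent.S3664

open Cfsg.Agent.H29 Cfsg.Agent.H13 Matrix Polynomial Subgroup SemidirectProduct

theorem psp_le {F : Type*} [Field F] [Fintype F] (hF : Fintype.card F = 3) {N : ℕ} (h : N ∈ spec (PSp 3 F)) :
    N ∣ 13 ∨ N ∣ 14 ∨ N ∣ 360 := by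
  haveI := Fact.mk Nat.prime_three
  haveI := charP_of_card_eq_prime (R := F) hF
  rw [spec_psp 3 three_ne_zero, mem_sps (pq_card F 3), hF] at h
  obtain ⟨l, k, h1, h2⟩ := h
  by_cases h3 : ∃ x ∈ l, x.1 = 3
  · obtain ⟨⟨_, ε⟩, hx, rfl⟩ := h3
    obtain rfl : k = 0 := by have := h1.le hx; omega
    obtain rfl := h1.eq_single hx rfl
    rcases (h1.1 _ hx).2 with rfl | rfl
    · exact .inl (Int.natCast_dvd_natCast.1 (h2 13 (by simp) (by simp)))
    · exact .inr (.inl (Int.natCast_dvd_natCast.1 (h2 14 (by simp) (by simp))))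
  · refine .inr (.inr (Int.natCast_dvd_natCast.1 (h2 360 ?_ fun x hx => Dvd.dvd.mul_left ?_ _)))
    · have : k ≤ 3 := by have := h1.2; omega
      interval_cases k <;> decide
    · obtain ⟨a, ε⟩ := x
      have h4 := h1.le hx
      have h5 := h1.1 _ hx
      have h6 : a = 1 ∨ a = 2 := by have : a ≠ 3 := fun e => h3 ⟨_, hx, e⟩; simp only at h4 h5; omega
      rcases h6 with rfl | rfl <;> rcases h5.2 with rfl | rfl <;> decide

theorem psp_ge {F : Type*} [Field F] [Fintype F] (hF : Fintype.card F = 3) :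
    13 ∈ spec (PSp 3 F) ∧ 14 ∈ spec (PSp 3 F) ∧ 30 ∈ spec (PSp 3 F) := by
  haveI := Fact.mk Nat.prime_three
  haveI := charP_of_card_eq_prime (R := F) hF
  rw [spec_psp 3 three_ne_zero, mem_sps (pq_card F 3), mem_sps (pq_card F 3), mem_sps (pq_card F 3), hF]
  refine ⟨⟨[(3, 1)], 0, by simp [Bl], fun m _ h => ?_⟩, ⟨[(3, -1)], 0, by simp [Bl], fun m _ h => ?_⟩,
    ⟨[(2, -1)], 1, by simp [Bl], fun m h0 h => ?_⟩⟩
  · simp at h; omega
  · simp at h; omega
  · rw [show Nat.clog 3 (2 * 1) = 1 by decide] at h0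
    simp at h h0; omega

theorem exists_ne_one {F n : Type*} [Field F] [Fintype n] [DecidableEq n] [CharP F 2] {A : Matrix n n F}
    {E : Multiset (Lc F)ˣ} (hE : Ev A.charpoly E) {m : ℕ} (hm : Odd m) (e : A ^ m = 1) (h1 : A ≠ 1) : ∃ α ∈ E, α ≠ 1 := by
  classical
  by_contra! h
  obtain ⟨ψ, hψ⟩ := (hE.dvd_iff 2 (m := 2 ^ E.card) (c := 1)).2 ⟨fun α ha => by simp [h α ha], fun α e he =>
    pow_dvd_pow 2 ((Nat.lt_two_pow_self.trans he).trans_le (Multiset.count_le_card _ _))⟩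
  have h8 := congrArg (aeval A) hψ
  simp only [map_sub, map_mul, aeval_self_charpoly, zero_mul, map_pow, aeval_X, Units.val_one, map_one,
    sub_eq_zero] at h8
  exact h1 ((pow_eq_one_iff_of_coprime (hm.coprime_two_left.pow_left _)).1 ⟨h8, e⟩)

theorem sylvester {F n : Type*} [Field F] [Fintype n] [DecidableEq n] {A B Y : Matrix n n F} {E E' : Multiset (Lc F)ˣ}
    (hE : Ev A.charpoly E) (hE' : Ev B.charpoly E') (h : A * Y = Y * B) (h0 : Y ≠ 0) : ∃ α ∈ E, α ∈ E' := by
  by_contra! H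
  have key : ∀ f : F[X], aeval A f * Y = Y * aeval B f := fun f => by
    induction f using Polynomial.induction_on' with
    | add f g h1 h2 => rw [map_add, map_add, add_mul, mul_add, h1, h2]
    | monomial k c =>
      rw [aeval_monomial, aeval_monomial, mul_assoc, (SemiconjBy.pow_right h.symm k).eq.symm, ← mul_assoc,
        Algebra.commutes, mul_assoc]
  have r : ∀ {χ : F[X]} {E : Multiset (Lc F)ˣ}, Ev χ E → ∀ a : Lc F, aeval a χ = 0 → a ∈ E.map Units.val :=
    fun h a e => by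
      rwa [← roots_pol, mem_roots (pol_monic _).ne_zero, ← h, IsRoot.def, eval_map_algebraMap]
  obtain ⟨a, b, h1⟩ := (isCoprime_iff_aeval_ne_zero_of_isAlgClosed F (Lc F) A.charpoly B.charpoly).2 fun a =>
    or_iff_not_imp_left.2 fun e1 e2 => by
      obtain ⟨α, ha, rfl⟩ := Multiset.mem_map.1 (r hE a (not_not.1 e1))
      exact H α ha ((Multiset.mem_map_of_injective Units.val_injective).1 (r hE' _ e2))
  have := key (b * B.charpoly)
  rw [map_mul (aeval B), aeval_self_charpoly, mul_zero, mul_zero, eq_sub_of_add_eq' h1, map_sub, map_mul,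
    aeval_self_charpoly, mul_zero, sub_zero, map_one, one_mul] at this
  exact h0 this

theorem exists_conj {K : Type*} [Group K] [Finite K] {p : ℕ} (hp : p.Prime) (h2 : ¬ p ^ 2 ∣ Nat.card K) {u w : K}
    (hu : orderOf u = p) (hw : orderOf w = p) : ∃ g, g * u * g⁻¹ ∈ zpowers w := by
  haveI := Fact.mk hp
  have key : ∀ x : K, orderOf x = p → Nat.card (zpowers x) = p ^ (Nat.card K).factorization p := fun x hx => by
    rw [Nat.card_zpowers, hx, show (Nat.card K).factorization p = 1 from le_antisymm (Nat.lt_succ_iff.1 (not_le.1 fun e =>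
      h2 ((hp.pow_dvd_iff_le_factorization Nat.card_pos.ne').2 e)))
      ((hp.dvd_iff_one_le_factorization Nat.card_pos.ne').1 (hx ▸ orderOf_dvd_natCard x)), pow_one]
  obtain ⟨g, hg⟩ := MulAction.exists_smul_eq K (Sylow.ofCard _ (key u hu)) (Sylow.ofCard _ (key w hw))
  exact ⟨g, (congrArg Sylow.toSubgroup hg).le ⟨u, mem_zpowers u, rfl⟩⟩

section

variable {G F : Type} [Group G] [Field F] [Fintype F] [CharP F 2] [Finite G] (S : SzData G F) (hm : S.m = 1)

theorem ev (g : G) : ∃ E, Ev (S.ρ g).charpoly E ∧ E.card = 4 ∧ (∀ β ∈ E, β⁻¹ ∈ E) ∧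
    Ev ((S.ρ g).map (frobenius F 2)).charpoly (E.map (· ^ 2)) := by
  obtain ⟨E, hE, hc⟩ := exists_ev_mat (A := S.ρ g) ((S.isSz g).det.trans_ne one_ne_zero)
  refine ⟨E, hE, hc, fun β hb => ?_, ?_⟩
  · have := hE.dual (σ := RingHom.id F) (f := RingHom.id _) (fun _ => rfl) (suzukiForm_det.trans_ne one_ne_zero)
      (S.isSz g).1
    exact (show E = E.map (·⁻¹) by simpa using this) ▸ Multiset.mem_map_of_mem _ hb
  · rw [charpoly_map]
    convert hE.map (σ := frobenius F 2) (f := frobenius _ 2) fun a => by simp [frobenius_def] using 2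
    exact Units.ext rfl

theorem rho_ne {g : G} {r : ℕ} (hr : r.Prime) (h : orderOf g = r) : S.ρ g ^ r = 1 ∧ S.ρ g ≠ 1 :=
  ⟨by rw [← map_pow, ← h, pow_orderOf_eq_one, map_one], fun e => hr.ne_one (by
    rw [← h, orderOf_eq_one_iff]; exact S.inj (e.trans (map_one _).symm))⟩

theorem not_fix {g : G} {r : ℕ} (hr : r = 7 ∨ r = 13) (h : orderOf g = r) :
    (S.ρ g).map (frobenius F 2) ≠ S.ρ g := fun e => by
  have hp : r.Prime := by rcases hr with rfl | rfl <;> norm_num
  haveI := Fact.mk hp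
  obtain ⟨E, hE, hc, h1, h2⟩ := ev S g
  rw [e] at h2
  have h3 : ∀ β ∈ E, β ^ 2 ∈ E := fun β hb => h2.unique hE ▸ Multiset.mem_map_of_mem _ hb
  obtain ⟨α, ha, a1⟩ := exists_ne_one hE (by rcases hr with rfl | rfl <;> decide) (rho_ne S hp h).1 (rho_ne S hp h).2
  have := card_ge_of_pows (E := E) (α := α) [1, 2, 4, -1, -2] (by
    rw [orderOf_eq_prime (hE.pow_eq_one (rho_ne S hp h).1 ha) a1]; rcases hr with rfl | rfl <;> decide) (by
    have a2 := h3 _ (h3 _ ha)
    rw [← pow_mul] at a2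
    simpa [zpow_ofNat] using ⟨ha, h3 _ ha, a2, h1 _ ha, h1 _ (h3 _ ha)⟩)
  simp [hc] at this

include hm

theorem card_F : Fintype.card F = 8 := by rw [← Nat.card_eq_fintype_card, S.card, hm]; rfl

theorem fpf {g : G} (h : orderOf g = 13) {Y : Matrix (Fin 4) (Fin 4) F}
    (e : S.ρ g * Y * ((S.ρ g).map (frobenius F 2))ᵀ = Y) : Y = 0 := by
  by_contra h0
  have hp : Nat.Prime 13 := by norm_num
  haveI := Fact.mk hp
  obtain ⟨E, hE, hc, h1, h2⟩ := ev S g
  have h3 : ((S.ρ g).map (frobenius F 2))ᵀ * ((S.ρ g⁻¹).map (frobenius F 2))ᵀ = 1 := by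
    rw [← transpose_mul, ← Matrix.map_mul, ← map_mul, inv_mul_cancel]; simp
  obtain ⟨β, hb, hb'⟩ := sylvester hE (Ev.inv (by rwa [charpoly_transpose]) h3) (Y := Y) (by
    conv_rhs => rw [← e, mul_assoc, h3, mul_one]) h0
  simp only [Multiset.map_map, Multiset.mem_map, Function.comp] at hb'
  obtain ⟨γ, hg, rfl⟩ := hb'
  have h8 : ∀ β ∈ E, β ^ 8 ∈ E := fun β hb => hE.frob ▸ card_F S hm ▸ Multiset.mem_map_of_mem _ hb
  have key : ∀ α ∈ E, α ≠ 1 → ∀ i : ℤ, i = 0 ∨ i = -2 → α ^ i ∉ E := fun α ha a1 i hi hi' => by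
    have := card_ge_of_pows (E := E) (α := α) [i, 1, 8, -1, -8] (by
      rw [orderOf_eq_prime (hE.pow_eq_one (rho_ne S hp h).1 ha) a1]; rcases hi with rfl | rfl <;> decide) (by
      simpa [zpow_ofNat] using ⟨hi', ha, h8 _ ha, h1 _ ha, h1 _ (h8 _ ha)⟩)
    simp [hc] at this
  by_cases g1 : γ = 1
  · obtain ⟨α, ha, a1⟩ := exists_ne_one hE (by decide) (rho_ne S hp h).1 (rho_ne S hp h).2
    exact key α ha a1 0 (.inl rfl) (by simpa [g1] using hg)
  · exact key γ hg g1 (-2) (.inr rfl) (by simpa [zpow_ofNat] using hb)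

theorem ord (g : G) : orderOf g ∣ 4 ∨ orderOf g ∣ 7 ∨ orderOf g ∣ 13 ∨ orderOf g ∣ 5 := by
  by_cases h1 : g = 1
  · simp [h1]
  rcases S.mem_UAt_or_isTorus h1 with ⟨z, h⟩ | h
  · exact .inl (orderOf_dvd_of_pow_eq_one (S.pow_four_of_mem_UAt h))
  · have h2 := Subgroup.orderOf_dvd_natCard _ (mem_centralizer_singleton_iff.2 (rfl : g * g = _))
    rcases h.order with e | e | e <;> simp [e, SzData.q, SzData.r, hm] at h2 <;> simp [h2]

theorem card_A : Nat.card (RingAut F) = 3 := card_ringAut_of_card Nat.prime_two (by rw [S.card, hm])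

theorem card_K : Nat.card (G ⋊[S.fieldAut] RingAut F) = 2 ^ 6 * (3 * (5 * (7 * 13))) := by
  rw [SemidirectProduct.card, card_A S hm, S.card_G, SzData.q, hm]; rfl

theorem eq_inl {k : G ⋊[S.fieldAut] RingAut F} (h : ¬ 3 ∣ orderOf k) : ∃ g, k = inl g ∧ orderOf g = orderOf k := by
  have : rightHom k = 1 := orderOf_eq_one_iff.1 (((Nat.dvd_prime Nat.prime_three).1
    (card_A S hm ▸ orderOf_dvd_natCard _)).resolve_right fun e => h (e ▸ orderOf_map_dvd _ _))
  obtain ⟨g, rfl⟩ := range_inl_eq_ker_rightHom.ge this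
  exact ⟨g, rfl, (orderOf_injective _ inl_injective g).symm⟩

theorem ord_fr : orderOf (inr (frobeniusEquiv F 2) : G ⋊[S.fieldAut] RingAut F) = 3 := by
  rw [orderOf_injective _ inr_injective]
  refine ((Nat.dvd_prime Nat.prime_three).1 (card_A S hm ▸ orderOf_dvd_natCard _)).resolve_left fun e => ?_
  obtain ⟨a, h0, h1⟩ := S.exists_ne_zero_one
  have := congrArg (· a) (orderOf_eq_one_iff.1 e)
  exact h1 (mul_left_cancel₀ h0 (by simpa [frobenius_def, pow_two] using this))

theorem comm_iff {g : G} : Commute (inl g : G ⋊[S.fieldAut] RingAut F) (inr (frobeniusEquiv F 2)) ↔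
    (S.ρ g).map (frobenius F 2) = S.ρ g := by
  rw [Commute, SemiconjBy, SemidirectProduct.ext_iff, show (S.ρ g).map (frobenius F 2) = _ from
    (S.ρ_fieldAut (frobeniusEquiv F 2) g).symm, S.inj.eq_iff]
  simp [eq_comm]

theorem not_mem {s : ℕ} (hs : s = 7 ∨ s = 13) : 3 * s ∉ spec (G ⋊[S.fieldAut] RingAut F) := fun ⟨k, hk⟩ => by
  haveI : Finite (G ⋊[S.fieldAut] RingAut F) := Nat.finite_of_card_ne_zero (by rw [card_K S hm]; norm_num)
  have h1 : orderOf (k ^ s) = 3 := by rw [orderOf_pow, hk]; rcases hs with rfl | rfl <;> norm_num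
  obtain ⟨x, i, hi⟩ := exists_conj Nat.prime_three (by rw [card_K S hm]; norm_num) (ord_fr S hm) h1
  have h2 : orderOf (x⁻¹ * k ^ 3 * x⁻¹⁻¹) = s :=
    ((MulAut.conj x⁻¹).orderOf_eq _).trans (by rw [orderOf_pow, hk]; rcases hs with rfl | rfl <;> norm_num)
  obtain ⟨g, e, h3⟩ := eq_inl S hm (k := x⁻¹ * k ^ 3 * x⁻¹⁻¹) (by rw [h2]; rcases hs with rfl | rfl <;> norm_num)
  refine not_fix S hs (h3.trans h2) ((comm_iff S hm).1 ?_)
  have := ((Commute.pow_pow_self k 3 s).zpow_right i).map (MulAut.conj x⁻¹)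
  simp only at hi
  rw [hi] at this
  simpa [← e, mul_assoc] using this

theorem five : ∃ g : G, orderOf g = 5 ∧ (S.ρ g).map (frobenius F 2) = S.ρ g := by
  haveI := Fact.mk Nat.prime_five
  have e : S.ρ (S.u 0 1 * S.w) = (!![1, 1, 0, 1; 1, 0, 1, 0; 0, 1, 0, 0; 1, 0, 0, 0] : Matrix _ _ (ZMod 2)).map
      (ZMod.castHom dvd_rfl F) := by
    rw [map_mul, S.ρ_u, S.ρ_w]
    ext i j
    fin_cases i <;> fin_cases j <;> simp [szU, szf, suzukiForm, mul_apply, Fin.sum_univ_four]
  refine ⟨S.u 0 1 * S.w, orderOf_eq_prime (S.inj ?_) fun h => ?_, ?_⟩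
  · rw [map_pow, e, ← RingHom.mapMatrix_apply, ← map_pow, map_one, show (!![1, 1, 0, 1; 1, 0, 1, 0; 0, 1, 0, 0; 1, 0, 0, 0] :
      Matrix (Fin 4) (Fin 4) (ZMod 2)) ^ 5 = 1 by decide, map_one]
  · simpa [h] using congrFun (congrFun e 0) 1
  · rw [e, Matrix.map_map, ← RingHom.coe_comp, RingHom.ext_zmod ((frobenius F 2).comp _)]

omit hm in
/-- the twisted tensor square -/
@[reducible] noncomputable def act : DistribMulAction (G ⋊[S.fieldAut] RingAut F) (Matrix (Fin 4) (Fin 4) F) where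
  smul k Y := S.ρ k.left * Y.map k.right * ((S.ρ k.left).map (frobenius F 2))ᵀ
  one_smul Y := show S.ρ 1 * Y * ((S.ρ 1).map (frobenius F 2))ᵀ = Y by simp
  mul_smul a b Y := show S.ρ (a.left * S.fieldAut a.right b.left) * (Y.map b.right).map a.right *
      ((S.ρ (a.left * S.fieldAut a.right b.left)).map (frobenius F 2))ᵀ = S.ρ a.left * (S.ρ b.left * Y.map b.right *
      ((S.ρ b.left).map (frobenius F 2))ᵀ).map a.right * ((S.ρ a.left).map (frobenius F 2))ᵀ by
    have e : (((S.ρ b.left).map (frobenius F 2))ᵀ).map a.right = (((S.ρ b.left).map a.right).map (frobenius F 2))ᵀ := by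
      ext; simp [frobenius_def]
    simp only [map_mul, S.ρ_fieldAut, Matrix.map_mul, transpose_mul, mul_assoc, e]
  smul_zero k := show S.ρ _ * (0 : Matrix _ _ F).map _ * _ = 0 by simp
  smul_add k Y Z := show S.ρ _ * (Y + Z).map k.right * _ = S.ρ _ * Y.map k.right * _ + S.ρ _ * Z.map k.right * _ by
    rw [Matrix.map_add _ (map_add _), mul_add, add_mul]

theorem main {L : Type*} [Field L] [Fintype L] (hL : Fintype.card L = 3) (N : ℕ) :
    ∃ (H : Type) (_ : Group H) (_ : Finite H), N < Nat.card H ∧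
      ((∀ p : ℕ, p.Prime → (p ∣ Nat.card (Cfsg.PSp 3 L) ↔ p ∣ Nat.card H)) ∧
      (∀ p q : ℕ, p.Prime → q.Prime → p ≠ q → ((∃ g : (Cfsg.PSp 3 L), orderOf g = p * q) ↔
        (∃ g : H, orderOf g = p * q)))) := by
  letI := act S
  have hc := card_K S hm
  haveI : Finite (G ⋊[S.fieldAut] RingAut F) := Nat.finite_of_card_ne_zero (by rw [hc]; norm_num)
  obtain ⟨h13, h14, h30⟩ := psp_ge hL
  obtain ⟨g, g5, hg⟩ := five S hm
  have hd : ∀ r : ℕ, r.Prime → (r ∈ spec (G ⋊[S.fieldAut] RingAut F) ↔ r = 2 ∨ r = 3 ∨ r = 5 ∨ r = 7 ∨ r = 13) :=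
    fun r hr => by
      simp only [← prime_dvd_card_iff hr, hc, hr.dvd_mul, hr.prime.dvd_pow_iff_dvd, Nat.prime_dvd_prime_iff_eq hr,
        ne_eq, OfNat.ofNat_ne_zero, not_false_eq_true, Nat.prime_two, Nat.prime_three, Nat.prime_five,
        show Nat.Prime 7 by norm_num, show Nat.Prime 13 by norm_num]
  have hd' : ∀ r : ℕ, r.Prime → r ∈ spec (PSp 3 L) → r = 2 ∨ r = 3 ∨ r = 5 ∨ r = 7 ∨ r = 13 := fun r hr h =>
    (hd r hr).1 (by
      rw [← prime_dvd_card_iff hr, hc]
      rcases psp_le hL h with h | h | h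
      · exact h.trans (by norm_num)
      · exact h.trans (by norm_num)
      · exact (hr.dvd_of_dvd_pow (n := 3) (h.trans (by norm_num : 360 ∣ 30 ^ 3))).trans (by norm_num))
  have hn : ∀ n, ¬ 3 ∣ n → n ∈ spec (G ⋊[S.fieldAut] RingAut F) → n ∣ 4 ∨ n ∣ 7 ∨ n ∣ 13 ∨ n ∣ 5 := fun n h ⟨k, e⟩ => by
    obtain ⟨g, -, h1⟩ := eq_inl S hm (e ▸ h)
    exact e ▸ h1 ▸ ord S hm g
  have h15 : 15 ∈ spec (G ⋊[S.fieldAut] RingAut F) := ⟨_, (((comm_iff S hm).2 hg).orderOf_mul_eq_mul_orderOf_of_coprime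
    (by rw [orderOf_injective _ inl_injective, g5, ord_fr S hm]; norm_num)).trans (by
      rw [orderOf_injective _ inl_injective, g5, ord_fr S hm])⟩
  have h2 : ∀ v : Matrix (Fin 4) (Fin 4) F, 2 • v = 0 := fun v => by ext; simp [CharTwo.two_eq_zero]
  have hfix : ∀ (k : G ⋊[S.fieldAut] RingAut F) (v : Matrix (Fin 4) (Fin 4) F) (n : ℕ), orderOf k = n → Odd n → v ≠ 0 →
      k • v = v → ∃ k : G ⋊[S.fieldAut] RingAut F, ∃ w ∈ (⊤ : AddSubgroup (Matrix (Fin 4) (Fin 4) F)),
      Aff.nrm k w ≠ 0 ∧ orderOf k = n := fun k v n hn ⟨j, hj⟩ h0 e =>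
    ⟨k, v, trivial, by rwa [Aff.nrm_of_fix e, hn, hj, add_smul, mul_smul, h2, one_smul, zero_add], hn⟩
  refine graph_sub (K := G ⋊[S.fieldAut] RingAut F) (⊤ : AddSubgroup (Matrix (Fin 4) (Fin 4) F))
    (fun _ _ _ => trivial) Nat.prime_two (fun v _ => h2 v) (v := 1) trivial one_ne_zero
    (fun r hr => ⟨fun h => .inl ((hd r hr).2 (hd' r hr h)), fun h => ?_⟩) (fun r s hr hs hne r2 s2 => ⟨fun h => ?_,
      fun h => ?_⟩) (fun r hr r2 => ⟨fun h => .inr ?_, fun h => ?_⟩) N
  · rcases h.elim (hd r hr).1 .inl with rfl | rfl | rfl | rfl | rfl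
    exacts [mem_spec_of_dvd h30 (by norm_num), mem_spec_of_dvd h30 (by norm_num), mem_spec_of_dvd h30 (by norm_num),
      mem_spec_of_dvd h14 (by norm_num), h13]
  · have := psp_le hL h
    rcases hd' r hr (mem_spec_of_dvd h (dvd_mul_right _ _)) with rfl | rfl | rfl | rfl | rfl <;>
    rcases hd' s hs (mem_spec_of_dvd h (dvd_mul_left _ _)) with rfl | rfl | rfl | rfl | rfl <;>
    first | exact h15 | omega
  · have h7 := not_mem S hm (.inl rfl)
    have h8 := not_mem S hm (.inr rfl)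
    have := fun e => hn _ e h
    rcases (hd r hr).1 (mem_spec_of_dvd h (dvd_mul_right _ _)) with rfl | rfl | rfl | rfl | rfl <;>
    rcases (hd s hs).1 (mem_spec_of_dvd h (dvd_mul_left _ _)) with rfl | rfl | rfl | rfl | rfl <;>
    first | omega | exact absurd h h7 | exact absurd h h8 | exact mem_spec_of_dvd h30 (by decide)
  · have := psp_le hL h
    rcases hd' r hr (mem_spec_of_dvd h (dvd_mul_right _ _)) with rfl | rfl | rfl | rfl | rfl
    · omega
    · exact hfix _ 1 _ (ord_fr S hm) (by decide) one_ne_zero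
        (show S.ρ 1 * (1 : Matrix (Fin 4) (Fin 4) F).map (frobenius F 2) * ((S.ρ 1).map (frobenius F 2))ᵀ = 1 by simp)
    · have e := (orderOf_injective _ (inl_injective (φ := S.fieldAut)) g).trans g5
      exact hfix _ (suzukiForm F) _ e (by decide) (fun e => by simpa [e] using suzukiForm_det (F := F))
        (show S.ρ g * suzukiForm F * ((S.ρ g).map (frobenius F 2))ᵀ = _ by rw [hg, form_transpose (S.isSz g).1])
    · obtain ⟨a, h0, h1⟩ := S.exists_ne_zero_one
      have h7 : a ^ 7 = 1 := by simpa [card_F S hm] using FiniteField.pow_card_sub_one_eq_one a h0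
      haveI := Fact.mk hr
      have e : orderOf (inl (S.h (Units.mk0 a h0)) : G ⋊[S.fieldAut] RingAut F) = 7 := by
        rw [orderOf_injective _ inl_injective, orderOf_injective _ S.h_injective]
        exact orderOf_eq_prime (Units.ext h7) fun e => h1 (congrArg Units.val e)
      refine hfix _ (single 0 1 1) _ e (by decide) (fun e => by simpa using congrFun (congrFun e 0) 1)
        (show S.ρ (S.h _) * single 0 1 1 * ((S.ρ (S.h _)).map (frobenius F 2))ᵀ = _ from ?_)
      rw [S.ρ_h]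
      ext i j
      fin_cases i <;> fin_cases j <;> simp [szH, mul_apply, Fin.sum_univ_four, S.θ_eq, hm, frobenius_def, single, vecHead, vecTail]
      linear_combination (a ^ 7 + 1) * h7
    · omega
  · have h26 : r ≠ 13 := by
      rintro rfl
      rcases h with h | ⟨k, v, -, h0, e⟩
      · have := hn _ (by norm_num) h; omega
      · obtain ⟨g, rfl, e'⟩ := eq_inl S hm (k := k) (by rw [e]; norm_num)
        exact h0 (fpf S hm (e'.trans e) (Aff.smul_nrm (inl g : G ⋊[S.fieldAut] RingAut F) v :))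
    rcases (hd r hr).1 (h.elim (mem_spec_of_dvd · (dvd_mul_right _ _)) fun ⟨k, _, _, _, e⟩ => ⟨k, e⟩) with
      rfl | rfl | rfl | rfl | rfl
    exacts [absurd rfl r2, mem_spec_of_dvd h30 (by norm_num), mem_spec_of_dvd h30 (by norm_num), h14, absurd rfl h26]

end

/-- The prime graph of a finite group has the prime divisors of its order as vertices, two distinct primes p, q being joined when the group has an element of order pq; two groups have the same prime graph when they have the same prime divisors and the same joined pairs. Let F be the field with 3 elements and L = PSp(6,F). There are finite groups of arbitrarily large order with the same prime graph as L (a prime graph shared by the orthogonal groups Ω₇(3) and PΩ⁺₈(3)). -/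
theorem result {F : Type*} [Field F] [Fintype F] (hF : Fintype.card F = 3) (N : ℕ) :
    ∃ (H : Type) (_ : Group H) (_ : Finite H), N < Nat.card H ∧
      ((∀ p : ℕ, p.Prime → (p ∣ Nat.card (Cfsg.PSp 3 F) ↔ p ∣ Nat.card H)) ∧
      (∀ p q : ℕ, p.Prime → q.Prime → p ≠ q → ((∃ g : (Cfsg.PSp 3 F), orderOf g = p * q) ↔ (∃ g : H, orderOf g = p * q)))) := by
  haveI := Fact.mk Nat.prime_two
  letI : Fintype (GaloisField 2 3) := Fintype.ofFinite _
  haveI := (szData0 (F := GaloisField 2 3) (m := 1) le_rfl (GaloisField.card 2 3 (by norm_num))).finiteG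
  exact main (szData0 (F := GaloisField 2 3) (m := 1) le_rfl (GaloisField.card 2 3 (by norm_num))) rfl hF N

end Cfsg.Agent.S3664
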