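import Cfsg.Statements.S3678
import Mathlib
import Cfsg.Agent.H29.Spec2

set_option autoImplicit false
open Cfsg

namespace Cfsg.Agent.S3678

/-- The prime graph of a finite group has the prime divisors of its order as vertices, two distinct primes p, q being joined when the group has an element of order pq; two groups have the same prime graph when they have the same prime divisors and the same joined pairs. Let F be the field with 7 elements. There are finite groups of arbitrarily large order with the same prime graph as PSL(2,F) (the graph on {2, 3, 7} with no edges, which is also the prime graph of PSL(2,8)). -/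
theorem result {F : Type*} [Field F] [Fintype F] (hF : Fintype.card F = 7) (N : ℕ) :
    ∃ (H : Type) (_ : Group H) (_ : Finite H), N < Nat.card H ∧
      ((∀ p : ℕ, p.Prime → (p ∣ Nat.card (Matrix.ProjectiveSpecialLinearGroup (Fin 2) F) ↔ p ∣ Nat.card H)) ∧
      (∀ p q : ℕ, p.Prime → q.Prime → p ≠ q → ((∃ g : (Matrix.ProjectiveSpecialLinearGroup (Fin 2) F), orderOf g = p * q) ↔ (∃ g : H, orderOf g = p * q)))) := by
  letI := Fintype.ofFinite (GaloisField 2 3)
  have h8 : Fintype.card (GaloisField 2 3) = 8 := Nat.card_eq_fintype_card.symm.trans (GaloisField.card 2 3 three_ne_zero)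
  haveI := Fact.mk (by norm_num : Nat.Prime 7)
  haveI := charP_of_card_eq_prime hF
  have h1 : ∀ m, m ∈ H29.spec (L0.P2 F) ↔ m ∈ [1, 2, 3, 4, 7] := fun m => by
    rw [H29.spec, S2475.result 7 (by omega), hF]
    refine ⟨?_, by revert m; simp⟩
    rintro (h | h | h) <;> have := Nat.le_of_dvd (by norm_num) h <;> norm_num at this <;> interval_cases m <;> simp_all
  have h2 : ∀ m, m ∈ H29.spec (H29.Aff (L0.S2 (GaloisField 2 3)) (Fin 2 → GaloisField 2 3)) ↔ m ∈ [1, 2, 3, 4, 7, 9] :=
    fun m => by
    rw [H29.mem_spec_asl2, H29.spec, S2475.result 2 (by omega), h8]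
    refine ⟨?_, by revert m; simp⟩
    rintro ((h | h | h) | rfl)
    all_goals first | decide | (have := Nat.le_of_dvd (by norm_num) h; norm_num at this; interval_cases m <;> simp_all)
  refine (H29.unb_asl2 (F := GaloisField 2 3)).graph (fun p hp => ?_) (fun p q hp hq h => ?_) N
  · have : p ≠ 9 := by rintro rfl; norm_num at hp
    simp [h1, h2, this]
  · have : p * q ≠ 9 := fun e => h (((Nat.prime_dvd_prime_iff_eq hp Nat.prime_three).1 (hp.dvd_of_dvd_pow (n := 2)
      ⟨q, e.symm⟩)).trans ((Nat.prime_dvd_prime_iff_eq hq Nat.prime_three).1 (hq.dvd_of_dvd_pow (n := 2)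
      ⟨p, e.symm.trans (mul_comm _ _)⟩)).symm)
    simp [h1, h2, this]

end Cfsg.Agent.S3678
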