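import Cfsg.Statements.S3680
import Mathlib
import Cfsg.Agent.H16.Centr
import Cfsg.Agent.S0721

set_option autoImplicit false
open Cfsg

namespace Cfsg.Agent.S3680

open MulAction Subgroup

theorem iso_of_comm {G α : Type*} [Group G] [MulAction G α] [FaithfulSMul G α] (M N : Subgroup G)
    [IsPretransitive M α] [IsPretransitive N α] (hM : M ≠ ⊥)
    (hc : ∀ m ∈ M, ∀ n ∈ N, m * n = n * m) : Nonempty (M ≃* N) := by
  have hMr : ∀ a : α, stabilizer M a = ⊥ := fun a => eq_bot_iff.2 fun m hm =>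
    Subtype.ext (H16.eq_one_of_centralizes_trans N (fun n hn => (hc _ m.2 n hn).symm) hm)
  have hNr : ∀ a : α, stabilizer N a = ⊥ := fun a => eq_bot_iff.2 fun n hn =>
    Subtype.ext (H16.eq_one_of_centralizes_trans M (fun m hm => hc m hm _ n.2) hn)
  obtain ⟨m, hm⟩ := (Subgroup.ne_bot_iff_exists_ne_one).1 hM
  obtain ⟨a, -⟩ := H16.exists_smul_ne (α := α) (g := (m : G)) (fun e => hm (Subtype.ext e))
  let eM := Equiv.ofBijective _ (H16.bijective_smul_of_regular a (hMr a))
  let eN := Equiv.ofBijective _ (H16.bijective_smul_of_regular a (hNr a))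
  let e : M ≃ N := (Equiv.inv M).trans (eM.trans eN.symm)
  have he : ∀ x : M, (e x : G) • a = (x : G)⁻¹ • a := by
    intro x
    change eN (e x) = eM x⁻¹
    simp [e]
  refine ⟨{ e with map_mul' := fun x y => ?_ }⟩
  apply eN.injective
  change (e (x * y) : G) • a = ((e x : G) * (e y : G)) • a
  rw [he, mul_smul, he, ← mul_smul (e x : G), ← hc _ (M.inv_mem y.2) _ (e x).2, mul_smul, he,
    ← mul_smul]
  simp

theorem sup_equiv {G : Type*} [Group G] (M N : Subgroup G) [M.Normal] [N.Normal] (h : M ⊓ N = ⊥) :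
    Nonempty (↥(M ⊔ N) ≃* M × N) := by
  let f : M × N →* G := M.subtype.noncommCoprod N.subtype fun m n =>
    H16.comm_of_inf_eq_bot h m.2 n.2
  have hf : Function.Injective f := (injective_iff_map_eq_one f).2 fun ⟨m, n⟩ e => by
    have e1 : (m : G) = (n : G)⁻¹ := eq_inv_of_mul_eq_one_left e
    have h1 : (m : G) ∈ M ⊓ N := ⟨m.2, e1 ▸ N.inv_mem n.2⟩
    rw [h, mem_bot] at h1
    rw [h1, eq_comm, inv_eq_one] at e1
    exact Prod.ext (Subtype.ext h1) (Subtype.ext e1)
  have hr : f.range = M ⊔ N := by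
    exact (MonoidHom.noncommCoprod_range _ _ _).trans (by rw [range_subtype, range_subtype])
  exact ⟨(MulEquiv.subgroupCongr hr).symm.trans (MonoidHom.ofInjective hf).symm⟩

/-- The socle of a finite primitive permutation group. Let a finite group G act faithfully and primitively on a set Ω, and let N be the subgroup generated by the minimal normal subgroups of G. Then either N is an elementary abelian p-group for some prime p and acts regularly on Ω (transitively with trivial point stabilizers), or N is isomorphic to a direct product of m ≥ 1 copies of a non-abelian simple group. -/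
theorem result {G Ω : Type*} [Group G] [Finite G] [MulAction G Ω] [FaithfulSMul G Ω] [Finite Ω]
    (hprim : MulAction.IsPreprimitive G Ω) (N : Subgroup G)
    (hN : N = sSup {V : Subgroup G | V.Normal ∧ V ≠ ⊥ ∧ ∀ M : Subgroup G, M.Normal → M ≤ V → M = ⊥ ∨ M = V}) :
    (∃ p : ℕ, p.Prime ∧ IsMulCommutative N ∧ (∀ x : N, x ^ p = 1) ∧
      MulAction.IsPretransitive N Ω ∧ ∀ ω : Ω, MulAction.stabilizer N ω = ⊥) ∨
    (∃ (T : Type) (_ : Group T) (m : ℕ), 1 ≤ m ∧ IsSimpleGroup T ∧ ¬ IsMulCommutative T ∧ Nonempty (N ≃* (Fin m → T))) := by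
  have tr : ∀ V : Subgroup G, V.Normal → V ≠ ⊥ → IsPretransitive V Ω := fun V hV h1 =>
    IsQuasiPreprimitive.isPretransitive_of_normal fun e => h1 (eq_bot_iff.2 fun g hg =>
      H16.eq_one_of_smul_eq (α := Ω) fun a => (e.ge (Set.mem_univ a)) ⟨g, hg⟩)
  by_cases h0 : (⊤ : Subgroup G) = ⊥
  · have hb : N = ⊥ := le_bot_iff.1 (h0 ▸ le_top)
    have h1 : ∀ g : G, g = 1 := fun g => mem_bot.1 (h0 ▸ mem_top g)
    refine Or.inl ⟨2, Nat.prime_two, ⟨⟨fun a b => Subtype.ext (by rw [h1 (a * b : N), h1 (b * a : N)])⟩⟩,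
      fun x => Subtype.ext (h1 _), ⟨fun a b => ?_⟩, fun a => eq_bot_iff.2 fun g _ => Subtype.ext (h1 _)⟩
    obtain ⟨g, hg⟩ := exists_smul_eq G a b
    exact ⟨1, by rw [← hg, h1 g, one_smul, one_smul]⟩
  obtain ⟨M, hM, M1, -, hmin⟩ := H16.exists_minNormal_le (⊤ : Subgroup G) h0
  haveI := tr M hM M1
  obtain ⟨T, _, m, hT, m0, ⟨e⟩⟩ := S0721.result M M1 hmin
  have hTc : IsMulCommutative T → IsMulCommutative M := fun h =>
    ⟨⟨fun a b => e.injective (by rw [map_mul, map_mul]; exact funext fun i => h.1.1 _ _)⟩⟩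
  by_cases hu : ∀ L : Subgroup G, L.Normal → L ≠ ⊥ →
      (∀ K : Subgroup G, K.Normal → K ≤ L → K = ⊥ ∨ K = L) → L = M
  · obtain rfl : N = M := hN.trans (le_antisymm (sSup_le fun L hL => (hu L hL.1 hL.2.1 hL.2.2).le)
      (le_sSup ⟨hM, M1, hmin⟩))
    by_cases hab : IsMulCommutative N
    · obtain ⟨p, hp, h⟩ := H16.minNormal_comm_exponent N M1 hmin hab
      exact Or.inl ⟨p, hp, hab, fun x => Subtype.ext (h x x.2), ‹_›,
        H16.stabilizer_eq_bot_of_comm N hab⟩
    · exact Or.inr ⟨T, _, m, m0, hT, fun h => hab (hTc h), ⟨e⟩⟩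
  push Not at hu
  obtain ⟨L, hL, L1, hLm, hne⟩ := hu
  haveI := tr L hL L1
  have hbot := H16.minNormal_inf_eq_bot hmin hLm hne.symm
  have hc : ∀ m ∈ M, ∀ n ∈ L, m * n = n * m := fun m hm n hn => H16.comm_of_inf_eq_bot hbot hm hn
  obtain rfl : N = M ⊔ L := hN.trans (le_antisymm (sSup_le fun K hK => by
      haveI := hK.1
      by_cases h1 : K = M
      · exact h1 ▸ le_sup_left
      · exact le_sup_of_le_right fun x hx => H16.mem_of_centralizes_of_trans (α := Ω) M L hc
          fun m hm => (H16.comm_of_inf_eq_bot (H16.minNormal_inf_eq_bot hK.2.2 hmin h1) hx hm).symm)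
    (sup_le (le_sSup ⟨hM, M1, hmin⟩) (le_sSup ⟨hL, L1, hLm⟩)))
  obtain ⟨e1⟩ := iso_of_comm (α := Ω) M L M1 hc
  obtain ⟨e2⟩ := sup_equiv M L hbot
  refine Or.inr ⟨T, _, m + m, by omega, hT, fun h => L1 ?_, ⟨(e2.trans (e.prodCongr
    (e1.symm.trans e))).trans ((MulEquiv.symm { Equiv.sumArrowEquivProdArrow _ _ T with map_mul' := fun _ _ => rfl }).trans
      (MulEquiv.arrowCongr finSumFinEquiv (MulEquiv.refl T)))⟩⟩
  rw [← hbot, eq_comm, inf_eq_right]
  exact fun n hn => H16.mem_of_centralizes_comm_trans (α := Ω) M (hTc h) fun m hm => hc m hm n hn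

end Cfsg.Agent.S3680
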