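import Cfsg.Statements.S3766
import Mathlib
import Cfsg.Agent.FT.BG04p

set_option autoImplicit false
open Cfsg

namespace Cfsg.Agent.S3766

open Subgroup FT
open scoped commutatorElement

theorem chief_iff {G : Type*} [Group G] [Finite G] (U V : Subgroup G) :
    (U.Normal ∧ V.Normal ∧ V < U ∧ ∀ W : Subgroup G, W.Normal → V ≤ W → W ≤ U → W = V ∨ W = U) ↔
      Chief ⊤ V U := by
  refine ⟨fun ⟨a, b, c, d⟩ => ⟨c, nml_top_iff.2 b, nml_top_iff.2 a, fun W h1 h2 h3 =>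
    (d W (nml_top_iff.1 ⟨le_top, h3⟩) h1.le h2).resolve_left h1.ne'⟩,
    fun h => ⟨nml_top_iff.1 h.nmlU, nml_top_iff.1 h.nmlV, h.lt, fun W h1 h2 h3 =>
      h.eq_or_eq h2 h3 (nml_top_iff.2 h1).nrm⟩⟩

/-- Let G be a finite solvable group and N a normal subgroup of G. Call a pair V < U of normal subgroups of G a chief factor of G when no normal subgroup of G lies strictly between them; an element g centralizes the chief factor U/V when u g u⁻¹ g⁻¹ ∈ V for all u ∈ U. Then an element of G lies in the Fitting subgroup F(N) if and only if it lies in N and centralizes every chief factor of G; and also if and only if it lies in N and centralizes every chief factor U/V of G with U ≤ F(N). -/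
theorem result {G : Type*} [Group G] [Finite G] (hG : Group.IsSolvable G) (N : Subgroup G) [N.Normal] (g : G) : (g ∈ (Cfsg.fittingSubgroup ↥N).map N.subtype ↔ g ∈ N ∧ ∀ U V : Subgroup G, (U.Normal ∧ V.Normal ∧ V < U ∧ ∀ W : Subgroup G, W.Normal → V ≤ W → W ≤ U → W = V ∨ W = U) → ∀ u ∈ U, u * g * u⁻¹ * g⁻¹ ∈ V) ∧ (g ∈ (Cfsg.fittingSubgroup ↥N).map N.subtype ↔ g ∈ N ∧ ∀ U V : Subgroup G, (U.Normal ∧ V.Normal ∧ V < U ∧ ∀ W : Subgroup G, W.Normal → V ≤ W → W ≤ U → W = V ∨ W = U) → U ≤ (Cfsg.fittingSubgroup ↥N).map N.subtype → ∀ u ∈ U, u * g * u⁻¹ * g⁻¹ ∈ V) := by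
  have hN : N ⊴ ⊤ := nml_top_iff.2 inferInstance
  have h1 : g ∈ (fittingSubgroup N).map N.subtype → g ∈ N ∧ ∀ U V : Subgroup G, (U.Normal ∧
      V.Normal ∧ V < U ∧ ∀ W : Subgroup G, W.Normal → V ≤ W → W ≤ U → W = V ∨ W = U) →
      ∀ u ∈ U, u * g * u⁻¹ * g⁻¹ ∈ V := fun h => ⟨map_subtype_le _ h, fun U V hc u hu =>
    Fitting_stab_chief ((chief_iff U V).1 hc) hN (commutator_mem_commutator hu h)⟩
  have h2 : (g ∈ N ∧ ∀ U V : Subgroup G, (U.Normal ∧
      V.Normal ∧ V < U ∧ ∀ W : Subgroup G, W.Normal → V ≤ W → W ≤ U → W = V ∨ W = U) →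
      U ≤ (fittingSubgroup N).map N.subtype → ∀ u ∈ U, u * g * u⁻¹ * g⁻¹ ∈ V) →
      g ∈ (fittingSubgroup N).map N.subtype := fun h =>
    chief_stab_sub_Fitting (H := N) (X := ⟪g⟫) inferInstance hN (zpowers_le.2 h.1)
      (fun V U hc hU => bg4_comm_zpowers_le' (hc.nmlV.nrm trivial)
        (h.2 U V ((chief_iff U V).2 hc) hU)) (mem_zpowers g)
  exact ⟨⟨h1, fun h => h2 ⟨h.1, fun U V hc _ => h.2 U V hc⟩⟩,
    ⟨fun h => ⟨(h1 h).1, fun U V hc _ => (h1 h).2 U V hc⟩, h2⟩⟩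

end Cfsg.Agent.S3766
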