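import Cfsg.Statements.S3806
import Mathlib
import Cfsg.Agent.H18.MaxUnif

set_option autoImplicit false
open Cfsg

namespace Cfsg.Agent.S3806

open Cfsg.Agent.H18 Cfsg.Agent.H3 Cfsg.Agent.FT Subgroup
open scoped commutatorElement

/-- Let p be a prime and S a finite p-group of order pⁿ (n ≥ 2) of maximal nilpotency class n − 1 whose sectional p-rank is exactly k (every section has p-rank at most k, and some section has p-rank k). If p ≥ k + 2 then the order of S is at most p^(2k). -/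
theorem result {S : Type*} [Group S] [Finite S] (p : ℕ) [Fact p.Prime] (hS : IsPGroup p S) [Group.IsNilpotent S]
    (n : ℕ) (hn : 2 ≤ n) (hcard : Nat.card S = p ^ n) (hmax : Group.nilpotencyClass S = n - 1)
    (k : ℕ) (hk : 1 ≤ k) (hsr : Cfsg.SectionalPRankLE p k S ∧ ¬ Cfsg.SectionalPRankLE p (k - 1) S)
    (hpk : k + 2 ≤ p) : Nat.card S ≤ p ^ (2 * k) := by
  have h := (maxCl_top_iff hcard hn).2 hmax
  have p1 := h.prime.one_lt
  have key : ∀ U V : Subgroup S, V ⊴ U → ⁅U, U⁆ ≤ V → (∀ x ∈ U, x ^ p ∈ V) → V.relIndex U ≤ p ^ k := by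
    intro U V hV h1 h2
    haveI := hV.normal
    refine (card_top.symm.trans_le (hsr.1 U (V.subgroupOf U) ⊤ ?_ ?_))
    · refine ⟨⟨?_⟩⟩
      rintro ⟨⟨a⟩, -⟩ ⟨⟨b⟩, -⟩
      refine Subtype.ext (QuotientGroup.eq.2 (h1 ?_))
      have := commutator_mem_commutator (inv_mem b.2) (inv_mem a.2)
      simpa [commutatorElement_def, mul_assoc] using this
    · rintro ⟨a⟩ -
      exact (QuotientGroup.eq_one_iff _).2 (h2 a a.2)
  rw [hcard, Nat.pow_le_pow_iff_right p1]
  by_contra hc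
  obtain rfl | hk := hk.eq_or_lt
  · have := key ⊤ _ (lcs_nml 1 ⊤) le_rfl fun x hx => (h.Phi_eq (by omega)).le (h.pGrp.pow_mem_Phi hx)
    rw [show (γ[1]((⊤ : Subgroup S))).relIndex ⊤ = _ from h.relIndex_der, Nat.pow_le_pow_iff_right p1] at this
    omega
  obtain ⟨k, rfl⟩ := Nat.exists_eq_add_of_le' hk.le
  obtain ⟨x, hx, c⟩ := exists_unif (by omega) n h
  have := key γ[k](⊤) γ[k + (k + 2)](⊤) ((lcs_nml _ ⊤).mono (lcs_anti ⊤ (by omega)) le_top)
    ((der_lcs_le h (by omega)).trans (lcs_anti ⊤ (by omega)))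
    fun y hy => lcs_anti ⊤ (by omega) (shift h hx c (by omega) hy).1
  rw [idx_lcs h (by omega) (by omega), Nat.pow_le_pow_iff_right p1] at this
  omega

end Cfsg.Agent.S3806
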