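import Cfsg.Statements.S3807
import Mathlib
import Cfsg.Agent.H3.Extra2
import Cfsg.Agent.H3.Aut

set_option autoImplicit false
open Cfsg

namespace Cfsg.Agent.S3807

/-- Let S be a non-abelian finite p-group with an abelian subgroup A of index p. Then [S : Z(S)] = p·#[S,S], and either [S,S] has order p, S/Z(S) is elementary abelian of order p², and S has exactly p + 1 abelian subgroups of index p; or [S,S] has order at least p² and A is the only abelian subgroup of index p in S. -/
theorem result {S : Type*} [Group S] [Finite S] (p : ℕ) [Fact p.Prime] (hS : IsPGroup p S) (hna : ¬ IsMulCommutative S)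
    (A : Subgroup S) (hA : IsMulCommutative ↥A) (hAi : A.index = p) :
    (Subgroup.center S).index = p * Nat.card (commutator S) ∧
      ((Nat.card (commutator S) = p ∧ Cfsg.IsElementaryAbelian p (⊤ : Subgroup (S ⧸ Subgroup.center S)) ∧
          Nat.card (S ⧸ Subgroup.center S) = p ^ 2 ∧
          Nat.card {B : Subgroup S // IsMulCommutative ↥B ∧ B.index = p} = p + 1) ∨
        (p ^ 2 ≤ Nat.card (commutator S) ∧ ∀ B : Subgroup S, IsMulCommutative ↥B → B.index = p → B = A)) := by
  open Subgroup Cfsg.Agent.FT Cfsg.Agent.H3 in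
  open scoped commutatorElement in
  · have hp : p.Prime := Fact.out
    have pS := pGrp_top hS
    have hna' : ¬ Ab (⊤ : Subgroup S) := fun e => hna (isMulCommutative_top_iff.1 e)
    have key : ∀ B : Subgroup S, Ab B → B.index = p → center S ≤ B := fun B h1 h2 =>
      center_top' (G := S) ▸ center_le_of_ab le_top h1 (by rwa [relIndex_top_right, h2]) hna'
    have h1 := card_ab_max hp pS le_top hA ((relIndex_top_right _).trans hAi) hna'
    rw [center_top'] at h1
    have h2 : (center S).index = p * Nat.card (commutator S) := by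
      refine Nat.eq_of_mul_eq_mul_left (FT.card_pos (center S)) ?_
      rw [card_mul_index, ← A.card_mul_index, h1, hAi]
      show _ = _ * (p * #⁅(⊤ : Subgroup S), ⊤⁆)
      ring
    refine ⟨h2, ?_⟩
    by_cases h3 : Nat.card (commutator S) = p
    · rw [h3, ← pow_two] at h2
      have h4 : ∀ x : S, x ^ p ∈ center S := fun x => by
        obtain ⟨z, hz, -⟩ := xc_of_der hp pS h3
        exact center_top' (G := S) ▸ ⟨mem_top _, hz.pow_cen (mem_top x)⟩
      refine .inl ⟨h3, ⟨isMulCommutative_top_iff.2 (isMulCommutative_of_card_dvd_sq (p := p) h2.dvd), ?_⟩, h2, ?_⟩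
      · rintro ⟨x⟩ -
        exact (QuotientGroup.eq_one_iff (x ^ p)).2 (h4 x)
      · have h5 : #(⊤ : Subgroup S) = p ^ 2 * #(center S) := by rw [card_top', ← (center S).index_mul_card, h2]
        rw [← card_between hp (nml_top_iff.2 inferInstance) h5 fun x _ => h4 x]
        refine Nat.card_congr (Equiv.subtypeEquivRight fun B => ⟨fun e => ⟨key B e.1 e.2, le_top, ?_⟩, fun e => ⟨?_, ?_⟩⟩)
        · refine Nat.eq_of_mul_eq_mul_left hp.pos ?_
          rw [← mul_assoc, ← pow_two, ← h5, card_top', ← B.index_mul_card, e.2]
        · exact ab_of_center_prime (le_inf e.1 ((center_top' (G := S)).ge.trans (center_le_cen le_top)))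
            ((relIndex_of_card_mul e.1 e.2.2).symm ▸ hp)
        · rw [← relIndex_top_right]
          exact relIndex_of_card_mul le_top (by rw [h5, e.2.2]; ring)
    · obtain ⟨k, hk⟩ := (pS.mono (le_top : commutator S ≤ ⊤)).card
      refine .inr ⟨hk ▸ Nat.pow_le_pow_right hp.pos ?_, fun B hB hBi => by_contra fun hne => h3 ?_⟩
      · rcases k with _ | _ | k
        · exact absurd (ab_iff_der.2 (eq_bot_iff_card'.2 hk)) hna'
        · exact absurd (hk.trans (pow_one p)) h3
        · omega
      · have h4 : B ⊓ A ≤ center S := by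
          rw [← center_top', ← ((isCoatom_of_index_prime hp hBi).sup_eq_top_of_ne (isCoatom_of_index_prime hp hAi) hne)]
          exact le_inf (inf_le_left.trans le_sup_left) (centsY (inf_le_left.trans (Ab.le_cen hB)) (inf_le_right.trans (Ab.le_cen hA)))
        rw [← le_antisymm h4 (le_inf (key B hB hBi) (key A hA hAi)), index_inf_of_index_p hS hBi hAi hne, pow_two] at h2
        exact (Nat.eq_of_mul_eq_mul_left hp.pos h2).symm

end Cfsg.Agent.S3807
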