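import Cfsg.Statements.S3808
import Mathlib
import Cfsg.Agent.H3.Extra2
import Cfsg.Agent.H3.Aut

set_option autoImplicit false
open Cfsg

namespace Cfsg.Agent.S3808

/-- Let S be a finite p-group with an extraspecial subgroup Q of index p. Then either Z(S) = Z(Q), or S = Q·Z(S) and Z(S) has order p². -/
theorem result {S : Type*} [Group S] [Finite S] (p : ℕ) [Fact p.Prime] (hS : IsPGroup p S) (Q : Subgroup S) (hQ : Cfsg.IsExtraspecial p ↥Q) (hQi : Q.index = p) :
    Subgroup.center S = (Subgroup.center ↥Q).map Q.subtype ∨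
      (Q ⊔ Subgroup.center S = ⊤ ∧ Nat.card (Subgroup.center S) = p ^ 2) := by
  open Subgroup Cfsg.Agent.FT Cfsg.Agent.H3 in
  open scoped commutatorElement in
  · have hp : p.Prime := Fact.out
    obtain ⟨z, h1, -⟩ := exists_xs' hQ
    haveI := normal_of_index_eq_p hS hQi
    have h2 : Z(Q) ≤ center S := center_top' (G := S) ▸ (pGrp_top hS).nil.le_center_of_prime
      (nml_top_iff.2 ‹_›).center (h1.card_center ▸ hp)
    have h3 : Q ⊓ center S = Z(Q) :=
      le_antisymm (inf_le_inf_left _ ((center_top' (G := S)).ge.trans (center_le_cen le_top))) (le_inf inf_le_left h2)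
    rw [← center_eq_map]
    by_cases e : center S ≤ Q
    · exact .inl (h3 ▸ (inf_eq_right.2 e).symm)
    · have h4 : Q ⊔ center S = ⊤ := (isCoatom_of_index_prime hp hQi).2 _ (left_lt_sup.2 e)
      have h5 := FT.card_sup_mul_card_inf (A := Q) (B := center S) (le_top.trans (nml_top_iff.2 ‹_›).nrm)
      rw [h4, h3, h1.card_center, card_top', ← Q.card_mul_index, hQi, mul_assoc, ← pow_two] at h5
      exact .inr ⟨h4, (Nat.eq_of_mul_eq_mul_left (FT.card_pos Q) h5).symm⟩

end Cfsg.Agent.S3808
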