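import Cfsg.Statements.S3809
import Mathlib
import Cfsg.Agent.H3.Extra2
import Cfsg.Agent.H3.Aut

set_option autoImplicit false
open Cfsg

namespace Cfsg.Agent.S3809

/-- Let S be a finite p-group with an extraspecial subgroup of index p. Then S has order p^(2+2n) for some n ≥ 1, derived length at most 3, and exponent dividing p³. -/
theorem result {S : Type*} [Group S] [Finite S] (p : ℕ) [Fact p.Prime] (hS : IsPGroup p S) (Q : Subgroup S) (hQ : Cfsg.IsExtraspecial p ↥Q) (hQi : Q.index = p) :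
    (∃ n : ℕ, 1 ≤ n ∧ Nat.card S = p ^ (2 + 2 * n)) ∧ derivedSeries S 3 = ⊥ ∧ ∀ x : S, x ^ (p ^ 3) = 1 := by
  open Subgroup Cfsg.Agent.FT Cfsg.Agent.H3 in
  open scoped commutatorElement in
  · obtain ⟨z, h1, h2⟩ := exists_xs' hQ
    obtain ⟨n, h3, h4⟩ := h1.card' h2
    refine ⟨⟨n, h3, by rw [← Q.card_mul_index, h4, hQi]; ring⟩, ?_, fun x => ?_⟩
    · exact le_bot_iff.1 ((der_mono ((der_mono (commutator_le_of_index_p hS hQi)).trans h1.der_le)).trans
        (ab_iff_der.1 (ab_zpowers z)).le)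
    · rw [pow_succ, pow_two, pow_mul, pow_mul]
      exact h1.pow_of_mem (h1.pow_mem (pow_mem_of_index_p hS hQi x))

end Cfsg.Agent.S3809
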