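import Cfsg.Statements.S3810
import Mathlib
import Cfsg.Agent.H3.Extra2
import Cfsg.Agent.H3.Aut

set_option autoImplicit false
open Cfsg

namespace Cfsg.Agent.S3810

/-- Let S be a finite p-group with an extraspecial subgroup of index p. Then S has an abelian subgroup of index p if and only if S has order p⁴. -/
theorem result {S : Type*} [Group S] [Finite S] (p : ℕ) [Fact p.Prime] (hS : IsPGroup p S) (Q : Subgroup S) (hQ : Cfsg.IsExtraspecial p ↥Q) (hQi : Q.index = p) :
    (∃ A : Subgroup S, IsMulCommutative ↥A ∧ A.index = p) ↔ Nat.card S = p ^ 4 := by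
  open Subgroup Cfsg.Agent.FT Cfsg.Agent.H3 in
  open scoped commutatorElement in
  · have hp : p.Prime := Fact.out
    obtain ⟨z, h1, h2⟩ := exists_xs' hQ
    obtain ⟨n, h3, h4⟩ := h1.card' h2
    have h5 := Q.card_mul_index
    refine ⟨fun ⟨A, h6, h7⟩ => ?_, fun e => ?_⟩
    · have h8 := card_le_card_inf_mul_index Q A
      have h9 : #A = #Q := Nat.eq_of_mul_eq_mul_right hp.pos (by rw [← h7, A.card_mul_index, h7, ← hQi, h5])
      have h10 := h8.trans (Nat.mul_le_mul_right _ (h1.card_ab h4 inf_le_left (Ab.mono h6 inf_le_right)))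
      rw [h9, h4, hQi, ← pow_succ, Nat.pow_le_pow_iff_right hp.one_lt] at h10
      rw [← h5, h4, hQi, ← pow_succ]
      congr 1
      omega
    · obtain ⟨A, -, h6, h7⟩ := exists_ab_of_card_four hp (card_top'.trans e)
      exact ⟨A, h6, Nat.eq_of_mul_eq_mul_left (pow_pos hp.pos 3) (by rw [← pow_succ, ← e, ← h7, A.card_mul_index])⟩

end Cfsg.Agent.S3810
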