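import Cfsg.Statements.S3824
import Mathlib
import Cfsg.Agent.H27.ClassSize

set_option autoImplicit false
open Cfsg

namespace Cfsg.Agent.S3824

/-- Every finite group having an abelian subgroup whose index is a power of 2 is solvable. -/
theorem result {G : Type*} [Group G] [Finite G]
    (A : Subgroup G) (hA : IsMulCommutative A) (hidx : ∃ k : ℕ, A.index = 2 ^ k) : Group.IsSolvable G := by
  obtain ⟨k, hk⟩ := hidx
  exact H27.isSolvable_of_abelian_index_prime_pow Nat.prime_two A hA hk.dvd

end Cfsg.Agent.S3824
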