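import Cfsg.Statements.S3862
import Mathlib
import Cfsg.Agent.H4.Small

set_option autoImplicit false
open Cfsg

namespace Cfsg.Agent.S3862

/-- If every 2-element of the finite group G that is conjugate to its inverse lies in the centre of G, then G has a normal 2-complement. -/
theorem result {G : Type*} [Group G] [Finite G] (h : ∀ x : G, (∃ j : ℕ, orderOf x = 2 ^ j) → IsConj x x⁻¹ → x ∈ Subgroup.center G) : Cfsg.HasNormalPComplement 2 G := by
  obtain ⟨P⟩ : Nonempty (Sylow 2 G) := inferInstance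
  by_contra hn
  obtain ⟨R, g, q, k, -, -, -, hRP, hR, hA, hm⟩ := H4.exists_minAct_of_not_hasNPC P hn
  refine hm.not_cent fun x hx => ?_
  by_contra hc
  obtain ⟨y, -, e⟩ := hm.exists_conj_eq_inv hR hA hx hc
  obtain ⟨j, hj⟩ := IsPGroup.iff_orderOf.mp hR ⟨x, hx⟩
  have := h x ⟨j, by rw [← hj, Subgroup.orderOf_mk]⟩ (isConj_iff.mpr ⟨y, e⟩)
  exact hc (Subgroup.center_le_centralizer _ this)

end Cfsg.Agent.S3862
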