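import Mathlib
import Cfsg.Agent.H28.Irr
-- Template for statement S3868 (row 3868; see /opt/grader/pristine/manifest.json for weights).
-- Copy to Cfsg/Agent/S3868.lean and replace the sorry. The statement below is byte-identical to the frozen
-- statement Cfsg.CfsgFrozen.S3868 (Cfsg/Statements/S3868.lean; the theorem Cfsg.fg3_minimal_non_p_closed_nonsimple_structure);
-- the grader kernel-checks Cfsg.Agent.S3868.result against that frozen type. Keep the theorem IN THIS FILE
-- (a `result` declared elsewhere and merely imported here is not credited); helpers may live anywhere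
-- under Cfsg/Agent/.
import Cfsg.Statements.S3868
-- import your own Cfsg.Agent.* helpers here

set_option autoImplicit false
open Cfsg

namespace Cfsg.Agent.S3868

/-- Structure of the non-simple minimal non-p-closed groups. Call a finite group p-closed when its Sylow p-subgroups are normal, and minimal non-p-closed when it is not p-closed but every proper subgroup and every proper quotient is. If such a group G is not simple, then there is a prime q ≠ p such that G has order p · q^e, where e is the multiplicative order of q modulo p, and G has a normal subgroup A of order q^e that is elementary abelian and is a minimal normal subgroup of G (so G is the semidirect product of A by a group of order p acting irreducibly). -/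
theorem result {G : Type*} [Group G] [Finite G] {p : ℕ} [Fact p.Prime]
    (hnc : ¬ Cfsg.IsPClosed p G) (hsub : ∀ H : Subgroup G, H ≠ ⊤ → Cfsg.IsPClosed p ↥H)
    (hquo : ∀ (N : Subgroup G) [N.Normal], N ≠ ⊥ → Cfsg.IsPClosed p (G ⧸ N)) (hns : ¬ IsSimpleGroup G) :
    ∃ q : ℕ, q.Prime ∧ q ≠ p ∧ Nat.card G = p * q ^ orderOf (q : ZMod p) ∧
      ∃ A : Subgroup G, A.Normal ∧ Nat.card ↥A = q ^ orderOf (q : ZMod p) ∧ Cfsg.IsElementaryAbelian q A ∧
        ∀ B : Subgroup G, B.Normal → B ≤ A → B = ⊥ ∨ B = A := by
  open Subgroup Cfsg.Agent.FT Cfsg.Agent.H28 in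
  open scoped commutatorElement Pointwise in
  · have hp : p.Prime := Fact.out
    obtain ⟨P, hP⟩ := exists_syl p (⊤ : Subgroup G)
    have hn : ¬ P ⊴ ⊤ := fun h => hnc ((H27.isPClosed_top_iff hp).2 fun Q hQ => hP.uniq_of_nml h.nrm hQ ▸ h)
    have hP1 : P ≠ ⊥ := by rintro rfl; exact hn (nml_bot _)
    have key : ∀ B : Subgroup G, B ⊴ ⊤ → B ≠ ⊥ → P ⊔ B ⊴ ⊤ := fun B hB hB1 => by
      haveI := nml_top_iff.1 hB
      have h4 := hP.map (f := QuotientGroup.mk' B)
      rw [map_top_of_surjective _ (QuotientGroup.mk'_surjective B)] at h4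
      haveI := nml_top_iff.1 ((H27.isPClosed_top_iff hp).1 (hquo B hB1) _ h4)
      rw [← comap_map_mk', nml_top_iff]; infer_instance
    have h1 : ∀ B : Subgroup G, B ⊴ ⊤ → B ≠ ⊤ → PiGrp {p}ᶜ B := fun B hB hne => by
      obtain ⟨S, hS, hSn⟩ := (H27.isPClosed_iff_exists hp).1 (hsub B hne)
      have h4 := hS.nml_trans hSn hB
      refine hS.eq_bot_iff.1 (by_contra fun hS1 => hn ?_)
      simpa [hP.ge_of_nml hS.pi h4] using key S h4 hS1
    refine min_nonclosed hp hns hP hP1 h1 (fun B hB hB1 => by_contra fun hne => hP1 ?_) fun K X hK _ hX =>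
      (H27.isPClosed_iff hp).1 (hsub K hK) X hX
    rw [sup_comm] at hne
    exact hP.pi.eq_bot ((h1 _ (key B hB hB1) hne).mono le_sup_left)

end Cfsg.Agent.S3868
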