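import Mathlib
import Cfsg.Agent.H28.Irr
-- Template for statement S3869 (row 3869; see /opt/grader/pristine/manifest.json for weights).
-- Copy to Cfsg/Agent/S3869.lean and replace the sorry. The statement below is byte-identical to the frozen
-- statement Cfsg.CfsgFrozen.S3869 (Cfsg/Statements/S3869.lean; the theorem Cfsg.fg3_irreducible_prime_order_action_gives_minimal_non_p_closed);
-- the grader kernel-checks Cfsg.Agent.S3869.result against that frozen type. Keep the theorem IN THIS FILE
-- (a `result` declared elsewhere and merely imported here is not credited); helpers may live anywhere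
-- under Cfsg/Agent/.
import Cfsg.Statements.S3869
-- import your own Cfsg.Agent.* helpers here

set_option autoImplicit false
open Cfsg

namespace Cfsg.Agent.S3869

/-- Let p and q be distinct primes and G a finite non-abelian group with a normal elementary abelian q-subgroup A that is a minimal normal subgroup of G and has index p. Then A has order q^e with e the multiplicative order of q modulo p, and G is minimal non-p-closed: its Sylow p-subgroups are not normal, while in every proper subgroup and in every proper quotient of G the Sylow p-subgroups are normal. -/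
theorem result {G : Type*} [Group G] [Finite G] {p q : ℕ} [Fact p.Prime] (hq : q.Prime) (hpq : q ≠ p)
    (hna : ¬ IsMulCommutative G) (A : Subgroup G) [A.Normal] (hA : Cfsg.IsElementaryAbelian q A) (hidx : A.index = p)
    (hmin : ∀ B : Subgroup G, B.Normal → B ≤ A → B = ⊥ ∨ B = A) :
    Nat.card ↥A = q ^ orderOf (q : ZMod p) ∧ ¬ Cfsg.IsPClosed p G ∧ (∀ H : Subgroup G, H ≠ ⊤ → Cfsg.IsPClosed p ↥H) ∧
      ∀ (N : Subgroup G) [N.Normal], N ≠ ⊥ → Cfsg.IsPClosed p (G ⧸ N) := by
  open Subgroup Cfsg.Agent.FT Cfsg.Agent.H28 in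
  open scoped commutatorElement Pointwise in
  · have hp : p.Prime := Fact.out
    have hA' : PiGrp {p}ᶜ A := (Abelem.pGrp hA hq).p' hpq
    have hc : Nat.card G = #A * p := hidx ▸ A.card_mul_index.symm
    have hsd : ∀ X : Subgroup G, #X = p → SD A X ⊤ := fun X hX =>
      sd_of_card (nml_top A) le_top (hA'.inf_eq_bot' (pGrp_of_card_prime hp hX)) (by rw [card_top, hc, hX])
    have hnc : ∀ X : Subgroup G, #X = p → ¬ X ≤ C(A) := fun X hX h =>
      hna (ab_top.1 ((hsd X hX).mulEq.sup ▸ (Abelem.ab hA).sup (cyc_of_prime (hX ▸ hp)).ab h))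
    have hnn : ∀ X : Subgroup G, #X = p → ¬ X ⊴ ⊤ := fun X hX h => hnc X hX ((hsd X hX).dp_of_nml (le_top.trans h.nrm)).cen
    have hm : ∀ X B : Subgroup G, A ⊔ X = ⊤ → B ≤ A → X ≤ N(B) → B = ⊥ ∨ B = A := fun X B e h1 h2 =>
      hmin B (normal_of_top_le (e ▸ sup_le ((Abelem.ab hA).nml h1).nrm h2)) h1
    obtain ⟨X, -, hX⟩ := exists_card_prime_le hp (show p ∣ #(⊤ : Subgroup G) by rw [card_top, hc]; exact dvd_mul_left _ _)
    have hXS := (hsd X hX).hall_right' hA' (pGrp_of_card_prime hp hX)
    have hd : ∀ H : Subgroup G, A ⊓ H = ⊥ → #H ∣ p := fun H h => by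
      rw [← hidx, ← relIndex_bot_left, ← h, inf_relIndex_right]; exact relIndex_dvd_index_of_normal A H
    refine ⟨card_of_irred hp hq hA hX ⟨by rintro rfl; exact hnc X hX (le_top.trans cen_bot.ge), le_nrm_of_normal _ _,
      fun B h1 h2 h3 => (hm X B (hsd X hX).mulEq.sup h1 h3).resolve_left h2⟩ (hnc X hX),
      fun h => hnn X hX ((H27.isPClosed_top_iff hp).1 h X hXS), fun H hH => (H27.isPClosed_iff hp).2 fun S hS => ?_,
      fun N hN h1 => (H27.isPClosed_top_iff hp).2 fun S hS => ?_⟩
    · by_cases h1 : S = ⊥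
      · exact h1 ▸ (nml_bot H |>.nrm)
      obtain ⟨Y, hY, hY'⟩ := exists_card_prime_le hp (hS.pi.dvd h1)
      have e : A ⊔ H = ⊤ := eq_top_iff.2 ((hsd Y hY').mulEq.sup.ge.trans (sup_le_sup_left (hY.trans hS.le) A))
      rcases hm H (A ⊓ H) e inf_le_left (normsI (le_nrm_of_normal A H) (le_nrm H)) with h | h
      · exact hS.eq_of_piGrp (((piNat_prime (π := {p}) hp).2 rfl).of_dvd (hd H h)) ▸ le_nrm S
      · exact absurd (e ▸ sup_le (h ▸ inf_le_right) le_rfl) (fun e' => hH (eq_top_iff.2 e'))
    · rcases hmin (A ⊓ N) inferInstance inf_le_left with h | h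
      · exact absurd (nml_top N) (hnn N (((Nat.dvd_prime hp).1 (hd N h)).resolve_left (card_eq_one.not.2 h1)))
      · have : PGrp p (⊤ : Subgroup (G ⧸ N)) := ((piNat_prime (π := {p}) hp).2 rfl).of_dvd (m := #(⊤ : Subgroup (G ⧸ N))) (by
          rw [card_top, ← hidx]; exact index_dvd_of_le (h ▸ inf_le_right))
        exact hS.eq_of_piGrp this ▸ Nml.refl _

end Cfsg.Agent.S3869
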