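import Cfsg.Statements.S3870
import Mathlib
import Cfsg.Agent.H27.Misc

set_option autoImplicit false
open Cfsg

namespace Cfsg.Agent.S3870

open Subgroup FT

/-- Let G be a finite simple group whose Sylow p-subgroups are not normal but such that every proper subgroup of G has a normal Sylow p-subgroup. Then any two distinct Sylow p-subgroups of G intersect trivially, and for every Sylow p-subgroup P the normalizer of every non-identity subgroup of P lies in the normalizer of P. -/
theorem result {G : Type*} [Group G] [Finite G] [IsSimpleGroup G] {p : ℕ} [Fact p.Prime]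
    (hnc : ¬ Cfsg.IsPClosed p G) (hsub : ∀ H : Subgroup G, H ≠ ⊤ → Cfsg.IsPClosed p ↥H) :
    (∀ P Q : Sylow p G, P ≠ Q → (P : Subgroup G) ⊓ (Q : Subgroup G) = ⊥) ∧
      ∀ (P : Sylow p G) (R : Subgroup G), R ≤ P → R ≠ ⊥ →
        Subgroup.normalizer (R : Set G) ≤ Subgroup.normalizer ((P : Subgroup G) : Set G) := by
  have hp : p.Prime := Fact.out
  have hti : H27.SylTI p (⊤ : Subgroup G) := by
    suffices h : ∀ n, ∀ P Q : Subgroup G, Syl p P ⊤ → Syl p Q ⊤ → P ⊓ Q ≠ ⊥ →
        (P ⊓ Q).index = n → P = Q from fun P Q a b c => h _ P Q a b c rfl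
    intro n
    induction n using Nat.strong_induction_on with
    | _ n ih =>
    intro P Q hP hQ h1 hn
    by_contra hne
    have hN : N(P ⊓ Q) ≠ ⊤ := fun e => by
      rcases (nml_top_iff.1 ⟨le_top, e.ge⟩ : (P ⊓ Q).Normal).eq_bot_or_eq_top with h | h
      · exact h1 h
      · exact hne ((eq_top_iff.2 (h.ge.trans inf_le_left)).trans
          (eq_top_iff.2 (h.ge.trans inf_le_right)).symm)
    obtain ⟨S, hS, hSn⟩ := (H27.isPClosed_iff_exists hp).1 (hsub _ hN)
    obtain ⟨R, hR, hSR⟩ := hS.pi.exists_syl le_top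
    have key : ∀ A : Subgroup G, Syl p A ⊤ → P ⊓ Q < A → A = R := fun A hA hlt => by
      have h2 : P ⊓ Q < A ⊓ R := (hA.pi.lt_subnorm hlt).trans_le (le_inf inf_le_left
        ((hS.le_of_nml hSn (hA.pi.inf_left _) inf_le_right).trans hSR))
      exact ih _ (hn ▸ index_strictAnti h2) A R hA hR (ne_bot_of_le h2.le h1) rfl
    have h3 : P ⊓ Q < P := lt_of_le_of_ne inf_le_left fun e =>
      hne (hP.max hQ.pi (e.ge.trans inf_le_right) le_top).symm
    have h4 : P ⊓ Q < Q := lt_of_le_of_ne inf_le_right fun e =>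
      hne (hQ.max hP.pi (e.ge.trans inf_le_left) le_top)
    exact hne ((key P hP h3).trans (key Q hQ h4).symm)
  refine ⟨fun P Q hne => by_contra fun h => hne (Sylow.ext (hti _ _ (syl_top hp P)
    (syl_top hp Q) h)), fun P R hR h1 g hg => ?_⟩
  refine cj_eq_self.1 (hti _ _ (syl_top hp P) ((syl_top hp P).cj_mem (mem_top g))
    (ne_bot_of_le (le_inf hR ?_) h1)).symm
  rw [← cj_of_mem_nrm hg]; exact cj_mono g hR

end Cfsg.Agent.S3870
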