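import Cfsg.Statements.S3872
import Mathlib
import Cfsg.Agent.H3.Regular
import Cfsg.Agent.FT.Elem

set_option autoImplicit false
open Cfsg

namespace Cfsg.Agent.S3872

open Subgroup Cfsg.Agent.FT

/-- Say that a finite group is p-exponent closed when its elements of order dividing p form a subgroup. Let G be a finite p-group that is not p-exponent closed, but all of whose proper subgroups and proper quotients are. Then G is generated by two elements, has nilpotency class at least p, has exponent p², has cyclic center, and has order at least p^(p+1). -/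
theorem result {G : Type*} [Group G] [Finite G] {p : ℕ} [Fact p.Prime] (hG : IsPGroup p G)
    (hnc : ¬ (∃ H : Subgroup G, (H : Set G) = {g : G | g ^ p = 1})) (hsub : ∀ K : Subgroup G, K ≠ ⊤ → (∃ H : Subgroup ↥K, (H : Set ↥K) = {g : ↥K | g ^ p = 1}))
    (hquo : ∀ (N : Subgroup G) [N.Normal], N ≠ ⊥ → (∃ H : Subgroup (G ⧸ N), (H : Set (G ⧸ N)) = {g : (G ⧸ N) | g ^ p = 1})) :
    (∃ x y : G, Subgroup.closure ({x, y} : Set G) = ⊤) ∧ (⊤ : Subgroup G).lowerCentralSeries (p - 1) ≠ ⊥ ∧
      Monoid.exponent G = p ^ 2 ∧ IsCyclic ↥(Subgroup.center G) ∧ p ^ (p + 1) ≤ Nat.card G := by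
  have hp : p.Prime := Fact.out
  obtain ⟨x, y, hx, hy, hxy⟩ : ∃ x y : G, x ^ p = 1 ∧ y ^ p = 1 ∧ (x * y) ^ p ≠ 1 := by
    by_contra h
    push Not at h
    let H : Subgroup G :=
      { carrier := {g | g ^ p = 1}
        one_mem' := one_pow p
        mul_mem' := fun ha hb => h _ _ ha hb
        inv_mem' := fun {a} ha => by
          show a⁻¹ ^ p = 1
          rw [inv_pow, show a ^ p = 1 from ha, inv_one] }
    exact hnc ⟨H, rfl⟩
  have hgen : closure ({x, y} : Set G) = ⊤ := by
    by_contra h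
    obtain ⟨H, hH⟩ := hsub _ h
    have h1 : x ∈ closure ({x, y} : Set G) := subset_closure (by simp)
    have h2 : y ∈ closure ({x, y} : Set G) := subset_closure (by simp)
    have h3 : (⟨x, h1⟩ * ⟨y, h2⟩ : closure ({x, y} : Set G)) ∈ (H : Set _) :=
      H.mul_mem (by rw [← SetLike.mem_coe, hH]; exact Subtype.ext hx) (by rw [← SetLike.mem_coe, hH]; exact Subtype.ext hy)
    rw [hH] at h3
    exact hxy (congrArg Subtype.val h3)
  have hq : ∀ N : Subgroup G, N ⊴ ⊤ → N ≠ ⊥ → ∀ g : G, g ^ p ∈ N := fun N hN h1 g => by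
    haveI := nml_top_iff.1 hN
    obtain ⟨H, hH⟩ := hquo N h1
    have h2 : ∀ a : G, a ^ p = 1 → a ∈ H.comap (QuotientGroup.mk' N) := fun a ha => by
      rw [mem_comap, ← SetLike.mem_coe, hH]
      show (QuotientGroup.mk' N a) ^ p = 1
      rw [← map_pow, ha, map_one]
    have h3 : closure ({x, y} : Set G) ≤ H.comap (QuotientGroup.mk' N) := by
      rw [closure_le]
      rintro _ (rfl | rfl)
      · exact h2 _ hx
      · exact h2 _ hy
    have h4 := h3 (hgen ▸ mem_top g)
    rw [mem_comap, ← SetLike.mem_coe, hH] at h4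
    exact (QuotientGroup.eq_one_iff _).1 h4
  have hP : PGrp p (⊤ : Subgroup G) := (pGrp_iff hp).2 (hG.to_subgroup ⊤)
  have h1 : (⊤ : Subgroup G) ≠ ⊥ := fun h => hxy (mem_bot.1 (h ▸ mem_top _))
  have hZ : ∀ X, X ≤ Z((⊤ : Subgroup G)) → #X = p → X = ⟪(x * y) ^ p⟫ := fun X hX hc =>
    eq_zpowers_of_prime (hc ▸ hp) (hq X (nml_of_le_center hX) (ne_bot_of_prime_card (hc ▸ hp)) _) hxy
  obtain ⟨X, hX⟩ := (hP.mono (inf_le_left : Z((⊤ : Subgroup G)) ≤ ⊤)).exists_pnElem_one (hP.center_ne_bot h1)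
  refine ⟨⟨x, y, hgen⟩, fun h => hxy ((H3.reg_of_lcs_eq_bot h).mul_pow_eq_one hG hx hy), ?_, ?_, ?_⟩
  · have h2 : Monoid.exponent G ∣ p ^ 2 := Monoid.exponent_dvd_of_forall_pow_eq_one fun g => by
      rw [pow_two, pow_mul]
      exact hX.abelem.pow (hq X (nml_of_le_center hX.le) hX.ne_bot g)
    obtain ⟨k, hk, e⟩ := (Nat.dvd_prime_pow hp).1 h2
    have : k = 2 := by
      by_contra h
      exact hxy (Monoid.exponent_dvd_iff_forall_pow_eq_one.1 (e ▸ (by
        simpa using pow_dvd_pow p (show k ≤ 1 by omega))) _)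
    rw [e, this]
  · have h2 : Cyc Z((⊤ : Subgroup G)) := by
      refine (ab_center ⊤).cyc_of_card_Ohm (hP.mono inf_le_left) hp ?_
      have : Ω[p](Z((⊤ : Subgroup G))) ≤ X := Ohm_le_of_forall_pnElem hp fun Y hY => by
        rw [hZ Y hY.le hY.card_one, hZ X hX.le hX.card_one]
      exact (card_dvd this).trans hX.card_one.dvd
    have e : Z((⊤ : Subgroup G)) = center G := by
      rw [top_inf_eq, coe_top, centralizer_univ]
    rwa [e] at h2
  · obtain ⟨n, hn⟩ := hG.exists_card_eq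
    by_contra h
    rw [hn, not_le, Nat.pow_lt_pow_iff_right hp.one_lt] at h
    exact hxy ((H3.reg_of_card_le hG (hn ▸ Nat.pow_le_pow_right hp.pos (by omega))).mul_pow_eq_one hG hx hy)

end Cfsg.Agent.S3872
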