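import Mathlib
import Cfsg.Agent.H28.Irr
-- Template for statement S3873 (row 3873; see /opt/grader/pristine/manifest.json for weights).
-- Copy to Cfsg/Agent/S3873.lean and replace the sorry. The statement below is byte-identical to the frozen
-- statement Cfsg.CfsgFrozen.S3873 (Cfsg/Statements/S3873.lean; the theorem Cfsg.fg3_minimal_non_p_exponent_closed_nonsimple_structure);
-- the grader kernel-checks Cfsg.Agent.S3873.result against that frozen type. Keep the theorem IN THIS FILE
-- (a `result` declared elsewhere and merely imported here is not credited); helpers may live anywhere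
-- under Cfsg/Agent/.
import Cfsg.Statements.S3873
-- import your own Cfsg.Agent.* helpers here

set_option autoImplicit false
open Cfsg

namespace Cfsg.Agent.S3873

/-- Say that a finite group is p-exponent closed when its elements of order dividing p form a subgroup. Let G be a finite group that is not p-exponent closed, but all of whose proper subgroups and proper quotients are, and suppose G is neither simple nor a p-group. Then there is a prime q ≠ p such that G has order p · q^e, where e is the multiplicative order of q modulo p, and G has a normal elementary abelian subgroup of order q^e that is a minimal normal subgroup of G. -/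
theorem result {G : Type*} [Group G] [Finite G] {p : ℕ} [Fact p.Prime]
    (hnc : ¬ (∃ H : Subgroup G, (H : Set G) = {g : G | g ^ p = 1})) (hsub : ∀ K : Subgroup G, K ≠ ⊤ → (∃ H : Subgroup ↥K, (H : Set ↥K) = {g : ↥K | g ^ p = 1}))
    (hquo : ∀ (N : Subgroup G) [N.Normal], N ≠ ⊥ → (∃ H : Subgroup (G ⧸ N), (H : Set (G ⧸ N)) = {g : (G ⧸ N) | g ^ p = 1}))
    (hns : ¬ IsSimpleGroup G) (hnp : ¬ IsPGroup p G) :
    ∃ q : ℕ, q.Prime ∧ q ≠ p ∧ Nat.card G = p * q ^ orderOf (q : ZMod p) ∧
      ∃ A : Subgroup G, A.Normal ∧ Nat.card ↥A = q ^ orderOf (q : ZMod p) ∧ Cfsg.IsElementaryAbelian q A ∧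
        ∀ B : Subgroup G, B.Normal → B ≤ A → B = ⊥ ∨ B = A := by
  open Subgroup Cfsg.Agent.FT Cfsg.Agent.H28 in
  open scoped commutatorElement Pointwise in
  · have hp : p.Prime := Fact.out
    obtain ⟨P, hP⟩ := exists_syl p (⊤ : Subgroup G)
    have hK : ∀ K : Subgroup G, K ≠ ⊤ → ∃ E ≤ K, PGrp p E ∧ N(K) ≤ N(E) ∧ ∀ g ∈ K, g ^ p = 1 → g ∈ E := fun K hK => by
      obtain ⟨H, hH⟩ := hsub K hK
      have e : ∀ g, g ∈ H.map K.subtype ↔ g ∈ K ∧ g ^ p = 1 := fun g =>
        ⟨by rintro ⟨g, hg, rfl⟩; exact ⟨g.2, congrArg Subtype.val (show g ^ p = 1 from hH.subset hg)⟩,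
          fun h => ⟨⟨g, h.1⟩, hH.superset (Subtype.ext h.2), rfl⟩⟩
      exact ⟨_, map_subtype_le H, piGrp_iff_forall.2 fun g hg => pElt_of_pow_eq_one hp ((e g).1 hg).2,
        le_nrm_iff.2 fun g hg y hy => (e _).2 ⟨conj_mem hg ((e y).1 hy).1, by rw [conj_pow, ((e y).1 hy).2]; simp⟩,
        fun g h1 h2 => (e g).2 ⟨h1, h2⟩⟩
    have hΩ : closure {g : G | g ^ p = 1} = ⊤ := by_contra fun hne => by
      obtain ⟨H, hH⟩ := hsub _ hne
      refine hnc ⟨H.map (Subgroup.subtype _), Set.ext fun g => ⟨?_, fun h => ⟨⟨g, subset_closure h⟩, hH.superset (Subtype.ext h), rfl⟩⟩⟩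
      rintro ⟨g, hg, rfl⟩
      exact congrArg Subtype.val (show g ^ p = 1 from hH.subset hg)
    have h2 : ∀ B : Subgroup G, B ⊴ ⊤ → B ≠ ⊥ → PiNat {p} (B.relIndex ⊤) := fun B hB hB1 => by
      haveI := nml_top_iff.1 hB
      obtain ⟨H, hH⟩ := hquo B hB1
      rw [relIndex_top_right]
      refine piGrp_top.1 (piGrp_iff_forall.2 fun y _ => pElt_of_pow_eq_one hp (hH.subset ?_))
      obtain ⟨y, rfl⟩ := QuotientGroup.mk'_surjective B y
      exact (show _ ≤ H.comap (QuotientGroup.mk' B) from hΩ ▸ (closure_le _).2 fun g hg => hH.superset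
        (show QuotientGroup.mk' B g ^ p = 1 by rw [← map_pow, hg.out, map_one])) (mem_top y)
    have hP1 : P ≠ ⊥ := fun e => hnc ⟨⊥, Set.ext fun g => ⟨by rintro rfl; simp, fun h =>
      (pElt_of_pow_eq_one hp h).eq_one_of_mem (hP.eq_bot_iff.1 e) (mem_top g)⟩⟩
    refine min_nonclosed hp hns hP hP1 (fun B hB hne => p'grp_of_not_dvd fun hd => ?_)
      (fun B hB hB1 => (hP.mulEq_of_relIndex' le_top (h2 B hB hB1)).sup) fun K X hne hX hS => ?_
    · obtain ⟨E, -, h3, h4, h5⟩ := hK B hne
      obtain ⟨x, hx, hxp⟩ := exists_elt_of_prime_dvd hp hd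
      refine hnp (((piGrp_of_relIndex' h3 (h2 E ⟨le_top, hB.nrm.trans h4⟩ fun e => hp.ne_one ?_)).isPGroup).of_equiv topEquiv)
      rw [← hxp, orderOf_eq_one_iff, ← mem_bot, ← e]; exact h5 x hx (hxp ▸ pow_orderOf_eq_one x)
    · obtain ⟨E, h6, h3, h4, h5⟩ := hK K hne
      exact hS.max h3 (fun g hg => h5 g (hS.le hg) ((abelem_of_card_prime hp hX).pow hg)) h6 ▸ (le_nrm K).trans h4

end Cfsg.Agent.S3873
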