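import Cfsg.Statements.S3875
import Mathlib
import Cfsg.Agent.S0999
import Cfsg.Agent.H10.SL
import Cfsg.Agent.FT.BG01

set_option autoImplicit false
open Cfsg

namespace Cfsg.Agent.S3875

open Subgroup Cfsg.Agent.FT

theorem lower (p : ℕ) [hpp : Fact p.Prime] (hp : p ≠ 2) (m : ℕ)
    (hleast : ∀ k : ℕ, IsPrimePow k → k % p = 1 → m ≤ k) (n : ℕ) :
    ∀ (H : Type) [Group H] [Finite H], Nat.card H = n → ∀ P : Subgroup H, Syl p P ⊤ → ¬ P.Normal →
      min (p * m) (p * (p ^ 2 - 1) / 2) ≤ Nat.card H := by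
  induction n using Nat.strong_induction_on with
  | _ n ih =>
  intro H _ _ hn P hP hnn
  have pp := hpp.out
  by_contra hlt
  push Not at hlt
  have hsm : ∀ (K : Type) [Group K] [Finite K], Nat.card K < Nat.card H → ∀ Q : Subgroup K, Syl p Q ⊤ → Q.Normal := by
    intro K _ _ hK Q hQ
    by_contra h
    have := ih _ (hn ▸ hK) K rfl Q hQ h
    omega
  have hsub : ∀ K : Subgroup H, K ≠ ⊤ → ∀ Q, Syl p Q K → K ≤ N(Q) := by
    intro K hK Q hQ
    have h1 := hsm K (by simpa [card_top'] using card_lt (lt_top_iff_ne_top.2 hK)) (Q.subgroupOf K) ((hall_so_top hQ.le).2 hQ)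
    exact ((nml_iff_normal hQ.le).2 h1).nrm
  have hquo : ∀ N : Subgroup H, N.Normal → N ≠ ⊥ → (N ⊔ P).Normal := by
    intro N _ hN
    have hc : Nat.card (H ⧸ N) < Nat.card H := by
      rw [← N.card_mul_index]
      have := one_lt_card hN
      have h0 : 0 < N.index := Nat.pos_of_ne_zero index_ne_zero_of_finite
      change N.index < _
      nlinarith
    have h1 := hsm (H ⧸ N) hc (P.map (QuotientGroup.mk' N)) (by
      have := hP.map (f := QuotientGroup.mk' N)
      rwa [map_top_of_surjective _ (QuotientGroup.mk'_surjective N)] at this)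
    have h2 := h1.comap (QuotientGroup.mk' N)
    rwa [comap_map_eq, QuotientGroup.ker_mk', sup_comm] at h2
  have hP1 : P ≠ ⊥ := by rintro rfl; exact hnn inferInstance
  have hdvd : p ∣ Nat.card H := by
    by_contra h
    exact hP1 ((hP.syl_eq_bot_iff pp).2 (by rwa [card_top']))
  have hp3 : 3 ≤ p := by have := pp.two_le; omega
  by_cases hs : IsSimpleGroup H
  · have hnc : ¬ IsCyclic H := by
      intro h
      exact hnn (nml_top_iff.1 ((cyc_top.2 h).ab.nml le_top))
    have hl2 : Nat.card H < p * (p ^ 2 - 1) / 2 := lt_of_lt_of_le hlt (min_le_right _ _)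
    have hl3 : 2 * Nat.card H < p * (p ^ 2 - 1) := by omega
    have hbig : Nat.card H < p ^ 3 := by
      have : p * (p ^ 2 - 1) ≤ p ^ 3 := by
        calc p * (p ^ 2 - 1) ≤ p * p ^ 2 := Nat.mul_le_mul_left _ (Nat.sub_le _ _)
          _ = p ^ 3 := by ring
      omega
    obtain ⟨k, rfl⟩ : ∃ k, p = k + 3 := ⟨p - 3, by omega⟩
    have e1 : (k + 3) ^ 2 - 1 = (k + 2) * (k + 4) := by
      rw [Nat.sub_eq_iff_eq_add (Nat.one_le_pow _ _ (by omega))]; ring
    rw [e1] at hl3
    rcases S0999.result hnc _ pp hdvd hbig with ⟨F, _, _, hF, -, ⟨e⟩⟩ | ⟨a, F, _, _, hF, ha, h3, ⟨e⟩⟩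
    · have h1 := H10.card_PSL_two (F := F)
      rw [← Nat.card_congr e.toEquiv, hF] at h1
      have h2 : Nat.gcd 2 (k + 3 - 1) ≤ 2 := Nat.gcd_le_left _ (by norm_num)
      have h3 : k + 3 - 1 = k + 2 := by omega
      rw [h3] at h1 h2
      have : Nat.gcd 2 (k + 2) * Nat.card H ≤ 2 * Nat.card H := Nat.mul_le_mul_right _ h2
      nlinarith
    · have h1 := H10.card_PSL_two (F := F)
      rw [← Nat.card_congr e.toEquiv, hF] at h1
      have h4 : 2 ^ a = k + 2 := by omega
      have ha0 : a ≠ 0 := by rintro rfl; omega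
      have h5 : Nat.gcd 2 (2 ^ a - 1) = 1 := by
        have : Odd (2 ^ a - 1) := Nat.Even.sub_odd Nat.one_le_two_pow (Nat.even_pow.2 ⟨even_two, ha0⟩) odd_one
        exact (Nat.coprime_two_left.2 this)
      rw [h5, h4] at h1
      have h3' : k + 2 - 1 = k + 1 := by omega
      rw [h3', one_mul] at h1
      have hk2 : 2 ≤ k := by
        by_contra hk
        have : k = 1 := by omega
        subst this
        exact absurd pp (by norm_num)
      rw [h1] at hl3
      have : (k + 3) * ((k + 2) * (k + 4)) ≤ 2 * ((k + 2) * (k + 1) * (k + 2 + 1)) := by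
        have : k + 4 ≤ 2 * (k + 1) := by omega
        calc (k + 3) * ((k + 2) * (k + 4)) ≤ (k + 3) * ((k + 2) * (2 * (k + 1))) := by gcongr
          _ = _ := by ring
      omega
  · have hnt : Nontrivial H := by
      obtain ⟨x, -, hx⟩ := exists_ne_one hP1
      exact ⟨x, 1, hx⟩
    obtain ⟨N, hN, hN1, hN2⟩ : ∃ N : Subgroup H, N.Normal ∧ N ≠ ⊥ ∧ N ≠ ⊤ := by
      by_contra h
      push Not at h
      exact hs ⟨fun N hN => by by_contra h'; push Not at h'; exact h'.2 (h N hN h'.1)⟩
    have nN : N ⊴ ⊤ := nml_top_iff.2 hN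
    have hNP : N ⊔ P = ⊤ := by
      by_contra h
      have h1 := hquo N hN hN1
      have h2 : Syl p P (N ⊔ P) := hP.subl le_sup_right le_top
      exact hnn (nml_top_iff.1 (h2.nml_trans (hsub _ h _ h2) (nml_top_iff.2 h1)))
    have hPN : P ⊓ N = ⊥ := by
      by_contra h
      have h2 : Syl p (P ⊓ N) N := hP.inf_nml nN
      have h3 := nml_top_iff.1 (h2.nml_trans (hsub _ hN2 _ h2) nN)
      have h4 := hquo _ h3 h
      rw [sup_eq_right.2 inf_le_left] at h4
      exact hnn h4
    have hN' : PiGrp {p}ᶜ N := (hP.inf_nml nN).eq_bot_iff.1 hPN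
    have hcop : Cop N P := hN'.coprime' hP.pi
    obtain ⟨q, Q, hq, hQ, hPQ, hne⟩ : ∃ q Q, q.Prime ∧ Syl q Q N ∧ P ≤ N(Q) ∧ Q ⊔ P = ⊤ := by
      by_contra h
      push Not at h
      have : N ≤ N(P) := by
        refine le_of_forall_syl fun q hq _ => ?_
        obtain ⟨Q, h1, h2⟩ := coprime_Sylow_exists q (le_top.trans nN.nrm) hcop (Or.inr ((PiGrp.nil hP.pi).sol))
        exact ⟨Q, h1, le_sup_left.trans (hsub _ (h q Q hq h1 h2) P (hP.subl le_sup_right le_top))⟩
      exact hnn (nml_top_iff.1 ⟨le_top, hNP ▸ sup_le this (le_nrm P)⟩)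
    obtain ⟨T, hT⟩ := (syl_top_iff pp).1 hP
    subst hT
    have h1 : Nat.card (Sylow p H) = (N((T : Subgroup H))).index := Sylow.card_eq_index_normalizer T
    have h2 : Nat.card (Sylow p H) % p = 1 := by
      have := card_sylow_modEq_one p H
      rwa [Nat.ModEq, Nat.mod_eq_of_lt pp.one_lt] at this
    have h3 : (N((T : Subgroup H))).index ∣ #Q := by
      have a1 : (N((T : Subgroup H))).index ∣ (T : Subgroup H).index := index_dvd_of_le (le_nrm _)
      have a2 := (mulEq_of_sup hPQ hne).relIndex_right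
      rw [relIndex_top_right] at a2
      exact a1.trans (a2 ▸ relIndex_dvd _ _)
    obtain ⟨a, ha⟩ := PiNat.exists_pow hQ.pi (card_ne_zero Q)
    rw [ha] at h3
    obtain ⟨b, -, hb⟩ := (Nat.dvd_prime_pow hq).1 h3
    have hb0 : b ≠ 0 := by
      rintro rfl
      rw [pow_zero, index_eq_one] at hb
      exact hnn (nml_top_iff.1 ⟨le_top, hb.ge⟩)
    have h4 := hleast (q ^ b) ⟨q, b, hq.prime, Nat.pos_of_ne_zero hb0, rfl⟩ (by rw [← hb, ← h1, h2])
    have h5 : p ≤ #N((T : Subgroup H)) := by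
      refine le_trans ?_ (card_le (le_nrm _))
      refine Nat.le_of_dvd (card_pos _) (PiNat.dvd_of_ne_one hP.pi (one_lt_card hP1).ne')
    have h6 := (N((T : Subgroup H))).card_mul_index
    have h7 : p * m ≤ Nat.card H := by
      rw [← h6, hb]; exact Nat.mul_le_mul h5 h4
    have := min_le_left (p * m) (p * (p ^ 2 - 1) / 2)
    omega

def act {F : Type} [Field F] (Z : Subgroup Fˣ) : Z →* MulAut (Multiplicative F) where
  toFun z := { toFun := fun x => Multiplicative.ofAdd ((z : Fˣ) * x.toAdd)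
               invFun := fun x => Multiplicative.ofAdd (((z : Fˣ)⁻¹ : Fˣ) * x.toAdd)
               left_inv := fun x => by simp
               right_inv := fun x => by simp
               map_mul' := fun x y => by simp [mul_add, ofAdd_add] }
  map_one' := by ext x; simp
  map_mul' a b := by ext x; simp [mul_assoc]

theorem aff (p : ℕ) [hpp : Fact p.Prime] (m : ℕ) (hm : IsPrimePow m) (hm1 : m % p = 1) :
    ∃ (H : Type) (_ : Group H) (_ : Finite H), Nat.card H = p * m ∧ ¬ Cfsg.IsPClosed p H := by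
  have pp := hpp.out
  obtain ⟨q, k, hq, hk, rfl⟩ := hm
  have hq' := Nat.prime_iff.2 hq
  have := Fact.mk hq'
  let F := GaloisField q k
  have hF : Nat.card F = q ^ k := GaloisField.card q k hk.ne'
  have hu : Nat.card Fˣ = q ^ k - 1 := by rw [Nat.card_units, hF]
  have hd : p ∣ Nat.card Fˣ := by
    rw [hu]; exact (Nat.modEq_iff_dvd' (Nat.one_le_pow _ _ hq'.pos)).1 (by
      rw [Nat.ModEq, hm1, Nat.mod_eq_of_lt pp.one_lt])
  obtain ⟨z, hz⟩ := exists_prime_orderOf_dvd_card' p hd
  let H := Multiplicative F ⋊[act (zpowers z)] (zpowers z)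
  have hfin : Finite H := Finite.of_equiv _ SemidirectProduct.equivProd.symm
  have hc : Nat.card H = p * q ^ k := by
    rw [SemidirectProduct.card, Nat.card_zpowers, hz, mul_comm]
    congr 1
  refine ⟨H, inferInstance, hfin, hc, fun h => ?_⟩
  obtain ⟨P⟩ := (inferInstance : Nonempty (Sylow p H))
  have hn := h P
  let y : H := SemidirectProduct.inr ⟨z, mem_zpowers z⟩
  have hy : orderOf y = p := by
    rw [orderOf_injective _ SemidirectProduct.inr_injective, ← hz, Subgroup.orderOf_mk]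
  have hyP : y ∈ (P : Subgroup H) :=
    (syl_top pp P).mem_of_nml (nml_top_iff.2 hn).nrm (mem_top y) (by
      show PiNat {p} (orderOf y); rw [hy]; exact (piNat_prime pp).2 rfl)
  let x : H := SemidirectProduct.inl (Multiplicative.ofAdd 1)
  have h1 : x * y * x⁻¹ * y⁻¹ ∈ (P : Subgroup H) := (P : Subgroup H).mul_mem (hn.conj_mem _ hyP x) ((P : Subgroup H).inv_mem hyP)
  have h2 : x * y * x⁻¹ * y⁻¹ = SemidirectProduct.inl (Multiplicative.ofAdd (1 - (z : F))) := by
    have : y * x⁻¹ * y⁻¹ = SemidirectProduct.inl (Multiplicative.ofAdd (- (z : F))) := by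
      rw [← map_inv SemidirectProduct.inl, ← map_inv SemidirectProduct.inr, ← SemidirectProduct.inl_aut]
      congr 1
      show Multiplicative.ofAdd ((z : F) * -1) = _
      rw [mul_neg, mul_one]
    rw [mul_assoc, mul_assoc, ← mul_assoc y, this, ← map_mul, sub_eq_add_neg, ofAdd_add]
  rw [h2] at h1
  have h3 : orderOf (SemidirectProduct.inl (Multiplicative.ofAdd (1 - (z : F))) : H) ∣ q ^ k := by
    rw [orderOf_injective _ SemidirectProduct.inl_injective, ← hF]
    exact orderOf_dvd_natCard _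
  have h4 := orderOf_dvd_card' h1
  have hnd : ¬ p ∣ q ^ k := fun h => by
    rw [Nat.dvd_iff_mod_eq_zero] at h; omega
  have h5 : orderOf (SemidirectProduct.inl (Multiplicative.ofAdd (1 - (z : F))) : H) = 1 :=
    PiNat.eq_one (PiNat.of_dvd (syl_top pp P).pi h4) (PiNat.of_dvd (p'nat_of_not_dvd hnd) h3)
  rw [orderOf_eq_one_iff, ← map_one SemidirectProduct.inl, SemidirectProduct.inl_inj] at h5
  have h6 : z = 1 := by
    ext
    have : (1 : F) - z = 0 := h5
    simpa using (sub_eq_zero.1 this).symm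
  rw [h6, orderOf_one] at hz
  exact pp.one_lt.ne hz

/-- Let p be an odd prime and let m be the least prime power congruent to 1 modulo p. Then the least order of a finite group whose Sylow p-subgroups are not normal is the smaller of p · m and p(p² − 1)/2: every finite group whose Sylow p-subgroups are not normal has at least that order, and some group of exactly that order has non-normal Sylow p-subgroups. -/
theorem result (p : ℕ) [Fact p.Prime] (hp : p ≠ 2) (m : ℕ) (hm : IsPrimePow m) (hm1 : m % p = 1)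
    (hleast : ∀ k : ℕ, IsPrimePow k → k % p = 1 → m ≤ k) :
    (∀ (H : Type) [Group H] [Finite H], ¬ Cfsg.IsPClosed p H → min (p * m) (p * (p ^ 2 - 1) / 2) ≤ Nat.card H) ∧
      ∃ (H : Type) (_ : Group H) (_ : Finite H), Nat.card H = min (p * m) (p * (p ^ 2 - 1) / 2) ∧ ¬ Cfsg.IsPClosed p H := by
  have pp : p.Prime := Fact.out
  refine ⟨fun H _ _ h => ?_, ?_⟩
  · simp only [Cfsg.IsPClosed, not_forall] at h
    obtain ⟨P, hP⟩ := h
    exact lower p hp m hleast _ H rfl P (syl_top pp P) hP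
  rcases le_total (p * m) (p * (p ^ 2 - 1) / 2) with h | h
  · rw [min_eq_left h]; exact aff p m hm hm1
  by_cases h3 : p = 3
  · subst h3
    have := hleast 4 ⟨2, 2, Nat.prime_two.prime, by norm_num, by norm_num⟩ (by norm_num)
    rw [min_eq_left (by omega)]; exact aff 3 m hm hm1
  rw [min_eq_right h]
  have hp5 : 5 ≤ p := by
    have := pp.two_le
    have : p ≠ 4 := by rintro rfl; exact absurd pp (by norm_num)
    omega
  have h1 := H10.card_PSL_two (F := ZMod p)
  rw [ZMod.card] at h1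
  have hg : Nat.gcd 2 (p - 1) = 2 := Nat.gcd_eq_left (by
    have := pp.eq_two_or_odd; omega)
  obtain ⟨k, rfl⟩ : ∃ k, p = k + 1 := ⟨p - 1, by omega⟩
  have e1 : (k + 1) ^ 2 - 1 = k * (k + 2) := by
    rw [Nat.sub_eq_iff_eq_add (Nat.one_le_pow _ _ (by omega))]; ring
  rw [hg, Nat.add_sub_cancel] at h1
  have hs := H10.isSimpleGroup_PSL_fin (F := ZMod (k + 1)) (n := 2) le_rfl (fun _ => by rw [Nat.card_zmod]; omega)
  refine ⟨Matrix.ProjectiveSpecialLinearGroup (Fin 2) (ZMod (k + 1)), inferInstance, inferInstance, ?_, fun hc => ?_⟩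
  · rw [e1, ← mul_assoc, ← h1]; simp
  obtain ⟨P⟩ := (inferInstance : Nonempty (Sylow (k + 1) (Matrix.ProjectiveSpecialLinearGroup (Fin 2) (ZMod (k + 1)))))
  have hS := syl_top pp P
  rcases hs.eq_bot_or_eq_top_of_normal _ (hc P) with h0 | h0
  · rw [hS.syl_eq_bot_iff pp, card_top'] at h0
    refine h0 ((Nat.Coprime.dvd_mul_left ((Nat.coprime_primes pp Nat.prime_two).2 hp)).1 ?_)
    rw [h1, mul_assoc]; exact dvd_mul_right _ _
  · have h2 := hS.pi
    rw [h0] at h2
    obtain ⟨a, ha⟩ := PiNat.exists_pow h2 (card_ne_zero _)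
    rw [card_top'] at ha
    rw [ha] at h1
    have h4 : k + 1 + 1 ∣ 2 := by
      refine Nat.Coprime.dvd_of_dvd_mul_right (k := k + 1 + 1) (n := (k + 1) ^ a) ?_ (h1 ▸ dvd_mul_left _ _)
      exact Nat.Coprime.pow_right _ (by simp)
    have := Nat.le_of_dvd two_pos h4
    omega

end Cfsg.Agent.S3875
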