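import Cfsg.Statements.S3889
import Mathlib

set_option autoImplicit false
open Cfsg

namespace Cfsg.Agent.S3889

open Subgroup

/-- A finite abelian group that is the union of a family of proper subgroups any two of which intersect trivially is elementary abelian: its exponent is a prime. -/
theorem result {G : Type*} [CommGroup G] [Finite G] (𝓑 : Set (Subgroup G)) (hprop : ∀ B ∈ 𝓑, B ≠ ⊤)
    (hcov : ∀ g : G, ∃ B ∈ 𝓑, g ∈ B) (hdisj : ∀ B ∈ 𝓑, ∀ C ∈ 𝓑, B ≠ C → B ⊓ C = ⊥) :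
    (Monoid.exponent G).Prime := by
  have key : ∀ B ∈ 𝓑, ∀ g ∈ B, ∀ h : G, h ∉ B → g ^ orderOf h = 1 := by
    intro B hB g hg h hh
    obtain ⟨D, hD, hgh⟩ := hcov (g * h)
    have hne : B ≠ D := fun e => hh ((B.mul_mem_cancel_left hg).1 (e ▸ hgh))
    have h1 := pow_mem hgh (orderOf h)
    rw [mul_pow, pow_orderOf_eq_one, mul_one] at h1
    exact mem_bot.1 (hdisj B hB D hD hne ▸ mem_inf.2 ⟨pow_mem hg _, h1⟩)
  have hout : ∀ B ∈ 𝓑, ∃ h : G, h ∉ B := fun B hB => by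
    by_contra! h; exact hprop B hB (eq_top_iff.2 fun x _ => h x)
  obtain ⟨B₁, hB₁, -⟩ := hcov 1
  obtain ⟨y, hy⟩ := hout B₁ hB₁
  haveI : Nontrivial G := ⟨⟨y, 1, fun e => hy (e ▸ one_mem _)⟩⟩
  obtain ⟨p, hp, hd⟩ := Nat.exists_prime_and_dvd (Finite.one_lt_card (α := G)).ne'
  haveI := Fact.mk hp
  obtain ⟨x, hx⟩ := exists_prime_orderOf_dvd_card' p hd
  have hx1 : x ≠ 1 := fun e => hp.ne_one (by rw [← hx, e, orderOf_one])
  obtain ⟨B, hB, hxB⟩ := hcov x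
  have h1 : ∀ g : G, g ∉ B → g ^ p = 1 := fun g hg => by
    obtain ⟨C, hC, hgC⟩ := hcov g
    have hne : B ≠ C := fun e => hg (e ▸ hgC)
    rw [← hx]
    exact key C hC g hgC x fun h => hx1 (mem_bot.1 (hdisj B hB C hC hne ▸ mem_inf.2 ⟨hxB, h⟩))
  have h2 : ∀ g : G, g ^ p = 1 := fun g => by
    by_cases hg : g ∈ B
    · obtain ⟨h, hh⟩ := hout B hB
      exact orderOf_dvd_iff_pow_eq_one.1 ((orderOf_dvd_of_pow_eq_one (key B hB g hg h hh)).trans
        (orderOf_dvd_of_pow_eq_one (h1 h hh)))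
    · exact h1 g hg
  rwa [Nat.dvd_antisymm (Monoid.exponent_dvd_of_forall_pow_eq_one h2)
    (hx ▸ Monoid.order_dvd_exponent x)]

end Cfsg.Agent.S3889
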