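import Cfsg.Statements.S3890
import Mathlib
import Cfsg.Agent.H27.Cover

set_option autoImplicit false
open Cfsg

namespace Cfsg.Agent.S3890

open Subgroup
open scoped Pointwise

/-- A cover of a group is a finite set of proper subgroups whose union is the whole group; it is minimal when no cover has fewer members, and nilpotent when all its members are nilpotent. Let G be a finite group with trivial center admitting a nilpotent minimal cover 𝓐, and let P be an abelian Sylow p-subgroup of G that is not normal. Then either P is elementary abelian of order greater than p, or P is a Sylow p-subgroup of some member A of 𝓐, the normalizer N of P is a maximal subgroup of G, N meets each of its conjugates by elements outside N in a subgroup of order prime to p, and the centralizer of P equals A. -/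
theorem result {G : Type*} [Group G] [Finite G] (hZ : Subgroup.center G = ⊥) (𝓐 : Finset (Subgroup G))
    (h𝓐 : ((∀ A ∈ 𝓐, A ≠ ⊤) ∧ (∀ g : G, ∃ A ∈ 𝓐, g ∈ A)) ∧ (∀ 𝓑 : Finset (Subgroup G), (∀ A ∈ 𝓑, A ≠ ⊤) ∧ (∀ g : G, ∃ A ∈ 𝓑, g ∈ A) → 𝓐.card ≤ 𝓑.card) ∧ (∀ A ∈ 𝓐, Group.IsNilpotent ↥A)) {p : ℕ} [Fact p.Prime] (P : Sylow p G) (hab : IsMulCommutative ↥(P : Subgroup G))
    (hnn : ¬ (P : Subgroup G).Normal) :
    (Cfsg.IsElementaryAbelian p (P : Subgroup G) ∧ p < Nat.card ↥(P : Subgroup G)) ∨
    (∃ A ∈ 𝓐, (P : Subgroup G) ≤ A ∧ ¬ p ∣ ((P : Subgroup G).subgroupOf A).index ∧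
      IsCoatom (Subgroup.normalizer ((P : Subgroup G) : Set G)) ∧
      (∀ g : G, g ∉ Subgroup.normalizer ((P : Subgroup G) : Set G) →
        ¬ p ∣ Nat.card ↥(Subgroup.normalizer ((P : Subgroup G) : Set G) ⊓
          (Subgroup.normalizer ((P : Subgroup G) : Set G)).map (MulAut.conj g).toMonoidHom)) ∧
      Subgroup.centralizer ((P : Subgroup G) : Set G) = A) := by
  have h : H27.IsMinCover 𝓐 := ⟨h𝓐.1, h𝓐.2.1⟩
  have hn := h𝓐.2.2
  refine or_iff_not_imp_left.2 fun h2 => ?_
  have h3 : (P : Subgroup G) ≠ ⊥ := fun h => hnn (h ▸ inferInstance)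
  have h4 : normalizer ((P : Subgroup G) : Set G) ≠ ⊤ := fun h => hnn (normalizer_eq_top_iff.1 h)
  have h5 := h.sylow_structure hZ hn P hab h2 h3
  refine ⟨_, h5.1, le_centralizer (P : Subgroup G), ?_, ⟨h4, fun M hM => ?_⟩, fun g hg hd => ?_, rfl⟩
  · exact (H4.IsSylowIn.sylow_of_le P (le_centralizer (P : Subgroup G))).not_dvd
  · by_contra h5
    exact hM.not_ge (h.le_normalizer hZ hn P hab h2 h3 h5
      ((H4.centralizer_le_normalizer' (P : Subgroup G)).trans hM.le))
  · obtain ⟨⟨x, hx1, hx2⟩, hx⟩ := exists_prime_orderOf_dvd_card' p hd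
    rw [← orderOf_coe] at hx
    change orderOf x = p at hx
    have hx0 : x ≠ 1 := by
      rintro rfl
      exact (Fact.out : p.Prime).one_lt.ne (by simpa using hx)
    have h6 : ∀ Q : Sylow p G, x ∈ normalizer ((Q : Subgroup G) : Set G) → x ∈ (Q : Subgroup G) := by
      intro Q hQ
      have h7 : IsPGroup p (zpowers x) :=
        IsPGroup.of_card (n := 1) (by rw [Nat.card_zpowers, hx, pow_one])
      have h8 := h7.to_sup_of_normal_right' Q.isPGroup' (zpowers_le.2 hQ)
      rw [← Q.is_maximal' h8 le_sup_right]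
      exact mem_sup_left (mem_zpowers x)
    have h7 : x ∈ ((g • P : Sylow p G) : Subgroup G) := by
      apply h6
      change x ∈ normalizer ((MulAut.conj g • (P : Subgroup G) : Subgroup G) : Set G)
      rw [H4.normalizer_conj_smul]
      exact hx2
    have h8 := (h.sylow_structure hZ hn (g • P) (H27.sylow_comm_of_sylow_comm hab _)
      (H27.NotBigElem.sylow h2 _) (fun h => hx0 (by rwa [h] at h7))).2 x h7 hx0
    rw [h5.2 x (h6 P hx1) hx0] at h8
    exact hg (Sylow.smul_eq_iff_mem_normalizer.1 (H27.sylow_eq_of_centralizer_eq hab h8).symm)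

end Cfsg.Agent.S3890
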