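import Cfsg.Statements.S3891
import Mathlib
import Cfsg.Agent.H27.Cover

set_option autoImplicit false
open Cfsg

namespace Cfsg.Agent.S3891

open Subgroup

/-- A cover of a group is a finite set of proper subgroups whose union is the whole group; it is minimal when no cover has fewer members, and nilpotent when all its members are nilpotent. Let G be a finite group with trivial center admitting a nilpotent minimal cover, and let P be a non-normal Sylow p-subgroup of G that is cyclic, or abelian but not elementary abelian. Then the centralizer of P is nilpotent and the normalizer of P is the unique maximal subgroup of G containing the centralizer of P. -/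
theorem result {G : Type*} [Group G] [Finite G] (hZ : Subgroup.center G = ⊥) (𝓐 : Finset (Subgroup G))
    (h𝓐 : ((∀ A ∈ 𝓐, A ≠ ⊤) ∧ (∀ g : G, ∃ A ∈ 𝓐, g ∈ A)) ∧ (∀ 𝓑 : Finset (Subgroup G), (∀ A ∈ 𝓑, A ≠ ⊤) ∧ (∀ g : G, ∃ A ∈ 𝓑, g ∈ A) → 𝓐.card ≤ 𝓑.card) ∧ (∀ A ∈ 𝓐, Group.IsNilpotent ↥A)) {p : ℕ} [Fact p.Prime] (P : Sylow p G)
    (hP : IsCyclic ↥(P : Subgroup G) ∨ (IsMulCommutative ↥(P : Subgroup G) ∧ ¬ Cfsg.IsElementaryAbelian p (P : Subgroup G)))
    (hnn : ¬ (P : Subgroup G).Normal) :
    Group.IsNilpotent ↥(Subgroup.centralizer ((P : Subgroup G) : Set G)) ∧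
      IsCoatom (Subgroup.normalizer ((P : Subgroup G) : Set G)) ∧
      ∀ M : Subgroup G, IsCoatom M → Subgroup.centralizer ((P : Subgroup G) : Set G) ≤ M →
        M = Subgroup.normalizer ((P : Subgroup G) : Set G) := by
  have h : H27.IsMinCover 𝓐 := ⟨h𝓐.1, h𝓐.2.1⟩
  have hn := h𝓐.2.2
  have h1 : IsMulCommutative (P : Subgroup G) := by
    rcases hP with hP | hP
    · infer_instance
    · exact hP.1
  have h2 : H27.NotBigElem p (P : Subgroup G) := by
    rintro ⟨h3, h4⟩
    rcases hP with hP | hP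
    · obtain ⟨x, hx⟩ := IsCyclic.exists_ofOrder_eq_natCard (α := (P : Subgroup G))
      have : orderOf x ∣ p := orderOf_dvd_of_pow_eq_one (Subtype.ext (h3.2 x x.2))
      exact absurd (Nat.le_of_dvd (Fact.out : p.Prime).pos this) (not_le.2 (hx ▸ h4))
    · exact hP.2 h3
  have h3 : (P : Subgroup G) ≠ ⊥ := fun h => hnn (h ▸ inferInstance)
  have h4 : normalizer ((P : Subgroup G) : Set G) ≠ ⊤ := fun h => hnn (normalizer_eq_top_iff.1 h)
  refine ⟨hn _ (h.sylow_structure hZ hn P h1 h2 h3).1, ⟨h4, fun M hM => ?_⟩, fun M hM hCM => ?_⟩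
  · by_contra h5
    exact hM.not_ge (h.le_normalizer hZ hn P h1 h2 h3 h5
      ((H4.centralizer_le_normalizer' (P : Subgroup G)).trans hM.le))
  · exact (hM.le_iff_eq h4).1 (h.le_normalizer hZ hn P h1 h2 h3 hM.1 hCM) |>.symm

end Cfsg.Agent.S3891
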