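import Cfsg.Statements.S3892
import Mathlib
import Cfsg.Agent.H27.Cover

set_option autoImplicit false
open Cfsg

namespace Cfsg.Agent.S3892

open Subgroup Equiv Equiv.Perm

theorem comm_pow {G : Type*} [Group G] [Finite G] {A : Subgroup G} (hA : Group.IsNilpotent A)
    {x y : G} (hx : x ∈ A) (hy : y ∈ A) {m n : ℕ} (hm : x ^ m = 1) (hn : y ^ n = 1)
    (h : m.Coprime n) : x * y = y * x :=
  H27.commute_of_coprime_of_isNilpotent hA hx hy
    ((h.coprime_dvd_left (orderOf_dvd_of_pow_eq_one hm)).coprime_dvd_right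
      (orderOf_dvd_of_pow_eq_one hn))

theorem small {G : Type*} [Group G] [Finite G] {𝓐 : Finset (Subgroup G)} (h : H27.IsMinCover 𝓐)
    (hn : ∀ A ∈ 𝓐, Group.IsNilpotent A) (M : Subgroup G) (hM : M ≠ ⊤) (x y : G) (m n : ℕ)
    (hmn : m.Coprime n) (hx : x ^ n = 1) (hy : y ^ n = 1) (hxy : (y * x) ^ m = 1)
    (hxy' : y * x ≠ x * y)
    (H : ∀ z, z = x ∨ z = y → ∀ a, a ∈ M ∨ (a * z ≠ z * a ∧
      (a ^ m = 1 ∨ (a * z) ^ m = 1 ∨ (a * z * z) ^ m = 1))) : False := by
  have key : ∀ z, z ^ n = 1 → ∀ A ∈ 𝓐, z ∈ A → ∀ a ∈ A,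
      (a ^ m = 1 ∨ (a * z) ^ m = 1 ∨ (a * z * z) ^ m = 1) → a * z = z * a := by
    intro z hz A hA hzA a ha h1
    rcases h1 with h1 | h1 | h1
    · exact comm_pow (hn A hA) ha hzA h1 hz hmn
    · have := comm_pow (hn A hA) (mul_mem ha hzA) hzA h1 hz hmn
      rw [← mul_assoc] at this
      exact mul_right_cancel this
    · have := comm_pow (hn A hA) (mul_mem (mul_mem ha hzA) hzA) hzA h1 hz hmn
      rw [← mul_assoc, ← mul_assoc] at this
      exact mul_right_cancel (mul_right_cancel this)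
  obtain ⟨A, hA, hxA⟩ := h.1.2 x
  obtain ⟨B, hB, hyB⟩ := h.1.2 y
  have h1 : A ≤ M := fun a ha => (H x (Or.inl rfl) a).resolve_right
    fun h => h.1 (key x hx A hA hxA a ha h.2)
  have h2 : B ≤ M := fun a ha => (H y (Or.inr rfl) a).resolve_right
    fun h => h.1 (key y hy B hB hyB a ha h.2)
  rw [← h.eq_of_le hA hB hM h1 h2] at hyB
  exact hxy' (key x hx A hA hxA y hyB (Or.inr (Or.inl hxy)))

theorem big {G : Type*} [Group G] [Finite G] {n : ℕ} (hn6 : 6 ≤ n) (f : G →* Perm (Fin n))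
    (hf : alternatingGroup (Fin n) ≤ f.range)
    {𝓐 : Finset (Subgroup G)} (h : H27.IsMinCover 𝓐) (hn : ∀ A ∈ 𝓐, Group.IsNilpotent A) :
    False := by
  classical
  let ω : Fin n := ⟨0, by omega⟩
  let α := {i : Fin n // i ≠ ω}
  have hα : Fintype.card α = n - 1 := by simp [α]
  haveI : NeZero (n - 1) := ⟨by omega⟩
  let e : α ≃ ZMod (n - 1) := Fintype.equivOfCardEq (by rw [hα, ZMod.card])
  let c : Perm α := e.symm.permCongr (Equiv.addRight 1)
  have hc : ∀ a, (c * c) a ≠ a := by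
    intro a ha
    have h1 : e a + 1 + 1 = e a := by
      have := congrArg e ha
      simpa [c] using this
    have h2 : ((2 : ℕ) : ZMod (n - 1)) = 0 := by
      rw [add_assoc, add_eq_left] at h1
      rw [← h1]; push_cast; ring
    have := Nat.le_of_dvd (by norm_num) ((ZMod.natCast_eq_zero_iff _ _).1 h2)
    omega
  let M := (MulAction.stabilizer (Perm (Fin n)) ω).comap f
  have hM : M ≠ ⊤ := by
    intro hM
    let a : Fin n := ⟨1, by omega⟩
    let b : Fin n := ⟨2, by omega⟩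
    have h1 : swap ω a * swap a b ∈ alternatingGroup (Fin n) := by
      rw [mem_alternatingGroup, map_mul, sign_swap, sign_swap]
      · simp
      · simp [a, b]
      · simp [a, ω]
    obtain ⟨g, hg⟩ := hf h1
    have h2 : g ∈ M := hM ▸ mem_top g
    rw [mem_comap, hg, MulAction.mem_stabilizer_iff, Perm.smul_def, mul_apply,
      swap_apply_of_ne_of_ne (a := a) (b := b) (x := ω) (by simp [a, ω]) (by simp [b, ω]),
      swap_apply_left] at h2
    simp [a, ω] at h2
  have key : ∀ σ : Perm α, sign σ = 1 → (∀ a, σ a ≠ a) →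
      ∃ A ∈ 𝓐, A ≤ M ∧ ofSubtype σ ∈ A.map f := by
    intro σ h1 h2
    obtain ⟨x, hx⟩ := hf (x := ofSubtype σ) (by rw [mem_alternatingGroup, sign_ofSubtype, h1])
    obtain ⟨A, hA, hxA⟩ := h.1.2 x
    refine ⟨A, hA, H27.le_of_isNilpotent_of_conj_mem (hn A hA) hxA ?_ ?_, x, hxA, hx⟩
    · rw [mem_comap, hx, MulAction.mem_stabilizer_iff, Perm.smul_def]
      exact ofSubtype_apply_of_not_mem σ (by simp)
    · intro g _ hg
      rw [mem_comap, MulAction.mem_stabilizer_iff, Perm.smul_def] at hg ⊢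
      rw [map_mul, map_mul, map_inv, hx, mul_apply, mul_apply, ← Perm.eq_inv_iff_eq] at hg
      by_contra h3
      have h4 : (f g)⁻¹ ω ≠ ω := fun h => h3 (Perm.inv_eq_iff_eq.1 h).symm
      rw [ofSubtype_apply_of_mem σ h4] at hg
      exact h2 ⟨_, h4⟩ (Subtype.ext hg)
  obtain ⟨A, hA, hAM, hcA⟩ := key (c * c) (by simp) hc
  have h1 : normalClosure {c * c} ≤ (A.map f).comap ofSubtype := by
    rw [normalClosure, closure_le]
    intro σ hσ
    obtain ⟨_, rfl, hσ⟩ := Group.mem_conjugatesOfSet_iff.1 hσ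
    obtain ⟨τ, rfl⟩ := isConj_iff.1 hσ
    obtain ⟨B, hB, hBM, hcB⟩ := key (τ * (c * c) * τ⁻¹) (by simp) (by
      intro a ha
      rw [mul_apply, mul_apply, ← Perm.eq_inv_iff_eq] at ha
      exact hc _ ha)
    rw [h.eq_of_le hA hB hM hAM hBM]
    exact hcB
  have h2 : alternatingGroup α ≤ normalClosure {c * c} := by
    haveI : Nontrivial (normalClosure {c * c}) := by
      rw [nontrivial_iff_ne_bot]
      intro h2
      have : c * c ∈ normalClosure {c * c} := subset_normalClosure rfl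
      rw [h2, mem_bot] at this
      exact hc (e.symm 0) (by rw [this]; rfl)
    exact alternatingGroup_le_of_normal (by rw [Nat.card_eq_fintype_card, hα]; omega) this
  haveI := hn A hA
  haveI := H2.isNilpotent_map f A
  haveI : Group.IsNilpotent ((A.map f).comap (ofSubtype : Perm α →* Perm (Fin n))) :=
    H2.isNilpotent_comap_of_ker_le_center _ (by
      rw [(MonoidHom.ker_eq_bot_iff _).2 ofSubtype_injective]; exact bot_le) _
  haveI := H2.isNilpotent_of_le (h2.trans h1)
  have h3 : Group.IsSolvable (Perm α) :=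
    Group.isSolvable_of_ker_le_range (alternatingGroup α).subtype sign (by
      rw [range_subtype]; exact le_rfl)
  refine Equiv.Perm.not_isSolvable α ?_ h3
  rw [Cardinal.mk_fintype, hα]
  exact_mod_cast (by omega : 5 ≤ n - 1)

/-- A cover of a group is a finite set of proper subgroups whose union is the whole group; it is minimal when no cover has fewer members, and nilpotent when all its members are nilpotent. The alternating groups of degree at least 5 and the symmetric groups of degree at least 4 have no nilpotent minimal cover. -/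
theorem result (n : ℕ) :
    (5 ≤ n → ¬ ∃ 𝓐 : Finset (Subgroup ↥(alternatingGroup (Fin n))), ((∀ A ∈ 𝓐, A ≠ ⊤) ∧ (∀ g : ↥(alternatingGroup (Fin n)), ∃ A ∈ 𝓐, g ∈ A)) ∧ (∀ 𝓑 : Finset (Subgroup ↥(alternatingGroup (Fin n))), (∀ A ∈ 𝓑, A ≠ ⊤) ∧ (∀ g : ↥(alternatingGroup (Fin n)), ∃ A ∈ 𝓑, g ∈ A) → 𝓐.card ≤ 𝓑.card) ∧ (∀ A ∈ 𝓐, Group.IsNilpotent ↥A)) ∧
    (4 ≤ n → ¬ ∃ 𝓐 : Finset (Subgroup (Equiv.Perm (Fin n))), ((∀ A ∈ 𝓐, A ≠ ⊤) ∧ (∀ g : (Equiv.Perm (Fin n)), ∃ A ∈ 𝓐, g ∈ A)) ∧ (∀ 𝓑 : Finset (Subgroup (Equiv.Perm (Fin n))), (∀ A ∈ 𝓑, A ≠ ⊤) ∧ (∀ g : (Equiv.Perm (Fin n)), ∃ A ∈ 𝓑, g ∈ A) → 𝓐.card ≤ 𝓑.card) ∧ (∀ A ∈ 𝓐, Group.IsNilpotent ↥A)) := by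
  constructor
  · rintro h5 ⟨𝓐, h1, h2, h3⟩
    rcases h5.eq_or_lt with rfl | h6
    · refine small ⟨h1, h2⟩ h3 (MulAction.stabilizer _ (4 : Fin 5)) ?_
        ⟨swap 0 1 * swap 1 2, by rw [mem_alternatingGroup]; decide⟩ ⟨swap 0 1 * swap 1 3, by rw [mem_alternatingGroup]; decide⟩ 10 3 (by norm_num)
        (by decide +kernel) (by decide +kernel) (by decide +kernel) (by decide +kernel) ?_
      · intro h
        have : (⟨swap 0 1 * swap 1 4, by rw [mem_alternatingGroup]; decide⟩ : alternatingGroup (Fin 5)) ∈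
          MulAction.stabilizer _ (4 : Fin 5) := h ▸ mem_top _
        revert this
        rw [MulAction.mem_stabilizer_iff]
        decide
      · simp only [MulAction.mem_stabilizer_iff]
        rintro z (rfl | rfl) <;> decide +kernel
    · exact big h6 (alternatingGroup (Fin n)).subtype (by simp) ⟨h1, h2⟩ h3
  · rintro h4 ⟨𝓐, h1, h2, h3⟩
    rcases h4.eq_or_lt with rfl | h5
    · refine small ⟨h1, h2⟩ h3 (alternatingGroup _) ?_
        (swap 0 1 * swap 1 2) (swap 0 1 * swap 1 3) 4 3 (by norm_num)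
        (by decide +kernel) (by decide +kernel) (by decide +kernel) (by decide +kernel) ?_
      · intro h
        have : swap (0 : Fin 4) 1 ∈ alternatingGroup (Fin 4) := h ▸ mem_top _
        revert this
        rw [mem_alternatingGroup]
        decide
      · simp only [mem_alternatingGroup]
        rintro z (rfl | rfl) <;> decide +kernel
    rcases (Nat.succ_le_of_lt h5).eq_or_lt with rfl | h6
    · refine small ⟨h1, h2⟩ h3 (alternatingGroup _) ?_
        (swap 0 1 * swap 1 2 * swap 2 3 * swap 3 4) (swap 0 2 * swap 2 1 * swap 1 3 * swap 3 4) 12 5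
        (by norm_num) (by decide +kernel) (by decide +kernel) (by decide +kernel) (by decide +kernel) ?_
      · intro h
        have : swap (0 : Fin 5) 1 ∈ alternatingGroup (Fin 5) := h ▸ mem_top _
        revert this
        rw [mem_alternatingGroup]
        decide
      · simp only [mem_alternatingGroup]
        rintro z (rfl | rfl) <;> decide +kernel
    · exact big h6 (MonoidHom.id _) (fun x _ => ⟨x, rfl⟩) ⟨h1, h2⟩ h3

end Cfsg.Agent.S3892
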