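import Cfsg.Statements.S3903
import Mathlib
import Cfsg.Agent.H27.Epo
import Cfsg.Agent.S4039
import Cfsg.Agent.S4040

set_option autoImplicit false
open Cfsg

namespace Cfsg.Agent.S3903

open Subgroup Cfsg.Agent.FT Cfsg.Agent.H27

/-- Let N be a proper normal subgroup of the finite group G such that every element x of G outside N has prime power order and has centralizer C_G(x) a maximal subgroup of G. Then N is solvable. -/
theorem result {G : Type*} [Group G] [Finite G] (N : Subgroup G) [N.Normal] (hN : N ≠ ⊤)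
    (h : ∀ x : G, x ∉ N → IsPrimePow (orderOf x) ∧ IsCoatom (Subgroup.centralizer ({x} : Set G))) : Group.IsSolvable ↥N := by
  by_contra hns
  have hG : ¬ Group.IsSolvable G := fun _ => hns inferInstance
  have key : ∀ x : G, x ∉ N → PGrp 2 C[x] := by
    intro x hx
    obtain ⟨p, k, hp, hk, e⟩ := (h x hx).1
    have pp := Nat.prime_iff.2 hp
    have h1 : PGrp p C[x] := by
      intro q hq hd
      by_contra hne
      obtain ⟨y, hy, rfl⟩ := exists_elt_of_prime_dvd hq hd
      have := epo_eq_one (fun x hx => (h x hx).1) hx (mem_cen1.1 hy).symm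
        (e ▸ ((Nat.coprime_primes pp hq).2 (Ne.symm hne)).pow_left k)
      rw [this, orderOf_one] at hq
      exact Nat.not_prime_one hq
    by_cases h2 : p = 2
    · exact h2 ▸ h1
    exact absurd (S4040.result _ (h x hx).2 h1.nil (two'_nat_iff.1 (h1.p' h2))) hG
  have hS : ∀ x : G, x ∉ N → Syl 2 C[x] ⊤ := fun x hx =>
    syl_of_max (key x hx) le_top fun Q hQ h1 _ => by
      rcases h1.eq_or_lt with h2 | h2
      · exact h2.symm
      · rw [(h x hx).2.2 Q h2] at hQ
        exact absurd (sol_top.1 hQ.sol) hG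
  obtain ⟨x, -, hx⟩ := SetLike.not_le_iff_exists.1 (fun e => hN (top_le_iff.1 e))
  set P := C[x] with hP
  let f : (G ⧸ P) × {z : G | z ∈ Z(P) ∧ z ∉ N} → {z : G | z ∉ N} := fun a =>
    ⟨a.1.out * a.2 * a.1.out⁻¹, fun e => a.2.2.2 (by simpa [mul_assoc] using ‹N.Normal›.conj_mem _ e a.1.out⁻¹)⟩
  have hf : Function.Surjective f := by
    rintro ⟨y, hy⟩
    obtain ⟨g, -, hg⟩ := (hS x hx).syl_trans (hS y hy)
    obtain ⟨u, hu⟩ := QuotientGroup.mk_out_eq_mul P g
    have h1 : C[g⁻¹ * y * g] = P := by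
      have := cj_cen1 g⁻¹ y
      rw [hg, cj_inv_cj, inv_inv] at this
      exact this.symm
    have h2 : g⁻¹ * y * g ∈ Z(P) := ⟨h1 ▸ self_mem_cen1 _, le_cen1.1 h1.ge⟩
    refine ⟨(g, ⟨g⁻¹ * y * g, h2, fun e => hy (by simpa [mul_assoc] using ‹N.Normal›.conj_mem _ e g)⟩), Subtype.ext ?_⟩
    show (QuotientGroup.mk g : G ⧸ P).out * (g⁻¹ * y * g) * (QuotientGroup.mk g : G ⧸ P).out⁻¹ = y
    rw [hu]
    have := mem_cen.1 h2.2 u u.2
    calc g * u * (g⁻¹ * y * g) * (g * u)⁻¹ = g * (u * (g⁻¹ * y * g)) * (g * u)⁻¹ := by group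
      _ = y := by rw [this]; group
  have h1 := Nat.card_le_card_of_surjective f hf
  have c1 : Nat.card {z : G | z ∉ N} + #N = Nat.card G := by
    rw [add_comm, ← Nat.card_sum]
    classical
    exact Nat.card_congr (Equiv.sumCompl (· ∈ N))
  have c2 : Nat.card {z : G | z ∈ Z(P) ∧ z ∉ N} + #(N ⊓ Z(P)) = #Z(P) := by
    have := Set.ncard_inter_add_ncard_diff_eq_ncard (Z(P) : Set G) (N : Set G)
    rw [add_comm, inf_comm]
    exact this
  rw [Nat.card_prod, ← index_eq_card] at h1
  have c3 := N.card_mul_index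
  have c4 := card_inf_mul_relIndex N Z(P)
  have c5 : N.relIndex Z(P) ≤ N.index := Nat.le_of_dvd (Nat.pos_of_ne_zero index_ne_zero_of_finite) (relIndex_dvd_index_of_normal _ _)
  have c6 := P.card_mul_index
  have c7 : 1 < N.index := one_lt_index_of_ne_top hN
  have c8 : 0 < P.index := Nat.pos_of_ne_zero index_ne_zero_of_finite
  have c9 := relIndex_pos N Z(P)
  have h2 : #P ≤ #Z(P) := by
    generalize Nat.card {z : G | z ∉ N} = a at *
    generalize Nat.card {z : G | z ∈ Z(P) ∧ z ∉ N} = b at *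
    generalize #(N ⊓ Z(P)) = z0 at *
    generalize N.relIndex Z(P) = j at *
    generalize N.index = i at *
    obtain ⟨i, rfl⟩ : ∃ k, i = k + 1 := ⟨i - 1, by omega⟩
    obtain ⟨j, rfl⟩ : ∃ k, j = k + 1 := ⟨j - 1, by omega⟩
    have a1 : a = #N * i := by nlinarith
    have a2 : b = z0 * j := by nlinarith
    have a3 : P.index * i * #P ≤ P.index * i * #Z(P) := by
      calc P.index * i * #P = a * (i + 1) := by rw [a1]; nlinarith
        _ ≤ P.index * b * (i + 1) := Nat.mul_le_mul_right _ h1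
        _ = P.index * z0 * (j * (i + 1)) := by rw [a2]; ring
        _ ≤ P.index * z0 * (i * (j + 1)) := Nat.mul_le_mul_left _ (by nlinarith)
        _ = _ := by rw [← c4]; ring
    exact Nat.le_of_mul_le_mul_left a3 (Nat.mul_pos c8 (by omega))
  have h3 : Ab P := eq_of_card_le inf_le_left h2 ▸ ab_center P
  refine hG (S4039.result P (h x hx).2 h3.nil ?_)
  let _ : CommGroup P := { (inferInstance : Group P) with mul_comm := fun a b => Subtype.ext (h3.comm a.2 b.2) }
  exact CommGroup.nilpotencyClass_le_one.trans one_le_two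

end Cfsg.Agent.S3903
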