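import Cfsg.Statements.S3940
import Cfsg.Agent.H5.HS1
import Cfsg.Agent.H13.SzTori
import Cfsg.Agent.H13.SzModels
import Cfsg.Agent.H6.Frobenius

set_option autoImplicit false
open Cfsg

namespace Cfsg.Agent.S3940

section
open Subgroup Cfsg.Agent.FT Cfsg.Agent.GW
open scoped MatrixGroups

universe u

/-- all `p'`-subgroups are nilpotent -/
def NP (p : ℕ) (G : Type*) [Group G] : Prop := ∀ H : Subgroup G, (Nat.card H).Coprime p → Group.IsNilpotent H

variable {G : Type u} [Group G] [Finite G] {p : ℕ} {Y : Type*} [Group Y]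

theorem NP.surj (h : NP p G) (hp : p.Prime) (K : Subgroup G) (π : K →* Y) (hπ : Function.Surjective π)
    (hc : (Nat.card Y).Coprime p) : Group.IsNilpotent Y := by
  obtain ⟨A, -, h1, h2⟩ := exists_min (fun A : Subgroup K => A.map π = ⊤) (A := ⊤) (map_top_of_surjective π hπ)
  obtain ⟨Q, hQ⟩ := exists_syl p (A ⊓ π.ker)
  have k : ∀ B D : Subgroup K, B ≤ π.ker → B ⊔ D = A → D.map π = ⊤ := fun B D h3 h4 => by
    rw [← h1, ← h4, Subgroup.map_sup, (Subgroup.map_eq_bot_iff B).2 h3, bot_sup_eq]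
  have h3 := h2 _ (k _ _ inf_le_right (hQ.frattini (nml_inf_of_norms (le_top.trans π.ker.normalizer_eq_top.ge))).sup)
    inf_le_left
  have h4 : Syl p Q A := ⟨hQ.le.trans inf_le_left, hQ.pi, by
    rw [← relIndex_mul_relIndex _ _ _ hQ.le inf_le_left]
    refine hQ.idx.mul ((p'nat_iff_coprime hp).2 ?_)
    rwa [inf_comm, inf_relIndex_right, relIndex_ker, h1, card_top]⟩
  obtain ⟨H, h5, h6⟩ := h4.exists_compl (h3.ge.trans inf_le_right)
  have h7 := k _ _ (hQ.le.trans inf_le_right) h6.sup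
  haveI := h (H.map K.subtype) (by rw [card_map_st]; exact (p'nat_iff_coprime hp).1 h5.pi)
  haveI := Group.nilpotent_of_mulEquiv (equivMapOfInjective H _ K.subtype_injective).symm
  exact Group.nilpotent_of_surjective (π.comp H.subtype) (by
    rwa [← MonoidHom.range_eq_top, MonoidHom.range_comp, range_subtype])

theorem NP.nil (h : NP p G) (hp : p.Prime) (i : Involves Y G) (hc : (Nat.card Y).Coprime p) : Group.IsNilpotent Y :=
  let ⟨K, π, hπ⟩ := H18.involves_iff.1 i; h.surj hp K π hπ hc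

theorem NP.inv (h : NP p G) (hp : p.Prime) (i : Involves Y G) : NP p Y := fun H hc =>
  h.nil hp (H18.Involves.trans (H18.involves_subgroup H) i) hc

theorem cop24 (hp : p.Prime) (h3 : 3 < p) {n : ℕ} (h : n ∣ 24) : n.Coprime p :=
  Nat.Coprime.coprime_dvd_left h (Nat.Coprime.symm ((Nat.Prime.coprime_iff_not_dvd hp).2 fun c => by
    have := Nat.le_of_dvd (by decide) c
    interval_cases p <;> simp_all (config := {decide := true})))

theorem NP.s3 (h : NP p G) (hp : p.Prime) (h3 : 3 < p) : ¬ Involves (Equiv.Perm (Fin 3)) G := fun i => by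
  haveI := h.nil hp i (cop24 hp h3 (by simp [Nat.card_eq_fintype_card, Fintype.card_perm]; decide))
  refine Group.IsNilpotent.center_ne_bot (Equiv.Perm (Fin 3)) (eq_bot_iff.2 fun x hx => ?_)
  have := mem_center_iff.1 hx
  revert x
  simp only [mem_bot]
  decide

def sa : SL(2, ZMod 3) := ⟨!![0, -1; 1, 0], by decide⟩
def sx : SL(2, ZMod 3) := ⟨!![1, 1; 0, 1], by decide⟩
theorem s_rel : sa ^ 4 = 1 ∧ sx ^ 3 = 1 ∧ (sa * sx * (sx * sa)⁻¹).1 1 0 ≠ 0 := by decide

theorem NP.psl (hp : p.Prime) (h3 : 3 < p) {F : Type*} [Field F] [Fintype F] (h : NP p PSL(2, F)) : False := by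
  obtain ⟨n, hn⟩ := H5c.psl_three (h.s3 hp h3)
  haveI := Fact.mk Nat.prime_three
  haveI : CharP F 3 := charP_of_card_eq_prime_pow hn
  let φ : SL(2, ZMod 3) →* PSL(2, F) := (QuotientGroup.mk' _).comp
    (Matrix.SpecialLinearGroup.map (ZMod.castHom (dvd_refl 3) F))
  have h1 : Nil φ.range := h _ (cop24 hp h3 ((card_dvd_of_surjective _ φ.rangeRestrict_surjective).trans (by
    rw [H10.card_SL_two]; simp)))
  have h2 := h1.comm_of_coprime (x := φ sa) (y := φ sx) ⟨sa, rfl⟩ ⟨sx, rfl⟩ (Nat.Coprime.coprime_dvd_left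
    (orderOf_dvd_of_pow_eq_one (n := 4) (by rw [← map_pow, s_rel.1, map_one]))
    (Nat.Coprime.coprime_dvd_right (orderOf_dvd_of_pow_eq_one (n := 3)
      (by rw [← map_pow, s_rel.2.1, map_one])) (by norm_num)))
  rw [← mul_inv_eq_one, ← map_mul, ← map_mul, ← map_inv, ← map_mul] at h2
  obtain ⟨r, -, hr⟩ := Matrix.SpecialLinearGroup.mem_center_iff.1 ((QuotientGroup.eq_one_iff _).1 h2)
  exact s_rel.2.2 ((map_eq_zero (ZMod.castHom (dvd_refl 3) F)).1 ((congrFun (congrFun hr 1) 0).symm.trans (by simp)))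

theorem NP.sz (h : NP p G) (hp : p.Prime) (hp3 : 3 < p) : ¬ Lie.IsoSuzuki G := fun c => by
  obtain ⟨F, _, ⟨S⟩⟩ := H13.exists_szData_of_isoSuzuki c
  have key : ∀ (A : Subgroup G) (e : ℕ), H13.IsCC A → Nat.card N(A) = 2 ^ (e + 1) * Nat.card A → p ≠ 2 →
      p ∣ Nat.card A := fun A e hA h1 h2 => by_contra fun h3 => by
    obtain ⟨x, hx, h4⟩ := hA.exists_ne_one
    have := card_le_of_le (hA.le_of_isNilpotent (h N(A) (h1 ▸ Nat.Coprime.mul_left
      (Nat.Coprime.pow_left _ ((Nat.coprime_primes Nat.prime_two hp).2 h2.symm))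
      ((Nat.Prime.coprime_iff_not_dvd hp).2 h3).symm)) hx (le_nrm A hx) h4)
    have h5 := card_pos A
    have h6 : 0 < 2 ^ e := by positivity
    rw [h1, pow_succ] at this
    nlinarith
  obtain ⟨g, k, hg, -, -, h1, -, h2, -⟩ := S.exists_tori
  have h4 := key _ 0 S.isCC_H (by rw [S.card_normalizer_H, S.card_H]; rfl) (by omega)
  have h5 := key _ 1 hg.isCC h1 (by omega)
  rw [S.card_H] at h4
  rw [h2] at h5
  exact hp.one_lt.ne' (Nat.eq_one_of_dvd_coprimes S.coprime_q_sq_add_one (S.torus_mul ▸ h5.mul_right _) (h4.mul_left _))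

theorem NP.simple [IsSimpleGroup G] (h : NP p G) (hp : p.Prime) (h3 : 3 < p) : Group.IsSolvable G := by
  by_contra hs
  have hna : ¬ IsMulCommutative G := fun c => hs (Group.isSolvable_of_comm c.is_comm.comm)
  refine (H5c.hs3_aux _ G rfl hna (h.s3 hp h3) fun Y _ i c => ?_).elim (h.sz hp h3) fun ⟨F, _, _, n, _, ⟨e⟩⟩ =>
    (h.inv hp (H18.involves_of_surjective e.toMonoidHom e.surjective)).psl hp h3
  have := H5c.finite_of_inv i
  have := c.simple
  obtain ⟨T, h1, h2, h4⟩ := c.syl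
  obtain ⟨a, -, ha : Invo a⟩ := h1.pi.exists_elt fun e => by rw [e, card_bot'] at h4; omega
  obtain ⟨-, L, -, hL, ⟨V, hV, h5⟩, -⟩ := c.loc a ha
  have := hL.elim GO.TB.simple GO.TL.simple
  obtain ⟨F, _, _, -, ⟨e⟩⟩ := H5c.psl_of_card_four (hL.elim GO.TB.nab GO.TL.nab) ((hall_so_top hV.le).2 hV)
    ((card_so hV.le).trans h5)
  exact (h.inv hp (H18.Involves.trans (H18.Involves.trans (H18.involves_of_surjective e.toMonoidHom e.surjective)
    (H18.involves_subgroup L)) i)).psl hp h3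

end

/-- Let p > 3 be a prime and G a finite group in which every subgroup of order prime to p is nilpotent. Then G is solvable. -/
theorem result {G : Type*} [Group G] [Finite G] (p : ℕ) (hp : p.Prime) (hp3 : 3 < p)
    (h : ∀ H : Subgroup G, (Nat.card ↥H).Coprime p → Group.IsNilpotent ↥H) : Group.IsSolvable G := by
  exact H6.isSolvable_of_simple_sections (NP p) (fun G _ _ N _ h => h.inv hp (H18.involves_subgroup N))
    (fun G _ _ N _ h => h.inv hp (H18.involves_of_surjective _ (QuotientGroup.mk'_surjective N)))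
    (fun G _ _ _ h => h.simple hp hp3) G h

end Cfsg.Agent.S3940
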