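import Cfsg.Statements.S4018
import Mathlib
import Cfsg.Agent.H1.Friend
import Cfsg.Agent.FT.PLen
import Cfsg.Agent.H3.Two
import Cfsg.Agent.H4.Transfer2

set_option autoImplicit false
open Cfsg

namespace Cfsg.Agent.S4018

open Subgroup Cfsg.Agent.FT Cfsg.Agent.H1

theorem core {G : Type*} [Group G] [Finite G] [IsSimpleGroup G] {P : Subgroup G} (hP : Syl 3 P ⊤) (hab : Ab P)
    (hN : #N(P) = 4 * #P) (hC : #C(P) = 2 * #P) (hTI : IsTISubset (C(P) : Set G))
    (heven : ∀ H : Subgroup G, H ≠ ⊤ → 2 ∣ #H → #H ∣ 4 * #P) : False := by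
  have P0 := card_pos P
  have hCN : ¬ N(P) ≤ C(P) := fun h => by have := card_le h; omega
  have nab : ¬ ∀ x y : G, x * y = y * x := fun h => hCN fun x _ => mem_cen.2 fun y _ => h y x
  have i1 : P.relIndex C(P) = 2 := by have := card_mul_relIndex hab.le_cen; nlinarith
  have i2 : C(P).relIndex N(P) = 2 := by have := card_mul_relIndex (cen_le_nrm P); nlinarith
  have odd : ∀ x ∈ P, x * x = 1 → x = 1 := fun x hx h =>
    (pElt_of_pow_eq_one Nat.prime_two (by rwa [pow_two])).eq_one_of_mem (hP.pi.p' (by norm_num)) hx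
  obtain ⟨t, ht, t2⟩ := exists_elt_of_prime_dvd (H := C(P)) Nat.prime_two (hC ▸ dvd_mul_right _ _)
  have tt : t * t = 1 := by rw [← pow_two, ← t2, pow_orderOf_eq_one]
  have t1 : t ≠ 1 := fun e => by simp [e] at t2
  have uq : ∀ u ∈ C(P), u * u = 1 → u ≠ 1 → u = t := fun u hu uu u1 => by
    have h1 := H3.mul_mem_of_relIndex_two i1 hu ht (fun h => u1 (odd u h uu)) fun h => t1 (odd t h tt)
    have h2 : u * t * t = t * (u * t) := mem_cen.1 ht _ h1
    have h3 := odd _ h1 (by rw [mul_assoc, ← h2, mul_assoc u, tt, mul_one, uu])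
    rw [eq_inv_of_mul_eq_one_left h3, inv_eq_of_mul_eq_one_left tt]
  have cjinv : ∀ g u : G, u * u = 1 → g * u * g⁻¹ * (g * u * g⁻¹) = 1 := fun g u h => by
    rw [conj_mul, h, mul_one, mul_inv_cancel]
  have nc : N(C(P)) ≤ C[t] := fun g hg => mem_cen1.2 (mul_inv_eq_iff_eq_mul.1
    (uq _ (conj_mem hg ht) (cjinv g t tt) (conj_ne_one.2 t1)))
  have ti : ∀ g : G, ∀ x ∈ C(P), x ≠ 1 → g * x * g⁻¹ ∈ C(P) → g ∈ C[t] := fun g x hx x1 h =>
    nc (by_contra fun e => x1 (hTI g e x hx h))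
  have ctop : ∀ u : G, u ≠ 1 → C[u] ≠ ⊤ := fun u u1 e => by
    rcases (inferInstance : (center G).Normal).eq_bot_or_eq_top with h | h
    · exact u1 (mem_bot.1 (h.le (mem_center_iff.2 fun g => mem_cen1.1 (e.ge trivial))))
    · exact nab fun x y => mem_center_iff.1 (h.ge trivial) x
  have cN : N(P) = C[t] := eq_of_card_le ((norms_cent le_rfl).trans nc)
    (hN ▸ Nat.le_of_dvd (by omega) (heven _ (ctop t t1) (t2 ▸ orderOf_dvd_card' (self_mem_cen1 t))))
  obtain ⟨k, hk⟩ := hP.pi.card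
  have k0 : k ≠ 0 := fun e => hCN (by rw [eq_bot_iff_card'.2 (by rw [hk, e, pow_zero] : #P = 1), cen_bot]; exact le_top)
  have cG := N(P).card_mul_index
  have hodd : Odd N(P).index := by
    by_contra h
    obtain ⟨j, hj⟩ := Nat.not_odd_iff_even.1 h
    obtain ⟨K, hK⟩ := Sylow.exists_subgroup_card_pow_prime (G := G) 2 (n := 3) ⟨#P * j, by rw [← cG, hj, hN]; ring⟩
    have := heven K (fun e => by
      have := (dvd_pow_self 3 k0).trans (hk ▸ card_dvd (e.ge.trans' (le_top : P ≤ ⊤)))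
      rw [hK] at this; norm_num at this) (by rw [hK]; norm_num)
    rw [hK, hk, show 2 ^ 3 = 4 * 2 from rfl, Nat.mul_dvd_mul_iff_left (by norm_num)] at this
    exact absurd (Nat.prime_two.dvd_of_dvd_pow this) (by norm_num)
  have cj : ∀ u : G, u * u = 1 → u ≠ 1 → ∃ g, g * u * g⁻¹ = t := fun u uu u1 => by
    by_contra h
    obtain ⟨M, hM, h2, -⟩ := H4.thompson_transfer hodd i2 (u := u) (by rwa [pow_two]) fun g hg =>
      h ⟨g, uq _ hg (cjinv g u uu) (conj_ne_one.2 u1)⟩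
    rcases hM.eq_bot_or_eq_top with rfl | rfl
    · rw [index_bot, ← cG, hN, mul_assoc] at h2; omega
    · simp at h2
  have cjc : ∀ {g u s : G}, g * u * g⁻¹ = t → (g * s * g⁻¹ ∈ C[t] ↔ u * s = s * u) := fun {g u s} h => by
    rw [mem_cen1, ← h, conj_mul, conj_mul, mul_left_inj, mul_right_inj, eq_comm]
  let V := {u : G // u * u = 1 ∧ u ≠ 1}
  have : Nonempty V := ⟨⟨t, tt, t1⟩⟩
  refine (friendship (V := V) (fun u v => u ≠ v ∧ u.1 * v.1 = v.1 * u.1) (fun _ _ h => ⟨h.1.symm, h.2.symm⟩)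
    (fun _ h => h.1 rfl) (d := Nat.card {w : V // ⟨t, tt, t1⟩ ≠ w ∧ t * w.1 = w.1 * t}) (fun s s' hne => ?_)
    fun v => ?_).elim fun v hv => ?_
  rotate_right
  · obtain ⟨g, hg⟩ := cj v.1 v.2.1 v.2.2
    rcases (normalClosure_normal (s := {v.1})).eq_bot_or_eq_top with h | h
    · exact v.2.2 (mem_bot.1 (h.le (subset_normalClosure rfl)))
    refine ctop _ v.2.2 (eq_top_iff.2 (h.ge.trans ((closure_le _).2 fun x hx => mem_cen1.2 ?_)))
    obtain ⟨_, rfl, hx⟩ := Group.mem_conjugatesOfSet_iff.1 hx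
    obtain ⟨c, rfl⟩ := isConj_iff.1 hx
    by_cases e : v = ⟨_, cjinv c _ v.2.1, conj_ne_one.2 v.2.2⟩
    · rw [show c * v.1 * c⁻¹ = v.1 from (congrArg Subtype.val e).symm]
    · exact (hv _ e).2.symm
  · obtain ⟨s, ss, s1⟩ := s
    obtain ⟨s', ss', s1'⟩ := s'
    have si : s⁻¹ = s := inv_eq_of_mul_eq_one_left ss
    have si' : s'⁻¹ = s' := inv_eq_of_mul_eq_one_left ss'
    have x1 : s * s' ≠ 1 := fun e => hne (Subtype.ext ((eq_inv_of_mul_eq_one_left e).trans si'))
    refine existsUnique_of_exists_of_unique ?_ fun u u' hu hu' => Subtype.ext ?_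
    · by_cases hc : s * s' = s' * s
      · refine ⟨⟨s * s', by rw [mul_assoc, ← mul_assoc s', ← hc, mul_assoc, ss', mul_one, ss], x1⟩,
          ⟨fun e => s1' (left_eq_mul.1 (congrArg Subtype.val e)), show s * (s * s') = s * s' * s by rw [mul_assoc, hc]⟩,
          fun e => s1 (right_eq_mul.1 (congrArg Subtype.val e)), show s' * (s * s') = s * s' * s' by rw [← mul_assoc, hc]⟩
      suffices ∃ u : G, u * u = 1 ∧ u ≠ 1 ∧ s * u = u * s ∧ s' * u = u * s' by
        obtain ⟨u, h1, h2, h3, h4⟩ := this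
        exact ⟨⟨u, h1, h2⟩, ⟨fun e => hc (by rw [show s = u from congrArg Subtype.val e, h4]), h3⟩,
          fun e => hc (by rw [show s' = u from congrArg Subtype.val e, h3]), h4⟩
      have e1 : s * (s * s') * s⁻¹ = (s * s')⁻¹ := by rw [← mul_assoc, ss, one_mul, mul_inv_rev, si']
      have e2 : s' * (s * s') * s'⁻¹ = (s * s')⁻¹ := by rw [← mul_assoc, mul_inv_cancel_right, mul_inv_rev, si', si]
      generalize s * s' = x at e1 e2 x1
      by_cases h2 : 2 ∣ orderOf x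
      · obtain ⟨u, hu, u2⟩ := exists_elt_of_prime_dvd (H := ⟪x⟫) Nat.prime_two (by rwa [card_zpowers'])
        have uu : u * u = 1 := by rw [← pow_two, ← u2, pow_orderOf_eq_one]
        obtain ⟨n, rfl⟩ := mem_zpowers_iff.1 hu
        have key : ∀ s : G, s * x * s⁻¹ = x⁻¹ → s * x ^ n = x ^ n * s := fun s h => by
          rw [← mul_inv_eq_iff_eq_mul, ← conj_zpow, h, inv_zpow, inv_eq_of_mul_eq_one_left uu]
        exact ⟨_, uu, fun e => by simp [e] at u2, key s e1, key s' e2⟩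
      have h3 : N(⟪x⟫) ≠ ⊤ := fun e => by
        rcases (nml_top_iff.1 ⟨le_top, e.ge⟩ : ⟪x⟫.Normal).eq_bot_or_eq_top with h | h
        · exact zpowers_ne_bot' x1 h
        · exact nab fun a b => (ab_zpowers x).comm (h.ge trivial) (h.ge trivial)
      have h4 := (orderOf_dvd_card' (le_nrm _ (mem_zpowers x))).trans (heven _ h3
        (orderOf_eq_prime (by rwa [pow_two]) s1 ▸ orderOf_dvd_card' (H3.mem_nrm_zpowers (e1 ▸ inv_mem (mem_zpowers x)))))
      obtain ⟨g, -, hg⟩ := hP.syl_elt (mem_top x) (hP.pi.piNat.of_dvd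
        (((Nat.coprime_two_right.2 (Nat.odd_iff.2 (Nat.two_dvd_ne_zero.1 h2))).pow_right 2).dvd_of_dvd_mul_left h4))
      have key : ∀ s : G, s * x * s⁻¹ = x⁻¹ → s * (g⁻¹ * t * g⁻¹⁻¹) = g⁻¹ * t * g⁻¹⁻¹ * s := fun s h =>
        ((cjc (g := g) (by group)).1 (ti _ _ (hab.le_cen hg) (conj_ne_one.2 x1) (by
          convert inv_mem (hab.le_cen hg) using 1
          rw [conj_inv, conj_inv, ← h]; group))).symm
      exact ⟨_, cjinv _ t tt, conj_ne_one.2 t1, key s e1, key s' e2⟩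
    · have key : ∀ (u : V) (g : G), g * u.1 * g⁻¹ = t → (⟨s, ss, s1⟩ ≠ u ∧ s * u.1 = u.1 * s) ∧
          (⟨s', ss', s1'⟩ ≠ u ∧ s' * u.1 = u.1 * s') → g * (s * s') * g⁻¹ ∈ C(P) := fun u g hg h => by
        have a : ∀ s : V, s ≠ u → g * s.1 * g⁻¹ ∉ C(P) := fun s h h' => h (Subtype.ext (by
          simpa [← hg] using uq _ h' (cjinv g _ s.2.1) (conj_ne_one.2 s.2.2)))
        rw [← conj_mul]
        exact H3.mul_mem_of_relIndex_two i2 (cN.ge ((cjc hg).2 h.1.2.symm)) (cN.ge ((cjc hg).2 h.2.2.symm))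
          (a _ h.1.1) (a _ h.2.1)
      obtain ⟨g, hg⟩ := cj u.1 u.2.1 u.2.2
      obtain ⟨g', hg'⟩ := cj u'.1 u'.2.1 u'.2.2
      have := mem_cen1.1 (ti (g' * g⁻¹) _ (key u g hg hu) (conj_ne_one.2 x1) (by
        convert key u' g' hg' hu' using 1; group))
      rw [← mul_left_inj g⁻¹, ← mul_right_inj g, ← mul_assoc, hg, eq_comm]
      calc g * (u'.1 * g⁻¹) = (g' * g⁻¹)⁻¹ * (g' * u'.1 * g'⁻¹ * (g' * g⁻¹)) := by group
        _ = t := by rw [hg', ← this, inv_mul_cancel_left]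
  · obtain ⟨g, hg⟩ := cj v.1 v.2.1 v.2.2
    refine Nat.card_congr (Equiv.subtypeEquiv ((MulAut.conj g).toEquiv.subtypeEquiv fun a => ?_) fun a => ?_)
    · change _ ↔ g * a * g⁻¹ * (g * a * g⁻¹) = 1 ∧ g * a * g⁻¹ ≠ 1
      rw [conj_mul, conj_eq_one_iff, conj_ne_one]
    · change _ ↔ _ ∧ t * (g * a.1 * g⁻¹) = g * a.1 * g⁻¹ * t
      refine and_congr (not_congr ?_) ((cjc hg).symm.trans (mem_cen1.trans eq_comm))
      refine Subtype.ext_iff.trans (Iff.trans ?_ Subtype.ext_iff.symm)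
      change _ ↔ t = g * a.1 * g⁻¹
      rw [← hg, mul_left_inj, mul_right_inj]

/-- Let G be a finite group with an abelian Sylow 3-subgroup P such that the normalizer of P has order 4·#P, the centralizer C of P has order 2·#P, C meets each of its conjugates by elements outside its normalizer trivially, and every proper subgroup of G of even order has order dividing 4·#P. Then G is not simple. -/
theorem result {G : Type*} [Group G] [Finite G]
    (P : Sylow 3 G) (hab : IsMulCommutative P)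
    (hN : Nat.card (Subgroup.normalizer ((P : Subgroup G) : Set G)) = 4 * Nat.card P)
    (hC : Nat.card (Subgroup.centralizer (P : Set G)) = 2 * Nat.card P)
    (hTI : Cfsg.IsTISubset (Subgroup.centralizer (P : Set G) : Set G))
    (heven : ∀ H : Subgroup G, H ≠ ⊤ → 2 ∣ Nat.card H → Nat.card H ∣ 4 * Nat.card P) :
    ¬ IsSimpleGroup G := by
  intro _
  exact core (syl_top Nat.prime_three P) hab hN hC hTI heven

end Cfsg.Agent.S4018
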