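import Cfsg.Statements.S4021
import Mathlib
import Cfsg.Agent.H1.EqAll

set_option autoImplicit false
open Cfsg

namespace Cfsg.Agent.S4021

open Cfsg.Agent.H1 Cfsg.Agent.HX

/-- Let G be a finite group in which any two subgroups of the same order are conjugate. Then G/O(G), O(G) the largest normal subgroup of odd order, is one of: a cyclic 2-group; the one-dimensional affine group over the field with 8 elements; the one-dimensional semi-affine group over the field with 8 or with 32 elements; PSL₂(8); the full automorphism group of PSL₂(32); the alternating group of degree 4 or 5; SL₂(3); or SL₂(5). -/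
theorem result {G : Type*} [Group G] [Finite G]
    (hC : ∀ H K : Subgroup G, Nat.card H = Nat.card K → ∃ g : G, K = H.map (MulAut.conj g).toMonoidHom) :
    (IsCyclic (G ⧸ Cfsg.oddCore G) ∧ IsPGroup 2 (G ⧸ Cfsg.oddCore G)) ∨
    Nonempty (G ⧸ Cfsg.oddCore G ≃* Cfsg.affineGroup (GaloisField 2 3)) ∨
    Nonempty (G ⧸ Cfsg.oddCore G ≃* Cfsg.semiaffineGroup (GaloisField 2 3)) ∨
    Nonempty (G ⧸ Cfsg.oddCore G ≃* Cfsg.semiaffineGroup (GaloisField 2 5)) ∨
    Nonempty (G ⧸ Cfsg.oddCore G ≃* Matrix.ProjectiveSpecialLinearGroup (Fin 2) (GaloisField 2 3)) ∨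
    Nonempty (G ⧸ Cfsg.oddCore G ≃* MulAut (Matrix.ProjectiveSpecialLinearGroup (Fin 2) (GaloisField 2 5))) ∨
    Nonempty (G ⧸ Cfsg.oddCore G ≃* alternatingGroup (Fin 4)) ∨
    Nonempty (G ⧸ Cfsg.oddCore G ≃* alternatingGroup (Fin 5)) ∨
    Nonempty (G ⧸ Cfsg.oddCore G ≃* Matrix.SpecialLinearGroup (Fin 2) (ZMod 3)) ∨
    Nonempty (G ⧸ Cfsg.oddCore G ≃* Matrix.SpecialLinearGroup (Fin 2) (ZMod 5)) := by
  have h : EqC (G ⧸ oddCore G) := EqC.map hC _ (QuotientGroup.mk'_surjective _)
  haveI := Fact.mk Nat.prime_five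
  rcases h.eqD.main H2.pPrimeCore_quotient_self with c | c | c | c | c | c | c | c | c |
    ⟨p, q, p1, p2, p3, p4, c⟩
  · exact .inl c
  · simp [c]
  · simp [c]
  · simp [c]
  · exact absurd c h.not_TJ
  · letI := Fintype.ofFinite (GaloisField 2 3)
    have := PSLq.equiv (F := GaloisField 2 3) (by
      rwa [← Nat.card_eq_fintype_card, GaloisField.card 2 3 (by norm_num)])
    simp [this]
  · simp [c]
  · simp [c]
  · simp [c]
  have hq : q % 8 = 3 ∨ q % 8 = 5 := by
    rcases p3 with rfl | rfl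
    · exact p2
    · rcases p2 with e | e <;> simp [Nat.pow_mod, e]
  rcases c with c | ⟨F, _, _, hF, ⟨e⟩⟩
  · obtain rfl := h.psl c hq p4
    simp [pslq_five c]
  · have := (h.map ((QuotientGroup.mk' _).comp e.toMonoidHom) ((QuotientGroup.mk'_surjective _).comp
      e.surjective)).psl (hF ▸ pslq_of (MulEquiv.refl _)) hq p4
    have ι := FiniteField.ringEquivOfCardEq (K := F) (K' := ZMod 5) (by rw [hF, this, ZMod.card])
    simp [Nonempty.intro (e.trans (H10.slCongr ι))]

end Cfsg.Agent.S4021
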