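import Cfsg.Statements.S4078
import Mathlib
import Cfsg.Agent.H23.Fl
import Cfsg.Agent.FT.Main
import Cfsg.Agent.GW.Defs
-- import your own Cfsg.Agent.* helpers here

set_option autoImplicit false
open Cfsg

namespace Cfsg.Agent.S4078

open Cfsg.Agent.FT Cfsg.Agent.H23.Fl Subgroup

def Cl (G : Type*) [Group G] : Prop := ∀ x y z : G, Sol (⟪x⟫ ⊔ ⟪y⟫) → Sol (⟪x⟫ ⊔ ⟪z⟫) → Sol (⟪x⟫ ⊔ ⟪y * z⟫)

theorem two_quo {G : Type*} [Group G] [Finite G] (N : Subgroup G) [N.Normal] (hN : Sol N) (a b : G) :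
    Sol (⟪QuotientGroup.mk' N a⟫ ⊔ ⟪QuotientGroup.mk' N b⟫) ↔ Sol (⟪a⟫ ⊔ ⟪b⟫) := by
  rw [← two_map]
  refine ⟨fun h => ?_, fun h => h.map _⟩
  have : Group.IsSolvable _ := h
  have : Group.IsSolvable _ := hN.mono (inf_le_right : (⟪a⟫ ⊔ ⟪b⟫) ⊓ N ≤ N)
  refine Group.isSolvable_of_ker_le_range (Subgroup.inclusion (inf_le_left : (⟪a⟫ ⊔ ⟪b⟫) ⊓ N ≤ _))
    ((QuotientGroup.mk' N).subgroupMap _) fun x hx => ⟨⟨x, x.2, ?_⟩, rfl⟩
  exact (QuotientGroup.eq_one_iff _).1 (congrArg Subtype.val (MonoidHom.mem_ker.1 hx))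

theorem gen {G : Type*} [Group G] [Finite G] [IsSimpleGroup G] (h : Cl G) {t : G} (ht : orderOf t = 2) {x : G}
    (hx : ∀ s, orderOf s = 2 → Sol (⟪x⟫ ⊔ ⟪s⟫)) (y : G) : Sol (⟪x⟫ ⊔ ⟪y⟫) := by
  have n : (closure {s : G | orderOf s = 2}).Normal := nml_top_iff.1 ⟨le_top, norms_closure fun g _ s hs =>
    (orderOf_conj g s).trans hs⟩
  have := (n.eq_bot_or_eq_top.resolve_left (ne_bot_of_mem (subset_closure ht) fun e => by simp [e] at ht)).ge (mem_top y)
  induction this using closure_induction with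
  | mem s hs => exact hx s hs
  | one => simpa using sol_zpowers x
  | mul a b _ _ ha hb => exact h x a b ha hb
  | inv a _ ha => rwa [zpowers_inv]

theorem dih {G : Type*} [Group G] [Finite G] {s t : G} (hs : orderOf s = 2) (ht : orderOf t = 2) : Sol (⟪s⟫ ⊔ ⟪t⟫) := by
  have a : s * s = 1 := by rw [← sq, ← hs, pow_orderOf_eq_one]
  have b : t * t = 1 := by rw [← sq, ← ht, pow_orderOf_eq_one]
  refine ((sol_zpowers (s * t)).sup (sol_zpowers s) (zpowers_le.2 (cj_eq_self.1 ?_))).mono (sup_le le_sup_right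
    (zpowers_le.2 ?_))
  · rw [cj_zpowers, ← zpowers_inv (g := s * t), ← mul_assoc, a, one_mul, mul_inv_rev, inv_eq_of_mul_eq_one_right b]
  · rw [show t = s⁻¹ * (s * t) by group]
    exact mul_mem (inv_mem (mem_sup_right (mem_zpowers s))) (by
      simpa using (mem_sup_left (mem_zpowers _) : s * t ∈ ⟪s * t⟫ ⊔ ⟪s⟫))

/-- For an element x of a finite group G let Sol(x) be the set of y ∈ G such that x and y generate a solvable subgroup. Then G is solvable if and only if Sol(x) is (the carrier of) a subgroup of G for every x ∈ G. -/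
theorem result {G : Type*} [Group G] [Finite G] :
    Group.IsSolvable G ↔ ∀ x : G, ∃ H : Subgroup G, (H : Set G) = {y : G | Group.IsSolvable ↥(Subgroup.closure ({x, y} : Set G))} := by
  refine ⟨fun h x => ⟨⊤, Set.ext fun y => ⟨fun _ => inferInstanceAs (Group.IsSolvable _), fun _ => trivial⟩⟩, fun h => ?_⟩
  refine H20.sol_of_min (fun G _ => Cl G) (fun _ _ _ N h x y z a b => (two_sub N _ _).2
    (h x y z ((two_sub N _ _).1 a) ((two_sub N _ _).1 b))) (fun _ _ _ N _ r hr hN h x y z => ?_) (fun G _ _ _ h n _ => ?_) G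
    fun x y z a b => ?_
  · obtain ⟨x, rfl⟩ := QuotientGroup.mk'_surjective N x
    obtain ⟨y, rfl⟩ := QuotientGroup.mk'_surjective N y
    obtain ⟨z, rfl⟩ := QuotientGroup.mk'_surjective N z
    simpa only [← map_mul, two_quo N (hN.pGrp hr).sol] using h x y z
  · have := Fact.mk Nat.prime_two
    obtain ⟨t, ht⟩ := exists_prime_orderOf_dvd_card' (G := G) 2 (by_contra fun c =>
      n (sol_top.2 (odd_order_solvable (Nat.odd_iff.2 (by omega)))))
    exact n (sol_top.2 (sol_of_two G fun a => gen h ht fun s hs => sup_comm ⟪s⟫ ⟪a⟫ ▸ gen h ht (fun _ => dih hs) a))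
  · obtain ⟨H, hH⟩ := h x
    have m : ∀ y, y ∈ H ↔ Sol (⟪x⟫ ⊔ ⟪y⟫) := fun y => two_eq x y ▸ Set.ext_iff.1 hH y
    exact (m _).1 (mul_mem ((m y).2 a) ((m z).2 b))

end Cfsg.Agent.S4078
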