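import Mathlib
import Cfsg.Agent.H28.Util
-- Template for statement S4113 (row 4113; see /opt/grader/pristine/manifest.json for weights).
-- Copy to Cfsg/Agent/S4113.lean and replace the sorry. The statement below is byte-identical to the frozen
-- statement Cfsg.CfsgFrozen.S4113 (Cfsg/Statements/S4113.lean; the theorem Cfsg.fg7_frobenius_triple_iff_frobenius_wielandt_triple);
-- the grader kernel-checks Cfsg.Agent.S4113.result against that frozen type. Keep the theorem IN THIS FILE
-- (a `result` declared elsewhere and merely imported here is not credited); helpers may live anywhere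
-- under Cfsg/Agent/.
import Cfsg.Statements.S4113
-- import your own Cfsg.Agent.* helpers here

set_option autoImplicit false
open Cfsg

namespace Cfsg.Agent.S4113

/-- Let G be a finite group, M ≤ N non-trivial proper normal subgroups, and H a subgroup with HM = G and H ∩ M = 1. Then every element of G outside N acts fixed-point-freely on M (C_G(x) ≤ N for every x ∈ M, x ≠ 1) if and only if H ∩ gHg⁻¹ ≤ H ∩ N for every g outside H, with H proper and non-trivial and H ∩ N proper in H. -/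
theorem result {G : Type*} [Group G] [Finite G] (N M : Subgroup G) [N.Normal] [M.Normal] (hMN : M ≤ N) (hM1 : M ≠ ⊥) (hN2 : N ≠ ⊤)
    (H : Subgroup G) (hHM : H ⊔ M = ⊤) (hHM' : H ⊓ M = ⊥) :
    (∀ x ∈ M, x ≠ 1 → Subgroup.centralizer ({x} : Set G) ≤ N) ↔
      (H ≠ ⊥ ∧ H ≠ ⊤ ∧ H ⊓ N < H ∧ ∀ g : G, g ∉ H → H ⊓ H.map (MulAut.conj g).toMonoidHom ≤ N) := by
  open Subgroup Cfsg.Agent.FT Cfsg.Agent.H28 in
  open scoped commutatorElement Pointwise in
  have hdec : ∀ g : G, ∃ m ∈ M, ∃ h ∈ H, g = m * h := fun g =>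
    (mem_sup_norm (le_nrm_of_normal M H)).1 (by rw [sup_comm, hHM]; exact mem_top g)
  have hMn : ∀ g : G, ∀ m ∈ M, g * m * g⁻¹ ∈ M := fun g m hm => Normal.conj_mem ‹_› m hm g
  constructor
  · intro h
    refine ⟨?_, ?_, ?_, fun g hg => ?_⟩
    · rintro rfl
      exact hN2 (top_le_iff.1 (by rw [← hHM, bot_sup_eq]; exact hMN))
    · rintro rfl
      exact hM1 (by rwa [top_inf_eq] at hHM')
    · refine lt_of_le_of_ne inf_le_left fun e => hN2 (top_le_iff.1 ?_)
      rw [← hHM]
      exact sup_le (inf_eq_left.1 e) hMN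
    · obtain ⟨m, hm, k, hk, rfl⟩ := hdec g
      rintro x ⟨hx, y, hy, e⟩
      have e' : x = m * (k * y * k⁻¹) * m⁻¹ := by
        rw [← e]; simp [mul_assoc]
      have hz : k * y * k⁻¹ ∈ H := H.mul_mem (H.mul_mem hk hy) (H.inv_mem hk)
      generalize k * y * k⁻¹ = z at e' hz
      have h1 : x * z⁻¹ = 1 := by
        refine eq_one_of_mem_inf hHM' (H.mul_mem hx (H.inv_mem hz)) ?_
        have : x * z⁻¹ = m * (z * m⁻¹ * z⁻¹) := by rw [e']; group
        rw [this]
        exact M.mul_mem hm (hMn _ _ (M.inv_mem hm))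
      have h2 : x = z := mul_inv_eq_one.1 h1
      refine h m hm (fun e => hg (by rw [e, one_mul]; exact hk)) (mem_cen1.2 ?_)
      rw [← h2] at e'
      nth_rewrite 1 [e']
      group
  · rintro ⟨-, -, -, h⟩ x hx hx1 c hc
    obtain ⟨m, hm, k, hk, rfl⟩ := hdec c
    refine N.mul_mem (hMN hm) ?_
    by_contra hkN
    have h1 : ∀ y ∈ M, y * k = k * y → y = 1 := by
      intro y hy e
      by_contra hy1
      refine hkN (h y (fun hyH => hy1 (eq_one_of_mem_inf hHM' hyH hy)) ⟨hk, k, hk, ?_⟩)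
      simp [e]
    let φ : M → M := fun y => ⟨y * (k * (y : G)⁻¹ * k⁻¹), M.mul_mem y.2 (hMn _ _ (M.inv_mem y.2))⟩
    have hφ : Function.Injective φ := by
      intro y z e
      have e' : (y : G) * (k * (y : G)⁻¹ * k⁻¹) = z * (k * (z : G)⁻¹ * k⁻¹) := congrArg Subtype.val e
      have := h1 ((z : G)⁻¹ * y) (M.mul_mem (M.inv_mem z.2) y.2) (by
        have e2 : (z : G)⁻¹ * y * k = (z : G)⁻¹ * ((y : G) * (k * (y : G)⁻¹ * k⁻¹)) * k * y := by group
        rw [e2, e']; group)
      exact Subtype.ext (inv_mul_eq_one.1 this).symm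
    obtain ⟨y, hy⟩ := Finite.surjective_of_injective hφ ⟨m, hm⟩
    have e : (y : G) * (k * (y : G)⁻¹ * k⁻¹) = m := congrArg Subtype.val hy
    have h2 := h1 ((y : G)⁻¹ * x * y) (M.mul_mem (M.mul_mem (M.inv_mem y.2) hx) y.2) (by
      have e2 := mem_cen1.1 hc
      rw [← e] at e2
      have e3 : (y : G)⁻¹ * x * y * k = (y : G)⁻¹ * (x * ((y : G) * (k * (y : G)⁻¹ * k⁻¹) * k)) * y := by
        group
      rw [e3, ← e2]; group)
    apply hx1
    have e4 : x = y * ((y : G)⁻¹ * x * y) * (y : G)⁻¹ := by group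
    rw [e4, h2]; group

end Cfsg.Agent.S4113
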