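import Cfsg.Statements.S4192
import Mathlib
import Cfsg.Agent.H20.RG5

set_option autoImplicit false
open Cfsg

namespace Cfsg.Agent.S4192

open Cfsg.Agent.FT Cfsg.Agent.H20.RG

/-- Let G be a finite group; call an element real when it is conjugate to its inverse, and say that the real-class-size graph of a group is disconnected when the primes dividing its real class sizes split into two non-empty disjoint parts with no real class size divisible by a prime from each part. If the real-class-size graph of G is disconnected, then some real class size of G is even, and either the Sylow 2-subgroups of G are normal, or the subgroup K generated by the 2-elements of G (the smallest normal subgroup of odd index) again has a disconnected real-class-size graph and every real class size of K is odd or a power of 2. -/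
theorem result {G : Type*} [Group G] [Finite G] (h : (∃ π₁ π₂ : Set ℕ, π₁.Nonempty ∧ π₂.Nonempty ∧ Disjoint π₁ π₂ ∧ (∀ q ∈ π₁ ∪ π₂, q.Prime ∧ ∃ n ∈ {n : ℕ | ∃ x : G, IsConj x x⁻¹ ∧ (Subgroup.centralizer ({x} : Set G)).index = n}, q ∣ n) ∧ (∀ q : ℕ, q.Prime → (∃ n ∈ {n : ℕ | ∃ x : G, IsConj x x⁻¹ ∧ (Subgroup.centralizer ({x} : Set G)).index = n}, q ∣ n) → q ∈ π₁ ∨ q ∈ π₂) ∧ ∀ a ∈ π₁, ∀ b ∈ π₂, ∀ n ∈ {n : ℕ | ∃ x : G, IsConj x x⁻¹ ∧ (Subgroup.centralizer ({x} : Set G)).index = n}, ¬ (a ∣ n ∧ b ∣ n))) : (∃ n ∈ {n : ℕ | ∃ x : G, IsConj x x⁻¹ ∧ (Subgroup.centralizer ({x} : Set G)).index = n}, 2 ∣ n) ∧ ((∀ P : Sylow 2 G, (P : Subgroup G).Normal) ∨ ((∃ π₁ π₂ : Set ℕ, π₁.Nonempty ∧ π₂.Nonempty ∧ Disjoint π₁ π₂ ∧ (∀ q ∈ π₁ ∪ π₂, q.Prime ∧ ∃ n ∈ {n : ℕ | ∃ x : ↥(Subgroup.closure {g : G | ∃ k : ℕ, orderOf g = 2 ^ k}), IsConj x x⁻¹ ∧ (Subgroup.centralizer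 ({x} : Set ↥(Subgroup.closure {g : G | ∃ k : ℕ, orderOf g = 2 ^ k}))).index = n}, q ∣ n) ∧ (∀ q : ℕ, q.Prime → (∃ n ∈ {n : ℕ | ∃ x : ↥(Subgroup.closure {g : G | ∃ k : ℕ, orderOf g = 2 ^ k}), IsConj x x⁻¹ ∧ (Subgroup.centralizer ({x} : Set ↥(Subgroup.closure {g : G | ∃ k : ℕ, orderOf g = 2 ^ k}))).index = n}, q ∣ n) → q ∈ π₁ ∨ q ∈ π₂) ∧ ∀ a ∈ π₁, ∀ b ∈ π₂, ∀ n ∈ {n : ℕ | ∃ x : ↥(Subgroup.closure {g : G | ∃ k : ℕ, orderOf g = 2 ^ k}), IsConj x x⁻¹ ∧ (Subgroup.centralizer ({x} : Set ↥(Subgroup.closure {g : G | ∃ k : ℕ, orderOf g = 2 ^ k}))).index = n}, ¬ (a ∣ n ∧ b ∣ n)) ∧ ∀ n ∈ {n : ℕ | ∃ x : ↥(Subgroup.closure {g : G | ∃ k : ℕ, orderOf g = 2 ^ k}), IsConj x x⁻¹ ∧ (Subgroup.centralizer ({x} : Set ↥(Subgroup.closure {g : G | ∃ k : ℕ, orderOf g = 2 ^ k}))).index = n}, Odd n ∨ ∃ j : ℕ, n = 2 ^ j)) := by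
  obtain ⟨π, ρ, h1, h2, h3, h4, h5, h6⟩ := h
  have d : Dis G π ρ := ⟨h1, h2, h4, h5, h3, h6⟩
  refine ⟨d.even, or_iff_not_imp_left.2 fun n => ?_⟩
  obtain ⟨P, hP⟩ := not_forall.1 n
  obtain ⟨x, g, o, i⟩ : ∃ x g : G, Op x ∧ g * x * g⁻¹ = x⁻¹ := by_contra fun c =>
    hP (nml_top_iff.1 ⟨le_top, closed (syl_top Nat.prime_two P) fun x _ g _ o i => c ⟨x, g, o, i⟩⟩)
  obtain ⟨σ, hg, t, ht⟩ := d.ex
  obtain ⟨e, ⟨q, hq⟩, k⟩ := hg.main ht o i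
  refine ⟨⟨{2}, {q | q.Prime ∧ q ≠ 2 ∧ ∃ n ∈ RS (K2 G), q ∣ n}, ⟨2, rfl⟩, ⟨q, hq⟩,
    Set.disjoint_left.2 fun a ha hb => hb.2.1 ha, ?_, fun q pq hq => (em (q = 2)).imp id fun c => ⟨pq, c, hq⟩, ?_⟩, k⟩
  · rintro q (rfl | hq)
    · exact ⟨Nat.prime_two, e⟩
    · exact ⟨hq.1, hq.2.2⟩
  · rintro _ rfl b hb n hn ⟨c1, c2⟩
    rcases k n hn with o | ⟨j, rfl⟩
    · exact o.not_two_dvd_nat c1
    · exact hb.2.1 ((Nat.prime_dvd_prime_iff_eq hb.1 Nat.prime_two).1 (hb.1.dvd_of_dvd_pow c2))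

end Cfsg.Agent.S4192
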