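import Cfsg.Statements.S4193
import Mathlib
import Cfsg.Agent.S3862
import Cfsg.Agent.H27.Real2
import Cfsg.Agent.GW.Base

set_option autoImplicit false
open Cfsg

namespace Cfsg.Agent.S4193

open Subgroup Cfsg.Agent.FT

theorem sq_of_real {G : Type*} [Group G] [Finite G] {S : Subgroup G} (hS : Syl 2 S ⊤)
    (h : ∀ s : S, IsConj s s⁻¹ → s ∈ center S) {x : G} (hx : PiElt {2} x) (hr : IsConj x x⁻¹) :
    x * x = 1 ∧ ∃ g, g * x * g⁻¹ ∈ C(S) := by
  obtain ⟨g, hg⟩ := isConj_iff.1 hr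
  obtain ⟨u, -, ⟨j, hj⟩, hu⟩ := H27.exists_two_elt_inverts hg
  obtain ⟨c, -, hc⟩ := hS.syl_Jsub (hx.zpowers.sup (H27.pElt_of_orderOf Nat.prime_two hj).zpowers
    (zpowers_le.2 (H27.mem_nrm_zpowers_of_inverts hu))) le_top
  have h1 : c * x * c⁻¹ ∈ S := hc (conj_mem_cj.2 (mem_sup_left (mem_zpowers x)))
  have h2 : c * u * c⁻¹ ∈ S := hc (conj_mem_cj.2 (mem_sup_right (mem_zpowers u)))
  have h3 : c * u * c⁻¹ * (c * x * c⁻¹) * (c * u * c⁻¹)⁻¹ = (c * x * c⁻¹)⁻¹ := by
    calc _ = c * (u * x * u⁻¹) * c⁻¹ := by group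
      _ = _ := by rw [hu]; group
  have h4 : c * x * c⁻¹ ∈ C(S) := mem_cen.2 fun y hy =>
    congrArg Subtype.val (mem_center_iff.1 (h ⟨_, h1⟩ (isConj_iff.2 ⟨⟨_, h2⟩, Subtype.ext h3⟩)) ⟨y, hy⟩)
  refine ⟨?_, c, h4⟩
  rw [mem_cen.1 h4 _ h2, mul_inv_cancel_right, eq_inv_iff_mul_eq_one, conj_mul] at h3
  simpa using h3

/-- Let G be a finite group in which the conjugacy classes of all non-central real elements (elements conjugate to their inverses) have sizes with the same 2-part, and suppose G has a Sylow 2-subgroup S such that every element of S that is conjugate in S to its inverse lies in the centre of S. Then G is solvable and the subgroup generated by the 2-elements of G (the smallest normal subgroup of odd index) has a normal 2-complement. -/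
theorem result {G : Type*} [Group G] [Finite G] (a : ℕ) (h : ∀ x : G, IsConj x x⁻¹ → x ∉ Subgroup.center G → ((Subgroup.centralizer ({x} : Set G)).index).factorization 2 = a) (S : Sylow 2 G) (hS : ∀ s : ↥(S : Subgroup G), IsConj s s⁻¹ → s ∈ Subgroup.center ↥(S : Subgroup G)) : Group.IsSolvable G ∧ Cfsg.HasNormalPComplement 2 ↥(Subgroup.closure {g : G | ∃ k : ℕ, orderOf g = 2 ^ k}) := by
  have hS' : Syl 2 (S : Subgroup G) ⊤ := syl_top Nat.prime_two S
  by_cases h1 : ∀ t : G, t * t = 1 → t ∈ center G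
  · have h2 := (npc_top_iff Nat.prime_two).2 (S3862.result fun x ⟨j, hj⟩ hx =>
      h1 x (sq_of_real hS' hS (H27.pElt_of_orderOf Nat.prime_two hj) hx).1)
    exact ⟨sol_top.1 (GW.sol_npc h2), (npc_iff Nat.prime_two).1 (h2.mono le_top)⟩
  push Not at h1
  obtain ⟨t, ht, h1⟩ := h1
  have r1 : IsConj t t⁻¹ := by rw [inv_eq_of_mul_eq_one_right ht]
  obtain ⟨-, g, hg⟩ := sq_of_real hS' hS (pElt_of_pow_eq_one Nat.prime_two (by rwa [sq])) r1
  have h0 : a = 0 := by
    rw [← h t r1 h1, Nat.factorization_eq_zero_of_not_dvd fun k => S.not_dvd_index (k.trans ?_)]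
    rw [← relIndex_top_right, ← relIndex_cj g, cj_cen1, cj_top, relIndex_top_right]
    exact index_dvd_of_le (le_cen1.2 hg)
  have hn := H27.sylow_two_normal_of_no_real (fun x h2 ho hr => by
    obtain ⟨g, hg⟩ := isConj_iff.1 hr
    have h3 : g ∉ C[x] := fun k => h2 (GW.eq_one_of_inv_comm ho hg (mem_cen1.1 k))
    obtain ⟨u, -, ⟨j, hj⟩, hu⟩ := H27.exists_two_elt_inverts hg
    have h4 : u ∉ C[x] := fun k => h2 (GW.eq_one_of_inv_comm ho hu (mem_cen1.1 k))
    have h5 := h x hr fun k => h3 (mem_cen1.2 (mem_center_iff.1 k g))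
    rw [h0, Nat.factorization_eq_zero_iff] at h5
    have h6 : ¬ 2 ∣ C[x].index := (h5.resolve_left (by norm_num)).resolve_right index_ne_zero_of_finite
    exact h4 ((H27.pElt_of_orderOf Nat.prime_two hj).mem_of_relIndex (M := N(C[x])) (H27.mem_nrm_cen1_of_inverts hu) le_rfl
      (p'nat_of_not_dvd fun k => h6 (k.trans (relIndex_dvd_index_of_le le_normalizer))))) S
  have h2 : closure {g : G | ∃ k : ℕ, orderOf g = 2 ^ k} ≤ S := (closure_le _).2 fun x ⟨j, hj⟩ =>
    hS'.mem_of_nml (normalizer_eq_top_iff.2 hn).ge (mem_top x) (H27.pElt_of_orderOf Nat.prime_two hj)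
  refine ⟨?_, (npc_iff Nat.prime_two).1 (npc_of_pGrp (hS'.pi.mono h2))⟩
  obtain ⟨H, h3, h4⟩ := hS'.exists_compl (normalizer_eq_top_iff.2 hn).ge
  exact sol_top.1 (h4.sol hS'.pi.sol (GW.sol_odd (GW.odd_iff_p'.2 h3.pi)))

end Cfsg.Agent.S4193
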