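import Cfsg.Statements.S4321
import Mathlib
import Cfsg.Agent.H21.PSing

set_option autoImplicit false
open Cfsg

namespace Cfsg.Agent.S4321

/-- Let `G` be a finite group and `p` a prime not dividing the order of the centre of `G`. Consider the primes dividing the size of some conjugacy class of a `p`-singular element (an element of order divisible by `p`), two of them adjacent when their product divides such a class size. Then any two distinct such primes are joined by a path with at most 3 edges (the graph is connected of diameter at most 3). -/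
theorem result {G : Type*} [Group G] [Finite G] (p : ℕ) [Fact p.Prime]
    (hZ : ¬ p ∣ Nat.card ↥(Subgroup.center G)) (r s : ℕ) (hr : (r.Prime ∧ ∃ x : G, p ∣ orderOf x ∧ r ∣ (Subgroup.centralizer ({x} : Set G)).index)) (hs : (s.Prime ∧ ∃ x : G, p ∣ orderOf x ∧ s ∣ (Subgroup.centralizer ({x} : Set G)).index)) (hrs : r ≠ s) :
    (∃ x : G, p ∣ orderOf x ∧ r * s ∣ (Subgroup.centralizer ({x} : Set G)).index) ∨ (∃ t : ℕ, (t.Prime ∧ ∃ x : G, p ∣ orderOf x ∧ t ∣ (Subgroup.centralizer ({x} : Set G)).index) ∧ t ≠ r ∧ t ≠ s ∧ (∃ x : G, p ∣ orderOf x ∧ r * t ∣ (Subgroup.centralizer ({x} : Set G)).index) ∧ (∃ x : G, p ∣ orderOf x ∧ t * s ∣ (Subgroup.centralizer ({x} : Set G)).index)) ∨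
      (∃ t u : ℕ, (t.Prime ∧ ∃ x : G, p ∣ orderOf x ∧ t ∣ (Subgroup.centralizer ({x} : Set G)).index) ∧ (u.Prime ∧ ∃ x : G, p ∣ orderOf x ∧ u ∣ (Subgroup.centralizer ({x} : Set G)).index) ∧ t ≠ r ∧ u ≠ s ∧ t ≠ u ∧ (∃ x : G, p ∣ orderOf x ∧ r * t ∣ (Subgroup.centralizer ({x} : Set G)).index) ∧ (∃ x : G, p ∣ orderOf x ∧ t * u ∣ (Subgroup.centralizer ({x} : Set G)).index) ∧ (∃ x : G, p ∣ orderOf x ∧ u * s ∣ (Subgroup.centralizer ({x} : Set G)).index)) := by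
  obtain ⟨hr, x, x1, x2⟩ := hr
  obtain ⟨hs, x', x3, x4⟩ := hs
  obtain ⟨z, z1, t, u, ht, hu, a1, a2, a3, a4⟩ := H21.PS.main Fact.out hZ x1 x3
  have m : ∀ {a b n : ℕ}, a.Prime → b.Prime → a ≠ b → a ∣ n → b ∣ n → a * b ∣ n := fun ha hb h =>
    ((Nat.coprime_primes ha hb).2 h).mul_dvd_of_dvd_of_dvd
  by_cases e1 : s ∣ (Subgroup.centralizer ({x} : Set G)).index
  · exact Or.inl ⟨x, x1, m hr hs hrs x2 e1⟩
  by_cases e2 : r ∣ (Subgroup.centralizer ({x'} : Set G)).index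
  · exact Or.inl ⟨x', x3, m hr hs hrs e2 x4⟩
  have ts : t ≠ s := fun e => e1 (e ▸ a1)
  have ur : u ≠ r := fun e => e2 (e ▸ a4)
  by_cases e3 : t = r
  · subst e3
    by_cases e4 : u = s
    · exact Or.inl ⟨z, z1, m hr hs hrs a2 (e4 ▸ a3)⟩
    · exact Or.inr (Or.inl ⟨u, ⟨hu, z, z1, a3⟩, ur, e4, ⟨z, z1, m hr hu ur.symm a2 a3⟩, x', x3, m hu hs e4 a4 x4⟩)
  by_cases e4 : u = s
  · subst e4
    exact Or.inr (Or.inl ⟨t, ⟨ht, z, z1, a2⟩, e3, ts, ⟨x, x1, m hr ht (Ne.symm e3) x2 a1⟩, z, z1, m ht hs ts a2 a3⟩)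
  by_cases e5 : t = u
  · subst e5
    exact Or.inr (Or.inl ⟨t, ⟨ht, z, z1, a2⟩, e3, ts, ⟨x, x1, m hr ht (Ne.symm e3) x2 a1⟩, x', x3, m ht hs ts a4 x4⟩)
  exact Or.inr (Or.inr ⟨t, u, ⟨ht, z, z1, a2⟩, ⟨hu, z, z1, a3⟩, e3, e4, e5, ⟨x, x1, m hr ht (Ne.symm e3) x2 a1⟩,
    ⟨z, z1, m ht hu e5 a2 a3⟩, x', x3, m hu hs e4 a4 x4⟩)

end Cfsg.Agent.S4321
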