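import Mathlib
import Cfsg.Agent.H28.Util2
-- Template for statement S4347 (row 4347; see /opt/grader/pristine/manifest.json for weights).
-- Copy to Cfsg/Agent/S4347.lean and replace the sorry. The statement below is byte-identical to the frozen
-- statement Cfsg.CfsgFrozen.S4347 (Cfsg/Statements/S4347.lean; the theorem Cfsg.fg11_no_redundant_sylow_iff_some_p_element_in_unique_sylow);
-- the grader kernel-checks Cfsg.Agent.S4347.result against that frozen type. Keep the theorem IN THIS FILE
-- (a `result` declared elsewhere and merely imported here is not credited); helpers may live anywhere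
-- under Cfsg/Agent/.
import Cfsg.Statements.S4347
-- import your own Cfsg.Agent.* helpers here

set_option autoImplicit false
open Cfsg

namespace Cfsg.Agent.S4347

/-- Let G be a finite group and p a prime. Say a Sylow p-subgroup Q is redundant when every element of p-power order lies in some Sylow p-subgroup other than Q. Then G has no redundant Sylow p-subgroup if and only if some element of p-power order lies in exactly one Sylow p-subgroup. -/
theorem result {G : Type*} [Group G] [Finite G]
    (p : ℕ) [Fact p.Prime] :
    (¬ ∃ Q : Sylow p G, ∀ x : G, (∃ k : ℕ, orderOf x = p ^ k) → ∃ P : Sylow p G, P ≠ Q ∧ x ∈ P) ↔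
      ∃ x : G, (∃ k : ℕ, orderOf x = p ^ k) ∧ ∃! P : Sylow p G, x ∈ P := by
  open Subgroup Cfsg.Agent.FT Cfsg.Agent.H28 in
  open scoped commutatorElement Pointwise in
  have hp : p.Prime := Fact.out
  constructor
  · intro h
    push Not at h
    obtain ⟨Q⟩ : Nonempty (Sylow p G) := inferInstance
    obtain ⟨x, hx, h⟩ := h Q
    obtain ⟨P, hP⟩ := exists_sylow_mem hp ((orderOf_eq_pow_iff hp).1 hx)
    have h' : ∀ R : Sylow p G, x ∈ R → R = Q := fun R hR => by
      by_contra hne
      exact h R hne hR
    exact ⟨x, hx, P, hP, fun R hR => (h' R hR).trans (h' P hP).symm⟩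
  · rintro ⟨x, hx, P, -, hP⟩ ⟨Q, hQ⟩
    obtain ⟨g, rfl⟩ := MulAction.exists_smul_eq G P Q
    obtain ⟨R, hne, hR⟩ := hQ (g * x * g⁻¹) (by rwa [orderOf_conj])
    apply hne
    rw [← hP (g⁻¹ • R) (by
      change x ∈ g⁻¹ • R
      rw [← conj_mem_smul_sylow _ g, smul_inv_smul]; exact hR), smul_inv_smul]

end Cfsg.Agent.S4347
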