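import Mathlib
import Cfsg.Agent.H28.Util2
-- Template for statement S4348 (row 4348; see /opt/grader/pristine/manifest.json for weights).
-- Copy to Cfsg/Agent/S4348.lean and replace the sorry. The statement below is byte-identical to the frozen
-- statement Cfsg.CfsgFrozen.S4348 (Cfsg/Statements/S4348.lean; the theorem Cfsg.fg11_p_element_in_unique_sylow_of_sylow_cyclic_mod_p_core);
-- the grader kernel-checks Cfsg.Agent.S4348.result against that frozen type. Keep the theorem IN THIS FILE
-- (a `result` declared elsewhere and merely imported here is not credited); helpers may live anywhere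
-- under Cfsg/Agent/.
import Cfsg.Statements.S4348
-- import your own Cfsg.Agent.* helpers here

set_option autoImplicit false
open Cfsg

namespace Cfsg.Agent.S4348

/-- Let G be a finite group, p a prime and P a Sylow p-subgroup of G, and let O_p(G) be the largest normal p-subgroup of G. If P/O_p(G) is cyclic, then some element of p-power order of G lies in exactly one Sylow p-subgroup. -/
theorem result {G : Type*} [Group G] [Finite G]
    (p : ℕ) [Fact p.Prime] (P : Sylow p G)
    [hn : ((Cfsg.pCore p G).subgroupOf (P : Subgroup G)).Normal]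
    (hc : IsCyclic ((P : Subgroup G) ⧸ (Cfsg.pCore p G).subgroupOf (P : Subgroup G))) :
    ∃ x : G, (∃ k : ℕ, orderOf x = p ^ k) ∧ ∃! Q : Sylow p G, x ∈ Q := by
  open Subgroup Cfsg.Agent.FT Cfsg.Agent.H28 in
  open scoped commutatorElement Pointwise in
  have hp : p.Prime := Fact.out
  obtain ⟨u, hu⟩ := IsCyclic.exists_generator (α := (P : Subgroup G) ⧸ (Cfsg.pCore p G).subgroupOf (P : Subgroup G))
  obtain ⟨x, rfl⟩ := QuotientGroup.mk_surjective u
  refine ⟨x, exists_orderOf_eq_of_mem_sylow P.isPGroup' x.2, P, x.2, fun Q hQ => ?_⟩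
  refine (sylow_eq_of_le fun y hy => ?_).symm
  obtain ⟨n, hn⟩ := hu (⟨y, hy⟩ : (P : Subgroup G))
  simp only [← QuotientGroup.mk_zpow, QuotientGroup.eq, mem_subgroupOf] at hn
  have h1 : Cfsg.pCore p G ≤ Q := by
    rw [← piCore_singleton hp, ← pcore_top]
    exact pcore_le_syl (syl_top hp Q)
  have h2 := (Q : Subgroup G).mul_mem (zpow_mem hQ n) (h1 hn)
  simpa using h2

end Cfsg.Agent.S4348
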