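import Cfsg.Statements.S4349
import Mathlib
import Cfsg.Agent.FT.PLen

set_option autoImplicit false
open Cfsg

namespace Cfsg.Agent.S4349

open Subgroup Cfsg.Agent.FT MulAction Equiv
open scoped Pointwise

universe u

variable {α : Type u} [Finite α]

def Good (x : Perm α) (K : Subgroup (Perm α)) : Prop := ∃ V, x ∈ V ∧ PGrp 2 V ∧ V ⊴ K

def Claim (x : Perm α) : Prop := ∃ S, PGrp 2 S ∧ ∀ K, Good x K → K ≤ S

structure Cd (x : Perm α) (B : Set α) : Prop where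
  two : PiElt {2} x
  fix : ∀ a ∈ B, ∀ b ∈ B, ∀ c ∈ B, x a = a → x b = b → x c = c → a = b ∨ b = c ∨ a = c
  len : ∀ a ∈ B, ∀ b ∈ B, x a ≠ a → (∀ n : ℤ, (x ^ n) a = a ↔ (x ^ n) b = b) → ∃ n : ℤ, (x ^ n) a = b

def res (B : Set α) : stabilizer (Perm α) B →* Perm B where
  toFun g := g.1.subtypePerm fun a => mem_stabilizer_set.1 g.2 a
  map_one' := rfl
  map_mul' _ _ := rfl

omit [Finite α] in
theorem res_zpow {B : Set α} {g : Perm α} (hg : g ∈ stabilizer (Perm α) B) (n : ℤ) (a : B) :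
    ((pfun (res B) g ^ n) a : α) = (g ^ n) a := by
  rw [← pfun_zpow _ hg, pfun_of_mem _ (zpow_mem hg n)]; rfl

theorem Cd.res {B : Set α} {y : Perm α} (h : Cd y B) (hy : y ∈ stabilizer (Perm α) B) :
    Cd (pfun (res B) y) Set.univ := by
  have e : ∀ (n : ℤ) (a b : B), (pfun (S4349.res B) y ^ n) a = b ↔ (y ^ n) a = b := fun n a b => by
    rw [Subtype.ext_iff, res_zpow hy]
  have e1 := e 1
  simp only [zpow_one] at e1
  refine ⟨h.two.pfun _, fun a _ b _ c _ => ?_, fun a _ b _ => ?_⟩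
  · simp only [e1, Subtype.ext_iff (a1 := a), Subtype.ext_iff (a1 := b)]
    exact h.fix a a.2 b b.2 c c.2
  · simp only [e, e1, ne_eq]
    exact h.len a a.2 b b.2

theorem pull {B : Set α} {y : Perm α} (hy : y ∈ stabilizer (Perm α) B) (h : Claim (pfun (res B) y)) :
    ∃ S : Subgroup (Perm α), (∀ g ∈ S, ∃ k : ℕ, ∀ a ∈ B, (g ^ 2 ^ k) a = a) ∧
      ∀ K, K ≤ stabilizer (Perm α) B → Good y K → K ≤ S := by
  obtain ⟨S, h1, h2⟩ := h
  refine ⟨ppre (res B) S, fun g hg => ?_, fun K hK ⟨V, h3, h4, h5⟩ => (pmap_le_iff hK).1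
    (h2 _ ⟨_, mem_pmap_of_mem _ hy h3, h4.pmap _, h5.pmap _⟩)⟩
  obtain ⟨k, hk⟩ := h1.isPGroup ⟨_, (mem_ppre.1 hg).2⟩
  refine ⟨k, fun a ha => ?_⟩
  have := res_zpow (mem_ppre.1 hg).1 (2 ^ k : ℕ) ⟨a, ha⟩
  rw [zpow_natCast, zpow_natCast, show pfun (res B) g ^ 2 ^ k = 1 from congrArg Subtype.val hk] at this
  exact this.symm

def Pt (B : Set α) : Subgroup (Perm α) where
  carrier := {g | g • B = B ∨ g • B = Bᶜ}
  one_mem' := Or.inl (one_smul _ _)
  mul_mem' := by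
    rintro a b (ha | ha) (hb | hb) <;> simp [mul_smul, ha, hb, Set.smul_set_compl]
  inv_mem' := by
    rintro a (ha | ha)
    · exact Or.inl (inv_smul_eq_iff.2 ha.symm)
    · exact Or.inr (inv_smul_eq_iff.2 (by rw [Set.smul_set_compl, ha, compl_compl]))

omit [Finite α] in
theorem stc {B : Set α} {y : Perm α} (hy : y ∈ stabilizer (Perm α) B) : y ∈ stabilizer (Perm α) Bᶜ := by
  rwa [stabilizer_compl]

theorem step {B : Set α} {x y : Perm α} (hy : y ∈ stabilizer (Perm α) B) (hyx : y ∈ ⟪x⟫)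
    (h2 : PiElt {2} y) (h : ∀ K, Good x K → K ≤ Pt B) (c1 : Claim (pfun (res B) y))
    (c2 : Claim (pfun (res Bᶜ) y)) : Claim x := by
  obtain ⟨S1, a1, a2⟩ := pull hy c1
  obtain ⟨S2, b1, b2⟩ := pull (stc hy) c2
  rw [stabilizer_compl] at b2
  set W := stabilizer (Perm α) B
  have hW : Pt B ≤ N(W) := le_nrm_iff.2 fun g hg w hw => by
    rw [mem_stabilizer_iff] at hw ⊢
    rcases (Pt B).inv_mem hg with e | e
    · rw [mul_smul, mul_smul, e, hw, ← inv_smul_eq_iff.1 e]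
    · rw [mul_smul, mul_smul, e, Set.smul_set_compl, hw, ← inv_smul_eq_iff.1 e]
  have hR : PGrp 2 (S1 ⊓ S2) := pGrp_of_isPGroup Nat.prime_two fun g => by
    obtain ⟨k, hk⟩ := a1 g g.2.1
    obtain ⟨l, hl⟩ := b1 g g.2.2
    refine ⟨k + l, Subtype.ext (Equiv.ext fun a => ?_)⟩
    rw [Subgroup.coe_pow]
    by_cases ha : a ∈ B
    · rw [pow_add, pow_mul]; exact Perm.pow_apply_eq_self_of_apply_eq_self (hk a ha) _
    · rw [add_comm, pow_add, pow_mul]; exact Perm.pow_apply_eq_self_of_apply_eq_self (hl a ha) _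
  set R := sSup {K | K ≤ W ∧ Good y K}
  have r1 : ∀ K, K ≤ W → Good y K → K ≤ R := fun K h1 h2 => le_sSup ⟨h1, h2⟩
  have r2 : R ≤ W := sSup_le fun K h => h.1
  have r3 : PGrp 2 R := hR.mono (sSup_le fun K h => le_inf (a2 K h.1 h.2) (b2 K h.1 h.2))
  have r4 : y ∈ R := r1 _ (zpowers_le.2 hy) ⟨_, mem_zpowers y, h2.zpowers, Nml.refl _⟩ (mem_zpowers y)
  refine ⟨Pt B ⊓ N(R), pGrp_of_isPGroup Nat.prime_two fun g => ?_, fun K hK => le_inf (h K hK) ?_⟩
  · have : (g : Perm α) ^ 2 ∈ R := r1 (W ⊓ N(R)) inf_le_left ⟨R, r4, r3, nml_subnorm r2⟩ ⟨by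
      rcases g.2.1 with e | e <;> simp [W, pow_two, mul_smul, e, Set.smul_set_compl], pow_mem g.2.2 2⟩
    obtain ⟨k, hk⟩ := r3.isPGroup ⟨_, this⟩
    exact ⟨k + 1, Subtype.ext (by
      rw [Subgroup.coe_pow, pow_succ', pow_mul]; exact congrArg Subtype.val hk)⟩
  · obtain ⟨V, v1, v2, v3⟩ := id hK
    have v4 : y ∈ V := zpowers_le.2 v1 hyx
    have v5 := r1 (K ⊓ W) inf_le_right ⟨V ⊓ W, ⟨v4, hy⟩, v2.inf_left W, v3.inf_right W⟩
    intro g hg
    refine mem_nrm_of_cj_le (r1 _ (cj_le_of_nrm (hW (h K hK hg)) r2) ⟨_, ?_, r3.cj g, Nml.refl _⟩)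
    exact mem_cj.2 (v5 ⟨v3.1 (conj_mem' (v3.2 hg) v4), conj_mem' (hW (h K hK hg)) hy⟩)

theorem half {V : Subgroup (Perm α)} (hV : PGrp 2 V) (ht : ∀ a b, ∃ v ∈ V, v a = b) {c d : α} (h : c ≠ d) :
    ∃ D : Set α, c ∈ D ∧ D.ncard = Dᶜ.ncard ∧ V ≤ Pt D := by
  obtain ⟨M, h1, hM⟩ := exists_maxIn (H := V ⊓ stabilizer (Perm α) c) (M := V)
    (lt_of_le_of_ne inf_le_left fun e => by
      obtain ⟨v, hv, e'⟩ := ht c d
      exact h ((inf_eq_left.1 e hv).symm.trans e'))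
  have h2 : (M.subgroupOf V).index = 2 := hV.maxIn_relIndex hM
  have h3 : ∀ v ∈ V, ∀ w ∈ V, v * w ∈ M ↔ (v ∈ M ↔ w ∈ M) := fun v hv w hw =>
    mul_mem_iff_of_index_two h2 (a := ⟨v, hv⟩) (b := ⟨w, hw⟩)
  have h4 : ∀ v ∈ V, v c ∈ orbit M c ↔ v ∈ M := fun v hv => ⟨fun ⟨m, hm⟩ =>
    (mul_mem_cancel_left (inv_mem m.2)).1 (h1 (mem_inf.2 ⟨mul_mem (M.inv_mem m.2 |> hM.lt.le) hv, by
      rw [mem_stabilizer_iff, mul_smul, inv_smul_eq_iff]; exact hm.symm⟩)),
    fun h => ⟨⟨v, h⟩, rfl⟩⟩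
  have h5 : ∀ v ∈ V, ∀ a, a ∈ v • orbit M c ↔ (v ∈ M ↔ a ∈ orbit M c) := fun v hv a => by
    obtain ⟨w, hw, rfl⟩ := ht c a
    rw [Set.mem_smul_set_iff_inv_smul_mem, h4 w hw, ← inv_mem_iff (x := v), ← h3 _ (inv_mem hv) w hw,
      ← h4 _ (mul_mem (inv_mem hv) hw)]
    rfl
  have h6 : ∀ v ∈ V, v ∉ M → v • orbit M c = (orbit M c)ᶜ := fun v hv hv' =>
    Set.ext fun a => by rw [h5 v hv]; simp [hv']
  refine ⟨orbit M c, mem_orbit_self c, ?_, fun v hv => ?_⟩
  · obtain ⟨v, hv, hv'⟩ := SetLike.exists_of_lt hM.lt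
    rw [← h6 v hv hv', Set.ncard_smul_set]
  · by_cases hv' : v ∈ M
    · exact Or.inl (Set.ext fun a => by rw [h5 v hv]; simp [hv'])
    · exact Or.inr (h6 v hv hv')

omit [Finite α] in
theorem Pt_conj {V : Subgroup (Perm α)} {D : Set α} (h : V ≤ Pt D) {g v : Perm α} (hg : g ∈ N(V))
    (hv : v ∈ V) : v ∈ Pt (g • D) := by
  have := h (conj_mem' hg hv)
  rcases this with e | e <;> rw [mul_smul, mul_smul, inv_smul_eq_iff] at e
  · exact Or.inl e
  · exact Or.inr (by rw [e, Set.smul_set_compl])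

omit [Finite α] in
theorem le_Pt {K V : Subgroup (Perm α)} {B D : Set α} {x : Perm α} (hx : x ∈ V) (hK : K ≤ N(V))
    (hD : V ≤ Pt D) (hc : D.ncard = Dᶜ.ncard) (hn : D.Nonempty)
    (h : ∀ D : Set α, D.Nonempty → D.ncard = Dᶜ.ncard → x ∈ Pt D → D = B ∨ D = Bᶜ) : K ≤ Pt B := by
  intro g hg
  have h1 := h (g • D) hn.smul_set (by rw [← Set.smul_set_compl, Set.ncard_smul_set, Set.ncard_smul_set, hc])
    (Pt_conj hD (hK hg) hx)
  rcases h D hn hc (hD hx) with rfl | rfl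
  · exact h1
  · rw [Set.smul_set_compl, compl_inj_iff, compl_eq_comm, eq_comm] at h1
    exact h1.symm

theorem card_orb (x : Perm α) (a : α) : (orbit ⟪x⟫ a).ncard = period x a := by
  classical
  haveI := Fintype.ofFinite (orbit ⟪x⟫ a)
  rw [period_eq_minimalPeriod, minimalPeriod_eq_card, ← Nat.card_eq_fintype_card, Nat.card_coe_set_eq]

omit [Finite α] in
theorem mem_orb {x : Perm α} {a b : α} : b ∈ orbit ⟪x⟫ a ↔ ∃ n : ℤ, (x ^ n) a = b :=
  ⟨fun ⟨⟨_, n, rfl⟩, h⟩ => ⟨n, h⟩, fun ⟨n, h⟩ => ⟨⟨_, n, rfl⟩, h⟩⟩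

theorem Cd.per {x : Perm α} (h : Cd x Set.univ) (a : α) : ∃ k, period x a = 2 ^ k :=
  (PiNat.of_dvd h.two (period_dvd_orderOf x a)).exists_pow (period_pos_of_orderOf_pos (orderOf_pos x) a).ne'

omit [Finite α] in
theorem Cd.orb {x : Perm α} (h : Cd x Set.univ) {a b : α} (h1 : period x a ≠ 1)
    (h2 : period x a = period x b) : b ∈ orbit ⟪x⟫ a :=
  mem_orb.2 (h.len a trivial b trivial (fun e => h1 (period_eq_one_iff.2 e)) fun n => by
    change (x ^ n) • a = a ↔ (x ^ n) • b = b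
    rw [zpow_smul_eq_iff_period_dvd, zpow_smul_eq_iff_period_dvd, h2])

theorem Cd.cnt {x : Perm α} (h : Cd x Set.univ) (k : ℕ) :
    {a : α | period x a < 2 ^ (k + 1)}.ncard + 2 ≤ 2 ^ (k + 1) + {a | x a = a}.ncard := by
  induction k with
  | zero =>
    have := Set.ncard_le_ncard (s := {a : α | period x a < 2 ^ (0 + 1)}) (t := {a | x a = a}) fun a ha => by
      have := period_pos_of_orderOf_pos (orderOf_pos x) a
      have h1 : period x a < 2 := ha
      exact (period_eq_one_iff (m := x)).1 (by omega)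
    omega
  | succ k ih =>
    have h1 : {a : α | period x a = 2 ^ (k + 1)}.ncard ≤ 2 ^ (k + 1) := by
      rcases Set.eq_empty_or_nonempty {a : α | period x a = 2 ^ (k + 1)} with e | ⟨a, ha⟩
      · simp [e]
      · refine le_trans (Set.ncard_le_ncard fun b hb => h.orb (by rw [ha]; simp) (ha.trans hb.symm)) ?_
        rw [card_orb, ha]
    have h2 := Set.ncard_le_ncard (s := {a : α | period x a < 2 ^ (k + 1 + 1)})
      (t := {a : α | period x a < 2 ^ (k + 1)} ∪ {a : α | period x a = 2 ^ (k + 1)}) fun a ha => by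
        obtain ⟨j, hj⟩ := h.per a
        simp only [Set.mem_ofPred_eq, Set.mem_union, hj, Nat.pow_lt_pow_iff_right one_lt_two,
          Nat.pow_right_inj one_lt_two] at ha ⊢
        omega
    have h3 := Set.ncard_union_le {a : α | period x a < 2 ^ (k + 1)} {a : α | period x a = 2 ^ (k + 1)}
    omega

theorem Cd.fixle {x : Perm α} (h : Cd x Set.univ) : {a | x a = a}.ncard ≤ 2 := by
  by_contra hc
  obtain ⟨a, b, c, ha, hb, hc, h1, h2, h3⟩ := (Set.two_lt_ncard_iff).1 (not_le.1 hc)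
  have := h.fix a trivial b trivial c trivial ha hb hc
  tauto

omit [Finite α] in
theorem parity {x : Perm α} {D : Set α} (h : x • D = Dᶜ) (a : α) (n : ℤ) :
    (x ^ n) a ∈ D ↔ (a ∈ D ↔ Even n) := by
  have e : ∀ b, x b ∈ D ↔ b ∉ D := fun b => by
    rw [← not_iff_not, ← Set.mem_compl_iff, ← h, not_not]; exact Set.smul_mem_smul_set_iff
  induction n using Int.induction_on with
  | zero => simp
  | succ n ih => rw [Int.even_add_one, add_comm, zpow_one_add, Perm.mul_apply, e]; tauto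
  | pred n ih =>
    rw [show -(n : ℤ) = 1 + (-n - 1) by ring, zpow_one_add, Perm.mul_apply, e, add_comm,
      Int.even_add_one] at ih
    tauto

theorem claim : ∀ (n : ℕ) {α : Type u} [Finite α] (x : Perm α), Nat.card α = n → Cd x Set.univ → Claim x := by
  intro n
  induction n using Nat.strong_induction_on with
  | _ n ih =>
  intro α _ x hn h
  have IH : ∀ {B : Set α} {y : Perm α}, Bᶜ.Nonempty → y ∈ stabilizer (Perm α) B → Cd y B →
      Claim (pfun (res B) y) := fun {B y} h1 h2 h3 =>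
    ih _ (hn ▸ Finite.card_subtype_lt h1.choose_spec) _ rfl (h3.res h2)
  by_cases h1 : ∀ a, x a = a
  · refine ⟨⊤, piGrp_top.2 ?_, fun K _ => le_top⟩
    have := h.fixle
    rw [Set.eq_univ_of_forall (s := {a | x a = a}) h1, Set.ncard_univ] at this
    refine (piNat_self_pow Nat.prime_two 1).of_dvd ?_
    rw [Nat.card_perm]
    exact Nat.factorial_dvd_factorial this
  push Not at h1
  obtain ⟨a₁, ha₁⟩ := h1
  obtain ⟨a, -, ha⟩ := Set.exists_max_image Set.univ (period x) Set.finite_univ ⟨a₁, trivial⟩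
  obtain ⟨k, hk⟩ := h.per a
  have hp1 : period x a ≠ 1 := fun e => ha₁ (period_eq_one_iff.1 (le_antisymm (e ▸ ha _ trivial)
    (period_pos_of_orderOf_pos (orderOf_pos x) _)))
  have hxa : a ≠ x a := fun e => hp1 (period_eq_one_iff.2 e.symm)
  obtain ⟨k, rfl⟩ : ∃ j, k = j + 1 := Nat.exists_eq_succ_of_ne_zero (by rintro rfl; exact hp1 hk)
  set B := orbit ⟪x⟫ a with hB
  have b1 : B.ncard = 2 ^ (k + 1) := by rw [card_orb, hk]
  have b2 : Bᶜ.ncard + 2 ≤ 2 ^ (k + 1) + {a | x a = a}.ncard := le_trans (Nat.add_le_add_right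
    (Set.ncard_le_ncard (s := Bᶜ) fun b hb => lt_of_le_of_ne (hk ▸ ha b trivial)
      fun e => hb (h.orb hp1 (hk.trans e.symm))) 2) (h.cnt k)
  have b3 := h.fixle
  have b4 := Set.ncard_add_ncard_compl B
  have sub : ∀ {D : Set α}, x • D = D → ∀ b ∈ D, orbit ⟪x⟫ b ⊆ D := fun {D} e b hb c hc => by
    obtain ⟨m, rfl⟩ := mem_orb.1 hc
    exact (mem_stabilizer_set.1 (zpow_mem (mem_stabilizer_iff.2 e) m) b).2 hb
  rcases Set.eq_empty_or_nonempty Bᶜ with e | e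
  · have tr : ∀ b c, ∃ m : ℤ, (x ^ m) b = c := fun b c => by
      rw [Set.compl_empty_iff] at e
      exact mem_orb.1 ((orbit_eq_iff.2 (e ▸ Set.mem_univ b : b ∈ B)).symm ▸ (e ▸ Set.mem_univ c : c ∈ B))
    have sw : ∀ D : Set α, D.Nonempty → D.ncard = Dᶜ.ncard → x ∈ Pt D → x • D = Dᶜ :=
      fun D ⟨d, hd⟩ h2 h3 => h3.resolve_left fun e' => by
        rw [Set.eq_univ_of_forall (s := D) fun c => sub e' d hd (mem_orb.2 (tr d c))] at h2
        rw [Set.compl_univ, Set.ncard_empty, Set.ncard_eq_zero] at h2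
        exact (h2 ▸ Set.mem_univ a : a ∈ (∅ : Set α))
    obtain ⟨D, d1, d2, d3⟩ := half h.two.zpowers (fun b c => (tr b c).imp' _ fun m e => ⟨⟨m, rfl⟩, e⟩) hxa
    have d4 := sw D ⟨a, d1⟩ d2 (d3 (mem_zpowers x))
    have cd : ∀ E : Set α, x • E = Eᶜ → Cd (x ^ 2) E := fun E hE => by
      have t : ∀ b ∈ E, ∀ c ∈ E, ∃ m : ℤ, ((x ^ 2) ^ m) b = c := fun b hb c hc => by
        obtain ⟨m, rfl⟩ := tr b c
        obtain ⟨l, rfl⟩ := ((parity hE b m).1 hc).1 hb
        exact ⟨l, by rw [← zpow_natCast, ← zpow_mul, ← two_mul]; rfl⟩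
      refine ⟨h.two.pow 2, fun b hb c hc _ _ e1 _ _ => Or.inl ?_, fun b hb c hc _ _ => t b hb c hc⟩
      obtain ⟨m, rfl⟩ := t b hb c hc
      exact (Perm.zpow_apply_eq_self_of_apply_eq_self e1 m).symm
    have st : x ^ 2 ∈ stabilizer (Perm α) D := by
      rw [mem_stabilizer_iff, pow_two, mul_smul, d4, Set.smul_set_compl, d4, compl_compl]
    refine step st (npow_mem_zpowers x 2) (h.two.pow 2) (fun K ⟨V, v1, v2, v3⟩ => ?_)
      (IH ⟨x a, d4 ▸ Set.smul_mem_smul_set d1⟩ st (cd D d4))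
      (IH ⟨a, not_not.2 d1⟩ (stc st) (cd _ (by rw [Set.smul_set_compl, d4])))
    obtain ⟨E, e1, e2, e3⟩ := half v2 (fun b c => (tr b c).imp' _ fun m e => ⟨zpow_mem v1 m, e⟩) hxa
    refine le_Pt v1 v3.2 e3 e2 ⟨a, e1⟩ fun F f1 f2 f3 => ?_
    have f4 := sw F f1 f2 f3
    by_cases f5 : a ∈ F
    · left; ext c; obtain ⟨m, rfl⟩ := tr a c; rw [parity f4, parity d4]; tauto
    · right; ext c; obtain ⟨m, rfl⟩ := tr a c; rw [Set.mem_compl_iff, parity f4, parity d4]; tauto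
  have st : x ∈ stabilizer (Perm α) B := smul_orbit (⟨x, mem_zpowers x⟩ : ⟪x⟫) a
  have cd : ∀ E, Cd x E := fun E => ⟨h.two, fun a _ b _ c _ => h.fix a trivial b trivial c trivial,
    fun a _ b _ => h.len a trivial b trivial⟩
  refine step st (mem_zpowers x) h.two (fun K ⟨V, v1, v2, v3⟩ => ?_) (IH e st (cd _))
    (IH ⟨a, not_not.2 (mem_orbit_self a)⟩ (stc st) (cd _))
  have o1 : B ⊆ orbit V a := fun c hc => by
    obtain ⟨m, rfl⟩ := mem_orb.1 hc
    exact ⟨⟨_, zpow_mem v1 m⟩, rfl⟩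
  by_cases o2 : B = orbit V a
  · intro g hg
    have o3 : g • B = orbit V (g a) := by
      rw [o2]; ext c
      rw [Set.mem_smul_set_iff_inv_smul_mem]
      exact ⟨fun ⟨v, hv⟩ => ⟨⟨_, conj_mem (v3.2 hg) v.2⟩, by
          rw [eq_inv_smul_iff] at hv; simpa [Subgroup.smul_def] using hv⟩,
        fun ⟨v, hv⟩ => ⟨⟨_, conj_mem' (v3.2 hg) v.2⟩, by rw [eq_inv_smul_iff, ← hv]; simp [Subgroup.smul_def]⟩⟩
    by_cases o4 : g a ∈ B
    · exact Or.inl (by rw [o3, o2]; exact orbit_eq_iff.2 (o2 ▸ o4))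
    · refine Or.inr (Set.eq_of_subset_of_ncard_le (fun c hc hc' => o4 ?_) (by rw [Set.ncard_smul_set]; omega))
      rw [o3] at hc
      rw [o2] at hc' ⊢
      rw [← orbit_eq_iff.2 hc', orbit_eq_iff.2 hc]
      exact mem_orbit_self _
  obtain ⟨m, hm⟩ := v2.isPGroup.card_orbit a
  rw [Nat.card_coe_set_eq] at hm
  have o3 := Set.ncard_lt_ncard (o1.ssubset_of_ne o2)
  rw [b1, hm, Nat.pow_lt_pow_iff_right one_lt_two] at o3
  have o4 := Nat.pow_le_pow_right two_pos (Nat.succ_le_of_lt o3)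
  have o5 : orbit V a = Set.univ := Set.eq_of_subset_of_ncard_le (Set.subset_univ _) (by
    rw [Set.ncard_univ]; omega)
  rw [o5, Set.ncard_univ] at hm
  obtain ⟨c, hc⟩ := Set.nonempty_of_ncard_ne_zero (s := {a | x a = a}) (by omega)
  obtain ⟨E, e1, e2, e3⟩ := half v2 (fun b c => by
    obtain ⟨v, hv⟩ : c ∈ orbit V b := by rw [orbit_eq_iff.2 (o5 ▸ Set.mem_univ b), o5]; trivial
    exact ⟨v, v.2, hv⟩) hxa
  refine le_Pt v1 v3.2 e3 e2 ⟨a, e1⟩ fun F _ f2 f3 => ?_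
  have f4 : x • F = F := f3.resolve_right fun f => by
    have := parity f c 1
    rw [zpow_one, hc] at this
    simp at this
  have f5 := Set.ncard_add_ncard_compl F
  by_cases f6 : a ∈ F
  · exact Or.inl (Set.eq_of_subset_of_ncard_le (s := B) (sub f4 a f6) (by omega)).symm
  · right
    rw [eq_comm, compl_eq_comm, eq_comm]
    exact Set.eq_of_subset_of_ncard_le (s := B) (sub (D := Fᶜ) (by rw [Set.smul_set_compl, f4]) a f6) (by omega)

theorem swap_mem [DecidableEq α] {x : Perm α} (h2 : PiElt {2} x) {P : Sylow 2 (Perm α)}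
    (hP : ∀ Q : Sylow 2 (Perm α), x ∈ Q → Q = P) {a b : α} (h : ¬ x.SameCycle a b)
    (hn : ∀ n : ℤ, (x ^ n) a = a ↔ (x ^ n) b = b) : swap a b ∈ P := by
  set s : Set (Perm α) := {t | ∃ n : ℤ, t = swap ((x ^ n) a) ((x ^ n) b)} with hs
  have e1 : ∀ (i j : ℤ) (c d : α), (x ^ i) c = (x ^ j) d ↔ (x ^ (-j + i)) c = d := fun i j c d => by
    rw [zpow_add, zpow_neg, Perm.mul_apply, Perm.inv_eq_iff_eq]
  have e2 : ∀ i j : ℤ, (x ^ i) a ≠ (x ^ j) b := fun i j e => h ⟨_, (e1 _ _ _ _).1 e⟩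
  have hab : Ab (closure s) := isMulCommutative_closure (by
    rintro _ ⟨i, rfl⟩ _ ⟨j, rfl⟩
    by_cases e : (x ^ i) a = (x ^ j) a
    · rw [e, (e1 _ _ _ _).2 ((hn _).1 ((e1 _ _ _ _).1 e))]
    · have e' : (x ^ i) b ≠ (x ^ j) b := fun e' => e ((e1 _ _ _ _).2 ((hn _).2 ((e1 _ _ _ _).1 e')))
      exact (Perm.disjoint_swap_swap (by simp [e, e', e2, (e2 _ _).symm])).commute)
  have hE : PGrp 2 (closure s) := pGrp_of_isPGroup Nat.prime_two fun ⟨g, hg⟩ => ⟨1, Subtype.ext (by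
    rw [Subgroup.coe_pow, pow_one]
    induction hg using closure_induction with
    | mem t ht => obtain ⟨i, rfl⟩ := ht; simp [pow_two]
    | one => simp
    | mul u v hu hv h1 h3 => rw [Commute.mul_pow (hab.comm hu hv), h1, h3]; simp
    | inv u hu h1 => rw [inv_pow, h1]; simp)⟩
  have hx : x ∈ N(closure s) := norms_closure (X := ⟪x⟫) (by
    rintro _ ⟨i, rfl⟩ _ ⟨j, rfl⟩
    exact ⟨i + j, by simp only [zpow_add, Perm.mul_apply, Equiv.swap_apply_apply]⟩) (mem_zpowers x)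
  obtain ⟨Q, hQ⟩ := (hE.sup h2.zpowers (zpowers_le.2 hx)).isPGroup.exists_le_sylow
  rw [← hP Q (hQ (mem_sup_right (mem_zpowers x)))]
  exact hQ (mem_sup_left (subset_closure ⟨0, by simp⟩))

theorem not_three [Fintype α] [DecidableEq α] {P : Sylow 2 (Perm α)} {a b c : α} (h1 : a ≠ b) (h2 : a ≠ c)
    (h3 : b ≠ c) (hb : swap a b ∈ P) (hc : swap a c ∈ P) : False := by
  have := (syl_top Nat.prime_two P).pi.eq_prime Nat.prime_three
    ((Perm.isThreeCycle_swap_mul_swap_same h1 h2 h3).orderOf ▸ orderOf_dvd_card' (mul_mem hb hc))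
  omega

theorem cyc_iff [Fintype α] [DecidableEq α] {x : Perm α} {a : α} (ha : x a ≠ a) (n : ℤ) :
    (x ^ n) a = a ↔ ((x.cycleOf a).support.card : ℤ) ∣ n := by
  have hc := Perm.isCycle_cycleOf x ha
  rw [← hc.orderOf, orderOf_dvd_iff_zpow_eq_one, ← Perm.cycleOf_zpow_apply_self]
  obtain ⟨m, hm⟩ := mem_powers_iff_mem_zpowers.2 (zpow_mem_zpowers (x.cycleOf a) n)
  rw [← hm]
  exact (hc.pow_eq_one_iff' (by rwa [Perm.cycleOf_apply_self])).symm

/-- Let n ≥ 2 and let x be an element of 2-power order of the symmetric group of degree n. Then x lies in exactly one Sylow 2-subgroup if and only if x has at most two fixed points and the nontrivial cycles of x have pairwise different lengths. -/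
theorem result (n : ℕ) (hn : 2 ≤ n)
    (x : Equiv.Perm (Fin n)) (hx : ∃ k : ℕ, orderOf x = 2 ^ k) :
    (∃! P : Sylow 2 (Equiv.Perm (Fin n)), x ∈ P) ↔ (n ≤ x.support.card + 2 ∧ x.cycleType.Nodup) := by
  have h2 : PiElt {2} x := by
    obtain ⟨k, hk⟩ := hx
    exact (piNat_self_pow Nat.prime_two k).of_dvd hk.dvd
  have hf : n ≤ x.support.card + 2 ↔ ¬ 2 < x.supportᶜ.card := by
    rw [Finset.card_compl, Fintype.card_fin]; omega
  rw [hf, Finset.two_lt_card_iff, Perm.cycleType_def, Multiset.nodup_map_iff_inj_on (Finset.nodup _)]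
  simp only [Finset.mem_compl, Perm.notMem_support, ← Finset.mem_def]
  constructor
  · rintro ⟨P, -, hP⟩
    constructor
    · rintro ⟨a, b, c, ha, hb, hc, h1, h3, h4⟩
      have := fun d (hd : x d = d) (e : a ≠ d) => swap_mem h2 hP (a := a) (b := d)
        (fun h => e (h.eq_of_left ha)) fun m => by
          rw [Perm.zpow_apply_eq_self_of_apply_eq_self ha, Perm.zpow_apply_eq_self_of_apply_eq_self hd]; simp
      exact not_three h1 h3 h4 (this b hb h1) (this c hc h3)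
    · intro c hc d hd e
      by_contra hne
      obtain ⟨a, ha⟩ := (Perm.mem_cycleFactorsFinset_iff.1 hc).1.nonempty_support
      obtain ⟨b, hb⟩ := (Perm.mem_cycleFactorsFinset_iff.1 hd).1.nonempty_support
      obtain rfl := Perm.cycle_is_cycleOf ha hc
      obtain rfl := Perm.cycle_is_cycleOf hb hd
      have ha' := Perm.mem_support.1 (Perm.cycleOf_mem_cycleFactorsFinset_iff.1 hc)
      have hb' := Perm.mem_support.1 (Perm.cycleOf_mem_cycleFactorsFinset_iff.1 hd)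
      have h1 : ¬ x.SameCycle a b := fun h => hne h.cycleOf_eq
      have h3 : ∀ m : ℤ, (x ^ m) a = a ↔ (x ^ m) b = b := fun m => by
        rw [cyc_iff ha', cyc_iff hb', show (x.cycleOf a).support.card = (x.cycleOf b).support.card from e]
      refine not_three (a := a) (fun e => h1 (e ▸ Perm.SameCycle.refl _ _))
        (fun e => h1 (Perm.sameCycle_apply_right.1 (e ▸ Perm.SameCycle.refl _ _))) hb'.symm
        (swap_mem h2 hP h1 h3) (swap_mem h2 hP (fun h => h1 (Perm.sameCycle_apply_right.1 h)) fun m => ?_)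
      rw [h3, ← Perm.mul_apply, ← zpow_add_one, add_comm, zpow_one_add, Perm.mul_apply, x.injective.eq_iff]
  · rintro ⟨h1, h3⟩
    obtain ⟨S, s1, s2⟩ := claim _ x rfl ⟨h2, fun a _ b _ c _ ha hb hc => by
      by_contra hc'
      push Not at hc'
      exact h1 ⟨a, b, c, ha, hb, hc, hc'.1, hc'.2.2, hc'.2.1⟩, fun a _ b _ ha h => by
        have hb : x b ≠ b := fun e => ha (by simpa using (h 1).2 (by simpa using e))
        refine (Perm.sameCycle_iff_cycleOf_eq_of_mem_support (Perm.mem_support.2 ha) (Perm.mem_support.2 hb)).2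
          (h3 _ (Perm.cycleOf_mem_cycleFactorsFinset_iff.2 (Perm.mem_support.2 ha)) _
            (Perm.cycleOf_mem_cycleFactorsFinset_iff.2 (Perm.mem_support.2 hb)) ?_)
        simp only [cyc_iff ha, cyc_iff hb] at h
        exact Nat.dvd_antisymm (Int.natCast_dvd_natCast.1 ((h _).2 dvd_rfl))
          (Int.natCast_dvd_natCast.1 ((h _).1 dvd_rfl))⟩
    have key : ∀ Q : Sylow 2 (Perm (Fin n)), x ∈ Q → S = Q := fun Q hQ =>
      Q.is_maximal' s1.isPGroup (s2 _ ⟨_, hQ, (syl_top Nat.prime_two Q).pi, Nml.refl _⟩)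
    obtain ⟨P, hP⟩ := h2.zpowers.isPGroup.exists_le_sylow
    exact ⟨P, hP (mem_zpowers x), fun Q hQ => Sylow.ext ((key Q hQ).symm.trans (key P (hP (mem_zpowers x))))⟩

end Cfsg.Agent.S4349
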