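import Cfsg.Statements.S4351
import Mathlib
import Cfsg.Agent.H27.Mt1
import Cfsg.Agent.H27.Mt2
import Cfsg.Agent.GW.Mtss
import Cfsg.Agent.H10.Mtind
import Cfsg.Agent.H15.Mtdet
import Cfsg.Agent.H15.Mtirr

set_option autoImplicit false
open Cfsg

namespace Cfsg.Agent.S4351

/-- Let G be a finite non-solvable group in which the centralizer of every non-identity element is nilpotent. Then G is a non-abelian simple group; or G has a normal subgroup of index 2 isomorphic to PSL(2, 9); or G has a nontrivial normal elementary abelian 2-subgroup N such that G/N is isomorphic to PSL(2, q) for some q = 2ⁿ ≥ 4 or is a simple group of Suzuki type (simple, of the order of a Suzuki group). -/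
theorem result {G : Type*} [Group G] [Finite G] (hG : ¬ Group.IsSolvable G)
    (hCN : ∀ x : G, x ≠ 1 → Group.IsNilpotent (Subgroup.centralizer ({x} : Set G))) :
    (IsSimpleGroup G ∧ ¬ IsMulCommutative G) ∨
    (∃ (N : Subgroup G), N.Normal ∧ N.index = 2 ∧ ∃ (F : Type) (_ : Field F) (_ : Fintype F), Fintype.card F = 9 ∧
        Nonempty (N ≃* Matrix.ProjectiveSpecialLinearGroup (Fin 2) F)) ∨
    (∃ (N : Subgroup G) (_ : N.Normal), N ≠ ⊥ ∧ IsPGroup 2 N ∧ IsMulCommutative N ∧ (∀ x ∈ N, x * x = 1) ∧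
        ((∃ (F : Type) (_ : Field F) (_ : Fintype F), CharP F 2 ∧ 4 ≤ Fintype.card F ∧
            Nonempty (G ⧸ N ≃* Matrix.ProjectiveSpecialLinearGroup (Fin 2) F)) ∨ Cfsg.IsSuzuki (G ⧸ N))) := by
  exact H27.Mt.top_main hG hCN fun N _ F _ S hN hf =>
    H27.Mt.martineau_of S (H27.Mt.ind S (H27.Mt.c1_all S) (H27.Mt.ext_all S) (H27.Mt.ss S (H27.Mt.c1_all S)))
      (H27.Mt.irr S) (H27.Mt.det S) N hN (MulEquiv.refl _) hf

end Cfsg.Agent.S4351
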