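import Cfsg.Statements.S4358
import Mathlib


set_option autoImplicit false
open Cfsg

namespace Cfsg.Agent.S4358


open Matrix

set_option linter.unusedSectionVars false

variable {F : Type*} [Field F] {p : ℕ} [hp : Fact p.Prime]

instance nz : NeZero p := ⟨hp.out.ne_zero⟩

def Sh (k : Fin p) (A : Matrix (Fin p) (Fin p) F) : Prop :=
  ∀ i j, (i = j + k → A i j ^ p = 1) ∧ (i ≠ j + k → A i j = 0)

theorem Sh.ne {k : Fin p} {A : Matrix (Fin p) (Fin p) F} (h : Sh k A) (j : Fin p) :
    A (j + k) j ≠ 0 := by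
  intro h0
  have := (h (j + k) j).1 rfl
  rw [h0, zero_pow hp.out.ne_zero] at this
  exact zero_ne_one this

theorem Sh.mul_apply {l : Fin p} {B : Matrix (Fin p) (Fin p) F} (A : Matrix (Fin p) (Fin p) F)
    (hB : Sh l B) (i j : Fin p) : (A * B) i j = A i (j + l) * B (j + l) j := by
  rw [Matrix.mul_apply, Finset.sum_eq_single (j + l)]
  · intro m _ hm
    rw [(hB m j).2 hm, mul_zero]
  · simp

theorem Sh.mul {k l : Fin p} {A B : Matrix (Fin p) (Fin p) F} (hA : Sh k A) (hB : Sh l B) :
    Sh (l + k) (A * B) := by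
  intro i j
  rw [hB.mul_apply]
  refine ⟨fun h => ?_, fun h => ?_⟩
  · rw [mul_pow, (hA i (j + l)).1 (by rw [h, add_assoc]), (hB _ j).1 rfl, one_mul]
  · rw [(hA i (j + l)).2 (by rwa [add_assoc]), zero_mul]

theorem sh_one : Sh (0 : Fin p) (1 : Matrix (Fin p) (Fin p) F) := by
  intro i j
  refine ⟨fun h => ?_, fun h => ?_⟩
  · rw [add_zero] at h; subst h; simp
  · rw [add_zero] at h; exact Matrix.one_apply_ne h

theorem Sh.pow {k : Fin p} {A : Matrix (Fin p) (Fin p) F} (hA : Sh k A) (n : ℕ) :
    Sh (n • k) (A ^ n) := by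
  induction n with
  | zero => simpa using sh_one
  | succ n ih =>
    rw [pow_succ, succ_nsmul, add_comm]
    exact ih.mul hA

theorem Sh.diag {A : Matrix (Fin p) (Fin p) F} (hA : Sh 0 A) :
    A = Matrix.diagonal (fun i => A i i) := by
  ext i j
  by_cases h : i = j
  · subst h; simp
  · rw [Matrix.diagonal_apply_ne _ h]
    exact (hA i j).2 (by rwa [add_zero])

theorem Sh.pow_zero {A : Matrix (Fin p) (Fin p) F} (hA : Sh 0 A) : A ^ p = 1 := by
  rw [hA.diag, Matrix.diagonal_pow, ← Matrix.diagonal_one]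
  congr 1
  ext i
  exact (hA i i).1 (by rw [add_zero])

theorem p_smul (k : Fin p) : p • k = 0 := by
  have := card_nsmul_eq_zero (G := Fin p) (x := k)
  rwa [Fintype.card_fin] at this

theorem Sh.pow_p {k : Fin p} {A : Matrix (Fin p) (Fin p) F} (hA : Sh k A) : Sh 0 (A ^ p) := by
  have := hA.pow p
  rwa [p_smul] at this

theorem Sh.pow_pp {k : Fin p} {A : Matrix (Fin p) (Fin p) F} (hA : Sh k A) : A ^ (p * p) = 1 := by
  rw [pow_mul]
  exact hA.pow_p.pow_zero

theorem pp_ne : p * p ≠ 0 := Nat.mul_ne_zero hp.out.ne_zero hp.out.ne_zero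

variable (F p) in
def Q0 : Subgroup (Matrix.GeneralLinearGroup (Fin p) F) where
  carrier := {g | ∃ k, Sh k (g : Matrix (Fin p) (Fin p) F)}
  mul_mem' := by
    rintro a b ⟨k, hk⟩ ⟨l, hl⟩
    exact ⟨_, hk.mul hl⟩
  one_mem' := ⟨0, sh_one⟩
  inv_mem' := by
    rintro a ⟨k, hk⟩
    have h1 : a ^ (p * p) = 1 := Units.ext (by simpa using hk.pow_pp)
    have h2 : a⁻¹ = a ^ (p * p - 1) := by
      rw [inv_eq_iff_mul_eq_one, ← pow_succ', Nat.sub_add_cancel (Nat.pos_of_ne_zero pp_ne), h1]
    refine ⟨(p * p - 1) • k, ?_⟩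
    rw [h2, Units.val_pow_eq_pow_val]
    exact hk.pow _

theorem Q0_p : IsPGroup p (Q0 F p) := by
  rintro ⟨a, k, hk⟩
  refine ⟨2, Subtype.ext (Units.ext ?_)⟩
  simpa [pow_two] using hk.pow_pp

theorem nsmul_inj {k : Fin p} (hk : k ≠ 0) {a b : ℕ} (ha : a < p) (hb : b < p)
    (h : a • k = b • k) : a = b := by
  have ho : addOrderOf k = p := addOrderOf_eq_prime (p_smul k) hk
  exact nsmul_injOn_Iio_addOrderOf (x := k) (by simpa [ho] using ha) (by simpa [ho] using hb) h

theorem three (hp2 : p ≠ 2) : 2 < p := lt_of_le_of_ne hp.out.two_le (Ne.symm hp2)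

theorem mono (hp2 : p ≠ 2) {ζ : F} (hζ : ζ ^ p = 1) (hζ1 : ζ ≠ 1)
    {g : Matrix.GeneralLinearGroup (Fin p) F}
    (hg : ∀ y ∈ Q0 F p, g * y * g⁻¹ ∈ Q0 F p) {j a b : Fin p}
    (ha : (g : Matrix (Fin p) (Fin p) F) a j ≠ 0) (hb : (g : Matrix (Fin p) (Fin p) F) b j ≠ 0) :
    a = b := by
  have hr : Sh (0 : Fin p) (1 + (ζ - 1) • Matrix.single j j (1 : F)) := by
    intro i l
    rw [add_zero]
    refine ⟨fun h => ?_, fun h => ?_⟩
    · subst h
      by_cases hi : j = i
      · subst hi; simp [hζ]
      · simp [Matrix.single_apply, hi]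
    · have : ¬ (j = i ∧ j = l) := fun hh => h (hh.1.symm.trans hh.2)
      simp [Matrix.single_apply, Matrix.one_apply_ne h, this]
  obtain ⟨k, hk⟩ := hg (Units.ofPowEqOne _ _ hr.pow_pp pp_ne) ⟨0, hr⟩
  set u : Fin p → F := fun a => (g : Matrix (Fin p) (Fin p) F) a j with hu
  set v : Fin p → F := fun b => ((g⁻¹ : Matrix.GeneralLinearGroup (Fin p) F) :
    Matrix (Fin p) (Fin p) F) j b with hv
  have hform : ∀ a b, ((g * Units.ofPowEqOne _ _ hr.pow_pp pp_ne * g⁻¹ :
      Matrix.GeneralLinearGroup (Fin p) F) : Matrix (Fin p) (Fin p) F) a b =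
      (1 : Matrix (Fin p) (Fin p) F) a b + (ζ - 1) * (u a * v b) := by
    intro a b
    rw [Units.val_mul, Units.val_mul, Units.val_ofPowEqOne, Matrix.mul_add, Matrix.add_mul,
      Matrix.mul_one, Units.mul_inv, Matrix.add_apply, Matrix.mul_smul, Matrix.smul_mul,
      Matrix.smul_apply, smul_eq_mul]
    congr 2
    rw [Matrix.mul_apply, Finset.sum_eq_single j]
    · rw [Matrix.mul_single_apply_same, mul_one]
    · intro m _ hm
      rw [Matrix.mul_single_apply_of_ne (hbj := hm), zero_mul]
    · simp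
  have hz : ζ - 1 ≠ 0 := sub_ne_zero.mpr hζ1
  by_cases hk0 : k = 0
  · subst hk0
    have hvu : ∑ m, v m * u m = 1 := by
      have := congrFun (congrFun (Units.inv_mul g) j) j
      rw [Matrix.mul_apply, Matrix.one_apply_eq] at this
      exact this
    obtain ⟨m, hm⟩ : ∃ m, v m ≠ 0 := by
      by_contra hh
      push Not at hh
      simp [hh] at hvu
    have key : ∀ a, u a ≠ 0 → a = m := by
      intro a ha
      by_contra ham
      have := (hk a m).2 (by rwa [add_zero])
      rw [hform, Matrix.one_apply_ne ham, zero_add] at this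
      exact mul_ne_zero hz (mul_ne_zero ha hm) this
    rw [key a ha, key b hb]
  · exfalso
    have hd : ∀ c, u c * v c ≠ 0 := by
      intro c hc
      have := (hk c c).2 (by simpa using hk0)
      rw [hform, hc] at this
      simp at this
    have h20 : (2 : ℕ) • k ≠ 0 := by
      intro h
      have := nsmul_inj hk0 (three hp2) hp.out.pos (by rw [h, zero_nsmul])
      omega
    have h21 : (2 : ℕ) • k ≠ 0 + k := by
      intro h
      have := nsmul_inj hk0 (three hp2) hp.out.one_lt (by rw [h, one_nsmul, zero_add])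
      omega
    have := (hk (2 • k) 0).2 h21
    rw [hform, Matrix.one_apply_ne h20, zero_add] at this
    exact mul_ne_zero hz (mul_ne_zero (left_ne_zero_of_mul (hd _)) (right_ne_zero_of_mul (hd _))) this

theorem card_Q0 [Fintype F] {ζ : F} (hζ : IsPrimitiveRoot ζ p) : p ^ (p + 1) ≤ Nat.card (Q0 F p) := by
  classical
  have hs : ∀ (k : Fin p) (a : Fin p → Fin p), Sh k (Matrix.of fun i j =>
      if i = j + k then ζ ^ (a j : ℕ) else (0 : F)) := by
    intro k a i j
    refine ⟨fun h => ?_, fun h => ?_⟩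
    · rw [Matrix.of_apply, if_pos h, ← pow_mul, mul_comm, pow_mul, hζ.pow_eq_one, one_pow]
    · rw [Matrix.of_apply, if_neg h]
  let f : Fin p × (Fin p → Fin p) → Q0 F p := fun z =>
    ⟨Units.ofPowEqOne _ _ (hs z.1 z.2).pow_pp pp_ne, z.1, hs z.1 z.2⟩
  have hf : Function.Injective f := by
    rintro ⟨k, a⟩ ⟨l, b⟩ h
    have h' : ∀ i j, (if i = j + k then ζ ^ (a j : ℕ) else (0 : F)) =
        if i = j + l then ζ ^ (b j : ℕ) else (0 : F) := by
      intro i j
      have := congrFun (congrFun (congrArg (fun z : Q0 F p =>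
        ((z : Matrix.GeneralLinearGroup (Fin p) F) : Matrix (Fin p) (Fin p) F)) h) i) j
      exact this
    have hkl : k = l := by
      have := h' (0 + k) 0
      rw [if_pos rfl] at this
      by_contra hne
      rw [if_neg (by simpa using hne)] at this
      exact pow_ne_zero _ (hζ.ne_zero hp.out.ne_zero) this
    subst hkl
    congr 1
    funext j
    have := h' (j + k) j
    rw [if_pos rfl, if_pos rfl] at this
    exact Fin.ext (hζ.pow_inj (a j).2 (b j).2 this)
  have := Nat.card_le_card_of_injective f hf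
  simpa [pow_succ'] using this

theorem val_GL [Fintype F] (hp2 : p ≠ 2) (h1 : p ∣ Fintype.card F - 1)
    (h2 : ¬ p ^ 2 ∣ Fintype.card F - 1) :
    (Nat.card (Matrix.GeneralLinearGroup (Fin p) F)).factorization p = p + 1 := by
  rw [Matrix.card_GL_field]
  set q := Fintype.card F with hq
  have hq1 : 1 < q := Fintype.one_lt_card
  have hpq : ¬ p ∣ q := by
    intro h
    have := (Nat.dvd_sub_iff_right hq1.le h).mp h1
    exact hp.out.one_lt.ne' (Nat.dvd_one.mp this)
  have hv1 : padicValNat p (q - 1) = 1 := by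
    have hne : q - 1 ≠ 0 := by omega
    have a1 : 1 ≤ padicValNat p (q - 1) := one_le_padicValNat_of_dvd hne h1
    have a2 : ¬ 2 ≤ padicValNat p (q - 1) := fun h => h2 ((padicValNat_dvd_iff_le hne).mpr h)
    omega
  have hterm : ∀ i : Fin p, (q ^ p - q ^ (i : ℕ)).factorization p =
      1 + if i = 0 then 1 else 0 := by
    intro i
    have hi := i.2
    have e : q ^ p - q ^ (i : ℕ) = q ^ (i : ℕ) * (q ^ (p - i) - 1 ^ (p - i)) := by
      rw [one_pow, Nat.mul_sub, ← pow_add, mul_one, Nat.add_sub_cancel' hi.le]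
    have hne : q ^ (p - i) - 1 ^ (p - i) ≠ 0 := by
      rw [one_pow]
      have := Nat.one_lt_pow (n := p - i) (by omega) hq1
      omega
    rw [e, Nat.factorization_def _ hp.out, padicValNat.mul (by positivity) hne,
      padicValNat.pow_sub_pow (hp.out.odd_of_ne_two hp2) hq1 h1 hpq (by omega), hv1,
      padicValNat.eq_zero_of_not_dvd (fun h => hpq (hp.out.dvd_of_dvd_pow h)), zero_add]
    congr 1
    by_cases h0 : i = 0
    · subst h0; simp
    · rw [if_neg h0]
      apply padicValNat.eq_zero_of_not_dvd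
      intro h
      have : (i : ℕ) ≠ 0 := fun hh => h0 (Fin.ext (by simpa using hh))
      have := Nat.le_of_dvd (by omega) h
      omega
  rw [Nat.factorization_prod]
  · rw [Finset.sum_apply', Finset.sum_congr rfl (fun i _ => hterm i), Finset.sum_add_distrib]
    simp
  · intro i _
    have := Nat.pow_lt_pow_right hq1 i.2
    omega

theorem find (hp2 : p ≠ 2) (hpF : (p : F) ≠ 0) {ζ : F} (hζ : ζ ^ p = 1) (hζ1 : ζ ≠ 1)
    {x : Matrix.GeneralLinearGroup (Fin p) F} (hx : x ∈ Q0 F p) :
    ∃ g : Matrix.GeneralLinearGroup (Fin p) F, g⁻¹ * x * g ∈ Q0 F p ∧ ∃ j a b, a ≠ b ∧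
      (g : Matrix (Fin p) (Fin p) F) a j ≠ 0 ∧ (g : Matrix (Fin p) (Fin p) F) b j ≠ 0 := by
  classical
  have hcomm : ∀ g : Matrix.GeneralLinearGroup (Fin p) F,
      (x : Matrix (Fin p) (Fin p) F) * g = g * x → g⁻¹ * x * g ∈ Q0 F p := by
    intro g hg
    have : x * g = g * x := Units.ext hg
    rw [mul_assoc, this, inv_mul_cancel_left]
    exact hx
  obtain ⟨k, hk⟩ := hx
  set X : Matrix (Fin p) (Fin p) F := x.val with hX
  have hζ0 : ζ ≠ 0 := by
    rintro rfl
    rw [zero_pow hp.out.ne_zero] at hζ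
    exact zero_ne_one hζ
  by_cases hk0 : k = 0
  · subst hk0
    by_cases hinj : Function.Injective (fun i => X i i)
    · have hdet := (Matrix.det_vandermonde_ne_zero_iff (v := fun i => X i i)).mpr hinj
      have hne : ∀ i, X i i ≠ 0 := fun i => by simpa using hk.ne i
      let g : Matrix.GeneralLinearGroup (Fin p) F := Matrix.GeneralLinearGroup.mkOfDetNeZero _ hdet
      have hg : (g : Matrix (Fin p) (Fin p) F) = Matrix.vandermonde (fun i => X i i) := rfl
      have hs : Sh (1 : Fin p) (Matrix.of fun i j => if i = j + 1 then (1 : F) else 0) := by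
        intro i j
        refine ⟨fun h => ?_, fun h => ?_⟩
        · rw [Matrix.of_apply, if_pos h, one_pow]
        · rw [Matrix.of_apply, if_neg h]
      refine ⟨g, ⟨1, ?_⟩, 0, 0, 1, ?_, ?_, ?_⟩
      · have : X * g.val = g.val * (Matrix.of fun i j => if i = j + 1 then (1 : F) else 0) := by
          ext i j
          rw [hs.mul_apply, hk.diag, Matrix.diagonal_mul, hg, Matrix.vandermonde_apply,
            Matrix.vandermonde_apply, Matrix.of_apply, if_pos rfl, mul_one, Fin.val_add,
            Fin.val_one', Nat.add_mod_mod, ← pow_eq_pow_mod _ ((hk i i).1 (by rw [add_zero])),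
            pow_succ']
        rw [Units.val_mul, Units.val_mul, Matrix.mul_assoc, ← hX, this, ← Matrix.mul_assoc,
          Units.inv_mul, Matrix.one_mul]
        exact hs
      · intro h
        have := congrArg Fin.val h
        rw [Fin.val_one', Nat.mod_eq_of_lt hp.out.one_lt] at this
        simp at this
      · rw [hg, Matrix.vandermonde_apply]; exact pow_ne_zero _ (hne _)
      · rw [hg, Matrix.vandermonde_apply]; exact pow_ne_zero _ (hne _)
    · obtain ⟨a, b, hab, hne⟩ := Function.not_injective_iff.mp hinj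
      let g : Matrix.GeneralLinearGroup (Fin p) F :=
        Matrix.GeneralLinearGroup.mkOfDetNeZero (Matrix.transvection a b 1)
          (by rw [Matrix.det_transvection_of_ne a b hne]; exact one_ne_zero)
      have hg : (g : Matrix (Fin p) (Fin p) F) = 1 + Matrix.single a b 1 := rfl
      refine ⟨g, hcomm g ?_, b, a, b, hne, ?_, ?_⟩
      · rw [hg, hk.diag]
        ext i j
        rw [Matrix.diagonal_mul, Matrix.mul_diagonal, Matrix.add_apply, Matrix.single_apply]
        by_cases hij : i = j
        · subst hij; ring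
        · rw [Matrix.one_apply_ne hij]
          split_ifs with h
          · obtain ⟨rfl, rfl⟩ := h
            have hab' : X a a = X b b := hab
            rw [hab']; ring
          · ring
      · rw [hg]; simp [Matrix.one_apply_ne hne]
      · rw [hg]; simp [Matrix.single_apply, hne]
  · have h20 : (2 : ℕ) • k ≠ 0 := by
      intro h
      have := nsmul_inj hk0 (three hp2) hp.out.pos (by rw [h, zero_nsmul])
      omega
    have hgeom : (1 - X) * ∑ i ∈ Finset.range p, X ^ i = 1 - X ^ p := mul_neg_geom_sum X p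
    by_cases hxp : X ^ p = 1
    · set s := ∑ i ∈ Finset.range p, X ^ i with hs
      have hXs : X * s = s := by
        rw [hxp, sub_self, sub_mul, one_mul, sub_eq_zero] at hgeom
        exact hgeom.symm
      have hsX : s * X = s := by
        have : Commute s X := Commute.sum_left _ _ _ (fun i _ => (Commute.refl X).pow_left i)
        rw [this.eq, hXs]
      have hss : s * s = (p : F) • s := by
        have : ∀ i, X ^ i * s = s := by
          intro i
          induction i with
          | zero => simp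
          | succ i ih => rw [pow_succ, Matrix.mul_assoc, hXs, ih]
        conv_lhs => enter [1]; rw [hs]
        rw [Finset.sum_mul, Finset.sum_congr rfl (fun i _ => this i)]
        simp [Nat.cast_smul_eq_nsmul]
      have hinv : ∀ a b : F, a * b = 1 →
          (1 + ((a - 1) / p) • s) * (1 + ((b - 1) / p) • s) = 1 := by
        intro a b hab
        rw [add_mul, mul_add, mul_add, one_mul, one_mul, mul_one, smul_mul_smul_comm, hss,
          smul_smul, add_assoc, ← add_smul, ← add_smul]
        have : (b - 1) / p + ((a - 1) / p + (a - 1) / p * ((b - 1) / p) * p) = 0 := by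
          field_simp
          linear_combination hab
        rw [this, zero_smul, add_zero]
      let g : Matrix.GeneralLinearGroup (Fin p) F :=
        ⟨1 + ((ζ - 1) / p) • s, 1 + ((ζ⁻¹ - 1) / p) • s, hinv _ _ (mul_inv_cancel₀ hζ0),
          hinv _ _ (inv_mul_cancel₀ hζ0)⟩
      have hg : (g : Matrix (Fin p) (Fin p) F) = 1 + ((ζ - 1) / p) • s := rfl
      have hent : ∀ n, n < p → n • k ≠ 0 → (g : Matrix (Fin p) (Fin p) F) (n • k) 0 ≠ 0 := by
        intro n hn hn0
        rw [hg, Matrix.add_apply, Matrix.one_apply_ne hn0, zero_add, Matrix.smul_apply, hs,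
          Matrix.sum_apply, Finset.sum_eq_single n]
        · have := (hk.pow n).ne 0
          rw [zero_add] at this
          exact mul_ne_zero (div_ne_zero (sub_ne_zero.mpr hζ1) hpF) this
        · intro m hm hmn
          apply ((hk.pow m) _ _).2
          rw [zero_add]
          exact fun h => hmn (nsmul_inj hk0 hn (Finset.mem_range.mp hm) h).symm
        · intro h; exact absurd (Finset.mem_range.mpr hn) h
      refine ⟨g, hcomm g ?_, 0, 1 • k, 2 • k, ?_, hent 1 hp.out.one_lt (by simpa using hk0),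
        hent 2 (three hp2) h20⟩
      · rw [hg, mul_add, add_mul, Matrix.mul_smul, Matrix.smul_mul, hXs, hsX, mul_one, one_mul]
      · intro h
        have := nsmul_inj hk0 hp.out.one_lt (three hp2) h
        omega
    · have hY := hk.pow_p
      set Y := X ^ p with hYd
      have hYX : Y * X = X * Y := ((Commute.refl X).pow_left p).eq
      have hstep : ∀ j, Y (j + k) (j + k) = Y j j := by
        intro j
        have := congrFun (congrFun hYX (j + k)) j
        rw [hk.mul_apply, hY.mul_apply, add_zero, mul_comm] at this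
        exact mul_left_cancel₀ (hk.ne j) this
      have hall : ∀ j, Y j j = Y 0 0 := by
        intro j
        obtain ⟨n, rfl⟩ : j ∈ AddSubmonoid.multiples k :=
          mem_multiples_of_prime_card (p := p) (by simp) hk0
        induction n with
        | zero => simp
        | succ n ih => simp only [succ_nsmul] at ih ⊢; rw [hstep, ih]
      have hYc : Y = Y 0 0 • (1 : Matrix (Fin p) (Fin p) F) := by
        rw [hY.diag]
        ext i j
        by_cases hij : i = j
        · subst hij; simp [hall i]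
        · simp [Matrix.diagonal_apply_ne _ hij, Matrix.one_apply_ne hij]
      set c := Y 0 0 with hc
      have hc1 : (1 - c) ≠ 0 := by
        intro h
        apply hxp
        rw [hYc, ← sub_eq_zero.mp h, one_smul]
      have hmul : (1 - X) * ((1 - c)⁻¹ • ∑ i ∈ Finset.range p, X ^ i) = 1 := by
        rw [Matrix.mul_smul, hgeom, hYc]
        have : (1 : Matrix (Fin p) (Fin p) F) - c • 1 = (1 - c) • 1 := by rw [sub_smul, one_smul]
        rw [this, smul_smul, inv_mul_cancel₀ hc1, one_smul]
      let g : Matrix.GeneralLinearGroup (Fin p) F :=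
        ⟨1 - X, _, hmul, mul_eq_one_comm.mp hmul⟩
      have hg : (g : Matrix (Fin p) (Fin p) F) = 1 - X := rfl
      refine ⟨g, hcomm g ?_, 0, 0, k, Ne.symm hk0, ?_, ?_⟩
      · rw [hg, mul_sub, sub_mul, mul_one, one_mul]
      · rw [hg, Matrix.sub_apply, (hk 0 0).2 (by simpa using Ne.symm hk0)]; simp
      · rw [hg, Matrix.sub_apply, Matrix.one_apply_ne hk0, zero_sub, neg_ne_zero]
        simpa using hk.ne 0


/-- Let p be an odd prime and F a finite field with q elements such that p divides q - 1 but p² does not. Then GL(p, F) has a Sylow p-subgroup Q such that every element of p-power order lies in some Sylow p-subgroup other than Q (a redundant Sylow p-subgroup). -/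
theorem result {F : Type*} [Field F] [Fintype F] (p : ℕ) [Fact p.Prime]
    (hp : p ≠ 2) (h1 : p ∣ Fintype.card F - 1) (h2 : ¬ p ^ 2 ∣ Fintype.card F - 1) :
    ∃ Q : Sylow p (Matrix.GeneralLinearGroup (Fin p) F), ∀ x : Matrix.GeneralLinearGroup (Fin p) F,
      (∃ k : ℕ, orderOf x = p ^ k) → ∃ P : Sylow p (Matrix.GeneralLinearGroup (Fin p) F), P ≠ Q ∧ x ∈ P := by
  classical
  have hpp : p.Prime := Fact.out
  have hq1 : 1 < Fintype.card F := Fintype.one_lt_card
  obtain ⟨z, hz⟩ : ∃ z : Fˣ, orderOf z = p :=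
    exists_prime_orderOf_dvd_card p (by rwa [Fintype.card_units])
  have hζ : IsPrimitiveRoot (z : F) p := by
    rw [← hz, ← orderOf_units]; exact IsPrimitiveRoot.orderOf _
  have hpF : (p : F) ≠ 0 := by
    have := hζ.neZero' (R := F)
    exact this.out
  obtain ⟨Q, hQ⟩ := (Q0_p (F := F) (p := p)).exists_le_sylow
  have hQe : Q0 F p = Q := by
    apply Subgroup.eq_of_le_of_card_ge hQ
    rw [Q.card_eq_multiplicity, val_GL hp h1 h2]
    exact card_Q0 hζ
  refine ⟨Q, fun x ⟨k, hk⟩ => ?_⟩
  by_cases hx : x ∈ Q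
  · obtain ⟨g, hg, j, a, b, hab, ha, hb⟩ := find hp hpF hζ.pow_eq_one (hζ.ne_one hpp.one_lt)
      (x := x) (by rw [hQe]; exact hx)
    refine ⟨g • Q, fun h => hab ?_, ?_⟩
    · refine mono hp hζ.pow_eq_one (hζ.ne_one hpp.one_lt) (g := g) ?_ ha hb
      intro y hy
      rw [hQe] at hy ⊢
      exact (Subgroup.mem_normalizer_iff.mp (Sylow.smul_eq_iff_mem_normalizer.mp h) y).mp hy
    · rw [hQe] at hg
      have : x = g * (g⁻¹ * x * g) * g⁻¹ := by group
      rw [this]
      exact Subgroup.smul_mem_pointwise_smul _ (MulAut.conj g) _ hg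
  · have : IsPGroup p (Subgroup.zpowers x) := IsPGroup.of_card (n := k) (by rw [Nat.card_zpowers, hk])
    obtain ⟨P, hP⟩ := this.exists_le_sylow
    refine ⟨P, ?_, hP (Subgroup.mem_zpowers x)⟩
    rintro rfl
    exact hx (hP (Subgroup.mem_zpowers x))

end Cfsg.Agent.S4358
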