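import Cfsg.Statements.S4363
import Cfsg.Agent.H22.Tw12

set_option autoImplicit false
open Cfsg

namespace Cfsg.Agent.S4363

/-- Let G be a finite solvable group and σ an automorphism of G of prime order r not dividing the order of G, with fixed-point subgroup C. Then the Fitting height of G exceeds that of C by at most 2: if C has a chain of normal subgroups 1 = C₀ ≤ ⋯ ≤ Cₙ = C with nilpotent factors, then G has such a chain of length n + 2. -/
theorem result {G : Type*} [Group G] [Finite G]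
    (hG : Group.IsSolvable G) (σ : MulAut G) (r : ℕ) (hr : r.Prime) (hσ : orderOf σ = r) (hcop : ¬ r ∣ Nat.card G)
    (C : Subgroup G) (hC : ∀ g : G, g ∈ C ↔ σ g = g) (n : ℕ) (hn : (∃ F : Fin (n + 1) → Subgroup ↥C, F 0 = ⊥ ∧ F (Fin.last n) = ⊤ ∧ Monotone F ∧ (∀ i, (F i).Normal) ∧ ∀ i : Fin n, ∃ k : ℕ, (F i.succ).lowerCentralSeries k ≤ F i.castSucc)) :
    (∃ F : Fin ((n + 2) + 1) → Subgroup G, F 0 = ⊥ ∧ F (Fin.last (n + 2)) = ⊤ ∧ Monotone F ∧ (∀ i, (F i).Normal) ∧ ∀ i : Fin (n + 2), ∃ k : ℕ, (F i.succ).lowerCentralSeries k ≤ F i.castSucc) := by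
  open Subgroup Cfsg.Agent.FT Cfsg.Agent.TW SemidirectProduct in
  obtain ⟨F, h0, h1, h2, h3, h4⟩ := hn
  haveI : Finite (G ⋊[MonoidHom.id (MulAut G)] MulAut G) := Finite.of_equiv _ SemidirectProduct.equivProd.symm
  let ι : G →* G ⋊[MonoidHom.id (MulAut G)] MulAut G := inl
  have hι : Function.Injective ι := inl_injective
  have hc : ∀ g, inr σ * ι g * (inr σ)⁻¹ = ι (σ g) := fun g => by
    rw [← map_inv]; exact (inl_aut (φ := MonoidHom.id (MulAut G)) σ g).symm
  let f := ι.comp C.subtype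
  have hMC : (⊤ : Subgroup G).map ι ⊓ C[inr σ] = (⊤ : Subgroup C).map f := by
    ext x
    constructor
    · rintro ⟨⟨g, -, rfl⟩, e⟩
      exact ⟨⟨g, (hC g).2 (hι (by rw [← hc, ← mem_cen1.1 e, mul_inv_cancel_right]))⟩, mem_top _, rfl⟩
    · rintro ⟨g, -, rfl⟩
      refine ⟨⟨g, mem_top _, rfl⟩, mem_cen1.2 ?_⟩
      have := hc g
      rw [(hC g).1 g.2, mul_inv_eq_iff_eq_mul] at this
      exact this.symm
  have hN : ∀ i, (F i).map f ⊴ (⊤ : Subgroup C).map f := fun i => (nml_top_iff.2 (h3 i)).map f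
  have c : Chn ((⊤ : Subgroup G).map ι ⊓ C[inr σ]) (fun t => (F ⟨min t n, by omega⟩).map f) n := by
    rw [hMC]
    refine ⟨?_, fun t => (hN _).le, fun t => (hN _).nrm, fun t => (nil_quo_iff ((hN _).le.trans (hN _).nrm)).2 ?_,
      fun t ht => ?_⟩
    · rw [show (⟨min 0 n, by omega⟩ : Fin (n + 1)) = 0 from Fin.ext (by simp), h0, Subgroup.map_bot]
    · by_cases ht : t < n
      · obtain ⟨k, hk⟩ := h4 ⟨t, ht⟩
        refine ⟨k, ?_⟩
        rw [← map_lowerCentralSeries, show (⟨min (t + 1) n, by omega⟩ : Fin (n + 1)) = Fin.succ ⟨t, ht⟩ from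
          Fin.ext (by simp; omega), show (⟨min t n, by omega⟩ : Fin (n + 1)) = Fin.castSucc ⟨t, ht⟩ from
          Fin.ext (by simp; omega)]
        exact map_mono hk
      · exact ⟨0, map_mono (h2 (Fin.mk_le_mk.2 (by omega)))⟩
    · rw [show (⟨min t n, by omega⟩ : Fin (n + 1)) = Fin.last n from Fin.ext (by simp; omega), h1]
  obtain ⟨F', e0, e1, e2, e3, e4⟩ := (turull ((sol_top.2 hG).map ι)
    (mem_nrm.2 (by rintro _ ⟨g, -, rfl⟩; exact ⟨σ g, mem_top _, (hc g).symm⟩)) hr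
    (by rw [← map_pow, ← hσ, pow_orderOf_eq_one, map_one]) (by rwa [card_map_inj hι, card_top']) c).chain (nml_bot _)
  refine ⟨fun i => (F' i).comap ι, ?_, ?_, fun i j hij => comap_mono (monotone_nat_of_le_succ e2 hij), fun i => ?_,
    fun i => ?_⟩
  · change (F' 0).comap ι = ⊥
    rw [e0, MonoidHom.comap_bot, (MonoidHom.ker_eq_bot_iff _).2 hι]
  · change (F' (n + 2)).comap ι = ⊤
    rw [e1, comap_map_eq_self_of_injective hι]
  · exact ⟨fun x hx g => by
      rw [mem_comap, map_mul, map_mul, map_inv]; exact (e3 i).conj_mem ⟨g, mem_top _, rfl⟩ hx⟩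
  · obtain ⟨k, hk⟩ := (nil_quo_iff ((e3 _).le.trans (e3 _).nrm)).1 (e4 i i.2)
    refine ⟨k, map_le_iff_le_comap.1 ?_⟩
    rw [map_lowerCentralSeries]
    exact (lowerCentralSeries_mono k (map_comap_le _ _)).trans hk

end Cfsg.Agent.S4363
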