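import Cfsg.Statements.S4394
import Mathlib
import Cfsg.Agent.H1.HHS

set_option autoImplicit false
open Cfsg

namespace Cfsg.Agent.S4394

open Cfsg.Agent.H1 Cfsg.Agent.FT Cfsg.Agent.H2 Subgroup

/-- Let X be a finite minimal non-nilpotent group (not nilpotent, every proper subgroup nilpotent) with a nontrivial normal Sylow p-subgroup P. If G is a finite p-solvable group whose Sylow p-subgroups are isomorphic to P, then G has p-length at most 1. -/
theorem result {G X : Type*} [Group G] [Finite G] [Group X] [Finite X] (p : ℕ) [Fact p.Prime]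
    (hX : Cfsg.IsMinimalNonNilpotent X) (P : Sylow p X) (hPn : (P : Subgroup X).Normal) (hP1 : (P : Subgroup X) ≠ ⊥)
    (hG : Cfsg.IsPSolvable p G) (Q : Sylow p G) (hQ : Nonempty (↥(Q : Subgroup G) ≃* ↥(P : Subgroup X))) : Cfsg.PLengthLE p 1 G := by
  have hp : p.Prime := Fact.out
  obtain ⟨e⟩ := hQ
  haveI := pPrimeCore_characteristic (p := p) (G := G)
  have s := QuotientGroup.mk'_surjective (pPrimeCore p G)
  have hO := (pcore_top _).trans (piCore_compl_singleton (G := G) hp)
  have hi : Function.Injective ((QuotientGroup.mk' (pPrimeCore p G)).comp (Q : Subgroup G).subtype) :=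
    (injective_iff_map_eq_one _).2 fun x hx => Subtype.ext (((syl_top hp Q).pi.piElt x.2).eq_one_of_mem
      (pcore_pi _ ⊤) (hO.ge ((QuotientGroup.eq_one_iff _).1 hx)))
  have h1 := ((sxt_of_schmidt hp hX (syl_top hp P) (nml_top_iff.2 hPn) hP1).equiv e.symm).equiv
    (MonoidHom.ofInjective hi)
  rw [MonoidHom.range_comp, range_subtype] at h1
  have h2 := h1.nml (isPSolvable_of_surjective hp _ s hG) (by
    rw [pcore_top, piCore_compl_singleton hp, pPrimeCore_quotient_self])
    (map_top_of_surjective _ s ▸ (syl_top hp Q).map _)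
  exact H5b.pLengthLE_one_iff.2 (H5b.coprime_index_of_sylow_le Q (map_le_iff_le_comap.1 (h2.trans (pcore_top' hp).le)))

end Cfsg.Agent.S4394
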