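import Cfsg.Statements.S4400
import Cfsg.Agent.GO.Sr

set_option autoImplicit false
open Cfsg

namespace Cfsg.Agent.S4400

/-- Let S be a finite 2-group of sectional 2-rank at most 4, and let P and Q be normal non-abelian subgroups of S whose centres have order 2 and are different. Then P and Q commute elementwise and intersect trivially, and PQ contains its own centralizer in S. -/
theorem result {S : Type*} [Group S] [Finite S] (h2 : IsPGroup 2 S) (hr : Cfsg.SectionalPRankLE 2 4 S)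
    (P Q : Subgroup S) [P.Normal] [Q.Normal] (hP : ¬ IsMulCommutative ↥P) (hQ : ¬ IsMulCommutative ↥Q)
    (hZP : Nat.card ↥(Subgroup.center ↥P) = 2) (hZQ : Nat.card ↥(Subgroup.center ↥Q) = 2)
    (hne : (Subgroup.center ↥P).map P.subtype ≠ (Subgroup.center ↥Q).map Q.subtype) :
    ⁅P, Q⁆ = ⊥ ∧ P ⊓ Q = ⊥ ∧ Subgroup.centralizer ((P ⊔ Q : Subgroup S) : Set S) ≤ P ⊔ Q := by
  rw [← FT.center_eq_map, ← FT.center_eq_map] at hne
  have e : ∀ P : Subgroup S, Nat.card ↥(Subgroup.center ↥P) = Nat.card ↥(P ⊓ Subgroup.centralizer (P : Set S)) := fun P => by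
    rw [FT.center_eq_map, Subgroup.card_map_of_injective P.subtype_injective]
  obtain ⟨a1, a2, a3⟩ := GO.s4400 (FT.pGrp_of_isPGroup Nat.prime_two (h2.to_subgroup ⊤)) (GO.sr_of hr)
    (FT.nml_top_iff.2 ‹P.Normal›) (FT.nml_top_iff.2 ‹Q.Normal›) hP hQ (e P ▸ hZP) (e Q ▸ hZQ) hne
  exact ⟨FT.comm_eq_bot'.2 a2, a1, fun x hx => a3 ⟨Subgroup.mem_top x, hx⟩⟩

end Cfsg.Agent.S4400
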