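import Cfsg.Statements.S4401
import Cfsg.Agent.GO.Sr

set_option autoImplicit false
open Cfsg

namespace Cfsg.Agent.S4401

/-- Let S be a finite 2-group of sectional 2-rank at most 4 and P a proper non-abelian subgroup whose centre has order 2. Let S₀ be the centralizer in S of Z(P) and suppose P is normal in S₀. Then either S₀ = S, or P has sectional 2-rank at most 2 and S₀ has index 2 in S. -/
theorem result {S : Type*} [Group S] [Finite S] (h2 : IsPGroup 2 S) (hr : Cfsg.SectionalPRankLE 2 4 S)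
    (P : Subgroup S) (hPlt : P ≠ ⊤) (hP : ¬ IsMulCommutative ↥P) (hZP : Nat.card ↥(Subgroup.center ↥P) = 2)
    (S₀ : Subgroup S) (hS₀ : S₀ = Subgroup.centralizer (((Subgroup.center ↥P).map P.subtype : Subgroup S) : Set S))
    (hPn : ∀ s ∈ S₀, ∀ x ∈ P, s * x * s⁻¹ ∈ P) :
    S₀ = ⊤ ∨ (Cfsg.SectionalPRankLE 2 2 ↥P ∧ S₀.index = 2) := by
  rw [← FT.center_eq_map] at hS₀
  subst hS₀
  have e : Nat.card ↥(Subgroup.center ↥P) = Nat.card ↥(P ⊓ Subgroup.centralizer (P : Set S)) := by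
    rw [FT.center_eq_map, Subgroup.card_map_of_injective P.subtype_injective]
  refine or_iff_not_imp_left.2 fun hne => ?_
  obtain ⟨a1, a2⟩ := GO.s4401 (FT.pGrp_of_isPGroup Nat.prime_two (h2.to_subgroup ⊤)) (GO.sr_of hr) hP (e ▸ hZP)
    (FT.le_nrm_iff.2 hPn) hne
  exact ⟨GO.of_sr a1, a2⟩

end Cfsg.Agent.S4401
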