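import Cfsg.Statements.S4419
import Mathlib
import Cfsg.Agent.H4.Cyc2

set_option autoImplicit false
open Cfsg

namespace Cfsg.Agent.S4419

/-- Let p be a prime and G a finite group whose Sylow p-subgroups are metacyclic (a cyclic normal subgroup with cyclic quotient). Then G has a normal p-complement if and only if the order of G/O_{p′,p}(G) is coprime to p² − 1. -/
theorem result {G : Type*} [Group G] [Finite G] (p : ℕ) [Fact p.Prime] (S : Sylow p G) (hS : Cfsg.IsMetacyclic ↥(S : Subgroup G)) : Cfsg.HasNormalPComplement p G ↔ Nat.Coprime (Nat.card (G ⧸ Cfsg.pPrimePCore p G)) (p ^ 2 - 1) := by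
  open Subgroup Cfsg.Agent.H22 Cfsg.Agent.H4 in
  refine ⟨fun h => ?_, fun h => ?_⟩
  · rw [← index_eq_card, hasNPC_iff_pPrimePCore.1 h, index_top]; simp
  by_contra hc
  obtain ⟨Q, hQ, q, hq, hq2, g, hg, ⟨k, hk⟩, hc⟩ := exists_prime_pow_elt_of_not_hasNPC S hc
  have := Fact.mk hq
  have hQp := S.isPGroup'.to_le hQ
  obtain ⟨c, c1, c2, c3⟩ := dvd_of_frattini (q := q) (n := 2) hq2 hQp
    (H3.index_frattini_le_sq_of_isMetacyclic hQp (H3.isMetacyclic_of_injective hS (inclusion hQ)
      (inclusion_injective hQ))) (isPGroup_zpowers_of_orderOf hk) (zpowers_le.2 hg) (by rwa [zpowers_le])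
  have c4 : q ∣ p ^ 2 - 1 := by
    interval_cases c
    · exact c3.trans (by simpa using Nat.sub_dvd_pow_sub_pow p 1 2)
    · exact c3
  have ho : (orderOf g).Coprime p := hk ▸ ((Nat.coprime_primes hq Fact.out).2 hq2).pow_left k
  have h1 : g ∈ pPrimePCore p G := by
    refine (QuotientGroup.eq_one_iff g).1 (orderOf_eq_one_iff.1 (Nat.eq_one_of_dvd_coprimes
      ((h.of_dvd_right c4).pow_right k) (orderOf_dvd_natCard _) ?_))
    exact hk ▸ orderOf_map_dvd (QuotientGroup.mk' _) g
  exact hc (inf_normalizer_le_centralizer (D := pPrimeCore p G) H2.pPrimeCore_coprime hQp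
    ⟨mem_pPrimeCore_of_coprime h1 ho, hg⟩)

end Cfsg.Agent.S4419
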