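import Cfsg.Statements.S4514
import Mathlib
import Cfsg.Agent.H9.Har2

set_option autoImplicit false
open Cfsg

namespace Cfsg.Agent.S4514

/-- Let G be a finite group, u an element of G, and fix a maximal ideal M of the algebraic integers containing 2 (defining the 2-blocks). There is a complex number k with χ(1) − χ(u) = k for every non-principal irreducible character χ in the principal 2-block if and only if one of the following holds: u lies in O(G); or G/O(G) has order 2 and u ∉ O(G); or G/O(G) ≅ PSL(2, 2ⁿ) for some n ≥ 2, u ∉ O(G) and u² ∈ O(G). -/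
theorem result {G : Type*} [Group G] [Finite G] (M : Ideal Cfsg.AlgInt) (hM : Cfsg.IsPModular 2 M) (u : G) :
    (∃ k : ℂ, ∀ χ : Cfsg.IrrCharacter G, χ ∈ Cfsg.principalBlock M G → (χ : G → ℂ) ≠ (fun _ => 1) →
        (χ : G → ℂ) 1 - (χ : G → ℂ) u = k) ↔
      (u ∈ Cfsg.oddCore G ∨ (Nat.card (G ⧸ Cfsg.oddCore G) = 2 ∧ u ∉ Cfsg.oddCore G) ∨
        (∃ (F : Type) (_ : Field F) (_ : Fintype F) (n : ℕ), 2 ≤ n ∧ Fintype.card F = 2 ^ n ∧
          Nonempty (G ⧸ Cfsg.oddCore G ≃* Matrix.ProjectiveSpecialLinearGroup (Fin 2) F) ∧ u ∉ Cfsg.oddCore G ∧ u ^ 2 ∈ Cfsg.oddCore G)) := by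
  haveI := hM.2.1; haveI : H9.PMod M 2 := ⟨hM⟩
  have h0 : ∀ k, (∀ χ : IrrCharacter G, χ ∈ principalBlock M G → (χ : G → ℂ) ≠ (fun _ => 1) →
      (χ : G → ℂ) 1 - (χ : G → ℂ) u = k) ↔ H9.Har M (QuotientGroup.mk' (oddCore G) u) k := fun k => by
    rw [← H9.har_quo (QuotientGroup.mk'_surjective _)
      (by rw [QuotientGroup.ker_mk']; exact H2.pPrimeCore_coprime)]
    exact forall₂_congr fun χ _ => imp_congr_left (not_congr (Subtype.ext_iff (a2 := H8.irrOne G)).symm)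
  simp only [h0, ← QuotientGroup.eq_one_iff (N := oddCore G), QuotientGroup.mk_pow, QuotientGroup.mk'_apply]
  generalize (u : G ⧸ oddCore G) = v
  constructor
  · rintro ⟨k, h⟩
    by_cases v1 : v = 1
    · exact Or.inl v1
    refine Or.inr ((h.core (by
      rw [FT.pcore_top, FT.piCore_compl_singleton Nat.prime_two, H2.pPrimeCore_quotient_self]) v1).imp
        (⟨·, v1⟩) ?_)
    rintro ⟨F, _, _, n, h1, h2, h3, h4⟩
    exact ⟨F, _, _, n, h1, h2, h3, v1, h4⟩
  · rintro (rfl | ⟨h, -⟩ | ⟨F, _, _, n, h1, h2, ⟨e⟩, h3, h4⟩)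
    · exact ⟨0, fun _ _ _ => sub_self _⟩
    · exact H9.har_of_card_two h v
    · exact ⟨_, fun χ _ => H9.har_psl h1 h2 e (GW.invo_iff.2 ⟨sq v ▸ h4, h3⟩)⟩

end Cfsg.Agent.S4514
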