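import Cfsg.Statements.S4570
import Mathlib
import Cfsg.Agent.H9.AS3

set_option autoImplicit false
open Cfsg

namespace Cfsg.Agent.S4570

/-- Let G be a finite group with a commutative Sylow 2-subgroup P and M a maximal ideal of the algebraic integers containing 2, and suppose some involution x of G has the property that the principal 2-block of its centralizer has 2-regular rank one. If P has order 8 then the principal 2-block of G contains exactly 8 irreducible characters, and if P has order 16 it contains 8 or 16. -/
theorem result {G : Type*} [Group G] [Finite G] (M : Ideal Cfsg.AlgInt) (hM : Cfsg.IsPModular 2 M) (P : Sylow 2 G) (hab : IsMulCommutative P) (x : G) (hx : orderOf x = 2) (hl : Cfsg.blockRank 2 (Cfsg.principalBlock M ↥(Subgroup.centralizer ({x} : Set G))) = 1) : (Nat.card P = 8 → Nat.card (Cfsg.principalBlock M G) = 8) ∧ (Nat.card P = 16 → Nat.card (Cfsg.principalBlock M G) = 8 ∨ Nat.card (Cfsg.principalBlock M G) = 16) := by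
  haveI := hM.2.1; haveI : H9.PMod M 2 := ⟨hM⟩
  obtain ⟨Q, hQ⟩ := (H8.isPGroup_zpowers (p := 2) ⟨1, hx⟩).exists_le_sylow
  rw [Nat.card_congr (P.equiv Q).toEquiv]
  exact H9.prin_small Q (FT.Ab.of_equiv hab (P.equiv Q)) (hQ (Subgroup.mem_zpowers x))
    (fun e => by simp [e] at hx) hl

end Cfsg.Agent.S4570
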