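import Cfsg.Statements.S4573
import Mathlib
import Cfsg.Agent.H9.Ez4

set_option autoImplicit false
universe u
open Cfsg

namespace Cfsg.Agent.S4573

/-- Every finite solvable group is isomorphic to a subgroup of a finite M-group, a group each of whose irreducible characters is induced from a homomorphism of some subgroup into ℂˣ. -/
theorem result {G : Type u} [Group G] [Finite G] (hsolv : Group.IsSolvable G) : ∃ (M : Type u) (_ : Group M) (_ : Fintype M), (∀ χ : M → ℂ, Cfsg.IsIrrCharacter M χ → (∃ (H : Subgroup M) (lam : ↥H →* ℂˣ), χ = Cfsg.indFun H (fun h => (lam h : ℂ)))) ∧ ∃ f : G →* M, Function.Injective f := by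
  obtain ⟨M, _, _, h, hf⟩ := H9.Ez.dade_embed _ G rfl hsolv
  letI : Fintype M := Fintype.ofFinite M
  refine ⟨M, inferInstance, inferInstance, fun χ hχ => ?_, hf⟩
  obtain ⟨U, l, e⟩ := h χ hχ
  exact ⟨U, l, e.trans (H7.ind_subtype U _)⟩

end Cfsg.Agent.S4573
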