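import Cfsg.Statements.S4779
import Mathlib
import Cfsg.Agent.H8.DG2

set_option autoImplicit false
open Cfsg

namespace Cfsg.Agent.S4779

open Cfsg.Agent.H8.DG in

/-- Let N be a solvable normal subgroup of the finite group G contained in the derived subgroup of G, and consider the common-divisor graph on the relative degree set cd(G|N) (degrees of irreducible complex characters of G whose kernel does not contain N, two distinct degrees adjacent when not coprime). If this graph has two vertices that are not joined by any path, then there is a vertex a₀ such that any two distinct vertices in the component of a₀ are adjacent, and any two distinct vertices outside that component are adjacent or have a common neighbour (one component is complete, the other has diameter at most 2). -/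
theorem result {G : Type*} [Group G] [Finite G] (N : Subgroup G) [N.Normal] [Group.IsSolvable N] (hNG : N ≤ commutator G) (hdisc : ¬ (Cfsg.commonDivisorGraph.induce (Cfsg.relCharDegrees N)).Preconnected) : ∃ a₀ : ↥(Cfsg.relCharDegrees N), (∀ b c : ↥(Cfsg.relCharDegrees N), (Cfsg.commonDivisorGraph.induce (Cfsg.relCharDegrees N)).Reachable a₀ b → (Cfsg.commonDivisorGraph.induce (Cfsg.relCharDegrees N)).Reachable a₀ c → b ≠ c → (Cfsg.commonDivisorGraph.induce (Cfsg.relCharDegrees N)).Adj b c) ∧ (∀ b c : ↥(Cfsg.relCharDegrees N), ¬ (Cfsg.commonDivisorGraph.induce (Cfsg.relCharDegrees N)).Reachable a₀ b → ¬ (Cfsg.commonDivisorGraph.induce (Cfsg.relCharDegrees N)).Reachable a₀ c → b ≠ c → (Cfsg.commonDivisorGraph.induce (Cfsg.relCharDegrees N)).Adj b c ∨ ∃ d : ↥(Cfsg.relCharDegrees N), (Cfsg.commonDivisorGraph.induce (Cfsg.relCharDegrees N)).Adj b d ∧ (Cfsg.commonDivisorGraph.induce (Cfsg.relCharDegrees N)).Adj d c) := by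
  obtain ⟨u, h⟩ := not_forall.1 hdisc
  obtain ⟨v, h⟩ := not_forall.1 h
  obtain ⟨p, hp, hm⟩ := exists_p (der_lt (ne_bot u.2))
  obtain ⟨u, v, h, z⟩ : ∃ u v, ¬ (Gr N).Reachable u v ∧ p ∣ u.1 := by
    by_cases z : p ∣ u.1
    · exact ⟨u, v, h, z⟩
    have := mt (rch_side hNG hp hm u v) h
    exact ⟨v, u, mt SimpleGraph.Reachable.symm h, by tauto⟩
  have z' := (sides hNG h hp hm z hp hm).2
  have k : ∀ b, (Gr N).Reachable u b → p ∣ b.1 := fun b hb => by_contra fun y =>
    h (hb.trans (rch_side hNG hp hm b v (iff_of_false y z')))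
  refine ⟨u, fun b c hb hc e => adj e (not_cop (k b hb) (k c hc) hp.ne_one), fun b c hb hc e => ?_⟩
  obtain ⟨d, hd, h1, h2⟩ := r2_of_rch _ N rfl hNG u b c hb hc
  by_cases e1 : b = ⟨d, hd⟩
  · exact .inl (adj e (e1 ▸ h2))
  by_cases e2 : ⟨d, hd⟩ = c
  · exact .inl (adj e (e2 ▸ h1))
  exact .inr ⟨⟨d, hd⟩, adj e1 h1, adj e2 h2⟩

end Cfsg.Agent.S4779
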