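import Cfsg.Statements.S5178
import Mathlib
import Cfsg.Agent.H18.AbIdx

set_option autoImplicit false
universe u
open Cfsg

namespace Cfsg.Agent.S5178

open Cfsg.Agent.H18 Cfsg.Agent.H3 Cfsg.Agent.FT Subgroup
open scoped commutatorElement

/-- Let p be an odd prime, S a finite p-group containing an extraspecial subgroup Q of index p, and F a saturated fusion system over S whose largest subgroup normal in F is trivial. Then the centre of S equals the centre of Q. -/
theorem result {Ω : Type u} [Group Ω] {S : Subgroup Ω} [Finite S] (p : ℕ) [Fact p.Prime] (hp : Odd p) (hS : IsPGroup p S)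
    (Q : Subgroup Ω) (hQS : Q ≤ S) (hQ : Cfsg.IsExtraspecial p ↥Q) (hQi : (Q.subgroupOf S).index = p)
    (F : Cfsg.FusionSystem S) (hF : F.IsSaturated p) (hO : F.core = ⊥) :
    S ⊓ Subgroup.centralizer (S : Set Ω) = Q ⊓ Subgroup.centralizer (Q : Set Ω) := by
  obtain ⟨G, _, _, S', F', j, k, h, hB⟩ := exists_iso_big F
  have hI := h.toPIso
  have hJ := hI.restrict hQS
  haveI : Finite Q := Finite.of_injective _ (inclusion_injective hQS)
  have pQ := pGrp_of_isPGroup Fact.out (hJ.isPGroup hQ.1.1)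
  have e1 : ⁅Q, Q⁆ = Z(Q) := by rw [← map_subtype_commutator, hQ.1.2.2, map_center_subtype]
  have e2 : ⁅H17.img j Q, H17.img j Q⁆ = Z(H17.img j Q) := by rw [← pi_der hJ, e1, pi_center hJ]
  have hE : Extraspecial (H17.img j Q) := ⟨⟨(Phi_eq_der_of_equiv pQ hJ.equiv
    (hQ.1.2.1.trans hQ.1.2.2.symm)).trans e2, e2⟩, by
      rw [← e2, card_der_of_equiv hJ.equiv, hQ.1.2.2, hQ.2]; exact Fact.out⟩
  have := ext_center (p := p) (by rintro rfl; exact absurd hp (by decide))
    (pGrp_of_isPGroup Fact.out (hI.isPGroup hS)) (h.saturated hF) hB (by rw [← h.img_core, hO, hI.img_bot])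
    (hI.img_le hQS) hE ((pi_relIndex_top hI hQS).trans hQi)
  rw [← pi_center hI, ← pi_center hJ] at this
  exact (hI.img_inj inf_le_left (inf_le_left.trans hQS)).1 this

end Cfsg.Agent.S5178
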