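import Cfsg.Statements.S5179
import Mathlib
import Cfsg.Agent.H18.AbIdx

set_option autoImplicit false
universe u
open Cfsg

namespace Cfsg.Agent.S5179

open Cfsg.Agent.H18 Cfsg.Agent.H3 Cfsg.Agent.FT Subgroup
open scoped commutatorElement

theorem cfg_ext_eq {G : Type*} [Group G] [Finite G] {p : ℕ} [hp : Fact p.Prime] {S U R L M : Subgroup G}
    (hS : PGrp p S) (hU : U ≤ S) (hE : Extraspecial U) (hi : U.relIndex S = p) (h4 : p ^ 3 < #U)
    (hc : Cfg p R (S ⊓ N(R)) L M) (hR : R ≤ U) : R = U := by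
  by_contra ne
  have nl : ¬ U ≤ R := fun l => ne (le_antisymm hR l)
  have pU := hS.mono hU
  have cZ := hE.card_center pU
  have zR : Z(U) ≤ R := (le_inf (inf_le_left.trans hU) (centsC (hS.cents_of_prime cZ hp.out
    (norms_center (hS.nml_of_relIndex hp.out hU hi).nrm)))).trans (AI.cfg_Z hc)
  have d : ⁅R, U⁆ ≤ Z(U) := (commSS hR le_rfl).trans hE.special.der.le
  have UT : U ≤ S ⊓ N(R) := le_inf hU (norms_of_comm_le (d.trans zR))
  have nZ : ¬ L ≤ N(Z(U)) := fun n => nl (hc.le_of_chain zR n (UT.trans hc.T_le) d (centsC inf_le_right))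
  have ab : Ab R := by_contra fun na => nZ (eq_of_le_prime (cZ.symm ▸ hp.out) ((commSS le_rfl hR).trans d)
    (fun e => na (ab_iff_der.2 e)) ▸ norms_der hc.nR)
  have key : ∀ y ∈ R, ¬ U ⊓ C[y] ≤ R := fun y hy l => by
    have c1 := (card_le_card_inf_centralizer_mul U Z(U) (y := y) fun g hg =>
      hE.special.der.le (commutator_mem_commutator hg (hR hy))).trans (Nat.mul_le_mul_right _ (card_le l))
    have c2 := pU.mul_card_le (lt_of_le_of_ne hR ne)
    rw [cZ, mul_comm] at c1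
    have A : AI p U R := ⟨pU, hR, ab, relIndex_of_card_mul hR (le_antisymm c1 c2), hE.not_ab⟩
    obtain ⟨x, hx, x1⟩ := A.exists_x
    have := FT.card_mul_relIndex zR
    rw [(A.der hx x1).2, hE.card_der pU, cZ] at this
    rw [← this] at c1
    exact h4.not_ge (c1.trans_eq (by ring))
  obtain ⟨g, hg, gM, -⟩ := hc.exists_not_nrm nZ
  obtain ⟨z, hz, z1⟩ := (Z(U)).bot_or_exists_ne_one.resolve_left hE.center_ne_bot
  have ez := eq_zpowers_of_prime (cZ.symm ▸ hp.out) hz z1
  have eR := cj_of_mem_nrm (hc.nR hg)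
  have zR' : FT.cj g Z(U) ≤ R := eR ▸ FT.cj_mono g zR
  refine hc.not_tr_sup hg gM (A := U ⊓ C[g * z * g⁻¹]) (B := FT.cj g (U ⊓ C[g⁻¹ * z * g⁻¹⁻¹]))
    (inf_le_left.trans UT) (FT.cj_mono g (inf_le_left.trans UT)) (key _ (zR' (FT.conj_mem_cj.2 hz)))
    (by rw [← eR, FT.cj_le_cj]; exact key _ (le_nrm_iff.1 hc.nR _ (inv_mem hg) z (zR hz)))
    ((Tr.of_cents (U := Z(U) ⊔ FT.cj g Z(U)) (hc.pR.mono (sup_le zR zR')) (sup_le (centsY ?_ ?_) (centsY ?_ ?_))).step_sup
      (sup_le zR zR') hc.pR ((commSS le_rfl inf_le_left).trans (d.trans le_sup_left)) ?_)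
  · exact inf_le_left.trans (centsC inf_le_right)
  · rw [ez, FT.cj_zpowers, cen_zpowers]; exact inf_le_right
  · rw [FT.cj_le_iff, FT.cj_cen, ez, FT.cj_zpowers, cen_zpowers]; exact inf_le_right
  · exact cj_cents.2 (inf_le_left.trans (centsC inf_le_right))
  · rw [← eR, ← FT.cj_comm]
    exact (FT.cj_mono g ((commSS le_rfl inf_le_left).trans d)).trans le_sup_right


/-- Let p be an odd prime, S a finite p-group of order at least p⁶ containing an extraspecial subgroup Q of index p, and F a saturated fusion system over S whose largest subgroup normal in F is trivial. Then no proper subgroup of Q is essential in F: an essential subgroup of F contained in Q equals Q. -/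
theorem result {Ω : Type u} [Group Ω] {S : Subgroup Ω} [Finite S] (p : ℕ) [Fact p.Prime] (hp : Odd p) (hS : IsPGroup p S)
    (Q : Subgroup Ω) (hQS : Q ≤ S) (hQ : Cfsg.IsExtraspecial p ↥Q) (hQi : (Q.subgroupOf S).index = p)
    (h6 : p ^ 6 ≤ Nat.card S)
    (F : Cfsg.FusionSystem S) (hF : F.IsSaturated p) (hO : F.core = ⊥)
    (E : Subgroup Ω) (hEQ : E ≤ Q) (hE : F.IsEssential p E) : E = Q := by
  obtain ⟨G, _, _, S', F', j, k, h, hB⟩ := exists_iso_big F
  have hI := h.toPIso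
  have hJ := hI.restrict hQS
  haveI : Finite Q := Finite.of_injective _ (inclusion_injective hQS)
  have pQ := pGrp_of_isPGroup Fact.out (hJ.isPGroup hQ.1.1)
  have pS := pGrp_of_isPGroup Fact.out (hI.isPGroup hS)
  have e1 : ⁅Q, Q⁆ = Z(Q) := by rw [← map_subtype_commutator, hQ.1.2.2, map_center_subtype]
  have e2 : ⁅H17.img j Q, H17.img j Q⁆ = Z(H17.img j Q) := by rw [← pi_der hJ, e1, pi_center hJ]
  have hX : Extraspecial (H17.img j Q) := ⟨⟨(Phi_eq_der_of_equiv pQ hJ.equiv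
    (hQ.1.2.1.trans hQ.1.2.2.symm)).trans e2, e2⟩, by
      rw [← e2, card_der_of_equiv hJ.equiv, hQ.1.2.2, hQ.2]; exact Fact.out⟩
  obtain ⟨L, M, -, hc⟩ := exists_cfg pS (h.saturated hF) hB (iso_essential h hS hF hE)
  have i := (pi_relIndex_top hI hQS).trans hQi
  refine (hI.img_inj hE.1.1 hQS).1 (cfg_ext_eq pS (hI.img_le hQS) hX i ?_ hc (H17.img_mono j hEQ))
  rw [Nat.card_congr hI.equiv.toEquiv, ← FT.card_mul_relIndex (hI.img_le hQS), i, pow_succ] at h6
  exact (Nat.pow_lt_pow_right (Fact.out : p.Prime).one_lt (by norm_num)).trans_le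
    (Nat.le_of_mul_le_mul_right h6 (Fact.out : p.Prime).pos)

end Cfsg.Agent.S5179
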