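import Cfsg.Statements.S5185
import Mathlib
import Cfsg.Agent.H3.Ess

set_option autoImplicit false
universe u
open Cfsg

namespace Cfsg.Agent.S5185

/-- Let F be a saturated fusion system over a finite p-group S and H an essential subgroup of order p². Then H is elementary abelian (isomorphic to C_p × C_p) and its F-automorphism group contains a subgroup isomorphic to SL(2,p). -/
theorem result {Ω : Type u} [Group Ω] {S : Subgroup Ω} [Finite S] (p : ℕ) [Fact p.Prime] (hS : IsPGroup p S)
    (F : Cfsg.FusionSystem S) (hF : F.IsSaturated p) (H : Subgroup Ω) (hH : F.IsEssential p H) (hcard : Nat.card H = p ^ 2) :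
    Cfsg.IsElementaryAbelian p H ∧
      ∃ K : Subgroup ↥(F.autGroup H), Nonempty (↥K ≃* Matrix.SpecialLinearGroup (Fin 2) (ZMod p)) := by
  open Subgroup Cfsg.Agent.FT Cfsg.Agent.H3 in
  open scoped commutatorElement in
  · obtain ⟨G, _, _, S', F', j, k, hi, hB⟩ := exists_iso_big F
    have hle := hH.1.1
    obtain ⟨L, M, hL, h⟩ := exists_cfg (pGrp_of (hi.toPIso.isPGroup hS)) (hi.saturated hF) hB
      (iso_essential hi hS hF hH)
    have hc := (hi.toPIso.card_img hle).trans hcard
    refine ⟨abelem_of_equiv (hi.toPIso.restrict hle).equiv (h.sq hc), ?_⟩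
    obtain ⟨x, hx, hxR, -⟩ := h.exists_x
    obtain ⟨e, f, r, hpl⟩ := h.exists_pl hc hx hxR
    obtain ⟨ρ, hρ, hρ'⟩ := hpl.exists_hom
    let σ := (hi.toPIso.restrict hle).autEquiv.symm.toMonoidHom.comp ρ
    have hσ : ∀ A, σ A ∈ F.autGroup H := fun A => by
      rw [← hi.autEquiv_mem_autGroup_iff hle]
      obtain ⟨g, hg, -, hA⟩ := hρ' A
      simp only [σ, MonoidHom.comp_apply, MulEquiv.coe_toMonoidHom, MulEquiv.apply_symm_apply]
      exact (H17.mem_autGroup hL.RS (f := H17.cj g) hA).2 (hL.mor_R hg le_rfl)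
    have hσi : Function.Injective (σ.codRestrict _ hσ) := fun A B e =>
      hρ ((hi.toPIso.restrict hle).autEquiv.symm.injective (congrArg Subtype.val e))
    exact ⟨_, ⟨(MonoidHom.ofInjective hσi).symm⟩⟩

end Cfsg.Agent.S5185
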