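import Cfsg.Statements.S5186
import Mathlib
import Cfsg.Agent.H3.Ess

set_option autoImplicit false
universe u
open Cfsg

namespace Cfsg.Agent.S5186

/-- Let F be a saturated fusion system over a finite p-group S and H an essential subgroup of order p³. Then H is elementary abelian, or p is odd and H is extraspecial of exponent p, or p = 2 and H is the quaternion group of order 8. -/
theorem result {Ω : Type u} [Group Ω] {S : Subgroup Ω} [Finite S] (p : ℕ) [Fact p.Prime] (hS : IsPGroup p S)
    (F : Cfsg.FusionSystem S) (hF : F.IsSaturated p) (H : Subgroup Ω) (hH : F.IsEssential p H) (hcard : Nat.card H = p ^ 3) :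
    Cfsg.IsElementaryAbelian p H ∨ (Odd p ∧ Cfsg.IsExtraspecial p ↥H ∧ ∀ x ∈ H, x ^ p = 1) ∨
      (p = 2 ∧ Nonempty (↥H ≃* QuaternionGroup 2)) := by
  open Subgroup Cfsg.Agent.FT Cfsg.Agent.H3 in
  open scoped commutatorElement in
  · obtain ⟨G, _, _, R, T, L, M, e, h⟩ := exists_cfg_of_ess hS hF hH
    have hc : Nat.card R = p ^ 3 := (Nat.card_congr e.toEquiv).symm.trans hcard
    haveI : Finite H := Finite.of_equiv _ e.symm.toEquiv
    rcases h.cube hc with h1 | ⟨h1, h2, h3⟩ | ⟨h1, a, b, h2⟩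
    · exact Or.inl (abelem_of_equiv e h1)
    · exact Or.inr (Or.inl ⟨(Fact.out : p.Prime).odd_of_ne_two h1,
        isExtraspecial_of_card hcard fun h4 => h2 (ab_of_equiv e.symm h4), pow_eq_one_of_equiv e h3⟩)
    · exact Or.inr (Or.inr ⟨h1, ⟨e.trans h2.iso.some⟩⟩)

end Cfsg.Agent.S5186
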