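import Cfsg.Statements.S5187
import Mathlib
import Cfsg.Agent.H3.Ess

set_option autoImplicit false
universe u
open Cfsg

namespace Cfsg.Agent.S5187

/-- Let F be a saturated fusion system over a finite p-group S and H an abelian essential subgroup that can be generated by two elements (its Frattini quotient has order at most p²). Then H is elementary abelian of order p², or p ≤ 3 and H is homocyclic of rank two, that is isomorphic to C_{pᵏ} × C_{pᵏ} for some k. -/
theorem result {Ω : Type u} [Group Ω] {S : Subgroup Ω} [Finite S] (p : ℕ) [Fact p.Prime] (hS : IsPGroup p S)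
    (F : Cfsg.FusionSystem S) (hF : F.IsSaturated p) (H : Subgroup Ω) (hH : F.IsEssential p H) (hab : IsMulCommutative ↥H) (hrk : (frattini ↥H).index ≤ p ^ 2) :
    (Cfsg.IsElementaryAbelian p H ∧ Nat.card H = p ^ 2) ∨
      (p ≤ 3 ∧ ∃ k : ℕ, Nonempty (↥H ≃* Multiplicative (ZMod (p ^ k) × ZMod (p ^ k)))) := by
  open Subgroup Cfsg.Agent.FT Cfsg.Agent.H3 in
  open scoped commutatorElement in
  · obtain ⟨G, _, _, R, T, L, M, e, h⟩ := exists_cfg_of_ess hS hF hH
    have hi : (Phi R).relIndex R ∣ p ^ 2 := by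
      obtain ⟨i, hi⟩ := (h.pR.relIndex (Phi R)).exists_pow (FT.relIndex_pos _ _).ne'
      rw [← index_frattini_of_equiv h.pR e, hi, pow_le_pow_p] at hrk
      rw [hi, pow_dvd_pow_p]; exact hrk
    obtain ⟨k, a, b, hh, h3⟩ := h.rank_two_ab (ab_of_equiv e.symm hab) hi
    by_cases h4 : p ≤ 3
    · exact Or.inr ⟨h4, k, ⟨e.trans hh.equiv.some⟩⟩
    · have h5 := h3 (not_le.1 h4)
      have h6 := (h.irr hi).1
      rw [h5.Phi_eq_bot Fact.out, relIndex_bot_left] at h6
      exact Or.inl ⟨abelem_of_equiv e h5, (Nat.card_congr e.toEquiv).trans h6⟩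

end Cfsg.Agent.S5187
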