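import Cfsg.Statements.S5188
import Mathlib
import Cfsg.Agent.H3.Ess

set_option autoImplicit false
universe u
open Cfsg

namespace Cfsg.Agent.S5188

/-- Let F be a saturated fusion system over a finite p-group S and H an essential subgroup of order p⁴. Then H is isomorphic to one of: C_p⁴ or C_{p²} × C_p × C_p (any p); C_{p²} × C_{p²} with p ∈ {2, 3}; p^{1+2}_+ × C_p with p odd (the direct product of an extraspecial group of order p³ and exponent p with a group of order p); Q₈ × C₂ (p = 2); or the non-abelian group of order p⁴ of exponent p² whose centre is cyclic of order p² (the central product of an extraspecial group of order p³ with a cyclic group of order p²; for p = 2 this is D₈ ∘ C₄). -/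
theorem result {Ω : Type u} [Group Ω] {S : Subgroup Ω} [Finite S] (p : ℕ) [Fact p.Prime] (hS : IsPGroup p S)
    (F : Cfsg.FusionSystem S) (hF : F.IsSaturated p) (H : Subgroup Ω) (hH : F.IsEssential p H) (hcard : Nat.card H = p ^ 4) :
    Cfsg.IsElementaryAbelian p H ∨
      Nonempty (↥H ≃* Multiplicative (ZMod (p ^ 2) × ZMod p × ZMod p)) ∨
      ((p = 2 ∨ p = 3) ∧ Nonempty (↥H ≃* Multiplicative (ZMod (p ^ 2) × ZMod (p ^ 2)))) ∨
      (Odd p ∧ ∃ (E : Type) (_ : Group E) (_ : Finite E), Cfsg.IsExtraspecial p E ∧ Nat.card E = p ^ 3 ∧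
        (∀ x : E, x ^ p = 1) ∧ Nonempty (↥H ≃* E × Multiplicative (ZMod p))) ∨
      (p = 2 ∧ Nonempty (↥H ≃* QuaternionGroup 2 × Multiplicative (ZMod 2))) ∨
      (¬ IsMulCommutative ↥H ∧ (∀ x ∈ H, x ^ (p ^ 2) = 1) ∧ IsCyclic ↥(Subgroup.center ↥H) ∧
        Nat.card (Subgroup.center ↥H) = p ^ 2) := by
  open Subgroup Cfsg.Agent.FT Cfsg.Agent.H3 in
  open scoped commutatorElement in
  · obtain ⟨G, _, _, R, T, L, M, e, h⟩ := exists_cfg_of_ess hS hF hH
    have hc : Nat.card R = p ^ 4 := (Nat.card_congr e.toEquiv).symm.trans hcard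
    have hp : p.Prime := Fact.out
    rcases h.four hc with h1 | h1 | ⟨h1, h2⟩ | ⟨h1, E, c, h2, h3, h4, h5, h6⟩ | ⟨h1, E, c, a, b, h2, h3, h4⟩ |
      ⟨h1, h2, h3, h4⟩
    · exact Or.inl (abelem_of_equiv e h1)
    · exact Or.inr (Or.inl ⟨e.trans h1.some⟩)
    · refine Or.inr (Or.inr (Or.inl ⟨?_, ⟨e.trans h2.some⟩⟩))
      have := hp.two_le
      omega
    · obtain ⟨Y, _, _, hY1, hY2, hY3, hY⟩ := exists_small_es h4 h5 h6
      exact Or.inr (Or.inr (Or.inr (Or.inl ⟨hp.odd_of_ne_two h1, Y, _, inferInstance, hY1, hY2, hY3,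
        ⟨e.trans (dp_equiv' h2 hY (cyc_equiv (cyc_zpowers c) h3)).some⟩⟩)))
    · exact Or.inr (Or.inr (Or.inr (Or.inr (Or.inl ⟨h1,
        ⟨e.trans (dp_equiv' h2 h4.iso (cyc_equiv (cyc_zpowers c) h3)).some⟩⟩))))
    · refine Or.inr (Or.inr (Or.inr (Or.inr (Or.inr ⟨fun h5 => h1 (ab_of_equiv e.symm h5),
        pow_eq_one_of_equiv e h2, ?_, ?_⟩))))
      · rw [center_eq_map] at h3
        have := (isCyclic_map_iff R.subtype_injective).1 h3
        exact isCyclic_of_surjective (Subgroup.centerCongr e).symm.toMonoidHom (Subgroup.centerCongr e).symm.surjective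
      · rw [← h4, card_center]; exact Nat.card_congr (Subgroup.centerCongr e).toEquiv

end Cfsg.Agent.S5188
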