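import Cfsg.Statements.S5192
import Mathlib
import Cfsg.Agent.H18.Transfer
import Cfsg.Agent.H4.Transfer2

set_option autoImplicit false
open Cfsg

namespace Cfsg.Agent.S5192

open Cfsg.Agent.H17

/-- A Thompson-type transfer for saturated fusion systems. Let F be a saturated fusion system on a finite 2-group S, T a subgroup of S of index 2, and i an involution of S such that every fully normalized F-conjugate of i lies in S but outside T. Then i does not lie in the hyperfocal subgroup of F (the Sylow group of the 2-residual subsystem). -/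
theorem result {Ω : Type*} [Group Ω] [Finite Ω] {S : Subgroup Ω}
    (hS : IsPGroup 2 ↥S) (F : Cfsg.FusionSystem S) (hF : F.IsSaturated 2)
    (T : Subgroup Ω) (hTS : T ≤ S) (hT : T.relIndex S = 2)
    (i : Ω) (hi : i ∈ S) (hi2 : orderOf i = 2)
    (h : ∀ j : Ω, F.IsConjElt i j → F.IsFullyNormalized (Subgroup.zpowers j) → j ∉ T) :
    i ∉ F.hyperfocalSubgroup 2 := by
  intro hh
  obtain ⟨l, hl⟩ := H4.exists_sign_hom (Q := T.subgroupOf S) hT
  obtain ⟨σ, hσ, hfn⟩ := sat_exists_fn hS hF (Subgroup.zpowers_le.2 hi)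
  have hiN : i ∈ Cfsg.FusionSystem.normalizerIn S (Subgroup.zpowers i) :=
    le_normalizerIn (Subgroup.zpowers_le.2 hi) (Subgroup.mem_zpowers i)
  have hσ' := hσ.mono (Subgroup.zpowers_le.2 hiN)
  rw [hσ'.homOn.img_zpowers] at hfn
  refine H18.not_mem_focal_two hS hF l (u := ⟨σ i, hσ.mem hiN⟩)
    (by rw [← Subgroup.orderOf_coe, hσ.orderOf_eq hiN, hi2]) hfn (fun j hj hj' => ?_)
    (by simpa using F.focalSubgroup.mul_mem (hyp_le_focal F hh) (mem_focal hσ hiN))
  obtain ⟨f, hf, rfl⟩ := isConjElt_iff.1 hj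
  have h1 := (hσ'.comp_img (hσ'.homOn.img_zpowers ▸ hf)).isConjElt (Subgroup.mem_zpowers _)
  have h2 := hf.mem (Subgroup.mem_zpowers _)
  rw [extF_of_mem _ h2]
  exact (Int.units_eq_one_or _).resolve_left fun h3 => h _ h1 hj' ((hl _).1 h3)
end Cfsg.Agent.S5192
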