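import Cfsg.Statements.S5213
import Mathlib
import Cfsg.Agent.H18.RankTwo

set_option autoImplicit false
open Cfsg

namespace Cfsg.Agent.S5213

open Cfsg.Agent.H18

/-- Let S be a finite 2-group of 2-rank 2 (it has an elementary abelian subgroup of order 4 and none of order 8) and F a saturated fusion system over S with trivial centre. Then S is dihedral, semidihedral, wreathed, homocyclic abelian (a direct product of cyclic groups of one common order), or isomorphic to a Sylow 2-subgroup of the projective special unitary group PSU₃(4) (realised over the field with 16 elements). -/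
theorem result {Ω : Type*} [Group Ω] {S : Subgroup Ω} [Finite S] (hS : IsPGroup 2 S) (F : Cfsg.FusionSystem S) (hF : F.IsSaturated 2) (hr : Cfsg.PRankAtLeast 2 2 ↥S ∧ ¬ Cfsg.PRankAtLeast 2 3 ↥S) (hZ : F.center = ⊥) {K : Type*} [Field K] [Fintype K] (hK : Fintype.card K = 16) : (∃ m : ℕ, Nonempty (↥S ≃* DihedralGroup m)) ∨ Cfsg.IsQuasiDihedral ↥S ∨ Cfsg.IsWreathed ↥S ∨ (∃ n k : ℕ, Nonempty (↥S ≃* Multiplicative (Fin k → ZMod (2 ^ n)))) ∨ ∃ T : Sylow 2 (Cfsg.PSU 3 K 4), Nonempty (↥S ≃* ↥(T : Subgroup (Cfsg.PSU 3 K 4))) := by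
  haveI : Fact (Nat.Prime 2) := ⟨Nat.prime_two⟩
  obtain ⟨T⟩ : Nonempty (Sylow 2 (Cfsg.PSU 3 K 4)) := inferInstance
  have h2 : PRankLE 2 2 S := fun A h1 h2 => by
    have pA : IsPGroup 2 A := fun a => ⟨1, Subtype.ext (by simpa using h2 a a.2)⟩
    obtain ⟨k, hk⟩ := pA.exists_card_eq
    rw [hk]
    exact Nat.pow_le_pow_right two_pos (not_lt.1 fun l =>
      hr.2 ⟨A, h1, h2, hk ▸ Nat.pow_le_pow_right two_pos l⟩)
  have h1 : S ≠ ⊥ := fun e => by
    obtain ⟨A, -, -, h⟩ := hr.1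
    have := h.trans (Nat.le_of_dvd Nat.card_pos A.card_subgroup_dvd_card)
    rw [e, Subgroup.card_bot] at this
    omega
  rcases rank_two_list hS hF h2 h1 hZ hK T with ⟨m, -, h⟩ | h | h | ⟨n, -, ⟨e⟩⟩ | h
  · exact Or.inl ⟨m, h⟩
  · exact Or.inr (Or.inl h)
  · exact Or.inr (Or.inr (Or.inl h))
  · exact Or.inr (Or.inr (Or.inr (Or.inl ⟨n, 2, ⟨e.trans (AddEquiv.toMultiplicative
      (LinearEquiv.finTwoArrow ℤ (ZMod (2 ^ n))).toAddEquiv.symm)⟩⟩)))
  · exact Or.inr (Or.inr (Or.inr (Or.inr ⟨T, h⟩)))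

end Cfsg.Agent.S5213
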