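import Cfsg.Statements.S5259
import Mathlib
import Cfsg.Agent.H18.UltraSp

set_option autoImplicit false
open Cfsg

namespace Cfsg.Agent.S5259

open Cfsg.Agent.H18 Cfsg.Agent.H3 Cfsg.Agent.FT Subgroup
open scoped commutatorElement

/-- Let p be a prime, K a finite field of characteristic p, and S a finite p-group isomorphic to a Sylow p-subgroup of SL₃(K). Then every exotic fusion system F over S (saturated but not the fusion system of a finite group on a Sylow p-subgroup) has no nontrivial normal subgroup: O_p(F) = 1. -/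
theorem result {Ω : Type*} [Group Ω] {S : Subgroup Ω} [Finite S] (p : ℕ) [Fact p.Prime] (hS : IsPGroup p S) (F : Cfsg.FusionSystem S) (hF : F.IsSaturated p) {K : Type*} [Field K] [Fintype K] [CharP K p] (T : Sylow p (Matrix.SpecialLinearGroup (Fin 3) K)) (e : ↥S ≃* ↥(T : Subgroup (Matrix.SpecialLinearGroup (Fin 3) K))) (hex : F.IsExotic p) : F.core = ⊥ := by
  by_contra h0
  obtain ⟨G, _, _, S', F', j, k, h, hB⟩ := exists_iso_big F
  have hI := h.toPIso
  obtain ⟨X, _, ι, h1, h2, h3, -⟩ := exists_model hS (h.symm.constrained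
    (((usp_sylow T).of_equiv (e.symm.trans hI.equiv)).constrained (pGrp_of_isPGroup Fact.out (hI.isPGroup hS))
      (h.saturated hF) hB fun e => h0 ((hI.img_eq_bot (H17.normal_core F).1).1 (h.img_core.trans e))))
  exact hex.2 ⟨X, _, h1, ι, h2, h3⟩

end Cfsg.Agent.S5259
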