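import Cfsg.Statements.S5264
import Mathlib
import Cfsg.Agent.H18.Five
import Cfsg.Agent.H18.WCtl

set_option autoImplicit false
open Cfsg

namespace Cfsg.Agent.S5264

open Cfsg.Agent.H18 Cfsg.Agent.H3 Cfsg.Agent.FT Subgroup
open scoped commutatorElement

/-- Let p be an odd prime other than 7, S a finite p-group of order p^5, and F a saturated fusion system over S with no nontrivial normal subgroup and with hyperfocal subgroup equal to S (so F is its own p-residual subsystem). Then S has an abelian subgroup of index p. -/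
theorem result {Ω : Type*} [Group Ω] {S : Subgroup Ω} [Finite S] (p : ℕ) [Fact p.Prime] (hS : IsPGroup p ↥S) (F : Cfsg.FusionSystem S) (hF : F.IsSaturated p) (hp : p ≠ 2) (hp7 : p ≠ 7) (hcard : Nat.card S = p ^ 5) (hcore : F.core = ⊥) (hhyp : F.hyperfocalSubgroup p = S) : ∃ A : Subgroup Ω, A ≤ S ∧ IsMulCommutative ↥A ∧ (A.subgroupOf S).index = p := by
  obtain ⟨G, _, _, S', F', j, k, h, hB⟩ := exists_iso_big F
  have hI := h.toPIso
  haveI := hI.finite
  obtain ⟨A, h1, h2, h3⟩ := five_main hp hp7 ((Nat.card_congr hI.equiv.toEquiv).symm.trans hcard) (h.saturated hF) hB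
    (by rw [← h.img_core, hcore, hI.img_bot]) (by rw [← (Iso.surj h).img_hyp, hhyp, hI.img_top])
  refine ⟨H17.img k A, hI.symm.img_le h1, (pi_ab hI.symm h1).2 h2, (pi_relIndex_top hI.symm h1).trans ?_⟩
  exact (relIndex_of_card_pow (n := 4) (i := 1) h1 ((Nat.card_congr hI.equiv.toEquiv).symm.trans hcard) h3).trans
    (pow_one p)

end Cfsg.Agent.S5264
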