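import Cfsg.Statements.S5265
import Mathlib
import Cfsg.Agent.H18.AbIdx
import Cfsg.Agent.H18.WCtl

set_option autoImplicit false
open Cfsg

namespace Cfsg.Agent.S5265

open Cfsg.Agent.H18 Cfsg.Agent.H3 Cfsg.Agent.FT Subgroup
open scoped commutatorElement

/-- Let p be a prime, S a nontrivial finite p-group whose centre has index at most p², and F a saturated fusion system over S with no nontrivial normal subgroup and with hyperfocal subgroup equal to S. Then S is extraspecial of order p³; for odd p it has exponent p, and for p = 2 it is dihedral of order 8. -/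
theorem result {Ω : Type*} [Group Ω] {S : Subgroup Ω} [Finite S] (p : ℕ) [Fact p.Prime] (hS : IsPGroup p ↥S) (F : Cfsg.FusionSystem S) (hF : F.IsSaturated p) (hS1 : S ≠ ⊥) (hcore : F.core = ⊥) (hhyp : F.hyperfocalSubgroup p = S) (hZ : (Subgroup.center ↥S).index ≤ p ^ 2) : Cfsg.IsExtraspecial p ↥S ∧ Nat.card S = p ^ 3 ∧ (p ≠ 2 → Monoid.exponent ↥S = p) ∧ (p = 2 → Nonempty (↥S ≃* DihedralGroup 4)) := by
  obtain ⟨G, _, _, S', F', j, k, h, hB⟩ := exists_iso_big F
  have hI := h.toPIso
  have pS := pGrp_of_isPGroup Fact.out (hI.isPGroup hS)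
  have hi : (Z(S')).relIndex S' ∣ p ^ 2 := by
    obtain ⟨n, hn⟩ := IsPGroup.exists_card_eq hS
    obtain ⟨i, -, hi⟩ := (Nat.dvd_prime_pow Fact.out).1 (hn ▸ (Subgroup.center S).index_dvd_card)
    have e : (Z(S)).relIndex S = (Subgroup.center S).index := by
      rw [← map_center_subtype, relIndex, subgroupOf, comap_map_eq_self_of_injective S.subtype_injective]
    rw [← pi_center hI, pi_relIndex_top hI inf_le_left, e, hi]
    exact pow_dvd_pow p (pow_le_pow_p.1 (hi ▸ hZ))
  obtain ⟨h1, h2, h3, h4⟩ := small_center pS (h.saturated hF) hB (by rw [← h.img_core, hcore, hI.img_bot]) hi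
    (fun e => hS1 ((hI.img_eq_bot le_rfl).1 (hI.img_top.trans e)))
    fun _ => by rw [← (Iso.surj h).img_hyp, hhyp, hI.img_top]
  have c := (Nat.card_congr hI.equiv.toEquiv).trans h1
  have na : ¬ IsMulCommutative S := fun e => h2 (hI.img_top ▸ (pi_ab hI le_rfl).2 e)
  haveI : Nontrivial S := (nontrivial_iff_ne_bot S).2 hS1
  exact ⟨isExtraspecial_of_card c na, c, fun e => exponent_eq_of_pow fun x =>
    Subtype.ext (pow_eq_one_of_equiv hI.equiv (h3 e) x x.2), fun e => ⟨hI.equiv.trans (h4 e).some⟩⟩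

end Cfsg.Agent.S5265
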