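import Cfsg.Statements.S5270
import Mathlib
import Cfsg.Agent.H18.Pearl3
import Cfsg.Agent.H18.OddTwo

set_option autoImplicit false
open Cfsg

namespace Cfsg.Agent.S5270

open Cfsg.Agent.H18 Cfsg.Agent.H3 Cfsg.Agent.FT Subgroup in
theorem ess_cen_ucn_two {G : Type*} [Group G] [Finite G] {S : Subgroup G} {p n : ℕ} [hp : Fact p.Prime]
    (h : MaxCl p n S) (hn : 4 ≤ n) {F : FusionSystem S} (hF : F.IsSaturated p) {f : G → G} {z : G}
    (hf : H17.Mor F (ucn 2 S) f) (e : H17.img f (ucn 2 S) = ucn 2 S) (hz : z ∈ Z(S)) (h1 : f z ∉ Z(S)) :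
    F.IsEssential p (S ⊓ C(ucn 2 S)) := by
  have hS := h.pGrp.isPGroup
  have c := h.card_ucn (k := 2) hn
  have nZ := ucn_nml 2 S
  have zZ := center_le_ucn_two S
  have l : ucn 2 S ≤ S ⊓ C(ucn 2 S) := le_inf nZ.le (ab_of_card_sq hp.out c).le_cen
  have lt : S ⊓ C(ucn 2 S) < S := lt_of_le_of_ne inf_le_left fun e => by
    have := card_le (le_inf nZ.le (centsC (e.ge.trans inf_le_right)))
    rw [c, h.card_center (by omega)] at this
    have := hp.out.two_le
    nlinarith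
  have idx : (S ⊓ C(ucn 2 S)).relIndex S = p := by
    refine ((Nat.dvd_prime hp.out).1 ?_).resolve_left (one_lt_relIndex lt.not_ge).ne'
    rw [inf_relIndex_left]
    exact relIndex_cen_dvd h.pGrp c nZ.nrm
  refine (H17.essential_iff hS hF).2 ⟨lt, H17.fn_of_normal F lt.le (normsI (le_nrm S) (norms_cent nZ.nrm)),
    fun hA => h1 ?_⟩
  obtain ⟨σ, hσ, e'⟩ := H17.sat_ext_centralizer hS hF hf
    (e.symm ▸ H17.sat_fc_of_fn hS hF (H17.fn_of_normal F nZ.le nZ.nrm))
  replace hσ : H17.Mor F (S ⊓ C(ucn 2 S)) σ := hσ.mono le_sup_right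
  have m : σ ∈ H17.Stab Z(S) := by
    refine (closure_le _).2 ?_ (hA ((H17.mem_AutF lt.le).2 ⟨hσ, hσ.img_eq_of_le le_rfl fun x hx => ?_⟩))
    · rintro τ ⟨-, hτ⟩
      refine H17.mem_Stab.2 ⟨hτ.mor.homOn.mono (zZ.trans l), hτ.mor.img_eq_of_le (zZ.trans l) fun x hx => ?_⟩
      obtain ⟨Q, hQ, g, hg, e⟩ := hτ
      obtain rfl := (eq_or_eq_of_prime_relIndex (idx.symm ▸ hp.out) hQ.le hg.le).resolve_left hQ.ne'
      have := hg.map_mem_centralizerIn le_rfl hx.1 hx.2
      rwa [hg.img_eq_top, e x (l (zZ hx))] at this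
    · have := hσ.map_mem_centralizerIn l hx hx.2
      rwa [H17.img_congr e', e] at this
  rw [← e' z (zZ hz), ← (H17.mem_Stab.1 m).2]
  exact H17.mem_img_of_mem _ hz


/-- Let p ≥ 5 be a prime, S a finite p-group of maximal class of order p^n with n ≥ 4, and F a saturated fusion system over S. If some map of F defined on the second centre Z₂(S) with image Z₂(S) does not carry Z(S) into itself, then the centralizer C_S(Z₂(S)) is an F-essential subgroup. -/
theorem result {Ω : Type*} [Group Ω] {S : Subgroup Ω} [Finite S] (p : ℕ) [Fact p.Prime] (hS : IsPGroup p ↥S) (n : ℕ) (hn : Nat.card S = p ^ n) (h4 : 4 ≤ n) (hmax : Subgroup.lowerCentralSeries S (n - 2) ≠ ⊥) (F : Cfsg.FusionSystem S) (hF : F.IsSaturated p) (hp : 5 ≤ p) (φ : ↥((Subgroup.upperCentralSeries ↥S 2).map S.subtype) →* Ω) (hφ : φ ∈ F.Hom ((Subgroup.upperCentralSeries ↥S 2).map S.subtype)) (hφZ : φ.range = ((Subgroup.upperCentralSeries ↥S 2).map S.subtype)) (hmove : ∃ (z :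 Ω) (hz : z ∈ ((Subgroup.upperCentralSeries ↥S 2).map S.subtype)), z ∈ ((Subgroup.center ↥S).map S.subtype) ∧ φ ⟨z, hz⟩ ∉ ((Subgroup.center ↥S).map S.subtype)) : F.IsEssential p (S ⊓ Subgroup.centralizer (((Subgroup.upperCentralSeries ↥S 2).map S.subtype) : Set Ω)) := by
  open Cfsg.Agent.H18 Cfsg.Agent.H3 Cfsg.Agent.FT in
  · obtain ⟨G, _, _, S', F', j, k, h, hB⟩ := exists_iso_big F
    have hI := h.toPIso
    obtain ⟨z, hz, z1, z2⟩ := hmove
    have u : H17.img j (H17.ucs S 2) = ucn 2 S' := pi_ucs hI 2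
    obtain ⟨f, hf, hr, e⟩ : ∃ f, H17.Mor F (H17.ucs S 2) f ∧ H17.img f (H17.ucs S 2) = H17.ucs S 2 ∧ f z = φ ⟨z, hz⟩ :=
      ⟨_, H17.mor_extF hφ, (H17.img_eq_range φ fun x => (H17.extF_coe φ x).symm).trans hφZ, H17.extF_of_mem φ hz⟩
    have c : (Subgroup.center S).map S.subtype = Z(S) := map_center_subtype S
    rw [c] at z1 z2
    have := iso_essential h.symm (hI.isPGroup hS) (h.saturated hF) (ess_cen_ucn_two (z := j z) (f := j ∘ f ∘ k)
      ⟨Fact.out, by omega, (Nat.card_congr hI.equiv.toEquiv).symm.trans hn, fun e => hmax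
        ((hI.img_eq_bot (lcs_le' S _)).1 ((pi_lcs hI _).trans e))⟩ h4 (h.saturated hF)
      (u ▸ h.mor_of hf fun x hx => by simp [hI.kj x (hf.le hx)])
      (by rw [← u, h.img_conj hf le_rfl, hr])
      (pi_center hI ▸ H17.mem_img_of_mem j z1) fun m => z2 (by
        rw [← pi_center hI, Function.comp_apply, Function.comp_apply, hI.kj z z1.1,
          hI.apply_mem_img inf_le_left (hf.mem hz), e] at m
        exact m))
    rwa [← u, show S' ⊓ C(H17.img j (H17.ucs S 2)) = _ from (hI.img_centralizerIn_top H17.ucs_le).symm,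
      hI.img_img (show FusionSystem.centralizerIn S _ ≤ S from inf_le_left)] at this

end Cfsg.Agent.S5270
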