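import Cfsg.Statements.S5289
import Mathlib
import Cfsg.Agent.H18.OddTwo

set_option autoImplicit false
open Cfsg

namespace Cfsg.Agent.S5289

open Cfsg.Agent.H18 Cfsg.Agent.H3 Cfsg.Agent.FT Subgroup
open scoped commutatorElement

/-- Let p ≥ 5 be a prime and S a finite p-group of p-rank two (it has an elementary abelian subgroup of order p² and none of order p³) which is not the extraspecial group of order p³ and exponent p. Then S is resistant: for every saturated fusion system F over S, S is normal in F, that is, every map of F extends to an F-automorphism of S. -/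
theorem result {Ω : Type*} [Group Ω] {S : Subgroup Ω} [Finite S] (p : ℕ) [Fact p.Prime] (hS : IsPGroup p S)
    (F : Cfsg.FusionSystem S) (hF : F.IsSaturated p)
    (hp : 5 ≤ p)
    (hrank2 : ∃ E : Subgroup Ω, E ≤ S ∧ Cfsg.IsElementaryAbelian p E ∧ Nat.card E = p ^ 2)
    (hrank3 : ∀ E : Subgroup Ω, E ≤ S → Cfsg.IsElementaryAbelian p E → Nat.card E ≤ p ^ 2)
    (hnotE : ¬ (Nat.card S = p ^ 3 ∧ Monoid.exponent ↥S = p)) : F.IsNormal S := by
  refine H17.normal_top_of_no_ess hS hF fun R hR => hnotE ?_
  obtain ⟨G, _, _, S', F', j, k, h, hB⟩ := exists_iso_big F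
  have hI := h.toPIso
  have pS := pGrp_of_isPGroup Fact.out (hI.isPGroup hS)
  have hr : rank S' ≤ 2 := rank_le_of pS.isPGroup (pRankLE_of_injective
    (pRankLE_subgroup_iff.2 hrank3) hI.equiv.symm.toMonoidHom hI.equiv.symm.injective)
  obtain ⟨h1, h2⟩ := no_ess_rank_two pS (h.saturated hF) hB (by omega) hr (iso_essential h hS hF hR)
  have c := (Nat.card_congr hI.equiv.toEquiv).trans h1
  haveI : Nontrivial S := Finite.one_lt_card_iff_nontrivial.1
    (c ▸ Nat.one_lt_pow (by norm_num) (Fact.out : p.Prime).one_lt)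
  exact ⟨c, exponent_eq_of_pow fun x => Subtype.ext (pow_eq_one_of_equiv hI.equiv h2 x x.2)⟩

end Cfsg.Agent.S5289
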