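import Cfsg.Statements.S5299
import Mathlib
import Cfsg.Agent.H18.QdFree

set_option autoImplicit false
universe u
open Cfsg

namespace Cfsg.Agent.S5299

open Cfsg.Agent.H18

/-- Let F be a saturated fusion system over a finite p-group S, H a finite group and Q a p-subgroup of H. If Q is not involved in S (no section of S is isomorphic to Q), then F is H-free: H is involved in no model of the normalizer system of a fully normalized centric subgroup. -/
theorem result {Ω : Type u} [Group Ω] {S : Subgroup Ω} [Finite S] (p : ℕ) [Fact p.Prime] (hS : IsPGroup p S)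
    (F : Cfsg.FusionSystem S) (hF : F.IsSaturated p) (H : Type*) [Group H] [Finite H] (Q : Subgroup H) (hQ : IsPGroup p Q)
    (hfree : ¬ Cfsg.Involves (↥Q) (↥S)) : F.IsSectionFree p H := by
  intro R _ _ N _ L _ ι hL hi
  have := hL.1
  refine hfree (Involves.trans (Involves.sylIn (model_sylIn hL) hQ
    (Involves.trans (involves_subgroup Q) hi)) ?_)
  exact involves_of_injective ((Subgroup.inclusion Cfsg.Agent.H17.normalizerIn_le).comp
    (MonoidHom.ofInjective hL.2.1.1).symm.toMonoidHom)
    ((Subgroup.inclusion_injective Cfsg.Agent.H17.normalizerIn_le).comp (MonoidHom.ofInjective hL.2.1.1).symm.injective)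

end Cfsg.Agent.S5299
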