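import Cfsg.Statements.S5343
import Mathlib
import Cfsg.Agent.H18.Solv

set_option autoImplicit false
universe u
open Cfsg

namespace Cfsg.Agent.S5343

open Cfsg.FusionSystem Cfsg.Agent.H17 Cfsg.Agent.H18

/-- Let F be a simple saturated fusion system over a finite p-group S that is realized by some finite group on a Sylow p-subgroup. Then F is realized by a finite simple group on a Sylow p-subgroup. -/
theorem result {Ω : Type u} [Group Ω] {S : Subgroup Ω} [Finite S] (p : ℕ) [Fact p.Prime] (hS : IsPGroup p S) (F : Cfsg.FusionSystem S) (hsimple : F.IsSimple p) (hreal : F.IsRealizable p) : ∃ (G : Type u) (_ : Group G) (_ : Finite G) (_ : IsSimpleGroup G) (ι : ↥S →* G), F.IsRealizedBy ι ∧ ∃ T : Sylow p G, (T : Subgroup G) = ι.range := by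
  obtain ⟨G, _, _, ι, h1, U, hU⟩ := hreal
  obtain ⟨k, e⟩ := realized_iso h1
  rw [← hU] at e
  obtain ⟨G, _, _, _, P, j, k, e⟩ := exists_simple_of_iso hS hsimple _ G U _ _ e rfl
  obtain ⟨h2, h3⟩ := e.realized (ι := e.hj.toHom) fun _ => rfl
  exact ⟨G, _, inferInstance, inferInstance, _, h2, P, h3.symm⟩

end Cfsg.Agent.S5343
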