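import Cfsg.Statements.S5416
import Mathlib
import Cfsg.Agent.L1.OddD
import Cfsg.Agent.L1.OddR
import Cfsg.Agent.S5604
import Cfsg.Agent.H10.SmallIso2

set_option autoImplicit false
open Cfsg

namespace Cfsg.Agent.S5416

open Cfsg.Agent.H25.Leech Cfsg.Agent.L1Mon Subgroup
open Cfsg.Agent.H14 (A24 tb lin allLt allLt_iff)
set_option maxRecDepth 100000
set_option exponentiation.threshold 2000
set_option linter.all false

def T : ℕ := 0x73e75b1c70214cca494d4262b106e0
def Mb : ℕ := nat_lit 0x421084210842108421084210842208421088210842108421084210842108421104210842108421084210842108421084210842108821084210842108422084210842108421084210842108421084210842108441084210842108421084210842108421084220842108421084211042108421084210842108441084210842108421084210842108821084210842108421084210842108421084210842108421104210842108421084210842110421084210842108421084210842108421084211042108421084210842108422084210842108421084210842108421084410842108421084210842108421088210842108421084410842108421084210842108421084210842208421084210842108421084210844108421084210842108421084210882108421084210842108421084220842108421084210842108421084210842108421084210882108421084210842108421084210844108421084210842108421084210842110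
def Bs : List ℕ := [nat_lit 0x3800001c00000e000007000003800001c00000e000007000003800001c00000e000003000003800001c00000e000007000003800001c00000e000007000003800001c00000e000007,
  nat_lit 0x40000020000010000008000004000002000001000000c0000040000020000010000008000004000002000001000000800000400000200000100000080000040000020000010000004,
  nat_lit 0x38000024000012000009000004800001c00000e00000b000004800001c00000e000009000004800001c00000e000007000003800001c00000e000009000003800001c00000e000007,
  nat_lit 0x400000200000100000080000040000020000010000008000004000002000001000000c000004000002000001000000800000400000200000100000080000040000020000010000004,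
  nat_lit 0x38000024000012000009000004800001c00000e000007000004800001c00000e000009000004800001c00000e000007000003800001c00000e000009000003800001c00000e000003,
  nat_lit 0x40000020000010000008000004000001800001000000a000004000002000000c000008000004000001800000c00000600000300000180000100000080000040000020000010000004]
def Tab : ℕ := nat_lit 0x39ce73a4ed39d273a5294a4e739ce7421084190a420cc418c631908421084a52949d274a4e949ce739d294a525621084190a621484194a319084210852108420484290842108421485294a3a5294a4e949d254a5294a4e939ce752108421444290842108421485294649ce739d2b3a4eb39ce739d274a5254a52949d2b4a4e549ce739d294a5254210842906421484294a529084210439ce73a4e939d2b3a5294a4e739ce7528ca321485290632108420ca319465210842148429044210842148529463a5294a4e949d294a5294a4e939ce332108420c8629084210862148518ca3a5294a4e549d294a5294a4e939ce7521084214c429084210842148529463a4a94a4e94ad294a4a94a4e93ad6732108420c84190842108420c8318c63a5294a4e949d2d4a5294a4e939ce739ce73a4e939d273a5294a4e739ce3221084190a621484194a319084210839ce73a4e539d273a5294a4e739ce7421084190a420c4418c63190842108531084114842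90842108420c8318ca3a5294a4ed49d294a5294a4e939ce752108421484290c42108421485294649ce739d273a4e739ce739d274a52539ce73a4e939d233a5294a4e739ce74210841906420c8418c631908421085ace7395693ad273a5294a4e739ce7421084190a420c8418c631908421044a5294a5294a5294a5294a5294a52542108421084210442108421084210439ce739ceb39ce739ce739ce739ce742108421044210442108421084210861946321083210a521082210a421082ace7394a9395273a5294a5274a529418c632108321063210842106421083a52949ce749ce549ce739ce939ce739ce739ce739ceb39ce739ce739ce78210842108421084210842108421085ace73ad673ace739ce739ce739ce7421084210442108421084210842104418c6321043210a3210842106421083a52949ce349ce949ce739ce939ce7418c6321083210a3210842106421043a52949ce749ce949ce739ce939ce342942521085210a521084210a421083a52949ce749ced49ce739ce939ce752108419464294842946318c83194a49ce73a5253a52b3a5294a5274a52539ce739ce339ce739ce739ce739ce7421084210c4210442108421084210839ce739ce739ce739ce739ce739ce342108421084210c4210842108421044294a5210852106521084210a4210449ce73a5293a5273a5294a5274a525418c63210c3210a3210842106421083a52949ceb49ce949ce739ce939ce74a5294a5254a5254a5294a5294a525421084210c4210842108421084210439ce739ce739ce339ce739ce739ce7421084210842108421084210842108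
def nt (a : ℕ) : ℕ := Nat.mul 16 (H14.get 3 (nat_lit 0x6d489b6d46e27137138da6a34929125226db8e369a69a698) a)
def GT : ℕ := nat_lit 0x79e79e51651e59479e5145145167965965a0e6089b08ae5b6f971f
def M0 : ℕ := nat_lit 0x3210842946428c84194651948328ca21946321083210a521082210a42108428c6321085210a511084210641108428c6521083210a320884210a22108418ca311085210a321084210a4208861946321083210a521086210a4210832108418c642948418c6528c85294a418c63210c3210632108421064210c418ca521083110a5210442106421083210841946418c8428ca519485194a41946521885210a321084310642108418c6321043210632108421064210441946520885210a321084110642108418ca331085210a321084210a42188428c6321085210a5310842106431084294a321083218a321084218642108418ca521083310a5210c4210642108428c6521083210a321884210a62108521084294641948418ca318c8528ca4294a321083208a32108420864210852108418c6418c84194a329483294a52108419464294842946318c83194a52108428c6428c8428c632948518ca32108428c6419484294a528c8318ca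
def c0 : ℕ := nat_lit 0x412c18b7e
theorem ok0 : ok M0 = true := by decide +kernel
def M1 : ℕ := nat_lit 0x61946321083210a521082210a4210832108418c6419484294631948528c6521084194641948418c652948318c632108428c642948418ca31948319463210841946428c84194a328c8518c6418ca331085210a321084210a4208841946521885210a321084110642108418c63210c321063210842106421043210842946418c8428c6328c832946418ca521083310a5210442106421084294a321083218a3210842086421085210842946429484294a529485294652108418c6428c8428ca518c8328c6428c6321085210a531084210641108428c6521083210a321884210a22108418ca521083110a5210c421064210821946321083210a521086210a4210841946520885210a3210843106421084294a321083208a32108421864210852108428c6418c841946518c851946428c6521083210a320884210a62108428c6321085210a511084210643108418ca311085210a321084210a42188418c6321043210632108421064210c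
def c1 : ℕ := nat_lit 0xdc77de08c
theorem ok1 : ok M1 = true := by decide +kernel
def objs : List ℕ := [nat_lit 0x1, nat_lit 0x2000, nat_lit 0x400000, nat_lit 0x8000000, nat_lit 0x8000000000, nat_lit 0x40000000000, nat_lit 0x2000000000000, nat_lit 0x1000000000000000]
theorem okT : A24.ok T := H14.A24_ok (by decide +kernel)
theorem okb : ok Mb = true := by decide +kernel
theorem eβ : el Mb = permHom (A24.el T) := el_perm okb okT (by decide +kernel)
theorem oT : orderOf (A24.el T) = 7 := A24.orderOf_prime okT (by norm_num) (by decide +kernel)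
theorem oβ : orderOf (el Mb) = 7 := by rw [eβ, orderOf_injective _ permHom_inj, oT]
theorem bd : BD (el Mb) Bs 6 nt := bd_of (p := 7) (Tab := Tab) (GT := GT) okb (by decide) (by norm_num) (by norm_num) (by decide +kernel)
def G1 : ℕ := nat_lit 0x5ace7395693ad273a5294a4e739ce759d673a4e939d275a5292a4eb39ce73ad6b3a4e939ca73a5294a56739ce739d675a56959d273a529494e739ce739ceb5a4e93ad275a5254a4e739ce72a52949d272a56949d6b39d294a52959ceb3a4e939d273a529494e75ace74a52949d234a4e549ce739d294a52539ceb394e959d273a5294a4eb39d6759ce75a4e939d27395294a56739d674a4a94ad274a4e94aceb39d292a52939ce73a4e539d233a5294a4e739ceb3ace75a4e939d273a4a94a4eb59ce74a52949d27495694ace73ad254a5294a5294ad274a4e929d673aca94a5294a5292ad274a56949ce759d29495294952949d274a4e949ceb5ad294a4a94a52549ca74a4e94ad6759d294a52939d673a4e93ad273a4a94a4e73ad673ace73a4e959d27595294a4e73ace739ce73a56939ca75a5294a4e759d6739ce73a56939d273a5254a56b3ace739ce73a4e95ad273a5292a56759ce739ce73a4e539d2b3a5294a4e739ce3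
def cG : ℕ := nat_lit 0xa0c218d7e
theorem okG : ok G1 = true := by decide +kernel

abbrev S3 := Matrix.SpecialLinearGroup (Fin 3) (ZMod 2)
noncomputable def obj (w : Fin 3 → ZMod 2) : ℕ := H14.nth objs ((w 0).val + 2 * (w 1).val + 4 * (w 2).val)
def s0 : S3 := ⟨!![0, 0, 1; 1, 0, 1; 0, 1, 0], by decide⟩
def s1 : S3 := ⟨!![1, 1, 0; 0, 1, 0; 0, 0, 1], by decide⟩
theorem lk0 : lkChk Mb M0 Bs 6 c0 = true := by decide +kernel
theorem cS : Nat.card S3 = 168 := by simpa [Fin.prod_univ_three] using H10.card_SL_fin (F := ZMod 2) 3 (by norm_num)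

theorem top : ⊤ ≤ (bd.gam obj).map (MonoidHom.snd _ S3) := by
  have m0 := bd.mem (by norm_num) okb ok0 lk0 obj s0 (by decide +kernel)
  have m1 := bd.mem (cols := c1) (by norm_num) okb ok1 (by decide +kernel) obj s1 (by decide +kernel)
  generalize (bd.gam obj).map (MonoidHom.snd _ S3) = K at m0 m1
  haveI := H10.isSimpleGroup_SL_two (n := 3) le_rfl
  haveI := Fact.mk (by norm_num : Nat.Prime 7)
  have d7 : 7 ∣ Nat.card K := (orderOf_eq_prime (by decide) (by decide) : orderOf s0 = 7) ▸ K.orderOf_dvd_natCard m0
  have d3 := K.orderOf_dvd_natCard (mul_mem (mul_mem (m0) m0) m1)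
  rw [orderOf_eq_prime (p := 3) (by decide) (by decide)] at d3
  have d4 := K.orderOf_dvd_natCard (mul_mem (m0) m1)
  rw [orderOf_eq_prime_pow (p := 2) (n := 1) (by decide) (by decide)] at d4
  have := K.card_mul_index
  rw [cS] at this
  obtain ⟨c, e⟩ : 84 ∣ Nat.card K := by omega
  have h2 : K.index ∣ 2 := ⟨c, by rw [e] at this; linarith⟩
  rcases (Nat.dvd_prime Nat.prime_two).1 h2 with i | i
  · exact (index_eq_one.1 i).ge
  · rcases (normal_of_index_eq_two i).eq_bot_or_eq_top with rfl | rfl
    · simp at d7
    · exact le_rfl

theorem nonreal (τ : M24) : τ * A24.el T * τ⁻¹ ≠ (A24.el T)⁻¹ := fun e => by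
  obtain ⟨h1, h2, -⟩ := S5604.result (zpowers (A24.el T)) (by rw [Nat.card_zpowers, oT])
  have o := oT
  generalize A24.el T = σ at *
  have n : τ ∈ normalizer (zpowers σ : Set M24) := mem_normalizer_fintype (by
    rintro _ ⟨i, rfl⟩
    rw [← conj_zpow, e]; exact zpow_mem (inv_mem (mem_zpowers σ)) i)
  have i := ((centralizer (zpowers σ : Set M24)).subgroupOf (normalizer (zpowers σ : Set M24))).card_mul_index
  rw [h1, Nat.card_congr (subgroupOfEquivOfLe (centralizer_le_normalizer _)).toEquiv, h2] at i
  have c := ((centralizer (zpowers σ : Set M24)).subgroupOf (normalizer (zpowers σ : Set M24))).pow_index_mem ⟨τ, n⟩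
  rw [show index _ = 3 by omega] at c
  have c : σ * τ ^ 3 = τ ^ 3 * σ := c σ (mem_zpowers σ)
  have e' : τ * σ⁻¹ * τ⁻¹ = σ := by rw [← conj_inv, e, inv_inv]
  have : τ ^ 3 * σ * (τ ^ 3)⁻¹ = σ⁻¹ := by
    rw [show τ ^ 3 * σ * (τ ^ 3)⁻¹ = τ * (τ * (τ * σ * τ⁻¹) * τ⁻¹) * τ⁻¹ by simp only [pow_succ, pow_zero]; group, e, e', e]
  rw [← c, mul_inv_cancel_right] at this
  have := orderOf_dvd_of_pow_eq_one (show σ ^ 2 = 1 by rw [pow_two]; exact mul_eq_one_iff_eq_inv.2 this)
  rw [o] at this
  omega

theorem inv1 : el Mb * el G1 * el Mb = el G1 := co_ext8 fun i => by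
  have H : forceT (prep Mb) (fun t => forceT (prep G1) fun u => allLt 24 fun i =>
      Nat.beq (H14.force (H14.force (t.act (c8 i)) u.act) t.act) (u.act (c8 i))) = true := by decide +kernel
  rw [forceT_eq, forceT_eq, allLt_iff] at H
  have H := H _ (idx_lt i)
  rw [H14.force_eq, H14.force_eq] at H
  obtain ⟨a, b⟩ := c8_spec i
  rw [mul_smul, mul_smul, ← b, (el_smul okb a).2, (el_smul okG (el_smul okb a).1).2,
    (el_smul okb (el_smul okG (el_smul okb a).1).1).2, Nat.eq_of_beq_eq_true H, (el_smul okG a).2]

theorem a0 : Cg (e8 none) (comb Bs 6 22) := by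
  have := cgc_sound bd.vc (by norm_num) (c8_spec none).1 (a := 22) (by decide +kernel)
  rwa [(c8_spec none).2] at this

theorem aG : ∀ a, Cg (el G1 • comb Bs 6 a) (comb Bs 6 (lin (H14.get 6 cG) 6 a)) := by
  have H : forceT (prep G1) (fun u => allLt 6 fun i => cgc Bs 6 (u.act (H25.gd 0 Bs i)) (H14.get 6 cG i)) = true := by
    decide +kernel
  rw [forceT_eq, allLt_iff] at H
  exact bd.cols (by norm_num) okG H

theorem it (i b : ℕ) : Cg (el M0 ^ i • comb Bs 6 b) (comb Bs 6 (H14.iter (lin (H14.get 6 c0) 6) i b)) := by
  have := bd.cols (by norm_num) ok0 (lkChk_spec lk0).2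
  generalize el M0 = g, lin (H14.get 6 c0) 6 = F at *
  induction i with
  | zero => rw [pow_zero, one_smul]; exact Cg.refl _
  | succ i ih =>
    rw [pow_succ', mul_smul, show H14.iter F (i + 1) b = _ from H14.force_eq _ _]
    exact (ih.smul _).trans (this _)

theorem hX : ∀ k ∈ Cz (el Mb), ∀ a < 2 ^ 6, Cg (k • e8 none) (comb Bs 6 a) → tb (nat_lit 0x1002048008402000) a = true := fun k hk a ha c => by
  have h4 := (bd.four ha).1 ⟨_, by rw [g_sq, sq_e8], c⟩
  by_contra n
  obtain ⟨i, -, e⟩ := (by decide +kernel : ∀ a < 2 ^ 6, nt a = 64 → ¬ tb (nat_lit 0x1002048008402000) a = true →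
    ∃ i < 7, H14.iter (lin (H14.get 6 c0) 6) i (lin (H14.get 6 cG) 6 a) = 22) a ha h4 n
  have h1 := it i (lin (H14.get 6 cG) 6 a)
  rw [e] at h1
  have cm : Commute (el M0 ^ i) (el Mb) := (show Commute _ _ from comm_of okb ok0 (lkChk_spec lk0).1).pow_left i
  have h2 := inv1
  have h3 := aG a
  have hk := mem_Cz.1 hk
  have h5 := nonreal
  rw [eβ] at cm h2 hk
  generalize el M0 ^ i = x, el G1 = g, A24.el T = σ at *
  have m : x * g * k ∈ NN := NN_iff.2 (by
    rw [mul_smul, mul_smul]
    exact ((((c.smul _).trans h3).smul _).trans h1).trans a0.symm)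
  have d : x * g * k * permHom σ * (x * g * k)⁻¹ = (permHom σ)⁻¹ := by
    rw [mul_assoc _ k, hk, mul_inv_eq_iff_eq_mul, ← mul_assoc, ← mul_assoc, ← mul_assoc, ← cm.inv_right.eq, mul_left_inj,
      mul_assoc, mul_assoc, mul_right_inj, eq_inv_mul_iff_mul_eq, ← mul_assoc, h2]
  refine h5 (piN ⟨_, m⟩) ?_
  rw [← piN_sec σ, ← map_inv, ← map_inv, ← map_mul, ← map_mul]
  exact congrArg piN (Subtype.ext d)

theorem cd : ∃ ρ : Cz (permHom (A24.el T)) →* (⊤ : Subgroup S3), CD _ ρ fun i : Fin (2 ^ 6) => comb Bs 6 i := by
  rw [← eβ]
  refine bd.rho (by decide) oβ obj (fun (s : S3) h => Subtype.ext (Matrix.ext_of_mulVec_single fun i => ?_)) ⊤ top ?_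
  · rw [Matrix.SpecialLinearGroup.coe_one, Matrix.one_mulVec]
    exact ((by decide +kernel : ∀ t u, (∀ a < 2 ^ 6, (obj t).testBit a = (obj u).testBit a) → t = u) _ _ (h _)).symm
  · have := bd.bound _ hX (eβ ▸ (secN _).2)
    have c := (S5604.result (zpowers (A24.el T)) (by rw [Nat.card_zpowers, oT])).2.1
    rw [zpowers_eq_closure, centralizer_closure] at c
    rw [eβ, card_CN, ncard_fixc okT, c, show H14.cntLt _ _ = 7 by decide +kernel, show H14.cntLt2 _ _ _ = 8 by decide +kernel] at this
    rw [card_top, cS, eβ]; exact this


/-- Let G be a finite group of Monster type at the involution z with Q the extraspecial normal subgroup of order 2^25 of C = C_G(z) (so C/Q is identified with the first Conway group with Q modulo its centre the Leech lattice modulo 2, and z is not weakly closed in Q). Let s be a conjugate of z in Q other than z and let B be a Sylow 7-subgroup of the joint centralizer of z and s. Then the centralizer of B modulo B is a group of Held type (an involution whose centralizer D has generalized Fitting subgroup R extraspecial of order 2^7 with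 D/R isomorphic to SL(3, 2), exactly 29 of its conjugates lying in R, and the involution not weakly closed in R). -/
theorem result {G : Type*} [Group G] [Finite G] (z : G) (Q : Subgroup (Subgroup.centralizer ({z} : Set G))) [Q.Normal] (hM : Cfsg.IsOfMonsterType z Q) (s : G) (hsQ : ∃ hsc : s ∈ Subgroup.centralizer ({z} : Set G), (⟨s, hsc⟩ : Subgroup.centralizer ({z} : Set G)) ∈ Q) (hs : IsConj z s) (hs1 : s ≠ z) (B : Subgroup G) (hB : B ≤ Subgroup.centralizer ({z, s} : Set G)) (hBp : Nat.card B = 7 ^ (Nat.card ↥(Subgroup.centralizer ({z, s} : Set G))).factorization 7) [hn : (B.subgroupOf (Subgroup.centralizer (B : Set G))).Normal] : Cfsg.IsOfHeldType (↥(Subgroup.centralizer (B : Set G)) ⧸ B.subgroupOf (Subgroup.centralizer (B : Set G))) := by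
  obtain ⟨f, Rp, h, a⟩ := setup hM (mem_map_iff.2 hsQ) hs hs1
  haveI := Fact.mk (by norm_num : Nat.Prime 7)
  rw [h.cardL a, fact_eq (p := 7) (n := 1) (by norm_num) (by norm_num) (by norm_num), pow_one] at hBp
  obtain ⟨σ, o, H⟩ := h.red a hB Fact.out (by decide) hBp
  obtain ⟨τ, -, c⟩ := H14.exists_conj_mem_of_pow (p := 7) Fact.out (K := ⊤) (P := zpowers (A24.el T)) le_top (mem_top σ) (j := 1)
    (by rw [pow_one, ← o, pow_orderOf_eq_one]) (n := 34974720) (by rw [Nat.card_zpowers, oT, card_top, H14.card_M24]) (by norm_num)
  obtain ⟨b, bz, f', Rp', rfl, bp, bs, h', a', e⟩ := H _ τ oT c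
  obtain ⟨ρ, d⟩ := cd
  haveI := H10.isSimpleGroup_SL_two (n := 3) le_rfl
  haveI : IsSimpleGroup (⊤ : Subgroup S3) := topEquiv.isSimpleGroup
  obtain ⟨x, R, _, c1, ⟨c2⟩, c3⟩ := h'.fin a' hs bz bs (by decide) bp oT e d (pCore_simple (by rw [card_top, cS]; norm_num))
    (w := 3) (by simp)
  refine ⟨x, R, inferInstance, c1, ⟨c2.trans topEquiv⟩, c3.trans ?_⟩
  rw [show {i : Fin (2 ^ 6) | ∃ v : L, sqNorm v.1 = 64 ∧ Cg v (comb Bs 6 i)} = (Finset.univ.filter fun i : Fin (2 ^ 6) => nt i = 64) by
    ext i; rw [Set.mem_setOf_eq, bd.four i.2]; simp, Set.ncard_coe_finset]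
  decide +kernel

end Cfsg.Agent.S5416
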