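import Cfsg.Statements.S5472
import Mathlib
import Cfsg.Agent.L1.AuC4
import Cfsg.Agent.L1.AuG

set_option autoImplicit false
open Cfsg

namespace Cfsg.Agent.S5472
open Cfsg.Agent.H15 Cfsg.Agent.H14

/-- Let G be a finite group with trivial centre generated by a conjugation-invariant set D of 3-transpositions on which it acts primitively, such that for some d in D the subgroup generated by the members of D other than d commuting with d has central largest normal 2- and 3-subgroups, and suppose G with D is of type M(22). Then G has a non-inner automorphism s of order 2 whose fixed-point subgroup is isomorphic to the full automorphism group of Ω⁺(8, 2) (the commutator subgroup of the isometry group of the hyperbolic quadratic form in dimension 8 over the field with two elements), together with distinct commuting members a, b of D fixed by s such that: s, s composed with conjugation by a, and s composed with conjugation by a b represent the three classes (under the automorphism group) of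 non-inner automorphisms of order 2; the elements fixed by the automorphism s composed with conjugation by a are exactly those fixed by s and commuting with a, and they form a group isomorphic to the direct product of a group of order 2 and the symplectic group of dimension 6 over the field with two elements; and the elements fixed by the automorphism s composed with conjugation by a b form a group whose largest normal 2-subgroup is elementary abelian of order 64 with quotient isomorphic to the full isometry group of the elliptic quadratic form in dimension 6 over the field with two elements. -/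
theorem result {G : Type*} [Group G] [Finite G] {D : Set G} (hD : Cfsg.IsThreeTranspositionGroup D) (hprim : Cfsg.IsPrimitiveUnderConj D) (d₀ : G) (hd₀ : d₀ ∈ D) (h3 : Cfsg.pCore 3 ↥(Subgroup.closure {y : G | y ∈ D ∧ y ≠ d₀ ∧ Commute d₀ y}) ≤ Subgroup.center ↥(Subgroup.closure {y : G | y ∈ D ∧ y ≠ d₀ ∧ Commute d₀ y})) (h2 : Cfsg.pCore 2 ↥(Subgroup.closure {y : G | y ∈ D ∧ y ≠ d₀ ∧ Commute d₀ y}) ≤ Subgroup.center ↥(Subgroup.closure {y : G | y ∈ D ∧ y ≠ d₀ ∧ Commute d₀ y})) (h22 : Cfsg.IsOfTypeM22 G D) : ∃ (s : MulAut G) (a b : G) (Cs : Subgroup G), orderOf s = 2 ∧ s ∉ (MulAut.conj : G →* MulAut G).range ∧ (∀ g : G, g ∈ Cs ↔ s g = g) ∧ Nonempty (↥Cs ≃* MulAut (Cfsg.Omega (ZMod 2) (Cfsg.quadFormPlus 4 (ZMod 2)))) ∧ a ∈ D ∧ b ∈ D ∧ a ≠ b ∧ Commute a b ∧ s a = a ∧ s b = b ∧ (∀ t : MulAut G, orderOf t = 2 → t ∉ (MulAut.conj : G →* MulAut G).range → (IsConj t s ∨ IsConj t (s * MulAut.conj a) ∨ IsConj t (s * MulAut.conj (a * b)))) ∧ ¬ IsConj s (s * MulAut.conj a) ∧ ¬ IsConj s (s * MulAut.conj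 (a * b)) ∧ ¬ IsConj (s * MulAut.conj a) (s * MulAut.conj (a * b)) ∧ (∀ g : G, (s * MulAut.conj a) g = g ↔ g ∈ Cs ⊓ Subgroup.centralizer ({a} : Set G)) ∧ Nonempty (↥(Cs ⊓ Subgroup.centralizer ({a} : Set G)) ≃* Multiplicative (ZMod 2) × Cfsg.PSp 3 (ZMod 2)) ∧ ∃ Csab O : Subgroup G, (∀ g : G, g ∈ Csab ↔ (s * MulAut.conj (a * b)) g = g) ∧ O = (Cfsg.pCore 2 ↥Csab).map Csab.subtype ∧ Cfsg.IsElementaryAbelian 2 O ∧ Nat.card O = 64 ∧ ∃ _ : (O.subgroupOf Csab).Normal, Nonempty (↥Csab ⧸ O.subgroupOf Csab ≃* Cfsg.isometryGroup (ZMod 2) (Cfsg.quadFormMinus 2 (ZMod 2) 1 1)) := by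
  obtain ⟨M, hM, rfl⟩ := X22.exists_mod hD hprim h22
  obtain ⟨q, qq, hw⟩ := L1AQ.exists_q M hM
  have h := L1AQ.dat' M hM qq hw
  have hs := L1AF.hs_of M hw
  have cl := fun t => L1AQ.classes M hM qq hw (t := t)
  have r1 : MulAut.conj (M.w L1AF.cc) * q * MulAut.conj (M.w [0]) = MulAut.conj (M.w (nthW L1AQ.rho 1)) * q := by
    rw [mul_assoc, L1AQ.aut_conj, ← mul_assoc, ← map_mul, hw _ (by decide +kernel), ← M.w_app]
    exact congrArg (fun x => MulAut.conj x * q) (M.eqW (by decide +kernel))
  have r2 : MulAut.conj (M.w L1AF.cc) * q * MulAut.conj (M.w [0, 2]) = MulAut.conj (M.w (nthW L1AQ.rho 2)) * q := by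
    rw [mul_assoc, L1AQ.aut_conj, ← mul_assoc, ← map_mul, hw _ (by decide +kernel), ← M.w_app]
    exact congrArg (fun x => MulAut.conj x * q) (M.eqW (by decide +kernel))
  have so : MulAut.conj (M.w L1AF.cc) * q ∉ (MulAut.conj : G →* MulAut G).range := fun ⟨g, hg⟩ =>
    h.out ((M.w L1AF.cc)⁻¹ * g) (by rw [map_mul, hg, map_inv, inv_mul_cancel_left])
  have s2 : (MulAut.conj (M.w L1AF.cc) * q) ^ 2 = 1 := by
    rw [pow_two, h.mul_qq, hw _ (by decide +kernel), ← M.w_app, show M.w _ = M.w [] from M.eqW (by decide +kernel)]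
    exact map_one _
  have cl' : ∀ t : MulAut G, orderOf t = 2 → t ∉ (MulAut.conj : G →* MulAut G).range →
      IsConj t (MulAut.conj (M.w L1AF.cc) * q) ∨ IsConj t (MulAut.conj (M.w L1AF.cc) * q * MulAut.conj (M.w [0])) ∨
        IsConj t (MulAut.conj (M.w L1AF.cc) * q * MulAut.conj (M.w [0, 2])) := fun t ht ho => by
    obtain ⟨u, hu, k⟩ := cl t (ht ▸ pow_orderOf_eq_one t) ho
    rw [r1, r2]
    simp only [L1AQ.rho, List.mem_cons, List.not_mem_nil, or_false] at hu
    rcases hu with rfl | rfl | rfl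
    exacts [Or.inl k, Or.inr (Or.inl k), Or.inr (Or.inr k)]
  generalize MulAut.conj (M.w L1AF.cc) * q = s at hs so s2 cl'
  have f0 := L1AF.Fx0 M hs hM
  have f1 := L1AF.Fx1 M hs hM
  obtain ⟨c2, ea, cO, qh⟩ := L1AF.Fx2 M hM hs
  obtain ⟨c1, i1⟩ := L1AF.cenA M hM
  have c0 := L1O8.cardI M hM
  rw [← f0] at c0 c1 i1
  rw [← f1] at c1
  have ab : M.w [0] * M.w [2] = M.w [0, 2] := (M.w_app [0] [2]).symm
  have pc := qh.pcore (IsPGroup.of_card (n := 6) cO) (L1AF.pcO6 M hM)
  have mD := (M.tw_mem (gs := [[0], [2]]) (ts := [(0, [], 0), (1, [], 2)]) (by decide +kernel)).1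
  refine ⟨s, M.w [0], M.w [2], L1AF.Fx s, orderOf_eq_prime s2 (fun e => so (e ▸ one_mem _)), so, fun _ => Iff.rfl,
    f0 ▸ L1O8.isoI M hM, mD _ (by decide), mD _ (by decide), M.neW (x := 695) (by decide +kernel), M.commW (by decide +kernel),
    (L1AF.s_w M hs (by decide +kernel)).trans (M.eqW (by decide +kernel)),
    (L1AF.s_w M hs (by decide +kernel)).trans (M.eqW (by decide +kernel)), ab ▸ cl', fun k => ?_, fun k => ?_, fun k => ?_,
    fun g => f1 ▸ Iff.rfl, i1, L1AF.Fx (s * MulAut.conj (M.w [0, 2])), gp M.e L1AF.oO, fun _ => ab ▸ Iff.rfl,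
    (qh.map_sub pc).symm, ea, cO, qh.iso'⟩
  · have := L1AF.Fx_card k
    omega
  · have := L1AF.Fx_card (ab ▸ k)
    omega
  · have := L1AF.Fx_card (ab ▸ k)
    omega

end Cfsg.Agent.S5472
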