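import Cfsg.Statements.S5522
import Cfsg.Agent.L1.Fix

set_option autoImplicit false
open Cfsg

namespace Cfsg.Agent.S5522

open Cfsg.Agent.H14 MulAction
open scoped Pointwise

/-- The Mathieu group M₁₁, realised as the stabiliser of one point of the dodecad of squares inside the stabiliser M₁₂ of that dodecad in M₂₄, acts on the twelve coordinate positions outside the dodecad of squares (its 3-transitive action of degree 12); in this action every element of prime order fixes a point, i.e. the action is elusive. -/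
theorem result (g : Equiv.Perm Cfsg.GolayPt) (hg : g ∈ Cfsg.Spor.M11) (hord : (orderOf g).Prime) :
    ∃ x : Cfsg.GolayPt, x ∉ Cfsg.Spor.squareDodecad ∧ g x = x := by
  have hd : g • d0 = d0 := d0_eq ▸ hg.1.2
  have h0 : g (some 0) = some 0 := hg.2
  rw [← d0_eq]
  have key : 5 ≤ (fixP ⟨g, hg.1.1⟩).card → ∃ x, x ∉ d0 ∧ g x = x := fun h5 => by
    by_contra hc
    push Not at hc
    obtain ⟨E, hE, hE5⟩ := Finset.exists_subset_card_eq h5
    let e := (E.equivFinOfCardEq hE5).symm
    have h1 := m12_sharp d0_mem ⟨fun i => e i, Subtype.val_injective.comp e.injective⟩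
      (fun i => by_contra fun h => hc _ h (mem_fixP.mp (hE (e i).2))) (g := ⟨g, hg.1.1⟩) hd
      fun i => mem_fixP.mp (hE (e i).2)
    rw [show g = 1 from congrArg Subtype.val h1, orderOf_one] at hord
    exact Nat.not_prime_one hord
  by_cases h2 : orderOf g = 2
  · exact key (by rw [(inv_fix_octad (orderOf_mk hg.1.1 h2) (p := some 0) h0).2]; norm_num)
  by_cases h3 : orderOf g = 3
  · refine key ?_
    have : (fixP ⟨g, hg.1.1⟩).card ≠ 0 := Finset.card_ne_zero_of_mem (mem_fixP.mpr h0)
    have := three_fix (orderOf_mk hg.1.1 h3)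
    omega
  have := Fact.mk hord
  have hs : ∀ x, g x ∉ d0 ↔ x ∉ d0 := fun x => by
    conv_lhs => rw [← hd]
    exact (Finset.smul_mem_smul_finset_iff g).not
  obtain ⟨x, hx⟩ := Equiv.Perm.exists_fixed_point_of_prime (p := orderOf g) (n := 1)
    (σ := g.subtypePerm hs) (by
      rw [show Fintype.card {x // x ∉ d0} = 2 * (2 * 3) by decide]
      intro h
      rcases (Nat.Prime.dvd_mul hord).mp h with h | h
      · exact h2 ((Nat.prime_dvd_prime_iff_eq hord Nat.prime_two).mp h)
      rcases (Nat.Prime.dvd_mul hord).mp h with h | h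
      · exact h2 ((Nat.prime_dvd_prime_iff_eq hord Nat.prime_two).mp h)
      · exact h3 ((Nat.prime_dvd_prime_iff_eq hord Nat.prime_three).mp h))
    (by
      rw [pow_one, Equiv.Perm.subtypePerm_pow]
      ext x
      simp)
  exact ⟨x, x.2, congrArg Subtype.val hx⟩

end Cfsg.Agent.S5522
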