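import Cfsg.Statements.S5726
import Mathlib
import Cfsg.Agent.H16.RegNormal

set_option autoImplicit false
open Cfsg

namespace Cfsg.Agent.S5726

/-- If a finite group acts faithfully and transitively on a set with p^k elements, p a prime and k ≥ 1, then some element of order p fixes no point. -/
theorem result {G Ω : Type*} [Group G] [Finite G] [MulAction G Ω] [FaithfulSMul G Ω] [Fintype Ω] (htr : MulAction.IsPretransitive G Ω)
    (p k : ℕ) (hp : p.Prime) (hk : 1 ≤ k) (hΩ : Fintype.card Ω = p ^ k) :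
    ∃ g : G, orderOf g = p ∧ ∀ ω : Ω, g • ω ≠ ω := by
  have := Fact.mk hp
  obtain ⟨P⟩ : Nonempty (Sylow p G) := inferInstance
  have ht := H16.sylow_trans (α := Ω) (by rw [Nat.card_eq_fintype_card, hΩ]) P
  have ht' : MulAction.IsPretransitive (P : Subgroup G) Ω := ht
  have h1 : 1 < Fintype.card Ω := by rw [hΩ]; exact Nat.one_lt_pow (by omega) hp.one_lt
  have hnt : Nontrivial (P : Subgroup G) := by
    obtain ⟨a, b, hab⟩ := Fintype.exists_pair_of_one_lt_card h1
    obtain ⟨g, hg⟩ := ht'.exists_smul_eq a b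
    exact ⟨g, 1, by rintro rfl; exact hab (by simpa using hg)⟩
  have hc := P.isPGroup'.center_nontrivial
  have hPc : IsPGroup p (Subgroup.center (P : Subgroup G)) := P.isPGroup'.to_subgroup _
  obtain ⟨n, hn0, hn⟩ := hPc.nontrivial_iff_card.1 hc
  obtain ⟨z, hz⟩ := exists_prime_orderOf_dvd_card' (G := Subgroup.center (P : Subgroup G)) p
    (by rw [hn]; exact dvd_pow_self p hn0.ne')
  refine ⟨z.1.1, by rw [Subgroup.orderOf_coe, Subgroup.orderOf_coe, hz], fun ω hω => ?_⟩
  have : z.1.1 = 1 := H16.eq_one_of_centralizes_trans (P : Subgroup G)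
    (fun n hn => congrArg Subtype.val (Subgroup.mem_center_iff.1 z.2 ⟨n, hn⟩)) hω
  have h2 : z = 1 := Subtype.ext (Subtype.ext this)
  rw [h2, orderOf_one] at hz
  exact hp.one_lt.ne hz

end Cfsg.Agent.S5726
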