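import Cfsg.Statements.S5727
import Mathlib
import Cfsg.Agent.H16.Derang
import Cfsg.Agent.H16.Centr

set_option autoImplicit false
open Cfsg

namespace Cfsg.Agent.S5727

/-- If a finite group acts faithfully and transitively on a set with m·p elements, where p is a prime and 1 ≤ m ≤ p, then some element of order p fixes no point. -/
theorem result {G Ω : Type*} [Group G] [Finite G] [MulAction G Ω] [FaithfulSMul G Ω] [Fintype Ω] (htr : MulAction.IsPretransitive G Ω)
    (p m : ℕ) (hp : p.Prime) (hm : 1 ≤ m) (hmp : m ≤ p) (hΩ : Fintype.card Ω = m * p) :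
    ∃ g : G, orderOf g = p ∧ ∀ ω : Ω, g • ω ≠ ω := by
  classical
  have := Fact.mk hp
  rw [← Nat.card_eq_fintype_card] at hΩ
  obtain ⟨P⟩ : Nonempty (Sylow p G) := inferInstance
  have := Fintype.ofFinite (P : Subgroup G)
  have hne : Nonempty Ω := (Nat.card_pos_iff.1 (by rw [hΩ]; exact Nat.mul_pos hm hp.pos)).1
  have h2 := hp.two_le
  -- orbits of `p`-subgroups
  have horb : ∀ Q : Subgroup G, IsPGroup p Q → ∀ x : Ω,
      ∃ k, (MulAction.orbit Q x).ncard = p ^ k := fun Q hQ x => by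
    obtain ⟨n, hn⟩ := IsPGroup.iff_card.1 hQ
    obtain ⟨k, -, hk⟩ := (Nat.dvd_prime_pow hp).1 (hn ▸ H16.ncard_orbit_dvd (G := Q) x)
    exact ⟨k, hk⟩
  have hP : ∀ x : Ω, p ≤ (MulAction.orbit (P : Subgroup G) x).ncard := by
    intro x
    obtain ⟨k, hk⟩ := horb P P.isPGroup' x
    rcases k with _ | k
    · exfalso
      rw [pow_zero, H16.ncard_orbit_subgroup, Subgroup.relIndex_eq_one] at hk
      apply P.not_dvd_index
      refine Dvd.dvd.trans ?_ (Subgroup.index_dvd_of_le hk)
      rw [MulAction.index_stabilizer_of_transitive, hΩ]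
      exact Dvd.intro_left _ rfl
    · rw [hk, pow_succ]; exact Nat.le_mul_of_pos_left _ (pow_pos hp.pos _)
  have hq : Nat.card (MulAction.orbitRel.Quotient (P : Subgroup G) Ω) ≤ m := by
    have : Fintype (MulAction.orbitRel.Quotient (P : Subgroup G) Ω) := Fintype.ofFinite _
    have h1 := Nat.card_congr (MulAction.selfEquivSigmaOrbits' (P : Subgroup G) Ω)
    rw [Nat.card_sigma, hΩ] at h1
    have h3 : ∑ _q : MulAction.orbitRel.Quotient (P : Subgroup G) Ω, p ≤ m * p := by
      rw [h1]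
      refine Finset.sum_le_sum fun q _ => ?_
      induction q using Quotient.inductionOn' with
      | h x => exact hP x
    rw [Finset.sum_const, Finset.card_univ, smul_eq_mul, ← Nat.card_eq_fintype_card] at h3
    exact Nat.le_of_mul_le_mul_right h3 hp.pos
  obtain ⟨g, hg⟩ : ∃ g : (P : Subgroup G), ∀ x : Ω, g • x ≠ x := by
    by_contra h
    have h1 := H16.sum_nfix (G := (P : Subgroup G)) (α := Ω)
    have h3 : ∀ g : (P : Subgroup G), p ≤ H16.nfix Ω g := fun g => by
      obtain ⟨k, hk⟩ := P.isPGroup' g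
      have h4 := H16.nfix_modEq (α := Ω) hp hk
      rw [hΩ] at h4
      apply Nat.le_of_dvd (Nat.pos_of_ne_zero fun e => h ⟨g, H16.nfix_eq_zero.1 e⟩)
      exact (h4.dvd_iff dvd_rfl).2 (Dvd.intro_left _ rfl)
    rw [← Finset.add_sum_erase _ _ (Finset.mem_univ 1), H16.nfix_one, hΩ] at h1
    have h4 := Finset.card_nsmul_le_sum (Finset.univ.erase (1 : (P : Subgroup G))) _ p
      (fun g _ => h3 g)
    rw [Finset.card_erase_of_mem (Finset.mem_univ _), Finset.card_univ, smul_eq_mul,
      ← Nat.card_eq_fintype_card] at h4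
    have h5 := Nat.mul_le_mul_right (Nat.card (P : Subgroup G)) hq
    have h6 : p ≤ Nat.card (P : Subgroup G) := by
      obtain ⟨x⟩ := hne
      exact (hP x).trans (Nat.le_of_dvd Nat.card_pos (H16.ncard_orbit_dvd x))
    obtain ⟨n, hn⟩ : ∃ n, Nat.card (P : Subgroup G) = n + 1 := ⟨_, (Nat.succ_pred_eq_of_pos Nat.card_pos).symm⟩
    rw [hn] at h4 h5 h6 h1
    simp only [Nat.add_sub_cancel] at h4
    have h7 : m * p + n * p ≤ m * (n + 1) := (Nat.add_le_add_left h4 _).trans (h1.le.trans h5)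
    have h8 : m * n ≤ p * n := Nat.mul_le_mul_right _ hmp
    nlinarith
  have hgP : IsPGroup p (Subgroup.zpowers (g : G)) :=
    P.isPGroup'.to_le (by rw [Subgroup.zpowers_le]; exact g.2)
  obtain ⟨x0⟩ := hne
  have hg1 : (g : G) ≠ 1 := fun e => hg x0 (by change (g : G) • x0 = x0; rw [e, one_smul])
  by_cases hgp : (g : G) ^ p = 1
  · exact ⟨g, orderOf_eq_prime hgp hg1, hg⟩
  obtain ⟨x, hx⟩ := H16.exists_smul_ne (α := Ω) hgp
  obtain ⟨k, hk⟩ := horb _ hgP x
  have hk2 : 2 ≤ k := by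
    by_contra hlt
    apply hx
    have h1 : (MulAction.stabilizer (Subgroup.zpowers (g : G)) x).index ∣ p := by
      rw [MulAction.index_stabilizer, hk]
      simpa using pow_dvd_pow p (show k ≤ 1 by omega)
    obtain ⟨c, hc⟩ := h1
    have h3 := (MulAction.stabilizer (Subgroup.zpowers (g : G)) x).pow_index_mem
      ⟨g, Subgroup.mem_zpowers _⟩
    have h4 := Subgroup.pow_mem _ h3 c
    rw [← pow_mul, ← hc] at h4
    exact h4
  have htr' : MulAction.IsPretransitive (Subgroup.zpowers (g : G)) Ω := by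
    apply H16.trans_of_ncard_orbit x
    rw [hk, hΩ]
    calc m * p ≤ p ^ 2 := by rw [pow_two]; exact Nat.mul_le_mul_right _ hmp
      _ ≤ _ := Nat.pow_le_pow_right hp.pos hk2
  have hreg := H16.stabilizer_eq_bot_of_comm (α := Ω) (Subgroup.zpowers (g : G)) inferInstance
  obtain ⟨y, hy⟩ := exists_prime_orderOf_dvd_card' (G := Subgroup.zpowers (g : G)) p (by
    rw [H16.card_eq_of_regular x (hreg x), hΩ]; exact Dvd.intro_left _ rfl)
  refine ⟨y, by rw [Subgroup.orderOf_coe, hy], fun ω h => ?_⟩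
  rw [show y = 1 from Subtype.ext (H16.reg_eq_one (hreg ω) y.2 h), orderOf_one] at hy
  omega

end Cfsg.Agent.S5727
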