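import Cfsg.Statements.S5736
import Mathlib
import Cfsg.Agent.H29.Bin1

set_option autoImplicit false
open Cfsg

namespace Cfsg.Agent.S5736

open MulAction Subgroup Cfsg.Agent.H29 Cfsg.Agent.H29.Bn Cfsg.Agent.L0 Cfsg.Agent.S5737 Cfsg.Agent.H10
open scoped Pointwise

section

variable {F : Type*} [Field F] [Fintype F]
variable {Ω : Type*} [MulAction (P2 F) Ω] {ω : Ω}

attribute [local simp] m2_mul_apply Matrix.adjugate_fin_two Matrix.trace_fin_two
attribute [-simp] Matrix.cons_mul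

theorem fixInf {g : S2 F} : pj g • rat (inf F) = rat (inf F) ↔ g.1 1 0 = 0 :=
  smul_rat_eq_iff.trans (smul_inf_eq_inf_iff (tG g))

theorem fixk {d g k : S2 F} (hd : pj d • ω = ω) (e : g * k = k * d) : pj g • pj k • ω = pj k • ω := by
  rw [← mul_smul, ← map_mul, e, map_mul, mul_smul, hd]

theorem no_torus (B : Bin (P2 F) Ω) (hB : ∀ g : S2 F, pj g • ω = ω → g.1 1 0 = 0) {a : Fˣ} (h : pj (ds a) • ω = ω) :
    (a : F) ^ 2 = 1 ∨ (a : F) ^ 2 = -1 := by
  by_contra! c
  have h0 := a.ne_zero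
  have h1 : 1 + (a : F) ^ 2 ≠ 0 := fun e => c.2 (by grind (ematch := 0))
  have h2 : pj (ds a⁻¹) • ω = ω := by rwa [← dsHom_apply, map_inv, map_inv, inv_smul_eq_iff, eq_comm]
  have h3 : ∀ {g k : S2 F}, pj g • pj k • ω = pj k • ω → (k⁻¹ * g * k).1 1 0 = 0 := fun e =>
    hB _ (by simpa using fx.1 e)
  let w : S2 F := mkS 0 (-1) 1 0 (by simp)
  obtain ⟨g, e0, e1, e2, e3⟩ := B.tri h (fixk (k := w) h2 (Subtype.ext (m2_ext (by simp [w]) (by simp [w]) (by simp [w]) (by simp [w]))))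
    (fixk (g := uu 1 * ds a * uu (-1)) (k := uu 1 * w) h2 (Subtype.ext (m2_ext (by simp [w]) (by simp [w]) (by simp [w]) (by simp [w]))))
    (x3 := pj (uu ((a : F) ^ 2 / (1 + a ^ 2)) * w) • ω) (by
      rw [← mul_smul, ← map_mul]
      exact fixk (d := ds a⁻¹ * ds a⁻¹) (by rw [map_mul, mul_smul, h2, h2]) (Subtype.ext (m2_ext
        (by simp [w]; field_simp; ring) (by simp [w]) (by simp [w]) (by simp [w]))))
  obtain ⟨g, rfl⟩ := pj_surjective g
  have e4 := hB g e0
  replace e1 := h3 e1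
  replace e2 := h3 e2
  simp [w, e4] at e1 e2
  rw [pj_eq_one_iff'.2 ⟨e1, e4, by grind (ematch := 0)⟩, one_smul] at e3
  replace e3 := h3 e3.symm
  simp [w] at e3
  field_simp at e3
  grind (ematch := 0)

theorem borel (B : Bin (P2 F) Ω) {x : PL F} (hB : ∀ g : P2 F, g • ω = ω → g • rat x = rat x) {g : S2 F}
    (h : pj g • ω = ω) : g.1.trace ^ 2 = 4 ∨ g.1.trace = 0 := by
  obtain ⟨_, ⟨k, rfl⟩, rfl⟩ := psl_exists_one (inf F) x
  have h1 : ∀ g : S2 F, pj g • (pj k)⁻¹ • ω = (pj k)⁻¹ • ω → g.1 1 0 = 0 := fun g e =>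
    fixInf.1 (by
      have h0 := hB _ (fx.1 e)
      rw [rat_smul] at h0
      simpa [mul_assoc] using fx.1 (show _ • pj k • rat (inf F) = pj k • rat (inf F) from h0))
  rw [← trace_conj_s2 k⁻¹]
  have h2 : pj (k⁻¹ * g * k⁻¹⁻¹) • (pj k)⁻¹ • ω = (pj k)⁻¹ • ω := fx.2 (by simpa [mul_assoc])
  generalize k⁻¹ * g * k⁻¹⁻¹ = g, (pj k)⁻¹ • ω = ω at h1 h2
  have h3 := s2_det g
  have h4 := h1 g h2
  rw [Matrix.trace_fin_two]
  by_cases h5 : g.1 0 0 = g.1 1 1
  · grind (ematch := 0)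
  let a := Units.mkOfMulEqOne (g.1 0 0) (g.1 1 1) (by grind (ematch := 0))
  have h6 : ∀ (t : F) (g : S2 F), pj g • pj (uu t) • ω = pj (uu t) • ω → g.1 1 0 = 0 := fun t g e => by
    simpa using h1 ((uu t)⁻¹ * g * uu t) (by rw [map_mul, map_mul, map_inv]; exact fx.1 e)
  have h7 : ds a = mkS (g.1 0 0) 0 0 (g.1 1 1) (by simpa [h4] using h3) := rfl
  have : g.1 0 0 ^ 2 = 1 ∨ g.1 0 0 ^ 2 = -1 := no_torus B (a := a) (h6 (g.1 0 1 / (g.1 0 0 - g.1 1 1))) (fixk h2 (h7 ▸
    Subtype.ext (m2_ext (by simp [h4]) (by have := sub_ne_zero.2 h5; simp; field_simp; ring) (by simp [h4]) (by simp))))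
  grind (ematch := 0)

theorem par (p : ℕ) [CharP F p] {g : S2 F} (h : g.1.trace ^ 2 = 4) : pj g ^ p = 1 := by
  obtain ⟨c, N, -, e⟩ := unip_pow h
  rw [← map_pow, pj_eq_one_iff', Matrix.SpecialLinearGroup.coe_pow, e, isScal_iff]
  exact ⟨_, by simp; rfl⟩

theorem even_case [Finite Ω] [CharP F 2] (B : Bin (P2 F) Ω) (hH : stabilizer (P2 F) ω ≠ ⊤) (h : pj (uu (1 : F)) • ω = ω) :
    ∃ P : Sylow 2 (P2 F), stabilizer (P2 F) ω = P := by
  haveI := Fact.mk Nat.prime_two
  have h2 : (2 : F) = 0 := CharP.cast_eq_zero F 2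
  have L := lineAct_psl F 2
  have h0 : ∀ b : F, pj (uu b) ∈ L.U (rat (inf F)) := fun b => ⟨fixInf.2 (by simp), par 2 (by simp; norm_num)⟩
  have h1 : pj (uu (1 : F)) ≠ 1 := by simp [pj_eq_one_iff', IsScal]
  have h3 : L.U (rat (inf F)) ≤ stabilizer _ ω := fun t ht => by
    by_cases e : t = 1
    · simp [e]
    by_cases e' : pj (uu 1) * t = 1
    · rw [← inv_eq_of_mul_eq_one_right e']; exact inv_mem h
    exact B.fix inv_conj (orderOf_eq_prime ht.2 e) (orderOf_eq_prime (h0 1).2 h1)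
      (orderOf_eq_prime (mul_mem (h0 1) ht).2 e') (L.unip_comm _ _ _ (h0 1).1 ht.1 (h0 1).2 ht.2) h
  have h4 : ∀ g : P2 F, g • ω = ω → g • rat (inf F) = rat (inf F) := fun g hg => by
    obtain ⟨g, rfl⟩ := pj_surjective g
    refine fixInf.2 (by_contra fun c => hH ?_)
    have h5 : ∀ b, uu b ∈ (stabilizer _ ω).comap pj := fun b => h3 (h0 b)
    rw [← comap_injective pj_surjective |>.eq_iff, comap_top]
    refine SL_eq_top_of_transvection_mem _ fun i j hij a => ?_
    have h6 := s2_det g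
    fin_cases i <;> fin_cases j
    · exact (hij rfl).elim
    · convert h5 a using 1
      ext i j; fin_cases i <;> fin_cases j <;> simp [Matrix.SpecialLinearGroup.transvection, Matrix.transvection]
    · have h7 := mul_mem (h5 (-g.1 0 0 / g.1 1 0)) (show g ∈ (stabilizer _ ω).comap pj from hg)
      convert mul_mem (mul_mem h7 (h5 (-a / g.1 1 0 ^ 2))) (inv_mem h7) using 1
      ext i j
      fin_cases i <;> fin_cases j <;> simp [Matrix.SpecialLinearGroup.transvection, Matrix.transvection] <;>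
        field_simp <;> grind (ematch := 0)
    · exact (hij rfl).elim
  have h5 : L.U (rat (inf F)) ≠ ⊥ := fun e => h1 (e.le (h0 1))
  obtain ⟨P, hP⟩ := L.exists_sylow_eq_U h5
  refine ⟨P, hP ▸ le_antisymm (fun g hg => ⟨h4 g hg, ?_⟩) h3⟩
  obtain ⟨g, rfl⟩ := pj_surjective g
  exact (borel B h4 hg).elim (par 2) pj_sq_of_trace_zero

theorem cent_comm {g a b : P2 F} (hg : g ^ 2 ≠ 1) (ha : a * g = g * a) (hb : b * g = g * b) : a * b = b * a := by
  obtain ⟨g, rfl⟩ := pj_surjective g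
  have key : ∀ a : S2 F, pj a * pj g = pj g * pj a → a ∈ centralizer {g} := fun a h => by
    rcases (comap_centralizer_pj g a).1 (mem_centralizer_singleton_iff.2 h) with e | e
    · exact mem_centralizer_singleton_iff.2 (mul_inv_eq_iff_eq_mul.1 e)
    by_cases h2 : (2 : F) = 0
    · exact mem_centralizer_singleton_iff.2 (mul_inv_eq_iff_eq_mul.1 (e.trans (neg_eq_self_s2 h2 g)))
    have := trace_conj_s2 a g
    rw [e, trace_neg_s2] at this
    exact absurd (pj_sq_of_trace_zero (by grind (ematch := 0))) hg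
  obtain ⟨a, rfl⟩ := pj_surjective a
  obtain ⟨b, rfl⟩ := pj_surjective b
  rw [← map_mul, ← map_mul, comm_of_mem_cent (fun e => hg (by rw [pj_eq_one_iff'.2 e, one_pow])) (key a ha) (key b hb)]

theorem detFull_of_tr {g : S2 F} (h : g.1.trace ^ 2 ≠ 4) : DetFull (tG g) := by
  rcases s2_cases g with e | ⟨z, e⟩ | ⟨a, -, e⟩ | ⟨c, -, e⟩
  · exact detFull_of_isScal e
  · obtain ⟨x, hx⟩ := isConj_iff.1 e
    have h1 := trace_conj x (jb z)
    have h2 := congrArg detU hx
    rw [map_mul, map_mul, map_inv, mul_inv_cancel_comm, detU_tG, Units.ext_iff, detU_val] at h2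
    rw [hx, tG_val] at h1
    simp [h1, Matrix.det_fin_two, -Matrix.trace_fin_two, Matrix.trace_fin_two_of] at h h2
    grind (ematch := 0)
  exacts [detFull_of_isConj_ds e, detFull_of_isConj_elS e]

theorem fricke {x y : S2 F} (h : pj x * pj y = pj y * pj x) (hx : pj x ^ 2 ≠ 1) :
    x.1.trace ^ 2 + y.1.trace ^ 2 + (x * y).1.trace ^ 2 - x.1.trace * y.1.trace * (x * y).1.trace - 4 = 0 := by
  have h1 := s2_det x
  have h2 := s2_det y
  rw [← map_mul, ← map_mul, pj_eq_iff] at h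
  simp only [Matrix.SpecialLinearGroup.ext_iff, Fin.forall_fin_two] at h
  have h3 := mt (pj_sq_of_trace_zero (g := x)) hx
  simp at h h3 ⊢
  grind (ematch := 0)

theorem odd_case [IsPretransitive (P2 F) Ω] (B : Bin (P2 F) Ω) (h : Odd (Nat.card (stabilizer (P2 F) ω)))
    (hH : stabilizer (P2 F) ω ≠ ⊥) :
    (2 : F) = 0 ∧ (∀ r : F, r ^ 2 + r + 1 ≠ 0) ∧ Nat.card (stabilizer (P2 F) ω) = 3 := by
  obtain ⟨p, hp, _⟩ := exists_charP F
  haveI := Fact.mk hp
  have L := lineAct_psl F p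
  have h0 : ∀ (x : Ω) (g : P2 F), g • x = x → g ^ 2 = 1 → g = 1 := fun x g hg e => by
    obtain ⟨k, rfl⟩ := exists_smul_eq (P2 F) ω x
    exact orderOf_eq_one_iff.1 (Nat.eq_one_of_dvd_coprimes h.coprime_two_right (card_stabilizer_smul k ω ▸
      Subgroup.orderOf_dvd_natCard _ hg) (orderOf_dvd_of_pow_eq_one e))
  obtain ⟨z, hz⟩ : ∃ z : PLbar F, ∀ g : P2 F, g • ω = ω → g • z = z := by
    rw [← card_map_pslPi] at h
    rcases (lineAct_sub p ((stabilizer (P2 F) ω).map (pslPi F))).classify with ⟨z, e⟩ | ⟨z, e⟩ | e | e | ⟨z, e1, e2, e⟩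
    · exact ⟨z, fun g hg => e ⟨_, g, hg, rfl⟩⟩
    · rw [← card_orbit_mul_card_stabilizer z, e] at h; exact absurd (Nat.odd_mul.1 h).1 (by decide)
    · rw [Nat.odd_iff] at h; omega
    · rw [Nat.odd_iff] at h; omega
    obtain ⟨k, hk⟩ := IsPGroup.iff_card.1 ((lineAct_sub p ((stabilizer (P2 F) ω).map (pslPi F))).isPGroup_U z)
    rw [← card_orbit_mul_card_stabilizer z, e2, Nat.odd_mul] at h
    obtain rfl : 2 = p := (Nat.prime_dvd_prime_iff_eq Nat.prime_two hp).1 (Nat.prime_two.dvd_of_dvd_pow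
      (hk ▸ (Nat.odd_add_one.1 h.1 |> Nat.not_odd_iff_even.1).two_dvd))
    obtain ⟨k, rfl⟩ : ∃ j, k = j + 2 := ⟨k - 2, by
      by_contra c; have := Nat.pow_le_pow_right two_pos (by omega : k ≤ 1); omega⟩
    rw [hk, pow_add, mul_right_comm] at e
    have := Nat.odd_iff.1 h.2
    omega
  have h1 : ∀ a b : P2 F, a • ω = ω → b • ω = ω → a * b = b * a := fun a b ha hb => by
    by_cases e : z ∈ Set.range rat
    · obtain ⟨x, rfl⟩ := e
      have key : ∀ g : P2 F, g • ω = ω → g ^ p = 1 := fun g hg => by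
        obtain ⟨g, rfl⟩ := pj_surjective g
        exact (borel B hz hg).elim (par p) fun e => by rw [h0 _ _ hg (pj_sq_of_trace_zero e), one_pow]
      exact L.unip_comm _ _ _ (hz a ha) (hz b hb) (key a ha) (key b hb)
    obtain ⟨c, -, -, -, -, e⟩ := L.exists_partner (x := z) (eq_bot_iff.2 fun g hg => by_contra fun c =>
      e (mem_range_rat_of_unip (p := p) (mt (pslPi_injective.eq_iff' (map_one _)).1 c) (by rw [← map_pow, hg.2, map_one]) hg.1))
      fun e => hH (eq_bot_iff.2 fun g hg => e.le (hz g hg))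
    obtain ⟨i, rfl⟩ := e.le (hz a ha)
    obtain ⟨j, rfl⟩ := e.le (hz b hb)
    exact zpow_mul_comm ..
  have h2 : ∀ (x : Ω) (a b : P2 F), a • x = x → b • x = x → a * b = b * a := fun x a b ha hb => by
    obtain ⟨k, rfl⟩ := exists_smul_eq (P2 F) ω x
    exact mul_left_cancel (a := k⁻¹) (by simpa [← mul_assoc] using h1 _ _ (fx.1 ha) (fx.1 hb))
  have h3 : ∀ {d e a b : P2 F}, d • ω = ω → e • ω = ω → IsConj d a → IsConj d b → IsConj e (a * b) → a * b = b * a := by
    intro d e a b hd he ha hb hab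
    have key : ∀ {d a : P2 F}, d • ω = ω → IsConj d a → ∃ x : Ω, a • x = x := fun hd ha =>
      let ⟨k, hk⟩ := isConj_iff.1 ha; ⟨k • ω, fx.2 (by simpa [← hk, mul_assoc])⟩
    obtain ⟨x, hx⟩ := key hd ha
    obtain ⟨y, hy⟩ := key hd hb
    obtain ⟨w, hw⟩ := key he hab
    obtain ⟨g, e0, -, e1, e2⟩ := B.tri hx hx hy (mul_smul a b w ▸ hw)
    by_cases e3 : g = 1
    · rw [e3, one_smul] at e2
      exact h2 w a b (by rwa [mul_smul, ← e2] at hw) e2.symm
    exact cent_comm (mt (h0 _ _ e0) e3) (h2 x _ _ hx e0) (h2 y _ _ hy e1)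
  have h4 : ∀ d : S2 F, pj d • ω = ω → pj d ≠ 1 → (2 : F) = 0 ∧ d.1.trace = 1 := fun d hd h5 => by
    have h6 : ∀ {x}, IsConj (pj d) x → x ^ 2 ≠ 1 := fun hx e => h5 (h0 _ _ hd (isConj_one_left.1 (e ▸ hx.pow 2)))
    by_cases h7 : d.1.trace ^ 2 = 4
    · have h8 : (2 : F) ≠ 0 := fun e => h6 (IsConj.refl _) (pj_sq_of_trace_zero (g := d) (by grind (ematch := 0)))
      obtain ⟨a, h9, e⟩ : ∃ a : F, a ≠ 0 ∧ IsConj (pj d) (pj (uu a)) := by
        have key : ∀ d : S2 F, pj d ≠ 1 → d.1.trace = 2 → ∃ a : F, a ≠ 0 ∧ IsConj (pj d) (pj (uu a)) := fun d h e =>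
          (exists_isConj_uu (isConj_of_trace_det (by simp [IsScal]) (mt pj_eq_one_iff'.2 h) (by rw [tG_val, e]; simp; norm_num)
            (by rw [tG_val, d.2]; simp))).imp fun a h => ⟨h.1, pj.map_isConj h.2.symm⟩
        rcases sq_eq_sq_iff_eq_or_eq_neg.1 (h7.trans (by norm_num : (4 : F) = 2 ^ 2)) with e | e
        · exact key d h5 e
        · exact pj_neg d ▸ key (-d) (by rwa [pj_neg]) (by rw [trace_neg_s2, e, neg_neg])
      have e1 : IsConj (pj (uu a)) (pj (mkS 1 0 (-4 / a) 1 (by simp))) := pj.map_isConj (isConj_iff.2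
        ⟨mkS 0 (-a / 2) (2 / a) 0 (by field_simp; simp), by
          rw [mul_inv_eq_iff_eq_mul]; exact Subtype.ext (m2_ext (by simp) (by simp) (by simp) (by simp; field_simp; ring))⟩)
      have := fricke (h3 hd (inv_mem (show _ ∈ stabilizer _ ω from hd)) e (e.trans e1) (IsConj.trans (b := (pj (uu a))⁻¹) (let ⟨c, hc⟩ := isConj_iff.1 e; isConj_iff.2 ⟨c, by rw [← hc, conj_inv]⟩) (by
        rw [← map_mul, ← pj_neg (_ * _), ← map_inv, ← uu_neg]
        exact pj.map_isConj (isConj_iff.2 ⟨mkS 1 0 (2 / a) 1 (by simp), by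
          rw [mul_inv_eq_iff_eq_mul]; exact Subtype.ext (m2_ext (by simp; field_simp; ring) (by simp) (by simp; field_simp; ring) (by simp; field_simp; ring))⟩)))) (h6 e)
      simp at this
      field_simp at this
      exact absurd (pow_eq_zero_iff four_ne_zero |>.1 (by linear_combination this)) h8
    have h8 := detFull_of_tr h7
    have key : ∀ ε : F, ε = 1 ∨ ε = -1 → ε * d.1.trace = -1 := fun ε hε => by
      by_contra c
      have e0 : ε ^ 2 = 1 := by rcases hε with rfl | rfl <;> simp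
      have e1 : 2 + ε * d.1.trace ≠ 0 := by grind (ematch := 0)
      have e2 : ε * d.1.trace - 2 ≠ 0 := by grind (ematch := 0)
      obtain ⟨y, e3, e4⟩ := h8 (Units.mk0 ((ε * d.1.trace - 2) * (ε * d.1.trace + 1) / (2 + ε * d.1.trace))
        (div_ne_zero (mul_ne_zero e2 (by grind (ematch := 0))) e1))
      obtain ⟨α, β, e5⟩ := (comm_iff_of_not_isScal (not_isScal_of_disc h7) y).1 (congrArg Units.val e3)
      rw [Units.ext_iff, detU_val, e5, det_comb, d.2, Units.val_mk0, eq_div_iff e1] at e4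
      obtain ⟨a, e6, e7⟩ := exists_mul_of_conic (not_isScal_of_disc h7) (τ := d.1.trace) (τ' := ε * d.1.trace)
        (e := α + d.1.trace / (2 + ε * d.1.trace)) (c := -β - ε * d.1.trace / (2 + ε * d.1.trace)) (by
          have := mul_comm ε _ ▸ e1
          field_simp; grind (ematch := 0))
      have e8 := pj.map_isConj (isConj_of_trace_s2 h8 h7 e6)
      have := fricke (h3 hd hd e8 (IsConj.refl _) (by
        rw [← map_mul]
        rcases hε with rfl | rfl
        · exact pj.map_isConj (isConj_of_trace_s2 h8 h7 (by rw [e7, one_mul]))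
        · exact pj_neg (a * d) ▸ pj.map_isConj (isConj_of_trace_s2 h8 h7 (by rw [trace_neg_s2, e7]; simp)))) (h6 e8)
      rw [e6, e7] at this
      grind (ematch := 0)
    have := key 1 (.inl rfl)
    have := key (-1) (.inr rfl)
    grind (ematch := 0)
  obtain ⟨⟨d, hd⟩, h5⟩ := ne_bot_iff_exists_ne_one.1 hH
  obtain ⟨d, rfl⟩ := pj_surjective d
  replace h5 : pj d ≠ 1 := fun e => h5 (Subtype.ext e)
  obtain ⟨h6, h7⟩ := h4 d hd h5
  have h8 : d.1.trace ^ 2 ≠ 4 := by grind (ematch := 0)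
  refine ⟨h6, fun r hr => ?_, ?_⟩
  · let a := Units.mkOfMulEqOne r (r + 1) (by grind (ematch := 0))
    obtain ⟨k, hk⟩ := isConj_iff.1 (isConj_of_trace_s2 (detFull_of_tr h8) h8 (y := ds a) (by
      rw [h7]; simp [a]; grind (ematch := 0)))
    have h9 : pj (ds a) • pj k • ω = pj k • ω := fixk hd (by rw [← hk, inv_mul_cancel_right])
    have : r ^ 2 = 1 ∨ r ^ 2 = -1 := no_torus B (fun g hg => by
      have := congrFun₂ (congrArg Subtype.val (pj_injective h6 ((map_mul ..).trans ((h2 _ _ _ hg h9).trans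
        (map_mul ..).symm)))) 1 0
      simp [a] at this
      grind (ematch := 0)) h9
    grind (ematch := 0)
  have h10 := s2_det d
  have h11 := h7
  simp at h11
  have h9 : d⁻¹.1 = 1 + d.1 := m2_ext (by simp; grind (ematch := 0)) (by simp; grind (ematch := 0))
    (by simp; grind (ematch := 0)) (by simp; grind (ematch := 0))
  haveI := Fact.mk Nat.prime_three
  rw [← (orderOf_eq_prime (p := 3) (x := pj d) (by
    rw [← map_pow, pow_three', show d * d = d⁻¹ from Subtype.ext (m2_ext (by simp; grind (ematch := 0))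
      (by simp; grind (ematch := 0)) (by simp; grind (ematch := 0)) (by simp; grind (ematch := 0))), inv_mul_cancel,
      map_one]) h5), ← Nat.card_zpowers]
  refine congrArg (fun K : Subgroup (P2 F) => Nat.card K) (le_antisymm (fun g hg => ?_) (zpowers_le.2 hd))
  obtain ⟨g, rfl⟩ := pj_surjective g
  by_cases e : pj g = 1
  · exact e ▸ one_mem _
  obtain ⟨x, y, e1⟩ := (mem_cent_s2 (not_isScal_of_disc h8)).1 (mem_centralizer_singleton_iff.2
    (pj_injective h6 ((map_mul ..).trans ((h1 _ _ hg hd).trans (map_mul ..).symm))))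
  have e2 := (h4 g hg e).2
  have e3 := g.2
  rw [e1, det_comb, h7, d.2] at e3
  rw [e1, Matrix.trace_add, Matrix.trace_smul, Matrix.trace_smul, h7, Matrix.trace_one] at e2
  simp at e2
  obtain rfl : y = 1 := by grind (ematch := 0)
  obtain rfl | rfl : x = 0 ∨ x = 1 := by grind (ematch := 0)
  · rw [show g = d from Subtype.ext (by simpa using e1)]; exact mem_zpowers _
  · rw [show g = d⁻¹ from Subtype.ext (by rw [h9]; simpa using e1), map_inv]; exact inv_mem (mem_zpowers _)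

theorem tr_one (h2 : (2 : F) = 0) (hr : ∀ r : F, r ^ 2 + r + 1 ≠ 0) {g : S2 F} (h : pj g ^ 3 = 1) (h1 : pj g ≠ 1) :
    g.1.trace = 1 := by
  have h3 : g * g = g⁻¹ := by
    rw [← mul_eq_one_iff_eq_inv, ← pow_three']; exact pj_injective h2 (by rw [map_pow, h, map_one])
  have h4 := hr (g.1 0 0)
  have h5 := s2_det g
  rw [Ne, pj_eq_one_iff', IsScal] at h1
  simp only [Matrix.SpecialLinearGroup.ext_iff, Fin.forall_fin_two] at h3
  simp at h3 ⊢
  grind (ematch := 0)

theorem eq_of_tr (h2 : (2 : F) = 0) (hr : ∀ r : F, r ^ 2 + r + 1 ≠ 0) {x y : S2 F} (hx : x.1.trace = 1)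
    (hy : y.1.trace = 1) (h : (x * y).1.trace = 1) : x = y := by
  have h3 := s2_det x
  have h4 := s2_det y
  simp at hx hy h
  have h5 : x.1 0 1 = y.1 0 1 := by_contra fun c => hr (x.1 0 0 + x.1 0 1 * (x.1 0 0 - y.1 0 0) / (x.1 0 1 - y.1 0 1)) (by
    have := sub_ne_zero.2 c
    field_simp
    grind (ematch := 0))
  have h6 : x.1 0 0 = y.1 0 0 := sub_eq_zero.1 (pow_eq_zero_iff two_ne_zero |>.1 (by grind (ematch := 0)))
  have h7 := hr (x.1 0 0)
  exact Subtype.ext (m2_ext h6 h5 (by grind (ematch := 0)) (by grind (ematch := 0)))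

end

/-- Let F be a finite field with q ≥ 4 elements, q ≠ 5, let G = PSL₂(F) and let H be a proper subgroup of G. Then the action of G on the cosets of H is binary if and only if H is trivial, or q is a power of 2 and H is a Sylow 2-subgroup, or q = 2^a with a odd and H has order 3. Here an action is binary (relational complexity 2) when, for every n ≥ 2 and all n-tuples I, J of points, if for every pair of positions some group element carries the corresponding pair of entries of I to those of J, then a single group element carries I to J. -/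
theorem result {F : Type*} [Field F] [Fintype F] (h4 : 4 ≤ Fintype.card F) (h5 : Fintype.card F ≠ 5)
    (H : Subgroup (Matrix.ProjectiveSpecialLinearGroup (Fin 2) F)) (hH : H ≠ ⊤) :
    (∀ (n : ℕ) (I J : Fin n → Matrix.ProjectiveSpecialLinearGroup (Fin 2) F ⧸ H), 2 ≤ n →
        (∀ i j : Fin n, i ≠ j → ∃ g : Matrix.ProjectiveSpecialLinearGroup (Fin 2) F, g • I i = J i ∧ g • I j = J j) → ∃ g : Matrix.ProjectiveSpecialLinearGroup (Fin 2) F, ∀ i, g • I i = J i) ↔
      (H = ⊥ ∨ ((∃ a : ℕ, Fintype.card F = 2 ^ a) ∧ ∃ P : Sylow 2 (Matrix.ProjectiveSpecialLinearGroup (Fin 2) F), H = P) ∨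
        ((∃ a : ℕ, Odd a ∧ Fintype.card F = 2 ^ a) ∧ Nat.card H = 3)) := by
  have h0 : MulAction.stabilizer (L0.P2 F) ((1 : L0.P2 F) : L0.P2 F ⧸ H) = H := MulAction.stabilizer_quotient H
  have h1 : ∀ x : L0.P2 F ⧸ H, ∃ k : L0.P2 F, k • ((1 : L0.P2 F) : L0.P2 F ⧸ H) = x := MulAction.exists_smul_eq _ _
  obtain ⟨p, _, n, hp, hn⟩ := FiniteField.card' F
  haveI := Fact.mk hp
  refine ⟨fun B => or_iff_not_imp_left.2 fun h2 => ?_, fun h => H29.Bn.bin_of_TI fun a b x y z ha hb hx hy hz g hg => ?_⟩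
  · rcases Nat.even_or_odd (Nat.card H) with h3 | h3
    · obtain ⟨s, hs⟩ := exists_prime_orderOf_dvd_card' (G := H) 2 h3.two_dvd
      rw [← Subgroup.orderOf_coe] at hs
      rcases hp.eq_two_or_odd' with rfl | h6
      · obtain ⟨k, hk⟩ := isConj_iff.1 (H29.Bn.inv_conj hs (t := L0.pj (L0.uu 1)) (by
          rw [orderOf_injective _ (L0.pj_injective (CharP.cast_eq_zero F 2)), L0.orderOf_uu 2 one_ne_zero]))
        obtain ⟨P, hP⟩ := even_case (ω := k • ((1 : L0.P2 F) : L0.P2 F ⧸ H)) B (fun e => hH (by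
          rwa [MulAction.stabilizer_smul_eq_stabilizer_map_conj, h0, ← Subgroup.map_top_of_surjective
            (MulAut.conj k).toMonoidHom (MulAut.conj k).surjective, (Subgroup.map_injective (MulAut.conj k).injective).eq_iff] at e))
          (H29.Bn.fx.2 (by rw [← hk, show k⁻¹ * (k * s * k⁻¹) * k = s by group]; exact h0.ge s.2))
        refine .inl ⟨⟨n, hn⟩, k⁻¹ • P, ?_⟩
        rw [Sylow.coe_subgroup_smul, ← hP, MulAction.stabilizer_smul_eq_stabilizer_map_conj, h0, map_inv, eq_inv_smul_iff]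
        rfl
      · haveI := H10.isSimpleGroup_PSL_fin (F := F) (n := 2) le_rfl fun _ => by rwa [Nat.card_eq_fintype_card]
        obtain ⟨K, hK⟩ := H29.Bn.embedded B H29.Bn.inv_conj (h0.symm ▸ hH) hs (h0.ge s.2)
        exact absurd hK (H29.Bn.no_embedded (hn ▸ h6.pow) h4 h5)
    obtain ⟨h6, h7, h8⟩ := odd_case B (h0.symm ▸ h3) (h0.symm ▸ h2)
    obtain rfl : p = 2 := (Nat.prime_dvd_prime_iff_eq hp Nat.prime_two).1 ((CharP.cast_eq_zero_iff F p 2).1 h6)
    refine .inr ⟨⟨n, Nat.not_even_iff_odd.1 fun ⟨k, hk⟩ => ?_, hn⟩, h0 ▸ h8⟩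
    obtain ⟨r, hr⟩ := exists_prime_orderOf_dvd_card' (G := Fˣ) 3 (by
      rw [L0.card_units_eq, hn, hk, ← two_mul, pow_mul]; exact Nat.sub_one_dvd_pow_sub_one 4 k)
    have h9 : (r : F) ^ 3 = 1 := by rw [← Units.val_pow_eq_pow_val, ← hr, pow_orderOf_eq_one, Units.val_one]
    have : (r : F) ≠ 1 := fun e => by simp [Units.ext (v := 1) e] at hr
    have := h7 r
    grind (ematch := 0)
  rcases h with rfl | ⟨⟨m, hm⟩, P, rfl⟩ | ⟨⟨m, h2, hm⟩, h3⟩
  · obtain ⟨k, rfl⟩ := h1 x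
    exact absurd (by simpa [mul_assoc, inv_mul_eq_one] using (h0.le (H29.Bn.fx.1 hx) : k⁻¹ * a * k = 1)) ha
  · haveI := H13.charP_two_of_card (Nat.card_eq_fintype_card.trans hm)
    have L := H10.lineAct_psl F 2
    obtain ⟨w, hw⟩ := L.exists_U_eq_sylow Nat.prime_two P
    have key : ∀ x : L0.P2 F ⧸ P.1, ∃ z, ∀ g : L0.P2 F, g • x = x ↔ g ∈ L.U z := fun x => by
      obtain ⟨k, rfl⟩ := h1 x
      refine ⟨k • w, fun g => ?_⟩
      rw [L.U_smul, ← hw]
      exact (congrArg (g ∈ ·) ((MulAction.stabilizer_smul_eq_stabilizer_map_conj k _).trans (congrArg _ h0))).to_iff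
    obtain ⟨x, e1⟩ := key x
    obtain ⟨y, e2⟩ := key y
    obtain ⟨z, e3⟩ := key z
    rw [e1] at hx hg
    rw [e2] at hy ⊢
    have h6 : ∀ {c : L0.P2 F}, c ^ 2 = 1 → c⁻¹ = c := fun e => inv_eq_of_mul_eq_one_right ((sq _).symm.trans e)
    have h7 := h6 ((e3 _).1 hz).2
    rw [mul_inv_rev, inv_inv, h6 hy.2, h6 hx.2] at h7
    rwa [L.fix_unique hb hy.2 hy.1 (L.smul_eq_of_commute hx ha h7)]
  have h6 : (2 : F) = 0 := haveI := H13.charP_two_of_card (Nat.card_eq_fintype_card.trans hm); CharP.cast_eq_zero F 2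
  have h7 : ∀ r : F, r ^ 2 + r + 1 ≠ 0 := fun r hr => by
    obtain ⟨k, rfl⟩ := h2
    obtain ⟨j, hj⟩ := Nat.sub_one_dvd_pow_sub_one 4 k
    have h8 := FiniteField.pow_card r
    have : 0 < 4 ^ k := by positivity
    rw [hm, show 2 ^ (2 * k + 1) = 3 * (j * 2) + 2 by rw [pow_succ, pow_mul, show 2 ^ 2 = 4 from rfl]; omega, pow_add, pow_mul,
      show r ^ 3 = 1 by grind (ematch := 0), one_pow] at h8
    grind (ematch := 0)
  have key : ∀ (x : L0.P2 F ⧸ H), Nat.card (MulAction.stabilizer (L0.P2 F) x) = 3 := fun x => by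
    obtain ⟨k, rfl⟩ := h1 x
    rw [H10.card_stabilizer_smul, h0, h3]
  have h8 : ∀ {x : L0.P2 F ⧸ H} {c : L0.P2 F}, c • x = x → c ^ 3 = 1 := fun {x c} e =>
    orderOf_dvd_iff_pow_eq_one.1 (key x ▸ Subgroup.orderOf_dvd_natCard _ e)
  have h9 : a • y = y := by
    by_cases e : a⁻¹ * b = 1
    · rwa [inv_mul_eq_one.1 e]
    obtain ⟨a, rfl⟩ := L0.pj_surjective a
    obtain ⟨b, rfl⟩ := L0.pj_surjective b
    rw [← map_inv, ← map_mul] at e hz
    rwa [← eq_of_tr h6 h7 ((L0.trace_inv_s2 a).trans (tr_one h6 h7 (h8 hx) ha)) (tr_one h6 h7 (h8 hy) hb)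
      (tr_one h6 h7 (h8 hz) e), map_inv, inv_smul_eq_iff, eq_comm] at hy
  haveI := Fact.mk (key x ▸ Nat.prime_three)
  obtain ⟨k, hk⟩ := Subgroup.mem_zpowers_iff.1 (mem_zpowers_of_prime_card (G := MulAction.stabilizer _ x) (g := ⟨a, hx⟩)
    (g' := ⟨g, hg⟩) rfl fun e => ha (congrArg Subtype.val e))
  rw [← (show a ^ k = g from congrArg Subtype.val hk)]
  exact zpow_mem (show a ∈ MulAction.stabilizer _ y from h9) k

end Cfsg.Agent.S5736
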