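import Cfsg.Statements.S5735
import Cfsg.Agent.H13.BinU
import Cfsg.Agent.S5736
import Cfsg.Agent.S2212
import Cfsg.Agent.GO.App

set_option autoImplicit false
open Cfsg

namespace Cfsg.Agent.S5735

open MulAction Subgroup Cfsg.Agent.FT Cfsg.Agent.GW Cfsg.Agent.GO Cfsg.Agent.S5737 Cfsg.Agent.H29.Bn

section
variable {G G' : Type*} [Group G] [Group G']

theorem bin_map (e : G ≃* G') {H : Subgroup G} (B : Bin G (G ⧸ H)) : Bin G' (G' ⧸ H.map e.toMonoidHom) := fun n I J hn h => by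
  choose I hI using fun i => (QuotientGroup.mk_surjective.comp e.surjective) (I i)
  choose J hJ using fun i => (QuotientGroup.mk_surjective.comp e.surjective) (J i)
  obtain rfl := funext hI
  obtain rfl := funext hJ
  have k : ∀ g x y : G, e g • (e x : G' ⧸ H.map e.toMonoidHom) = e y ↔ g • (x : G ⧸ H) = y := fun g x y => by
    rw [Quotient.smul_coe, Quotient.smul_coe, QuotientGroup.eq, QuotientGroup.eq, smul_eq_mul, smul_eq_mul, ← map_mul,
      ← map_inv, ← map_mul]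
    exact mem_map_iff_mem e.injective
  obtain ⟨g, hg⟩ := B n (fun i => I i) (fun i => J i) hn fun i j c => by
    obtain ⟨g, h1, h2⟩ := h i j c
    obtain ⟨g, rfl⟩ := e.surjective g
    exact ⟨g, (k _ _ _).1 h1, (k _ _ _).1 h2⟩
  exact ⟨e g, fun i => (k _ _ _).2 (hg i)⟩

theorem bin_iff (e : G ≃* G') {H : Subgroup G} : Bin G (G ⧸ H) ↔ Bin G' (G' ⧸ H.map e.toMonoidHom) :=
  ⟨bin_map e, fun B => by
    have := bin_map e.symm B
    rwa [map_map, show e.symm.toMonoidHom.comp e.toMonoidHom = MonoidHom.id G from MonoidHom.ext e.symm_apply_apply,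
      Subgroup.map_id] at this⟩

variable [Finite G] [Finite G']

theorem syl_map (e : G ≃* G') (P : Sylow 2 G) : ∃ Q : Sylow 2 G', (P : Subgroup G).map e.toMonoidHom = Q ∧
    Z((P : Subgroup G)).map e.toMonoidHom = Z((Q : Subgroup G')) :=
  ⟨P.mapSurjective e.surjective, rfl, map_subcent_inj e.injective _ _⟩

theorem syl_iff (e : G ≃* G') {H : Subgroup G} : (∃ P : Sylow 2 G, H = P) ↔ ∃ Q : Sylow 2 G', H.map e.toMonoidHom = Q :=
  ⟨fun ⟨P, h⟩ => (syl_map e P).imp fun _ k => h ▸ k.1, fun ⟨Q, h⟩ => (syl_map e.symm Q).imp fun _ k => by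
    rw [← k.1, ← h, map_map, show e.symm.toMonoidHom.comp e.toMonoidHom = MonoidHom.id G from
      MonoidHom.ext e.symm_apply_apply, Subgroup.map_id]⟩

theorem cen_iff (e : G ≃* G') {H : Subgroup G} : (∃ P : Sylow 2 G, H = (center (P : Subgroup G)).map (P : Subgroup G).subtype) ↔
    ∃ Q : Sylow 2 G', H.map e.toMonoidHom = (center (Q : Subgroup G')).map (Q : Subgroup G').subtype := by
  simp only [← center_eq_map]
  exact ⟨fun ⟨P, h⟩ => (syl_map e P).imp fun _ k => h ▸ k.2, fun ⟨Q, h⟩ => (syl_map e.symm Q).imp fun _ k => by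
    rw [← k.2, ← h, map_map, show e.symm.toMonoidHom.comp e.toMonoidHom = MonoidHom.id G from
      MonoidHom.ext e.symm_apply_apply, Subgroup.map_id]⟩

theorem comm_of_sq {a b : G} (ha : a * a = 1) (hb : b * b = 1) (h : a * b * (a * b) = 1) : a * b = b * a := by
  rw [← inv_eq_of_mul_eq_one_right h, mul_inv_rev, inv_eq_of_mul_eq_one_right ha, inv_eq_of_mul_eq_one_right hb]

theorem bin_Z (h : TB G) (P : Sylow 2 G) : Bin G (G ⧸ (center (P : Subgroup G)).map (P : Subgroup G).subtype) := by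
  have hP := (syl_top_iff Nat.prime_two).2 ⟨P, rfl⟩
  obtain ⟨Y, K, t, k⟩ := KB.exists_bi h.top hP
  rw [← center_eq_map, k.center]
  have h1 : ∀ {a : G} {x : G ⧸ Y}, a • x = x → a * a = 1 := fun {a x} e => by
    obtain ⟨x, rfl⟩ := QuotientGroup.mk_surjective x
    have := k.sqZ (fix_iff.1 e)
    rw [show x⁻¹ * a * x * (x⁻¹ * a * x) = x⁻¹ * (a * a) * x by group] at this
    exact by_contra fun c => H13.conj_ne_one' x c this
  have h2 : ∀ {a b : G} {x : G ⧸ Y}, a ≠ 1 → a • x = x → b * b = 1 → a * b = b * a → b • x = x := fun {a b x} e1 e2 e3 e4 => by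
    obtain ⟨x, rfl⟩ := QuotientGroup.mk_surjective x
    have h3 : x⁻¹ * b * x * (x⁻¹ * b * x) = 1 := by rw [← inv_inv x, inv_inv x⁻¹, conj_mul, e3]; simp
    have h4 := k.ZT (fix_iff.1 e2)
    refine fix_iff.2 ((k.mem _).2 ⟨hP.le_of_norm (pElt_of_pow_eq_one Nat.prime_two ((sq _).trans h3)).zpowers le_top (zpowers_le.2 (k.ti _ (mem_top _) _ h4 (H13.conj_ne_one' x e1) ?_))
        (mem_zpowers _), h3⟩)
    rwa [show x⁻¹ * b * x * (x⁻¹ * a * x) * (x⁻¹ * b * x)⁻¹ = x⁻¹ * (b * a * b⁻¹) * x by group, ← e4, mul_inv_cancel_right]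
  refine bin_of_TI fun a b x y z e1 e2 e3 e4 e5 g e6 => h2 e1 (h2 e2 e4 (h1 e3) ?_) (h1 e6)
    (comm_of_sq (h1 e3) (h1 e6) (h1 (by rw [mul_smul, e6, e3])))
  rw [inv_eq_of_mul_eq_one_right (h1 e3)] at e5
  exact (comm_of_sq (h1 e3) (h1 e4) (h1 e5)).symm

theorem eq_Z (h : TB G) (hc : ∀ {s t : G}, orderOf s = 2 → orderOf t = 2 → IsConj s t) {H : Subgroup G}
    (B : Bin G (G ⧸ H)) {s : G} (hs : orderOf s = 2) (h1 : s ∈ H) (h2 : ∀ g ∈ H, g * g = 1) :
    ∃ P : Sylow 2 G, H = (center (P : Subgroup G)).map (P : Subgroup G).subtype := by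
  have := Fact.mk Nat.prime_two
  obtain ⟨P, h3⟩ := (show IsPGroup 2 H from fun g => ⟨1, Subtype.ext ((sq _).trans (h2 g g.2))⟩).exists_le_sylow
  obtain ⟨Y, K, t, k⟩ := KB.exists_bi h.top ((syl_top_iff Nat.prime_two).2 ⟨P, rfl⟩)
  refine ⟨P, ?_⟩
  rw [← center_eq_map, k.center]
  refine le_antisymm (fun g hg => (k.mem g).2 ⟨h3 hg, h2 g hg⟩) fun z hz => ?_
  by_cases e : z = 1
  · exact e ▸ one_mem _
  by_cases e' : s * z = 1
  · exact eq_inv_of_mul_eq_one_right e' ▸ inv_mem h1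
  have h4 := k.comm hz (h3 h1)
  simpa using fix_iff.1 (B.fix hc (invo_iff.2 ⟨k.sqZ hz, e⟩) hs (invo_iff.2 ⟨k.sqZ (mul_mem ((k.mem s).2
    ⟨h3 h1, h2 s h1⟩) hz), e'⟩) h4 (x := (1 : G)) (fix_iff.2 (by simpa using h1)))

end

/-- Let G be a finite simple group with exactly one conjugacy class of involutions, and let H be a proper subgroup of even order. Then the action of G on the cosets of H is binary if and only if one of the following holds: G ≅ SL₂(2^a) with a ≥ 2 and H is a Sylow 2-subgroup; G is a Suzuki group Sz(2^(2a+1)) with a ≥ 1 and H is the centre of a Sylow 2-subgroup; G ≅ PSU₃(2^a) with a ≥ 2 and H is the centre of a Sylow 2-subgroup. Here an action is binary (relational complexity 2) when, for every n ≥ 2 and all n-tuples I, J of points, if for every pair of positions some group element carries the corresponding pair of entries of I to those of J, then a single group element carries I to J. -/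
theorem result {G : Type*} [Group G] [Finite G] [IsSimpleGroup G] (hinv : ∃ s : G, orderOf s = 2)
    (hone : ∀ s t : G, orderOf s = 2 → orderOf t = 2 → IsConj s t)
    (H : Subgroup G) (hH : H ≠ ⊤) (heven : Even (Nat.card H)) :
    (∀ (n : ℕ) (I J : Fin n → G ⧸ H), 2 ≤ n →
        (∀ i j : Fin n, i ≠ j → ∃ g : G, g • I i = J i ∧ g • I j = J j) → ∃ g : G, ∀ i, g • I i = J i) ↔
      (((∃ (F : Type) (_ : Field F) (_ : Fintype F) (a : ℕ), 2 ≤ a ∧ Fintype.card F = 2 ^ a ∧ Nonempty (G ≃* Matrix.SpecialLinearGroup (Fin 2) F)) ∧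
          ∃ P : Sylow 2 G, H = P) ∨
        (Cfsg.Lie.IsoSuzuki G ∧ ∃ P : Sylow 2 G, H = (Subgroup.center (P : Subgroup G)).map (P : Subgroup G).subtype) ∨
        ((∃ (F : Type) (_ : Field F) (_ : Fintype F) (a : ℕ), 2 ≤ a ∧ Fintype.card F = (2 ^ a) ^ 2 ∧ Nonempty (G ≃* Cfsg.PSU 3 F (2 ^ a))) ∧
          ∃ P : Sylow 2 G, H = (Subgroup.center (P : Subgroup G)).map (P : Subgroup G).subtype)) := by
  have := Fact.mk Nat.prime_two
  obtain ⟨s, hs⟩ := exists_prime_orderOf_dvd_card' 2 heven.two_dvd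
  rw [← orderOf_coe] at hs
  have h1 : ∀ {G' : Type} [Group G'] (e : G ≃* G'), H.map e.toMonoidHom ≠ ⊤ ∧ Even (Nat.card (H.map e.toMonoidHom)) :=
    fun e => ⟨fun c => hH (map_injective (f := e.toMonoidHom) e.injective (c.trans (map_top_of_surjective _ e.surjective).symm)),
      by rwa [card_map_inj e.injective]⟩
  have h2 : ∀ {F : Type} [Field F] [Fintype F] {a : ℕ}, 2 ≤ a → Fintype.card F = 2 ^ a →
      (G ≃* Matrix.ProjectiveSpecialLinearGroup (Fin 2) F) → (Bin G (G ⧸ H) ↔ ∃ P : Sylow 2 G, H = P) := fun {F _ _ a} ha hF e => by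
    have h3 : 2 ^ 2 ≤ 2 ^ a := Nat.pow_le_pow_right two_pos ha
    refine (bin_iff e).trans ((S5736.result (hF ▸ h3) (fun c => ?_) _ (h1 e).1).trans ⟨fun c => ?_, fun c =>
      .inr (.inl ⟨⟨a, hF⟩, (syl_iff e).1 c⟩)⟩)
    · have : Even (2 ^ a) := even_two.pow_of_ne_zero (by omega)
      rw [← hF, c] at this
      exact absurd this (by decide)
    · have := (h1 e).2
      rcases c with c | c | c
      · rw [c] at this
        simp at this
      · exact (syl_iff e).2 c.2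
      · rw [c.2] at this
        exact absurd this (by decide)
  have h3 : Lie.IsoSuzuki G → (Bin G (G ⧸ H) ↔
      ∃ P : Sylow 2 G, H = (center (P : Subgroup G)).map (P : Subgroup G).subtype) := fun ⟨F, _, _, m, hm, hF, ⟨e⟩⟩ =>
    (bin_iff e).trans ((S5737.result m hm hF _ (h1 e).1).trans ⟨fun c => (cen_iff e).2 (c.resolve_left fun c => by
      have := (h1 e).2
      rw [c] at this
      simp at this), fun c => .inr ((cen_iff e).1 c)⟩)
  refine ⟨fun B => ?_, ?_⟩
  · have h4 : (s : G) • ((1 : G) : G ⧸ H) = (1 : G) := fix_iff.2 (by simp)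
    have h5 : stabilizer G ((1 : G) : G ⧸ H) ≠ ⊤ := by rwa [stabilizer_quotient]
    have t : TB G := ⟨‹_›, fun c => ?_, embedded B (hone _ _) h5 hs h4⟩
    · rcases t.isBender with ⟨F, _, _, ⟨a, ha, hF⟩, ⟨e⟩⟩ | c | ⟨F, _, _, a, ha, hF, ⟨e⟩⟩
      · obtain ⟨e'⟩ := BS.psl_equiv_sl (by omega) hF
        exact .inl ⟨⟨F, _, _, a, ha, hF, ⟨e.trans e'⟩⟩, (h2 ha hF e).1 B⟩
      · exact .inr (.inl ⟨c, (h3 c).1 B⟩)
      · have : CharP F 2 := charP_of_card_eq_prime_pow (f := a * 2) (pow_mul 2 a 2 ▸ hF)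
        have : FaithfulSMul G (G ⧸ H) := ⟨fun {a b} c => (MonoidHom.ker_eq_bot_iff _).1 ((normalCore_eq_ker H).symm.trans
          ((normalCore_normal H).eq_bot_or_eq_top.resolve_right fun c => hH (top_le_iff.1 (c.ge.trans
            (normalCore_le _))))) (Equiv.ext c)⟩
        refine .inr (.inr ⟨⟨F, _, _, a, ha, hF, ⟨e⟩⟩, eq_Z t (hone _ _) B hs s.2 fun g hg => H13.BU.psu_sq B (hone _ _)
          (H11.qConj_conjQ hF) (fun c => ?_) e hs h4 (fix_iff.2 (by simpa using hg))⟩)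
        have := Nat.pow_le_pow_right two_pos ha
        omega
    · exact hH ((Subgroup.normal_of_isMulCommutative H).eq_bot_or_eq_top.resolve_left fun c => by simp [c] at heven)
  · rintro (⟨⟨F, _, _, a, ha, hF, ⟨e⟩⟩, c⟩ | ⟨c, c'⟩ | ⟨⟨F, _, _, a, ha, hF, ⟨e⟩⟩, P, rfl⟩)
    · obtain ⟨e'⟩ := BS.psl_equiv_sl (by omega) hF
      exact (h2 ha hF (e.trans e'.symm)).2 c
    · exact (h3 c).2 c'
    · obtain ⟨Q⟩ := (inferInstance : Nonempty (Sylow 2 (PSU 3 F (2 ^ a))))
      obtain ⟨Z, k⟩ := us_psu ha hF Q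
      have := e.symm.isSimpleGroup
      exact bin_Z ((S2212.tb_us k ((syl_top_iff Nat.prime_two).2 ⟨Q, rfl⟩)).of_equiv e.symm) P

end Cfsg.Agent.S5735
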