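import Cfsg.Statements.S5746
import Mathlib
import Cfsg.Agent.H28.G2J
import Cfsg.Agent.H12.Aut0
import Cfsg.Agent.H12.DataG2

set_option autoImplicit false
open Cfsg

namespace Cfsg.Agent.S5746

/-- The Chevalley group G₂(4) (over the field with 4 elements) has a maximal subgroup H isomorphic to the Hall–Janko group J₂ such that for every x outside H the intersection H ∩ xHx⁻¹ is a maximal subgroup of H; that is, the action of G₂(4) on the cosets of H is extremely primitive. -/
theorem result {F : Type*} [Field F] [Fintype F] (hF : Fintype.card F = 4) :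
    ∃ H : Subgroup (Cfsg.Lie.chevG2.group F), IsCoatom H ∧ Cfsg.Spor.IsoJ2 H ∧
      ∀ x : Cfsg.Lie.chevG2.group F, x ∉ H → IsCoatom ((H ⊓ H.map (MulAut.conj x).toMonoidHom).subgroupOf H) := by
  obtain ⟨φ⟩ := H15.SzG2.iso
  let τ := (FiniteField.ringEquivOfCardEq (hF.trans H15.F4.card.symm)).toRingHom
  have hi := H12.fieldHom_injective (D := Lie.chevG2) τ
  have hb := (Nat.bijective_iff_injective_and_card _).2 ⟨hi, (S1059.result hF).trans H15.SzG2.card.symm⟩
  obtain ⟨L, h1, ⟨ψ⟩, h2⟩ := H28.G2J.trans (H28.G2J.K.subtype.comp (φ.symm.toMonoidHom.comp (H12.fieldHom _ τ)))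
    (H28.G2J.K.subtype_injective.comp (φ.symm.injective.comp hi)) (by
      rw [MonoidHom.range_comp, MonoidHom.range_eq_top.2 (φ.symm.surjective.comp hb.2), ← MonoidHom.range_eq_map,
        Subgroup.range_subtype])
  exact ⟨L, h1, ⟨ψ.trans H28.J2P.e.symm⟩, h2⟩

end Cfsg.Agent.S5746
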