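import Cfsg.Statements.S5769
import Mathlib
import Cfsg.Agent.H12.SS8
import Cfsg.Agent.H29.Cl5
import Cfsg.Agent.S1064
import Cfsg.Agent.S2475

set_option autoImplicit false
open Cfsg

namespace Cfsg.Agent.S5769

open Cfsg.Agent.H12
theorem key {H : Subgroup ↥(Cfsg.Lie.chevE7.group (ZMod 2))} {G : Type*} [Group G]
    (h : 65 ∈ H29.spec G) : IsEmpty (↥H ≃* G) :=
  ⟨fun e => orderOf_ne_E7 (e.symm h.choose : ↥H) (by
    have := Cfsg.Agent.S1064.result (F := ZMod 2) (ZMod.card 2)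
    rw [show Nat.gcd 2 (2 - 1) = 1 from rfl, one_mul] at this
    rw [this]
    decide +kernel) (by rw [Subgroup.orderOf_coe, MulEquiv.orderOf_eq, h.choose_spec])⟩


/-- The Chevalley group of type E₇ over the field with two elements (generated by its root elements in the adjoint representation) has no subgroup isomorphic to any of PSL₂(64), PSp₄(8), PSL₄(8), PSU₄(8) or PSp₆(8). Here F₈ and F₆₄ denote fields with 8 and 64 elements. -/
theorem result {F₈ F₆₄ : Type*} [Field F₈] [Fintype F₈] (h8 : Fintype.card F₈ = 8) [Field F₆₄] [Fintype F₆₄] (h64 : Fintype.card F₆₄ = 64)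
    (H : Subgroup ↥(Cfsg.Lie.chevE7.group (ZMod 2))) :
    IsEmpty (↥H ≃* Matrix.ProjectiveSpecialLinearGroup (Fin 2) F₆₄) ∧ IsEmpty (↥H ≃* Cfsg.PSp 2 F₈) ∧
    IsEmpty (↥H ≃* Matrix.ProjectiveSpecialLinearGroup (Fin 4) F₈) ∧ IsEmpty (↥H ≃* Cfsg.PSU 4 F₆₄ 8) ∧ IsEmpty (↥H ≃* Cfsg.PSp 3 F₈) := by
  have : CharP F₈ 2 := charP_of_card_eq_prime_pow (f := 3) h8
  have : CharP F₆₄ 2 := charP_of_card_eq_prime_pow (f := 6) h64
  have h1 := H29.pq_card F₈ 2
  have h2 : ∀ D : ℕ, 0 < D → (13 : ℤ) ∣ 8 ^ D - 1 ∨ (13 : ℤ) ∣ (-8) ^ D - 1 → 2 * 2 ≤ D := fun D h h' => by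
    by_contra! h0
    interval_cases D <;> simp at h' <;> omega
  have h3 : padicValNat 2 7 = 0 ∧ padicValNat 2 9 = 0 ∧ 0 < padicValNat 2 (2 * 2) :=
    ⟨padicValNat.eq_zero_of_not_dvd (by decide), padicValNat.eq_zero_of_not_dvd (by decide),
      one_le_padicValNat_of_dvd (by decide) (by decide)⟩
  rw [h8] at h1
  refine ⟨key ?_, key ?_, key ?_, key ?_, key ?_⟩
  · refine (Set.ext_iff.1 (Cfsg.Agent.S2475.result (F := F₆₄) 2 (by omega)) 65).2 (Or.inr (Or.inr ?_))
    rw [h64]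
    decide
  · rw [H29.spec_psp 2 (by decide), h8, H29.mem_sps h1]
    exact ⟨[(2, -1)], 0, ⟨by simp, rfl⟩, fun m _ h => by
      have := h _ (List.mem_singleton_self _)
      simp at this
      omega⟩
  · rw [H29.spec_psl 2 (by decide), h8]
    exact (H29.half_mem_admQ h1 two_ne_zero (r := 13) (by norm_num) (by decide)
      fun D h h' => h2 D h (Or.inl h')).2 (h3.1.le.trans_lt h3.2.2)
  · rw [H29.spec_psu 2 h64 (by decide)]
    exact (H29.half_mem_admQ (H29.pq_neg 2 (q := 8) h64) two_ne_zero (r := 13) (by norm_num) (by decide)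
      fun D h h' => h2 D h (Or.inr h')).2 (h3.2.1.le.trans_lt h3.2.2)
  · rw [H29.spec_psp 2 (by decide), h8, H29.mem_sps h1]
    exact ⟨[(2, -1)], 1, ⟨by simp, rfl⟩, fun m _ h => by
      have := h _ (List.mem_singleton_self _)
      simp at this
      omega⟩

end Cfsg.Agent.S5769
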