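import Cfsg.Statements.S5847
import Mathlib
import Cfsg.Agent.H26.O6

set_option autoImplicit false
set_option synthInstance.maxSize 1024
open Cfsg

namespace Cfsg.Agent.S5847

/-- Every maximal subgroup of Ω_10^+(q) is of one of the listed geometric types or lies in the residual class. Let F be a finite field with q elements (characteristic p), Q a non-degenerate quadratic form on F^10 of plus type (Witt index 5: some totally singular 5-space), Ω the commutator subgroup of its isometry group, and H a maximal subgroup of Ω (inside GL_10(F)). Then H is the intersection with Ω of one of: the stabiliser of a non-zero totally singular subspace of dimension ≠ 4; for q odd, the stabiliser of a non-degenerate subspace of odd dimension ≠ 5; the stabiliser of a non-degenerate 2-space of minus type; for q ≥ 4, the stabiliser of a non-degenerate 2-space of plus type; the stabiliser of a non-degenerate 4-space; for q even, the stabiliser of the span of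 a non-singular vector; for q = p prime with p ≡ 1 mod 4, the stabiliser of a decomposition into 10 pairwise orthogonal, pairwise isometric non-degenerate 1-spaces; for q ≥ 7, the stabiliser of a decomposition into 5 pairwise orthogonal, pairwise isometric non-degenerate 2-spaces; for q ≡ 1 mod 4, the stabiliser of a decomposition into 2 pairwise orthogonal, pairwise isometric non-degenerate 5-spaces; for q ≡ 3 mod 4, the stabiliser of a decomposition into two orthogonal, non-isometric non-degenerate 5-spaces; for q odd, the normaliser of a degree-2 subfield of the matrix algebra, self-adjoint for the polar form; a subfield group (|F| = |F₀|^r, r prime) whose F₀-structure carries a non-zero multiple of Q — or else H lies in the residual class of the orthogonal case (modulo scalars H is almost simple, with absolutely irreducible perfect socle preimage realisable over no proper subfield and fixing no non-degenerate unitary form). -/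
theorem result {F : Type*} [Field F] [Fintype F] (Q : (Fin 10 → F) → F) (hQ : Cfsg.Geo.IsNondegenerateQuadraticForm Q) (hplus : Cfsg.Geo.IsPlusTypeOn Q ⊤) (H : Subgroup (Matrix.GeneralLinearGroup (Fin 10) F)) (hH : Cfsg.Geo.IsMaximalIn (Cfsg.Geo.omegaGL Q) H) :
    (∃ W : Submodule F (Fin 10 → F), W ≠ ⊥ ∧ Cfsg.Geo.IsTotallySingularQuad Q W ∧ Module.finrank F W ≠ 4 ∧ H = Cfsg.Geo.subspaceStabilizer W ⊓ Cfsg.Geo.omegaGL Q) ∨
    (Odd (Fintype.card F) ∧ ∃ W : Submodule F (Fin 10 → F), W ≠ ⊥ ∧ W ≠ ⊤ ∧ Odd (Module.finrank F W) ∧ 2 * Module.finrank F W ≠ 10 ∧ Cfsg.Geo.IsNondegenerateOn (QuadraticMap.polar Q) W ∧ H = Cfsg.Geo.subspaceStabilizer W ⊓ Cfsg.Geo.omegaGL Q) ∨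
    (∃ W : Submodule F (Fin 10 → F), Module.finrank F W = 2 ∧ Cfsg.Geo.IsNondegenerateOn (QuadraticMap.polar Q) W ∧ ¬ Cfsg.Geo.IsPlusTypeOn Q W ∧ H = Cfsg.Geo.subspaceStabilizer W ⊓ Cfsg.Geo.omegaGL Q) ∨
    (4 ≤ Fintype.card F ∧ ∃ W : Submodule F (Fin 10 → F), Module.finrank F W = 2 ∧ Cfsg.Geo.IsNondegenerateOn (QuadraticMap.polar Q) W ∧ Cfsg.Geo.IsPlusTypeOn Q W ∧ H = Cfsg.Geo.subspaceStabilizer W ⊓ Cfsg.Geo.omegaGL Q) ∨
    (∃ W : Submodule F (Fin 10 → F), Module.finrank F W = 4 ∧ Cfsg.Geo.IsNondegenerateOn (QuadraticMap.polar Q) W ∧ H = Cfsg.Geo.subspaceStabilizer W ⊓ Cfsg.Geo.omegaGL Q) ∨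
    (¬ Odd (Fintype.card F) ∧ ∃ v : (Fin 10 → F), Q v ≠ 0 ∧ H = Cfsg.Geo.subspaceStabilizer (Submodule.span F {v}) ⊓ Cfsg.Geo.omegaGL Q) ∨
    ((∃ p : ℕ, p.Prime ∧ Fintype.card F = p ∧ (p % 4 = 1)) ∧ ∃ D : Fin 10 → Submodule F (Fin 10 → F), Cfsg.Geo.IsOrthogonalMDecomposition Q 1 D ∧ H = Cfsg.Geo.decompositionStabilizer D ⊓ Cfsg.Geo.omegaGL Q) ∨
    (7 ≤ Fintype.card F ∧ ∃ D : Fin 5 → Submodule F (Fin 10 → F), Cfsg.Geo.IsOrthogonalMDecomposition Q 2 D ∧ H = Cfsg.Geo.decompositionStabilizer D ⊓ Cfsg.Geo.omegaGL Q) ∨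
    (Fintype.card F % 4 = 1 ∧ ∃ D : Fin 2 → Submodule F (Fin 10 → F), Cfsg.Geo.IsOrthogonalMDecomposition Q 5 D ∧ H = Cfsg.Geo.decompositionStabilizer D ⊓ Cfsg.Geo.omegaGL Q) ∨
    (Fintype.card F % 4 = 3 ∧ ∃ D : Fin 2 → Submodule F (Fin 10 → F), Cfsg.Geo.IsNondegenerateMDecomposition (QuadraticMap.polar Q) 5 D ∧ ¬ Cfsg.Geo.AreIsometricFor Q (D 0) (D 1) ∧ H = Cfsg.Geo.decompositionStabilizer D ⊓ Cfsg.Geo.omegaGL Q) ∨
    (Odd (Fintype.card F) ∧ ∃ K : Subalgebra F (Matrix (Fin 10) (Fin 10) F), Cfsg.Geo.IsFieldSubalgebra 2 K ∧ Cfsg.Geo.IsSelfAdjointFor (QuadraticMap.polar Q) K ∧ H = Cfsg.Geo.subalgebraNormalizer K ⊓ Cfsg.Geo.omegaGL Q) ∨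
    (∃ (F₀ : Subfield F) (r : ℕ) (P : Matrix.GeneralLinearGroup (Fin 10) F) (ζ : F), r.Prime ∧ Fintype.card F = Nat.card F₀ ^ r ∧ ζ ≠ 0 ∧ Cfsg.Geo.IsQuadFormRationalStructure (fun v : Fin 10 → F => ζ * Q v) F₀ P ∧ H = Cfsg.Geo.subfieldSubgroup F₀ P ⊓ Cfsg.Geo.omegaGL Q) ∨
    Cfsg.Geo.InOrthogonalResidualClass H := by
  obtain ⟨G, hQ⟩ := H26.exists_qf hQ
  have hn : Fintype.card (Fin 10) = 10 := by simp
  have hq1 : 1 < Fintype.card F := Fintype.one_lt_card
  rw [hQ.polar]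
  rcases hQ.max (by omega) (by omega) (fun h => absurd (hn ▸ h) (by decide)) hH with (⟨W, h1, h2, h3, h⟩ | ⟨W, h1, h2, h3, h4, h5, h6, h7, h⟩ | ⟨v, hq, h1, h⟩ |
    ⟨k, D, hD, hk, h1, h⟩ | ⟨t, k, D, hD, h1, h2, h3, h4, h5, h⟩ | ⟨k, D, hD, h1, hm, h⟩ |
    ⟨r, K, hr, hK, h1, h2, h3, h⟩ | ⟨K, hK, h1, h2, h3, h4, h⟩ |
    ⟨a, b, e, P, G₁, G₂, hq, h1, h2, h3, h4, h5, hT, h⟩ |
    ⟨a, b, e, P, G₁, G₂, ε₁, ε₂, h1, h2, h3, h4, h5, hT, h6, h⟩ |
    ⟨F₀, r, P, ζ, hr, hc, h1, h2, h3, h4, h⟩ | ⟨k, t, e, P, c, G₀, hq, h1, h2, h3, h4, hW, h⟩ |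
    ⟨k, t, h1, h2, h3, h4⟩) | h
  · exact .inl ⟨W, h1, h2, by have := h3 hplus; omega, h⟩
  · have h8 := h5 (hn ▸ by decide)
    have h9 := Submodule.finrank_eq_zero.not.2 h1
    rw [hn] at h6 h8
    by_cases h10 : Odd (Module.finrank F W)
    · exact .inr (.inl ⟨hQ.odd_of_nondeg h3 h10, W, h1, h2, h10, fun h => Nat.not_even_iff_odd.2 h10 (h6 h).1, h3, h⟩)
    rw [Nat.odd_iff] at h10
    rcases (by omega : Module.finrank F W = 2 ∨ Module.finrank F W = 4) with h11 | h11
    · by_cases h12 : Cfsg.Geo.IsPlusTypeOn Q W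
      · exact .inr (.inr (.inr (.inl ⟨h7 h11 h12, W, h11, h3, h12, h⟩)))
      · exact .inr (.inr (.inl ⟨W, h11, h3, h12, h⟩))
    · exact .inr (.inr (.inr (.inr (.inl ⟨W, h11, h3, h⟩))))
  · exact .inr (.inr (.inr (.inr (.inr (.inl ⟨hq, v, h1, h⟩)))))
  · have h2 := hD.decomp.h26_card.trans hn
    obtain rfl : k = 5 := by omega
    have h3 := hQ.odd_of_nondeg (hD.nondegenerate 0) (hD.decomp.finrank_eq 0 ▸ hk)
    have h4 := hQ.plus_pair_iff (H26.two_ne_zero_iff_odd.2 h3) hD h1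
    rw [Nat.odd_iff] at h3
    refine .inr (.inr (.inr (.inr (.inr (.inr (.inr (.inr (.inr (.inl ⟨?_, D, hD, h1, h⟩)))))))))
    rcases (by omega : Fintype.card F % 4 = 1 ∨ Fintype.card F % 4 = 3) with h5 | h5 <;>
      simp_all [Nat.pow_mod]
  · have h6 := hD.decomp.decomp.h26_card.trans hn
    have h7 := hD.decomp.decomp.two_le
    have h8 : k < 10 := by nlinarith
    have h9 : (k = 1 ∧ t = 10) ∨ (k = 2 ∧ t = 5) ∨ (k = 5 ∧ t = 2) := by interval_cases k <;> omega
    rcases h9 with ⟨rfl, rfl⟩ | ⟨rfl, rfl⟩ | ⟨rfl, rfl⟩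
    · have h10 := hQ.odd_of_nondeg ((hQ.nondegDec hD).nondegenerate 0) (by rw [hD.decomp.decomp.finrank_eq]; decide)
      have h11 := hQ.plus_odec_iff (m := 5) (H26.two_ne_zero_iff_odd.2 h10) hD (by decide) hn
      have h12 := Nat.odd_iff.1 h10
      have h14 : Fintype.card F % 4 = 1 := by
        rcases (by omega : Fintype.card F % 4 = 1 ∨ Fintype.card F % 4 = 3) with h13 | h13 <;>
          simp_all [Nat.pow_mod]
      exact .inr (.inr (.inr (.inr (.inr (.inr (.inl ⟨⟨_, h1 rfl, rfl, h14⟩, D, hD, h⟩))))))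
    · have h10 := hQ.plus_dec_iff hD (by decide)
      have h11 := ((h10 0).1 hplus).resolve_left (by decide)
      exact .inr (.inr (.inr (.inr (.inr (.inr (.inr (.inl ⟨h3 rfl 0 h11, D, hD, h⟩)))))))
    · have h10 := hQ.odd_of_nondeg ((hQ.nondegDec hD).nondegenerate 0) (by rw [hD.decomp.decomp.finrank_eq]; decide)
      have h11 := hQ.plus_odec_iff (m := 5) (H26.two_ne_zero_iff_odd.2 h10) hD (by decide) hn
      have h12 := Nat.odd_iff.1 h10
      have h14 : Fintype.card F % 4 = 1 := by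
        rcases (by omega : Fintype.card F % 4 = 1 ∨ Fintype.card F % 4 = 3) with h13 | h13 <;>
          simp_all [Nat.pow_mod]
      exact .inr (.inr (.inr (.inr (.inr (.inr (.inr (.inr (.inl ⟨h14, D, hD, h⟩))))))))
  · have h2 := hD.h26_card.trans hn
    obtain rfl : k = 5 := by omega
    exact absurd hm (by decide)
  · have h4 := hn ▸ H26.field_degree_dvd hK
    have h5 := Nat.le_of_dvd (by norm_num) h4
    rw [hn, Nat.odd_iff] at h2
    have h6 : r = 2 := by
      interval_cases r <;> first | omega | exact absurd hr (by norm_num)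
    rcases h6 with rfl
    exact .inr (.inr (.inr (.inr (.inr (.inr (.inr (.inr (.inr (.inr (.inl ⟨by_contra fun hq => by have := h3 hq; omega, K, hK, h1, h⟩))))))))))
  · have := h4 hplus; omega
  · have h6 : 10 = a * b := by simpa using Fintype.card_congr e
    have h7 : a < 4 := by nlinarith
    obtain rfl : a = 3 := by omega
    omega
  · have h7 : 10 = a * b := by simpa using Fintype.card_congr e
    have h8 := Nat.even_iff.1 (Fintype.card_fin a ▸ h4.even_card' hT.hf₁.unit)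
    have h9 := Nat.even_iff.1 (Fintype.card_fin b ▸ h5.even_card' hT.hf₂.unit)
    have h10 : a < 4 := by nlinarith
    obtain rfl : a = 2 := by omega
    omega
  · exact .inr (.inr (.inr (.inr (.inr (.inr (.inr (.inr (.inr (.inr (.inr (.inl ⟨F₀, r, P, ζ, hr, hc, h1, h2, h⟩)))))))))))
  · have h6 : 10 = k ^ t := by simpa using Fintype.card_congr e
    exact absurd (h6 ▸ h3.pow) (by decide)
  · have h5 : 0 < k := Nat.pos_of_ne_zero (by rintro rfl; rw [hn, zero_pow (by omega)] at h3; omega)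
    have h7 : k ^ 2 ≤ k ^ t := Nat.pow_le_pow_right (by omega) h2
    have h8 : k < 4 := by nlinarith
    obtain rfl : k = 2 := by rw [Nat.even_iff] at h1; omega
    have h9 : t < 4 := (Nat.pow_lt_pow_iff_right (a := 2) (by norm_num)).1 (by omega)
    interval_cases t <;> omega
  · exact .inr (.inr (.inr (.inr (.inr (.inr (.inr (.inr (.inr (.inr (.inr (.inr (h))))))))))))

end Cfsg.Agent.S5847
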